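import Mathlib

set_option autoImplicit false
set_option linter.unusedSectionVars false

/-!
# Block-monomial subgroups of the symplectic group

`bHom f` is the matrix acting as `f i ∈ SL₂(F)` on the `i`-th hyperbolic pair `(e_i, f_i)`;
`pHom σ` permutes the hyperbolic pairs.
-/

namespace Cfsg.Agent.Helper42

open Matrix Equiv

variable {F : Type*} [Field F] {n : ℕ}

/-- permutation matrix, multiplicative in `σ` -/
def pm (F : Type*) [Field F] {n : ℕ} (σ : Perm (Fin n)) : Matrix (Fin n) (Fin n) F :=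
  Matrix.of fun i j => if i = σ j then 1 else 0

theorem pm_apply (σ : Perm (Fin n)) (i j : Fin n) : pm F σ i j = if i = σ j then 1 else 0 := rfl

theorem pm_one : pm F (1 : Perm (Fin n)) = 1 := by
  ext i j
  rw [pm_apply, Matrix.one_apply, Perm.one_apply]

theorem pm_mul (σ τ : Perm (Fin n)) : pm F (σ * τ) = pm F σ * pm F τ := by
  ext i j
  rw [Matrix.mul_apply, Finset.sum_eq_single (τ j)]
  · rw [pm_apply, pm_apply, pm_apply, if_pos rfl, mul_one, Perm.mul_apply]
  · intro b _ hb
    rw [pm_apply _ b, if_neg hb, mul_zero]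
  · simp

theorem pm_transpose (σ : Perm (Fin n)) : (pm F σ)ᵀ = pm F σ⁻¹ := by
  ext i j
  simp only [transpose_apply, pm_apply]
  by_cases h : j = σ i
  · rw [if_pos h, if_pos]; rw [h]; simp
  · rw [if_neg h, if_neg]; intro h'; apply h; rw [h']; simp

theorem pm_transpose_mul (σ : Perm (Fin n)) : (pm F σ)ᵀ * pm F σ = 1 := by
  rw [pm_transpose, ← pm_mul, inv_mul_cancel, pm_one]

theorem pm_mul_diagonal (σ : Perm (Fin n)) (d : Fin n → F) :
    pm F σ * diagonal d = diagonal (d ∘ σ.symm) * pm F σ := by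
  ext i j
  simp only [mul_diagonal, diagonal_mul, pm_apply, Function.comp_apply]
  by_cases h : i = σ j
  · rw [if_pos h, h]; simp
  · rw [if_neg h]; simp

/-- the block matrix of a family of `SL₂` elements -/
def bMat (f : Fin n → SpecialLinearGroup (Fin 2) F) : Matrix (Fin n ⊕ Fin n) (Fin n ⊕ Fin n) F :=
  fromBlocks (diagonal fun i => (f i).1 0 0) (diagonal fun i => (f i).1 0 1)
    (diagonal fun i => (f i).1 1 0) (diagonal fun i => (f i).1 1 1)

theorem bMat_mem (f : Fin n → SpecialLinearGroup (Fin 2) F) :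
    bMat f ∈ symplecticGroup (Fin n) F := by
  unfold bMat
  rw [SymplecticGroup.fromBlocks_mem_iff]
  simp only [diagonal_transpose, diagonal_mul_diagonal]
  refine ⟨?_, ?_, ?_⟩
  · congr 1; funext i; ring
  · congr 1; funext i; ring
  · rw [diagonal_sub, ← diagonal_one]
    congr 1
    funext i
    have := (f i).2
    rw [Matrix.det_fin_two] at this
    linear_combination this

theorem bMat_one : bMat (1 : Fin n → SpecialLinearGroup (Fin 2) F) = 1 := by
  unfold bMat
  simp [← fromBlocks_one]

theorem bMat_mul (f g : Fin n → SpecialLinearGroup (Fin 2) F) :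
    bMat (f * g) = bMat f * bMat g := by
  have h : ∀ i a b, (f i * g i).1 a b =
      (f i).1 a 0 * (g i).1 0 b + (f i).1 a 1 * (g i).1 1 b := by
    intro i a b
    show ((f i).1 * (g i).1) a b = _
    rw [Matrix.mul_apply, Fin.sum_univ_two]
  unfold bMat
  rw [fromBlocks_multiply]
  simp only [diagonal_mul_diagonal, diagonal_add, Pi.mul_apply, h]

/-- the block permutation matrix -/
def pMat (F : Type*) [Field F] {n : ℕ} (σ : Perm (Fin n)) :
    Matrix (Fin n ⊕ Fin n) (Fin n ⊕ Fin n) F :=
  fromBlocks (pm F σ) 0 0 (pm F σ)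

theorem pMat_mem (σ : Perm (Fin n)) : pMat F σ ∈ symplecticGroup (Fin n) F := by
  unfold pMat
  rw [SymplecticGroup.fromBlocks_mem_iff]
  simp [pm_transpose_mul]

theorem pMat_one : pMat F (1 : Perm (Fin n)) = 1 := by
  unfold pMat
  rw [pm_one, fromBlocks_one]

theorem pMat_mul (σ τ : Perm (Fin n)) : pMat F (σ * τ) = pMat F σ * pMat F τ := by
  unfold pMat
  rw [fromBlocks_multiply]
  simp [pm_mul]

theorem pMat_bMat (σ : Perm (Fin n)) (f : Fin n → SpecialLinearGroup (Fin 2) F) :
    pMat F σ * bMat f = bMat (f ∘ σ.symm) * pMat F σ := by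
  unfold pMat bMat
  rw [fromBlocks_multiply, fromBlocks_multiply]
  simp only [Matrix.zero_mul, Matrix.mul_zero, add_zero, zero_add, pm_mul_diagonal]
  rfl

/-- `bMat` as a homomorphism into the symplectic group -/
def bHom (F : Type*) [Field F] (n : ℕ) :
    (Fin n → SpecialLinearGroup (Fin 2) F) →* symplecticGroup (Fin n) F where
  toFun f := ⟨bMat f, bMat_mem f⟩
  map_one' := Subtype.ext bMat_one
  map_mul' f g := Subtype.ext (bMat_mul f g)

/-- `pMat` as a homomorphism into the symplectic group -/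
def pHom (F : Type*) [Field F] (n : ℕ) : Perm (Fin n) →* symplecticGroup (Fin n) F where
  toFun σ := ⟨pMat F σ, pMat_mem σ⟩
  map_one' := Subtype.ext pMat_one
  map_mul' σ τ := Subtype.ext (pMat_mul σ τ)

theorem pHom_bHom (σ : Perm (Fin n)) (f : Fin n → SpecialLinearGroup (Fin 2) F) :
    pHom F n σ * bHom F n f = bHom F n (f ∘ σ.symm) * pHom F n σ :=
  Subtype.ext (pMat_bMat σ f)

theorem bHom_eq_pHom {f : Fin n → SpecialLinearGroup (Fin 2) F} {σ : Perm (Fin n)}
    (h : bHom F n f = pHom F n σ) : f = 1 ∧ σ = 1 := by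
  have h' : bMat f = pMat F σ := congrArg Subtype.val h
  unfold bMat pMat at h'
  rw [fromBlocks_inj] at h'
  obtain ⟨h1, h2, h3, h4⟩ := h'
  have hσ : σ = 1 := by
    ext j
    by_contra hne
    have := congrFun (congrFun h1 (σ j)) j
    rw [diagonal_apply_ne _ (fun h => hne (by rw [h]; rfl)), pm_apply, if_pos rfl] at this
    exact zero_ne_one this
  refine ⟨?_, hσ⟩
  subst hσ
  rw [pm_one] at h1 h4
  funext i
  apply Subtype.ext
  ext a b
  fin_cases a <;> fin_cases b
  · have := congrFun (congrFun h1 i) i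
    simpa using this
  · have := congrFun (congrFun h2 i) i
    simpa using this
  · have := congrFun (congrFun h3 i) i
    simpa using this
  · have := congrFun (congrFun h4 i) i
    simpa using this

theorem bHom_pHom_inj {f f' : Fin n → SpecialLinearGroup (Fin 2) F} {σ σ' : Perm (Fin n)}
    (h : bHom F n f * pHom F n σ = bHom F n f' * pHom F n σ') : f = f' ∧ σ = σ' := by
  have h1 : bHom F n (f'⁻¹ * f) = pHom F n (σ' * σ⁻¹) := by
    rw [map_mul, map_mul, map_inv, map_inv, inv_mul_eq_iff_eq_mul, ← mul_assoc, eq_mul_inv_iff_mul_eq]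
    exact h
  obtain ⟨h2, h3⟩ := bHom_eq_pHom h1
  exact ⟨(inv_mul_eq_one.1 h2).symm, (mul_inv_eq_one.1 h3).symm⟩

end Cfsg.Agent.Helper42
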