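import Mathlib

set_option autoImplicit false

/-!
# Centralizers in `SL(2, F)`

For a non-scalar `g ∈ SL(2,F)` the centralizer is in bijection with the solutions of
`x² + t x y + y² = 1`, `t = tr g`.
-/

namespace Cfsg.Agent.Helper42

open Matrix

theorem ext2 {R : Type*} (A B : Matrix (Fin 2) (Fin 2) R) (h00 : A 0 0 = B 0 0) (h01 : A 0 1 = B 0 1)
    (h10 : A 1 0 = B 1 0) (h11 : A 1 1 = B 1 1) : A = B := by
  ext i j
  fin_cases i <;> fin_cases j <;> assumption

variable {F : Type*} [Field F]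

/-- `g` is not a scalar matrix -/
def IsNonScalarMat (g : Matrix (Fin 2) (Fin 2) F) : Prop := ¬ (g 0 1 = 0 ∧ g 1 0 = 0 ∧ g 0 0 = g 1 1)

/-- the matrix `x + y g` -/
def lin (g : Matrix (Fin 2) (Fin 2) F) (x y : F) : Matrix (Fin 2) (Fin 2) F :=
  !![x + y * g 0 0, y * g 0 1; y * g 1 0, x + y * g 1 1]

theorem lin00 (g : Matrix (Fin 2) (Fin 2) F) (x y : F) : lin g x y 0 0 = x + y * g 0 0 := rfl
theorem lin01 (g : Matrix (Fin 2) (Fin 2) F) (x y : F) : lin g x y 0 1 = y * g 0 1 := rfl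
theorem lin10 (g : Matrix (Fin 2) (Fin 2) F) (x y : F) : lin g x y 1 0 = y * g 1 0 := rfl
theorem lin11 (g : Matrix (Fin 2) (Fin 2) F) (x y : F) : lin g x y 1 1 = x + y * g 1 1 := rfl

theorem mul00 (A B : Matrix (Fin 2) (Fin 2) F) : (A * B) 0 0 = A 0 0 * B 0 0 + A 0 1 * B 1 0 := by
  simp [Matrix.mul_apply, Fin.sum_univ_two]
theorem mul01 (A B : Matrix (Fin 2) (Fin 2) F) : (A * B) 0 1 = A 0 0 * B 0 1 + A 0 1 * B 1 1 := by
  simp [Matrix.mul_apply, Fin.sum_univ_two]
theorem mul10 (A B : Matrix (Fin 2) (Fin 2) F) : (A * B) 1 0 = A 1 0 * B 0 0 + A 1 1 * B 1 0 := by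
  simp [Matrix.mul_apply, Fin.sum_univ_two]
theorem mul11 (A B : Matrix (Fin 2) (Fin 2) F) : (A * B) 1 1 = A 1 0 * B 0 1 + A 1 1 * B 1 1 := by
  simp [Matrix.mul_apply, Fin.sum_univ_two]

theorem lin_comm (g : Matrix (Fin 2) (Fin 2) F) (x y : F) : lin g x y * g = g * lin g x y := by
  apply ext2
  · rw [mul00, mul00, lin00, lin01, lin10]; ring
  · rw [mul01, mul01, lin00, lin01, lin11]; ring
  · rw [mul10, mul10, lin00, lin10, lin11]; ring
  · rw [mul11, mul11, lin01, lin10, lin11]; ring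

theorem det_lin (g : Matrix (Fin 2) (Fin 2) F) (x y : F) :
    (lin g x y).det = x ^ 2 + x * y * g.trace + y ^ 2 * g.det := by
  rw [Matrix.det_fin_two, Matrix.det_fin_two, Matrix.trace_fin_two, lin00, lin01, lin10, lin11]
  ring

theorem lin_one (g : Matrix (Fin 2) (Fin 2) F) : lin g 1 0 = 1 := by
  apply ext2
  · rw [lin00]; simp
  · rw [lin01]; simp
  · rw [lin10]; simp
  · rw [lin11]; simp

theorem lin_self (g : Matrix (Fin 2) (Fin 2) F) : lin g 0 1 = g := by
  apply ext2
  · rw [lin00]; simp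
  · rw [lin01]; simp
  · rw [lin10]; simp
  · rw [lin11]; simp

theorem lin_injective (g : Matrix (Fin 2) (Fin 2) F) (hg : IsNonScalarMat g) (x y x' y' : F)
    (h : lin g x y = lin g x' y') : x = x' ∧ y = y' := by
  have h00 : x + y * g 0 0 = x' + y' * g 0 0 := by
    have := congrFun (congrFun h 0) 0; rwa [lin00, lin00] at this
  have h01 : y * g 0 1 = y' * g 0 1 := by
    have := congrFun (congrFun h 0) 1; rwa [lin01, lin01] at this
  have h10 : y * g 1 0 = y' * g 1 0 := by
    have := congrFun (congrFun h 1) 0; rwa [lin10, lin10] at this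
  have h11 : x + y * g 1 1 = x' + y' * g 1 1 := by
    have := congrFun (congrFun h 1) 1; rwa [lin11, lin11] at this
  have hy : y = y' := by
    by_contra hne
    apply hg
    have hne' : y - y' ≠ 0 := sub_ne_zero.mpr hne
    refine ⟨?_, ?_, ?_⟩
    · have : (y - y') * g 0 1 = 0 := by linear_combination h01
      exact (mul_eq_zero.mp this).resolve_left hne'
    · have : (y - y') * g 1 0 = 0 := by linear_combination h10
      exact (mul_eq_zero.mp this).resolve_left hne'
    · have : (y - y') * (g 0 0 - g 1 1) = 0 := by linear_combination h00 - h11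
      have := (mul_eq_zero.mp this).resolve_left hne'
      exact sub_eq_zero.mp this
  subst hy
  exact ⟨by linear_combination h00, rfl⟩

theorem exists_lin_of_comm (g h : Matrix (Fin 2) (Fin 2) F) (hg : IsNonScalarMat g) (hc : h * g = g * h) :
    ∃ x y, h = lin g x y := by
  have c00 : h 0 0 * g 0 0 + h 0 1 * g 1 0 = g 0 0 * h 0 0 + g 0 1 * h 1 0 := by
    have := congrFun (congrFun hc 0) 0; rwa [mul00, mul00] at this
  have c01 : h 0 0 * g 0 1 + h 0 1 * g 1 1 = g 0 0 * h 0 1 + g 0 1 * h 1 1 := by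
    have := congrFun (congrFun hc 0) 1; rwa [mul01, mul01] at this
  have c10 : h 1 0 * g 0 0 + h 1 1 * g 1 0 = g 1 0 * h 0 0 + g 1 1 * h 1 0 := by
    have := congrFun (congrFun hc 1) 0; rwa [mul10, mul10] at this
  by_cases hb : g 0 1 = 0
  · by_cases hcz : g 1 0 = 0
    · -- diagonal, g 0 0 ≠ g 1 1
      have hd : g 0 0 - g 1 1 ≠ 0 := by
        intro hd
        exact hg ⟨hb, hcz, sub_eq_zero.mp hd⟩
      have h01 : h 0 1 = 0 := by
        have : h 0 1 * (g 0 0 - g 1 1) = 0 := by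
          rw [hb] at c01; linear_combination -c01
        exact (mul_eq_zero.mp this).resolve_right hd
      have h10 : h 1 0 = 0 := by
        have : h 1 0 * (g 0 0 - g 1 1) = 0 := by
          rw [hcz] at c10; linear_combination c10
        exact (mul_eq_zero.mp this).resolve_right hd
      refine ⟨h 0 0 - (h 0 0 - h 1 1) / (g 0 0 - g 1 1) * g 0 0, (h 0 0 - h 1 1) / (g 0 0 - g 1 1), ?_⟩
      apply ext2
      · rw [lin00]; ring
      · rw [lin01, hb, h01]; ring
      · rw [lin10, hcz, h10]; ring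
      · rw [lin11]; field_simp; ring
    · -- g 1 0 ≠ 0
      refine ⟨h 0 0 - h 1 0 / g 1 0 * g 0 0, h 1 0 / g 1 0, ?_⟩
      apply ext2
      · rw [lin00]; ring
      · rw [lin01]; field_simp; linear_combination c00
      · rw [lin10]; field_simp
      · rw [lin11]; field_simp; linear_combination c10
  · refine ⟨h 0 0 - h 0 1 / g 0 1 * g 0 0, h 0 1 / g 0 1, ?_⟩
    apply ext2
    · rw [lin00]; ring
    · rw [lin01]; field_simp
    · rw [lin10]; field_simp; linear_combination -c00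
    · rw [lin11]; field_simp; linear_combination -c01

/-! ### The centralizer of a non-scalar element of `SL(2,F)` -/

/-- the solution set of the norm equation -/
def normOneSet (t : F) : Set (F × F) := {p | p.1 ^ 2 + p.1 * p.2 * t + p.2 ^ 2 = 1}

/-- the element `x + y g` of `SL(2,F)` -/
def linSL (g : Matrix.SpecialLinearGroup (Fin 2) F) (p : normOneSet ((g : Matrix (Fin 2) (Fin 2) F).trace)) :
    Matrix.SpecialLinearGroup (Fin 2) F :=
  ⟨lin (g : Matrix (Fin 2) (Fin 2) F) p.1.1 p.1.2, by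
    rw [det_lin, g.2, mul_one]; exact p.2⟩

theorem coe_linSL (g : Matrix.SpecialLinearGroup (Fin 2) F) (p : normOneSet ((g : Matrix (Fin 2) (Fin 2) F).trace)) :
    (linSL g p : Matrix (Fin 2) (Fin 2) F) = lin (g : Matrix (Fin 2) (Fin 2) F) p.1.1 p.1.2 := rfl

theorem linSL_mem (g : Matrix.SpecialLinearGroup (Fin 2) F) (p : normOneSet ((g : Matrix (Fin 2) (Fin 2) F).trace)) :
    linSL g p ∈ Subgroup.centralizer ({g} : Set (Matrix.SpecialLinearGroup (Fin 2) F)) := by
  rw [Subgroup.mem_centralizer_singleton_iff]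
  apply Matrix.SpecialLinearGroup.ext
  intro i j
  rw [Matrix.SpecialLinearGroup.coe_mul, Matrix.SpecialLinearGroup.coe_mul, coe_linSL, lin_comm]

theorem card_centralizer (g : Matrix.SpecialLinearGroup (Fin 2) F) (hg : IsNonScalarMat (g : Matrix (Fin 2) (Fin 2) F)) :
    Nat.card (Subgroup.centralizer ({g} : Set (Matrix.SpecialLinearGroup (Fin 2) F))) =
      Nat.card (normOneSet ((g : Matrix (Fin 2) (Fin 2) F).trace)) := by
  symm
  apply Nat.card_congr
  refine Equiv.ofBijective (fun p => ⟨linSL g p, linSL_mem g p⟩) ⟨?_, ?_⟩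
  · rintro ⟨⟨x, y⟩, hp⟩ ⟨⟨x', y'⟩, hp'⟩ h
    have h1 : lin (g : Matrix (Fin 2) (Fin 2) F) x y = lin (g : Matrix (Fin 2) (Fin 2) F) x' y' := by
      have := congrArg (fun k : Subgroup.centralizer ({g} : Set (Matrix.SpecialLinearGroup (Fin 2) F)) =>
        ((k : Matrix.SpecialLinearGroup (Fin 2) F) : Matrix (Fin 2) (Fin 2) F)) h
      exact this
    obtain ⟨rfl, rfl⟩ := lin_injective _ hg _ _ _ _ h1
    rfl
  · rintro ⟨k, hk⟩
    rw [Subgroup.mem_centralizer_singleton_iff] at hk
    have hk' : (k : Matrix (Fin 2) (Fin 2) F) * (g : Matrix (Fin 2) (Fin 2) F) =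
        (g : Matrix (Fin 2) (Fin 2) F) * (k : Matrix (Fin 2) (Fin 2) F) := by
      have := congrArg (fun A : Matrix.SpecialLinearGroup (Fin 2) F => (A : Matrix (Fin 2) (Fin 2) F)) hk
      simpa only [Matrix.SpecialLinearGroup.coe_mul] using this
    obtain ⟨x, y, hxy⟩ := exists_lin_of_comm _ _ hg hk'
    have hmem : (x, y) ∈ normOneSet ((g : Matrix (Fin 2) (Fin 2) F).trace) := by
      show x ^ 2 + x * y * _ + y ^ 2 = 1
      have := k.2
      rw [hxy, det_lin, g.2, mul_one] at this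
      exact this
    refine ⟨⟨(x, y), hmem⟩, ?_⟩
    apply Subtype.ext
    apply Matrix.SpecialLinearGroup.ext
    intro i j
    show (linSL g ⟨(x, y), hmem⟩ : Matrix (Fin 2) (Fin 2) F) i j = (k : Matrix (Fin 2) (Fin 2) F) i j
    rw [coe_linSL, hxy]

end Cfsg.Agent.Helper42
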