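import Mathlib

set_option autoImplicit false

/-! Definitions shared by the pieces of S2425 (Steinberg character values at `p'`-elements). -/

namespace Cfsg.Agent.Helper42.StVal

open Finset

/-- cut set of a composition `μ` of `n`: the partial sums `μ 0 + ⋯ + μ j` lying strictly between
`0` and `n`. -/
def cutSet {n : ℕ} (μ : Fin n → ℕ) : Finset ℕ :=
  ((univ : Finset (Fin n)).image fun j => ∑ k ∈ univ.filter (fun k : Fin n => k ≤ j), μ k).filter
    fun s => 0 < s ∧ s < n

/-- `φ`-`ψ`-equivariant linear maps `M → N`. -/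
def eqHom {F M N : Type*} [Field F] [AddCommGroup M] [Module F M] [AddCommGroup N] [Module F N]
    (φ : Module.End F M) (ψ : Module.End F N) : Submodule F (M →ₗ[F] N) where
  carrier := {h | h ∘ₗ φ = ψ ∘ₗ h}
  add_mem' := by
    intro a b ha hb
    simp only [Set.mem_ofPred_eq] at *
    rw [LinearMap.add_comp, LinearMap.comp_add, ha, hb]
  zero_mem' := by simp
  smul_mem' := by
    intro c a ha
    simp only [Set.mem_ofPred_eq] at *
    rw [LinearMap.smul_comp, LinearMap.comp_smul, ha]

theorem mem_eqHom {F M N : Type*} [Field F] [AddCommGroup M] [Module F M] [AddCommGroup N]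
    [Module F N] {φ : Module.End F M} {ψ : Module.End F N} {h : M →ₗ[F] N} :
    h ∈ eqHom φ ψ ↔ h ∘ₗ φ = ψ ∘ₗ h := Iff.rfl

/-- simple endomorphism: nontrivial space, only the trivial invariant subspaces. -/
def IsSimpleEnd {F N : Type*} [Field F] [AddCommGroup N] [Module F N] (ψ : Module.End F N) : Prop :=
  Nontrivial N ∧ ∀ p ∈ ψ.invtSubmodule, p = ⊥ ∨ p = ⊤

end Cfsg.Agent.Helper42.StVal
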