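import Mathlib
import Cfsg.Agent.Helper99.P4Defs

/-!
# S6000 farm (helper99), piece (E0): membership in `N0` from the action on the four generators
-/

set_option autoImplicit false
open scoped MatrixGroups

namespace Cfsg.Agent.Helper42.P4

open Matrix Polynomial Cfsg.Agent.Helper99.P4 Cfsg.Geo

variable {F : Type*} [Field F]

/-- `g` moves `M` to an `R0`-multiple -/
def Good (i : F) (g M : Matrix (Fin 4) (Fin 4) F) : Prop :=
  ∃ (k : ℕ) (v : V4), g * M = i ^ k • (pw v * g)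

theorem good_one (i : F) (g : Matrix (Fin 4) (Fin 4) F) : Good i g 1 :=
  ⟨0, 0, by simp [pw_zero]⟩

theorem good_mul {i : F} (hi : i ^ 2 = -1) {g M N : Matrix (Fin 4) (Fin 4) F}
    (hM : Good i g M) (hN : Good i g N) : Good i g (M * N) := by
  obtain ⟨k, u, hM⟩ := hM
  obtain ⟨l, v, hN⟩ := hN
  refine ⟨k + l + 2 * (eps u v).val, u + v, ?_⟩
  rw [← Matrix.mul_assoc, hM, Matrix.smul_mul, Matrix.mul_assoc, hN, Matrix.mul_smul,
    ← Matrix.mul_assoc, pw_mul, Matrix.smul_mul, smul_smul, smul_smul, sg_eq_pow hi, ← pow_add,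
    ← pow_add]

theorem good_pow {i : F} (hi : i ^ 2 = -1) {g M : Matrix (Fin 4) (Fin 4) F}
    (hM : Good i g M) (n : ℕ) : Good i g (M ^ n) := by
  induction n with
  | zero => rw [pow_zero]; exact good_one i g
  | succ n ih => rw [pow_succ]; exact good_mul hi ih hM

theorem good_smul {i : F} {g M : Matrix (Fin 4) (Fin 4) F}
    (hM : Good i g M) (k : ℕ) : Good i g (i ^ k • M) := by
  obtain ⟨l, u, hM⟩ := hM
  refine ⟨k + l, u, ?_⟩
  rw [Matrix.mul_smul, hM, smul_smul, ← pow_add]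

theorem finite_R0 {i : F} (hi : i ^ 2 = -1) : (R0 i hi : Set (GL (Fin 4) F)).Finite := by
  apply Set.Finite.of_finite_image
    (f := fun g : GL (Fin 4) F => (g : Matrix (Fin 4) (Fin 4) F))
  · apply Set.Finite.subset (Set.finite_range
      (fun kv : Fin 4 × V4 => (i ^ (kv.1 : ℕ)) • (pw kv.2 : Matrix (Fin 4) (Fin 4) F)))
    rintro _ ⟨g, ⟨k, v, hg⟩, rfl⟩
    refine ⟨(⟨k % 4, Nat.mod_lt _ (by norm_num)⟩, v), ?_⟩
    simp only
    rw [hg]
    congr 1
    conv_rhs => rw [← Nat.mod_add_div k 4, pow_add, pow_mul, i_pow_four hi, one_pow, mul_one]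
  · exact fun a _ b _ h => Units.ext h

/-- (E0) -/
theorem mem_N0_of_gens {i : F} (hi : i ^ 2 = -1) (g : GL (Fin 4) F)
    (h1 : ∃ (k : ℕ) (v : V4), (g : Matrix (Fin 4) (Fin 4) F) * mX1 = i ^ k • (pw v * (g : Matrix (Fin 4) (Fin 4) F)))
    (h2 : ∃ (k : ℕ) (v : V4), (g : Matrix (Fin 4) (Fin 4) F) * mZ1 = i ^ k • (pw v * (g : Matrix (Fin 4) (Fin 4) F)))
    (h3 : ∃ (k : ℕ) (v : V4), (g : Matrix (Fin 4) (Fin 4) F) * mX2 = i ^ k • (pw v * (g : Matrix (Fin 4) (Fin 4) F)))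
    (h4 : ∃ (k : ℕ) (v : V4), (g : Matrix (Fin 4) (Fin 4) F) * mZ2 = i ^ k • (pw v * (g : Matrix (Fin 4) (Fin 4) F))) :
    g ∈ N0 i hi := by
  have hpw : ∀ v : V4, Good i (g : Matrix (Fin 4) (Fin 4) F) (pw v) := by
    intro v
    unfold pw
    exact good_mul hi (good_mul hi (good_mul hi (good_pow hi h1 _) (good_pow hi h2 _))
      (good_pow hi h3 _)) (good_pow hi h4 _)
  unfold N0 Cfsg.Geo.subgroupNormalizer
  haveI : Finite (R0 i hi : Set (GL (Fin 4) F)) := (finite_R0 hi).to_subtype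
  apply Subgroup.mem_normalizer_fintype
  intro n hn
  obtain ⟨k, v, hn⟩ := hn
  obtain ⟨l, w, h⟩ := good_smul (hpw v) k
  refine ⟨l, w, ?_⟩
  rw [Units.val_mul, Units.val_mul, hn, h, Matrix.smul_mul, Matrix.mul_assoc, ← Units.val_mul,
    mul_inv_cancel, Units.val_one, Matrix.mul_one]

end Cfsg.Agent.Helper42.P4
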