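import Cfsg.Agent.Helper11.Spec5.Defs

/-!
# S2512 piece (AR): arithmetic of `cP q n`
-/

set_option autoImplicit false

namespace Cfsg.Agent.Helper42.Spec5

open Matrix Polynomial Cfsg.Agent.Helper43.SpReg Cfsg.Agent.Helper11.Spec5 Cfsg.Agent.S0246

/-- (AR1) -/
theorem cP_odd (q n : ℕ) (hq : Odd q) : Odd (cP q n) := by
  have hN : Odd (q ^ n) := hq.pow
  obtain ⟨N, hNd⟩ : ∃ N, N = q ^ n := ⟨_, rfl⟩
  rw [← hNd] at hN
  unfold cP
  rw [← hNd]
  rw [Nat.odd_iff] at hN ⊢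
  split_ifs with h
  · omega
  · omega

/-- (AR2) -/
theorem dvd_cases (q n k : ℕ) (hq : Odd q) (hk : Odd k) (h : k ∣ q ^ n + 1 ∨ k ∣ q ^ n - 1) :
    k ∣ cP q n ∨ 2 * k ∣ (q ^ n + 1) / 2 ∨ 2 * k ∣ (q ^ n - 1) / 2 := by
  have hN : Odd (q ^ n) := hq.pow
  obtain ⟨N, hNd⟩ : ∃ N, N = q ^ n := ⟨_, rfl⟩
  rw [← hNd] at hN h
  unfold cP
  rw [← hNd]
  have hk2 : Nat.Coprime k 2 := Nat.coprime_two_right.mpr hk
  have hk4 : Nat.Coprime k 4 := by
    have := Nat.Coprime.pow_right 2 hk2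
    simpa using this
  rw [Nat.odd_iff] at hN
  by_cases h4 : N % 4 = 1
  · rw [if_pos h4]
    obtain ⟨m, hm⟩ : ∃ m, N = 4 * m + 1 := ⟨N / 4, by omega⟩
    rcases h with h | h
    · left
      have h1 : N + 1 = (N + 1) / 2 * 2 := by omega
      rw [h1] at h
      exact hk2.dvd_of_dvd_mul_right h
    · right; right
      have h1 : N - 1 = m * 4 := by omega
      rw [h1] at h
      have h2 : k ∣ m := hk4.dvd_of_dvd_mul_right h
      have h3 : (N - 1) / 2 = 2 * m := by omega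
      rw [h3]
      exact Nat.mul_dvd_mul_left 2 h2
  · rw [if_neg h4]
    obtain ⟨m, hm⟩ : ∃ m, N = 4 * m + 3 := ⟨N / 4, by omega⟩
    rcases h with h | h
    · right; left
      have h1 : N + 1 = (m + 1) * 4 := by omega
      rw [h1] at h
      have h2 : k ∣ m + 1 := hk4.dvd_of_dvd_mul_right h
      have h3 : (N + 1) / 2 = 2 * (m + 1) := by omega
      rw [h3]
      exact Nat.mul_dvd_mul_left 2 h2
    · left
      have h1 : N - 1 = (N - 1) / 2 * 2 := by omega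
      rw [h1] at h
      exact hk2.dvd_of_dvd_mul_right h

end Cfsg.Agent.Helper42.Spec5
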