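import Cfsg.Agent.Helper11.Spec5.Defs

/-!
# S2512 piece (L1): an element of odd order of `PSp` lifts to an element of `Sp` of the same order
-/

set_option autoImplicit false

namespace Cfsg.Agent.Helper42.Spec5

open Matrix Polynomial Cfsg.Agent.Helper43.SpReg Cfsg.Agent.Helper11.Spec5 Cfsg.Agent.S0246

section sp

variable {F : Type*} [Field F] [Fintype F] {n : ℕ}

omit [Fintype F] in
theorem L1_negOne_mul_self : negOne n F * negOne n F = 1 := by
  apply Subtype.ext
  show (-1 : Matrix (Fin n ⊕ Fin n) (Fin n ⊕ Fin n) F) * (-1) = 1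
  simp

omit [Fintype F] in
theorem L1_negOne_pow_odd {r : ℕ} (hr : Odd r) : negOne n F ^ r = negOne n F := by
  obtain ⟨k, rfl⟩ := hr
  rw [pow_succ, pow_mul, pow_two, L1_negOne_mul_self, one_pow, one_mul]

/-- (L1) an element of odd order of `PSp` lifts to an element of the same order. -/
theorem lift_odd (hn : 1 ≤ n) (w : Cfsg.PSp n F) (hw : Odd (orderOf w)) :
    ∃ x : Sp n F, (QuotientGroup.mk x : Cfsg.PSp n F) = w ∧ orderOf x = orderOf w := by
  classical
  obtain ⟨x₀, rfl⟩ := QuotientGroup.mk_surjective w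
  set r := orderOf (QuotientGroup.mk x₀ : Cfsg.PSp n F) with hr
  have hcen : x₀ ^ r ∈ Subgroup.center (Matrix.symplecticGroup (Fin n) F) := by
    rw [← QuotientGroup.eq_one_iff, QuotientGroup.mk_pow, hr, pow_orderOf_eq_one]
  have key : ∀ x : Sp n F, (QuotientGroup.mk x : Cfsg.PSp n F) = QuotientGroup.mk x₀ → x ^ r = 1 →
      orderOf x = r := by
    intro x hx hxr
    apply Nat.dvd_antisymm (orderOf_dvd_of_pow_eq_one hxr)
    have h1 := orderOf_map_dvd (QuotientGroup.mk' (Subgroup.center (Matrix.symplecticGroup (Fin n) F))) x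
    rw [QuotientGroup.mk'_apply, hx] at h1
    exact h1
  rcases (mem_center_iff hn _).1 hcen with h1 | h1
  · exact ⟨x₀, rfl, key x₀ rfl h1⟩
  · refine ⟨negOne n F * x₀, ?_, ?_⟩
    · rw [QuotientGroup.mk_mul, (QuotientGroup.eq_one_iff _).2 negOne_mem_center, one_mul]
    · apply key
      · rw [QuotientGroup.mk_mul, (QuotientGroup.eq_one_iff _).2 negOne_mem_center, one_mul]
      · have hcomm : Commute (negOne n F) x₀ := by
          have := (Subgroup.mem_center_iff.1 (negOne_mem_center (m := n) (F := F))) x₀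
          exact this.symm
        rw [hcomm.mul_pow, h1, L1_negOne_pow_odd hw, L1_negOne_mul_self]

end sp

end Cfsg.Agent.Helper42.Spec5
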