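import Mathlib

set_option autoImplicit false

/-!
# Derived length of `p`-groups of permutations
-/

namespace Cfsg.Agent.Helper42

open MulAction
open scoped commutatorElement

universe u v

theorem derivedSeries_eq_bot_of_injective {G H : Type*} [Group G] [Group H] (f : G →* H)
    (hf : Function.Injective f) (k : ℕ) (h : derivedSeries H k = ⊥) : derivedSeries G k = ⊥ := by
  rw [eq_bot_iff]
  intro g hg
  have h1 := map_derivedSeries_le_derivedSeries f k (Subgroup.mem_map_of_mem f hg)
  rw [h, Subgroup.mem_bot] at h1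
  rw [Subgroup.mem_bot]
  exact hf (h1.trans (map_one f).symm)

theorem derivedSeries_succ_le_map_subtype {G : Type*} [Group G] (M : Subgroup G)
    (hM : derivedSeries G 1 ≤ M) (j : ℕ) :
    derivedSeries G (j + 1) ≤ (derivedSeries M j).map M.subtype := by
  induction j with
  | zero =>
    rw [derivedSeries_zero, ← MonoidHom.range_eq_map, Subgroup.range_subtype]
    exact hM
  | succ j ih =>
    rw [derivedSeries_succ, derivedSeries_succ (G := M), Subgroup.map_commutator]
    exact Subgroup.commutator_mono ih ih

theorem card_orbit_mul_card_stabilizer' {G α : Type*} [Group G] [MulAction G α] (b : α) :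
    Nat.card (orbit G b) * Nat.card (stabilizer G b) = Nat.card G := by
  rw [← Nat.card_prod]
  exact Nat.card_congr (orbitProdStabilizerEquivGroup G b)

/-- In a `p`-group acting transitively on `p ^ k` points, the `k`-th derived subgroup acts
trivially. -/
theorem derivedSeries_smul_eq_of_transitive (p : ℕ) [Fact p.Prime] (k : ℕ) :
    ∀ (G : Type u) [Group G] [Finite G] (_ : IsPGroup p G) (α : Type v) [MulAction G α]
      [IsPretransitive G α], Nat.card α = p ^ k → ∀ g ∈ derivedSeries G k, ∀ a : α,
      g • a = a := by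
  have hp : p.Prime := Fact.out
  induction k with
  | zero =>
    intro G _ _ hG α _ _ hα g _ a
    rw [pow_zero, Nat.card_eq_one_iff_unique] at hα
    have := hα.1
    exact Subsingleton.elim _ _
  | succ k ih =>
    intro G _ _ hG α _ _ hα g hg a
    have hfin : Finite α := Nat.finite_of_card_ne_zero (by rw [hα]; exact (pow_pos hp.pos _).ne')
    obtain ⟨m, hm⟩ := IsPGroup.iff_card.mp hG
    -- the stabilizer of a point
    have hstab : ∀ y : α, Nat.card (stabilizer G y) * p ^ (k + 1) = p ^ m := by
      intro y
      have h1 := card_orbit_mul_card_stabilizer' (G := G) y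
      have h2 : orbit G y = Set.univ := MulAction.orbit_eq_univ G y
      rw [h2, Nat.card_coe_set_eq, Set.ncard_univ, hα, hm] at h1
      rw [mul_comm]; exact h1
    have hmk : k + 1 ≤ m := by
      have h1 : p ^ (k + 1) ∣ p ^ m := Dvd.intro_left _ (hstab a)
      exact (Nat.pow_dvd_pow_iff_le_right hp.one_lt).mp h1
    have hstab' : ∀ y : α, Nat.card (stabilizer G y) = p ^ (m - (k + 1)) := by
      intro y
      have h1 := hstab y
      have h2 : p ^ m = p ^ (m - (k + 1)) * p ^ (k + 1) := by
        rw [← pow_add]; congr 1; omega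
      rw [h2] at h1
      exact Nat.eq_of_mul_eq_mul_right (pow_pos hp.pos _) h1
    -- a normal subgroup of index p containing the stabilizer
    obtain ⟨M, hMcard, hMle⟩ := Sylow.exists_subgroup_card_pow_prime_le p
      (show p ^ (m - 1) ∣ Nat.card G by rw [hm]; exact pow_dvd_pow p (by omega))
      (stabilizer G a) (hstab' a) (by omega)
    have hMindex : M.index = p := by
      have h1 := M.card_mul_index
      rw [hMcard, hm] at h1
      have h2 : p ^ m = p ^ (m - 1) * p := by
        rw [← pow_succ]; congr 1; omega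
      rw [h2] at h1
      exact Nat.eq_of_mul_eq_mul_left (pow_pos hp.pos _) h1
    have hMnormal : M.Normal := by
      apply Subgroup.normal_of_index_eq_minFac_card
      rw [hMindex, hm, Nat.Prime.pow_minFac hp (by omega)]
    -- the quotient is abelian
    have hder : derivedSeries G 1 ≤ M := by
      rw [derivedSeries_one, commutator_def, Subgroup.commutator_le]
      intro x _ y _
      have hcard : Nat.card (G ⧸ M) = p := by rw [← Subgroup.index_eq_card]; exact hMindex
      have hcyc : IsCyclic (G ⧸ M) := isCyclic_of_prime_card hcard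
      have hcomm : ∀ u v : G ⧸ M, u * v = v * u := by
        intro u v
        let _ := hcyc.commGroup
        exact mul_comm u v
      rw [← QuotientGroup.eq_one_iff, commutatorElement_def]
      simp only [QuotientGroup.mk_mul, QuotientGroup.mk_inv]
      rw [hcomm (↑x) (↑y)]
      group
    have hsub := derivedSeries_succ_le_map_subtype M hder k
    obtain ⟨m', hm', rfl⟩ := hsub hg
    -- m' acts trivially on its own orbit
    have hMp : IsPGroup p M := hG.to_subgroup M
    -- stabilizers of all points lie in M
    have hstabM : ∀ y : α, stabilizer G y ≤ M := by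
      intro y
      obtain ⟨t, rfl⟩ := exists_smul_eq G a y
      rw [MulAction.stabilizer_smul_eq_stabilizer_map_conj]
      intro x hx
      obtain ⟨x₀, hx₀, rfl⟩ := hx
      exact hMnormal.conj_mem x₀ (hMle hx₀) t
    have horb : Nat.card (orbit M a) = p ^ k := by
      have h1 := card_orbit_mul_card_stabilizer' (G := M) a
      have h2 : Nat.card (stabilizer M a) = Nat.card (stabilizer G a) := by
        have e : stabilizer M a = (stabilizer G a).subgroupOf M := by
          ext x; rfl
        rw [e]
        exact Nat.card_congr (Subgroup.subgroupOfEquivOfLe (hstabM a)).toEquiv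
      rw [h2, hstab' a, hMcard] at h1
      have h3 : p ^ (m - 1) = p ^ k * p ^ (m - (k + 1)) := by
        rw [← pow_add]; congr 1; omega
      rw [h3] at h1
      exact Nat.eq_of_mul_eq_mul_right (pow_pos hp.pos _) h1
    have h4 := ih M hMp (orbit M a) horb m' hm' ⟨a, mem_orbit_self a⟩
    have h5 := congrArg Subtype.val h4
    exact h5

/-- A `p`-group acting faithfully on `n ≥ 1` points has derived length at most `log_p n`. -/
theorem derivedSeries_log_eq_bot (p : ℕ) [Fact p.Prime] (G : Type u) [Group G] [Finite G]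
    (hG : IsPGroup p G) (α : Type v) [Finite α] [MulAction G α] [FaithfulSMul G α] :
    derivedSeries G (Nat.log p (Nat.card α)) = ⊥ := by
  have hp : p.Prime := Fact.out
  rw [eq_bot_iff]
  intro g hg
  rw [Subgroup.mem_bot]
  apply FaithfulSMul.eq_of_smul_eq_smul (α := α)
  intro a
  rw [one_smul]
  obtain ⟨j, hj⟩ := hG.card_orbit a
  have hle : p ^ j ≤ Nat.card α := by
    rw [← hj, Nat.card_coe_set_eq]
    exact Set.ncard_le_card _
  have hjlog : j ≤ Nat.log p (Nat.card α) := Nat.le_log_of_pow_le hp.one_lt hle
  have hg' : g ∈ derivedSeries G j := derivedSeries_antitone G hjlog hg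
  have h1 := derivedSeries_smul_eq_of_transitive p j G hG (orbit G a) hj g hg'
    ⟨a, mem_orbit_self a⟩
  exact congrArg Subtype.val h1


section wreath

open RegularWreathProduct

variable {D Q : Type*} [Group D] [Group Q]

/-- evaluation at `1` on the base group of a regular wreath product -/
def baseEval : ↥((rightHom : D ≀ᵣ Q →* Q).ker) →* D where
  toFun w := w.1.left 1
  map_one' := rfl
  map_mul' a b := by
    have ha : a.1.right = 1 := MonoidHom.mem_ker.mp a.2
    show (a.1 * b.1).left 1 = a.1.left 1 * b.1.left 1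
    rw [RegularWreathProduct.mul_left, Pi.mul_apply, ha, inv_one, one_mul]

theorem derivedSeries_le_map_baseEval [DecidableEq Q] [Nontrivial Q] (j : ℕ) :
    derivedSeries D j ≤
      ((derivedSeries (D ≀ᵣ Q) (j + 1)).subgroupOf (rightHom : D ≀ᵣ Q →* Q).ker).map baseEval := by
  induction j with
  | zero =>
    intro d _
    obtain ⟨q, hq⟩ := exists_ne (1 : Q)
    let b : D ≀ᵣ Q := ⟨Pi.mulSingle 1 d, 1⟩
    let t : D ≀ᵣ Q := inl q
    have hw : ⁅b, t⁆ ∈ derivedSeries (D ≀ᵣ Q) (0 + 1) := by
      rw [derivedSeries_succ, derivedSeries_zero]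
      exact Subgroup.commutator_mem_commutator (Subgroup.mem_top _) (Subgroup.mem_top _)
    have hker : ⁅b, t⁆ ∈ (rightHom : D ≀ᵣ Q →* Q).ker := by
      rw [MonoidHom.mem_ker, commutatorElement_def]
      simp [b, t]
    refine ⟨⟨⁅b, t⁆, hker⟩, hw, ?_⟩
    show (⁅b, t⁆).left 1 = d
    have hq' : q⁻¹ ≠ 1 := by simpa using hq
    rw [commutatorElement_def]
    simp [b, t, Pi.mulSingle_apply, hq']
  | succ j ih =>
    rw [derivedSeries_succ]
    refine (Subgroup.commutator_mono ih ih).trans ?_
    rw [← Subgroup.map_commutator]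
    apply Subgroup.map_mono
    rw [Subgroup.commutator_le]
    intro x hx y hy
    rw [Subgroup.mem_subgroupOf] at hx hy ⊢
    rw [derivedSeries_succ]
    exact Subgroup.commutator_mem_commutator hx hy

theorem derivedSeries_wreath_ne_bot [Nontrivial Q] (j : ℕ) (h : derivedSeries D j ≠ ⊥) :
    derivedSeries (D ≀ᵣ Q) (j + 1) ≠ ⊥ := by
  classical
  intro hbot
  apply h
  rw [eq_bot_iff]
  intro d hd
  obtain ⟨w, hw, rfl⟩ := derivedSeries_le_map_baseEval (Q := Q) j hd
  rw [SetLike.mem_coe, Subgroup.mem_subgroupOf, hbot, Subgroup.mem_bot] at hw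
  have hw1 : w = 1 := Subtype.ext hw
  rw [hw1, map_one]
  exact Subgroup.mem_bot.mpr rfl

end wreath


/-- a `p`-group acting faithfully on `p ^ k` points with derived length at least `k` -/
theorem exists_tower (p : ℕ) [Fact p.Prime] (k : ℕ) (hk : 1 ≤ k) :
    ∃ (W : Type) (_ : Group W) (_ : Finite W) (Λ : Type) (_ : Finite Λ) (_ : MulAction W Λ),
      FaithfulSMul W Λ ∧ IsPGroup p W ∧ Nat.card Λ = p ^ k ∧ derivedSeries W (k - 1) ≠ ⊥ := by
  have hp : p.Prime := Fact.out
  have : NeZero p := ⟨hp.ne_zero⟩
  have : Fact (1 < p) := ⟨hp.one_lt⟩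
  have hcardC : Nat.card (Multiplicative (ZMod p)) = p := by
    rw [Nat.card_congr Multiplicative.toAdd, Nat.card_eq_fintype_card]
    exact ZMod.card p
  have hnt : Nontrivial (Multiplicative (ZMod p)) :=
    inferInstanceAs (Nontrivial (ZMod p))
  induction k, hk using Nat.le_induction with
  | base =>
    refine ⟨Multiplicative (ZMod p), inferInstance, inferInstance, Multiplicative (ZMod p),
      inferInstance, inferInstance, inferInstance, ?_, ?_, ?_⟩
    · exact IsPGroup.of_card (n := 1) (by rw [hcardC, pow_one])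
    · rw [hcardC, pow_one]
    · rw [Nat.sub_self, derivedSeries_zero]
      exact top_ne_bot
  | succ k hk ih =>
    obtain ⟨W, hW1, hW2, Λ, hΛ1, hΛ2, hfaith, hpW, hcard, hder⟩ := ih
    have hΛne : Nonempty Λ := by
      have : 0 < Nat.card Λ := by rw [hcard]; exact pow_pos hp.pos _
      exact (Nat.card_pos_iff.mp this).1
    refine ⟨W ≀ᵣ Multiplicative (ZMod p), inferInstance, inferInstance,
      Λ × Multiplicative (ZMod p), inferInstance, inferInstance, inferInstance, ?_, ?_, ?_⟩
    · obtain ⟨a, ha⟩ := IsPGroup.iff_card.mp hpW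
      apply IsPGroup.of_card (n := a * p + 1)
      rw [RegularWreathProduct.card, hcardC, ha, ← pow_mul, pow_succ]
    · rw [Nat.card_prod, hcard, hcardC, pow_succ]
    · have h1 := derivedSeries_wreath_ne_bot (D := W) (Q := Multiplicative (ZMod p)) (k - 1) hder
      have e : k - 1 + 1 = k + 1 - 1 := by omega
      rw [e] at h1
      exact h1

theorem sylow_perm_derivedSeries (p : ℕ) [Fact p.Prime] (n : ℕ) (hn : 1 ≤ n)
    (P : Sylow p (Equiv.Perm (Fin n))) :
    derivedSeries ↥(P : Subgroup (Equiv.Perm (Fin n))) (Nat.log p n) = ⊥ ∧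
      (1 ≤ Nat.log p n →
        derivedSeries ↥(P : Subgroup (Equiv.Perm (Fin n))) (Nat.log p n - 1) ≠ ⊥) := by
  constructor
  · have h := derivedSeries_log_eq_bot p ↥(P : Subgroup (Equiv.Perm (Fin n))) P.isPGroup' (Fin n)
    rwa [Nat.card_fin] at h
  · intro hk
    obtain ⟨W, hW1, hW2, Λ, hΛ1, hΛ2, hfaith, hpW, hcard, hder⟩ :=
      exists_tower p (Nat.log p n) hk
    have hle : p ^ Nat.log p n ≤ n := Nat.pow_log_le_self p (by omega)
    have instΛ : Fintype Λ := Fintype.ofFinite Λ
    have hcard' : Fintype.card Λ ≤ Fintype.card (Fin n) := by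
      rw [Fintype.card_fin, ← Nat.card_eq_fintype_card, hcard]; exact hle
    obtain ⟨ι⟩ := Function.Embedding.nonempty_of_card_le hcard'
    let φ : W →* Equiv.Perm (Fin n) :=
      (Equiv.Perm.viaEmbeddingHom ι).comp (toPermHom W Λ)
    have hφ : Function.Injective φ :=
      (Equiv.Perm.viaEmbeddingHom_injective ι).comp MulAction.toPerm_injective
    have hrange : IsPGroup p φ.range :=
      hpW.of_surjective φ.rangeRestrict φ.rangeRestrict_surjective
    obtain ⟨Q, hQ⟩ := hrange.exists_le_sylow
    let ψ : W →* ↥(Q : Subgroup (Equiv.Perm (Fin n))) :=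
      φ.codRestrict (Q : Subgroup (Equiv.Perm (Fin n))) (fun w => hQ ⟨w, rfl⟩)
    have hψ : Function.Injective ψ := by
      intro a b hab
      exact hφ (congrArg Subtype.val hab)
    intro hP
    apply hder
    apply derivedSeries_eq_bot_of_injective ψ hψ
    exact derivedSeries_eq_bot_of_injective (Q.equiv P).toMonoidHom (Q.equiv P).injective _ hP

end Cfsg.Agent.Helper42
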