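import Mathlib
import Cfsg.Agent.Helper42.SylowDerived

set_option autoImplicit false
set_option linter.unusedSectionVars false

/-!
# Abstract monomial groups `A ≀ Perm ι` and towers of regular wreath products inside them
-/

namespace Cfsg.Agent.Helper42

open Equiv

section defs
variable (A : Type*) [Group A] (ι : Type*)

/-- permutation action on functions -/
def permAut : Perm ι →* MulAut (ι → A) where
  toFun σ :=
    { toFun := fun f => f ∘ σ.symm
      invFun := fun f => f ∘ σ
      left_inv := fun f => by funext i; simp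
      right_inv := fun f => by funext i; simp
      map_mul' := fun _ _ => rfl }
  map_one' := rfl
  map_mul' _ _ := rfl

theorem permAut_apply (σ : Perm ι) (f : ι → A) (i : ι) : permAut A ι σ f i = f (σ.symm i) := rfl

/-- the full monomial group `A ≀ Perm ι` -/
abbrev Mon := (ι → A) ⋊[permAut A ι] Perm ι

end defs

open RegularWreathProduct

section wr
variable {A : Type*} [Group A] {ι : Type*} {X C : Type*} [Group X] [Group C]

/-- the permutation part of an element of `X ≀ᵣ C` for a monomial group `X` -/
def wrPerm (θ : X →* Mon A ι) (w : X ≀ᵣ C) : Perm (ι × C) where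
  toFun p := ((θ (w.left (w.right * p.2))).right p.1, w.right * p.2)
  invFun p := (((θ (w.left p.2)).right)⁻¹ p.1, w.right⁻¹ * p.2)
  left_inv p := by simp
  right_inv p := by simp

theorem wrPerm_apply (θ : X →* Mon A ι) (w : X ≀ᵣ C) (p : ι × C) :
    wrPerm θ w p = ((θ (w.left (w.right * p.2))).right p.1, w.right * p.2) := rfl

theorem wrPerm_symm_apply (θ : X →* Mon A ι) (w : X ≀ᵣ C) (p : ι × C) :
    (wrPerm θ w).symm p = (((θ (w.left p.2)).right)⁻¹ p.1, w.right⁻¹ * p.2) := rfl

/-- a regular wreath product of a monomial group is monomial -/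
def wrHom (θ : X →* Mon A ι) : X ≀ᵣ C →* Mon A (ι × C) where
  toFun w := ⟨fun p => (θ (w.left p.2)).left p.1, wrPerm θ w⟩
  map_one' := by
    ext p
    · simp
    · simp [wrPerm_apply]
    · simp [wrPerm_apply]
  map_mul' w w' := by
    ext p
    · simp only [SemidirectProduct.mul_left, RegularWreathProduct.mul_left, Pi.mul_apply, map_mul,
        permAut_apply, wrPerm_symm_apply]
      rfl
    · simp only [SemidirectProduct.mul_right, Perm.mul_apply, wrPerm_apply,
        RegularWreathProduct.mul_left, RegularWreathProduct.mul_right, Pi.mul_apply, map_mul]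
      simp [mul_assoc]
    · simp only [SemidirectProduct.mul_right, Perm.mul_apply, wrPerm_apply,
        RegularWreathProduct.mul_right]
      simp [mul_assoc]

theorem wrHom_injective [Nonempty ι] (θ : X →* Mon A ι) (hθ : Function.Injective θ) :
    Function.Injective (wrHom (C := C) θ) := by
  rw [injective_iff_map_eq_one]
  intro w hw
  have h1 : ∀ p : ι × C, (θ (w.left p.2)).left p.1 = 1 := by
    intro p
    have := congrFun (congrArg SemidirectProduct.left hw) p
    exact this
  have h2 : ∀ p : ι × C, ((θ (w.left (w.right * p.2))).right p.1, w.right * p.2) = p := by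
    intro p
    have := congrArg SemidirectProduct.right hw
    exact Equiv.congr_fun this p
  obtain ⟨i0⟩ := ‹Nonempty ι›
  have hr : w.right = 1 := by
    have := congrArg Prod.snd (h2 (i0, 1))
    simpa using this
  have hl : ∀ c, w.left c = 1 := by
    intro c
    apply hθ
    rw [map_one]
    ext i
    · exact h1 (i, c)
    · have := congrArg Prod.fst (h2 (i, c))
      rw [hr, one_mul] at this
      simpa using this
  ext c
  · exact hl c
  · exact hr

end wr

section ext
variable {A : Type*} [Group A] {ι κ : Type*}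

/-- extension by one along an embedding -/
noncomputable def extOne (e : ι ↪ κ) : (ι → A) →* (κ → A) where
  toFun f := Function.extend e f 1
  map_one' := by
    funext k
    by_cases h : ∃ i, e i = k
    · obtain ⟨i, rfl⟩ := h
      rw [e.injective.extend_apply]; rfl
    · rw [Function.extend_apply' _ _ _ h]
  map_mul' f g := by
    funext k
    by_cases h : ∃ i, e i = k
    · obtain ⟨i, rfl⟩ := h
      rw [Pi.mul_apply, e.injective.extend_apply, e.injective.extend_apply,
        e.injective.extend_apply]; rfl
    · rw [Pi.mul_apply, Function.extend_apply' _ _ _ h, Function.extend_apply' _ _ _ h,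
        Function.extend_apply' _ _ _ h]
      simp

theorem extOne_apply (e : ι ↪ κ) (f : ι → A) (i : ι) : extOne e f (e i) = f i :=
  e.injective.extend_apply _ _ _

theorem extOne_apply' (e : ι ↪ κ) (f : ι → A) (k : κ) (h : ¬ ∃ i, e i = k) : extOne e f k = 1 :=
  Function.extend_apply' _ _ _ h

theorem viaEmbeddingHom_symm_apply (e : ι ↪ κ) (σ : Perm ι) (i : ι) :
    (Perm.viaEmbeddingHom e σ).symm (e i) = e (σ.symm i) := by
  rw [← Perm.inv_def, ← map_inv, Perm.viaEmbeddingHom_apply, Perm.viaEmbedding_apply]
  rfl

theorem viaEmbeddingHom_symm_apply' (e : ι ↪ κ) (σ : Perm ι) (k : κ) (h : ¬ ∃ i, e i = k) :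
    (Perm.viaEmbeddingHom e σ).symm k = k := by
  rw [← Perm.inv_def, ← map_inv, Perm.viaEmbeddingHom_apply, Perm.viaEmbedding_apply_of_notMem]
  simpa using h

/-- extension of a monomial group along an embedding of index sets -/
noncomputable def monExt (e : ι ↪ κ) : Mon A ι →* Mon A κ :=
  SemidirectProduct.map (extOne e) (Perm.viaEmbeddingHom e) (by
    intro σ
    ext f k
    simp only [MonoidHom.comp_apply, MulEquiv.coe_toMonoidHom, permAut_apply]
    by_cases h : ∃ i, e i = k
    · obtain ⟨i, rfl⟩ := h
      rw [extOne_apply, viaEmbeddingHom_symm_apply, extOne_apply, permAut_apply]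
    · rw [extOne_apply' e _ k h, viaEmbeddingHom_symm_apply' e σ k h, extOne_apply' e _ k h])

theorem monExt_injective (e : ι ↪ κ) : Function.Injective (monExt (A := A) e) := by
  rw [injective_iff_map_eq_one]
  intro x hx
  have h1 : extOne e x.left = 1 := congrArg SemidirectProduct.left hx
  have h2 : Perm.viaEmbeddingHom e x.right = 1 := congrArg SemidirectProduct.right hx
  ext i
  · have := congrFun h1 (e i)
    rw [extOne_apply] at this
    exact this
  · have : x.right = 1 := Perm.viaEmbeddingHom_injective e (h2.trans (map_one _).symm)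
    rw [this]; rfl

end ext

section derived

theorem derivedSeries_add_eq_bot {G H : Type*} [Group G] [Group H] (ρ : G →* H) (m j : ℕ)
    (hH : derivedSeries H m = ⊥) (hK : derivedSeries ρ.ker j = ⊥) :
    derivedSeries G (m + j) = ⊥ := by
  have h0 : derivedSeries G m ≤ ρ.ker := by
    intro g hg
    have := map_derivedSeries_le_derivedSeries ρ m (Subgroup.mem_map_of_mem ρ hg)
    rw [hH, Subgroup.mem_bot] at this
    exact this
  have h1 : ∀ i : ℕ, derivedSeries G (m + i) ≤ (derivedSeries ρ.ker i).map ρ.ker.subtype := by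
    intro i
    induction i with
    | zero =>
      rw [derivedSeries_zero, ← MonoidHom.range_eq_map, Subgroup.range_subtype]
      exact h0
    | succ i ih =>
      rw [← add_assoc, derivedSeries_succ, derivedSeries_succ (G := ρ.ker), Subgroup.map_commutator]
      exact Subgroup.commutator_mono ih ih
  have := h1 j
  rw [hK, Subgroup.map_bot] at this
  exact le_bot_iff.1 this

theorem derivedSeries_pi_eq_bot {ι : Type*} {G : ι → Type*} [∀ i, Group (G i)] (j : ℕ)
    (h : ∀ i, derivedSeries (G i) j = ⊥) : derivedSeries (∀ i, G i) j = ⊥ := by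
  rw [eq_bot_iff]
  intro g hg
  rw [Subgroup.mem_bot]
  funext i
  have := map_derivedSeries_le_derivedSeries (Pi.evalMonoidHom G i) j
    (Subgroup.mem_map_of_mem _ hg)
  rw [h i, Subgroup.mem_bot] at this
  exact this

end derived

section monSub
variable {A : Type*} [Group A] {ι : Type*}

/-- the subgroup `Q ≀ T` of the monomial group -/
def monSub (Q : Subgroup A) (T : Subgroup (Perm ι)) : Subgroup (Mon A ι) where
  carrier := {x | (∀ i, x.left i ∈ Q) ∧ x.right ∈ T}
  mul_mem' := by
    rintro x y ⟨hx1, hx2⟩ ⟨hy1, hy2⟩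
    refine ⟨fun i => ?_, T.mul_mem hx2 hy2⟩
    rw [SemidirectProduct.mul_left, Pi.mul_apply, permAut_apply]
    exact Q.mul_mem (hx1 i) (hy1 _)
  one_mem' := ⟨fun _ => Q.one_mem, T.one_mem⟩
  inv_mem' := by
    rintro x ⟨hx1, hx2⟩
    refine ⟨fun i => ?_, T.inv_mem hx2⟩
    rw [SemidirectProduct.inv_left, permAut_apply]
    exact Q.inv_mem (hx1 _)

theorem mem_monSub {Q : Subgroup A} {T : Subgroup (Perm ι)} {x : Mon A ι} :
    x ∈ monSub Q T ↔ (∀ i, x.left i ∈ Q) ∧ x.right ∈ T := Iff.rfl

/-- projection of `Q ≀ T` to `T` -/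
def monSubRight (Q : Subgroup A) (T : Subgroup (Perm ι)) : ↥(monSub Q T) →* ↥T where
  toFun x := ⟨x.1.right, x.2.2⟩
  map_one' := rfl
  map_mul' _ _ := rfl

/-- the base group of `Q ≀ T` embeds into `ι → Q` -/
def monSubKerLeft (Q : Subgroup A) (T : Subgroup (Perm ι)) :
    ↥(monSubRight Q T).ker →* (ι → ↥Q) where
  toFun x := fun i => ⟨x.1.1.left i, x.1.2.1 i⟩
  map_one' := rfl
  map_mul' x y := by
    funext i
    apply Subtype.ext
    have hx : x.1.1.right = 1 := congrArg Subtype.val (MonoidHom.mem_ker.1 x.2)
    show (x.1.1 * y.1.1).left i = x.1.1.left i * y.1.1.left i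
    rw [SemidirectProduct.mul_left, Pi.mul_apply, permAut_apply, hx]
    rfl

theorem monSubKerLeft_injective (Q : Subgroup A) (T : Subgroup (Perm ι)) :
    Function.Injective (monSubKerLeft Q T) := by
  intro x y h
  apply Subtype.ext
  apply Subtype.ext
  have hx : x.1.1.right = 1 := congrArg Subtype.val (MonoidHom.mem_ker.1 x.2)
  have hy : y.1.1.right = 1 := congrArg Subtype.val (MonoidHom.mem_ker.1 y.2)
  ext i
  · exact congrArg Subtype.val (congrFun h i)
  · rw [hx, hy]

/-- derived length of `Q ≀ T` is at most the sum of the derived lengths -/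
theorem derivedSeries_monSub_eq_bot (Q : Subgroup A) (T : Subgroup (Perm ι)) (m j : ℕ)
    (hT : derivedSeries ↥T m = ⊥) (hQ : derivedSeries ↥Q j = ⊥) :
    derivedSeries ↥(monSub Q T) (m + j) = ⊥ := by
  apply derivedSeries_add_eq_bot (monSubRight Q T) m j hT
  apply derivedSeries_eq_bot_of_injective (monSubKerLeft Q T) (monSubKerLeft_injective Q T)
  exact derivedSeries_pi_eq_bot j (fun _ => hQ)

end monSub

end Cfsg.Agent.Helper42
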