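import Mathlib
import Cfsg.Agent.Helper42.MonA
import Cfsg.Agent.Helper42.SpSylA

set_option autoImplicit false
set_option linter.unusedSectionVars false

/-!
# Monomial subgroups of `GL_n`, restriction of scalars, extension of the index set
-/

namespace Cfsg.Agent.Helper42

open Matrix Equiv

section monGL
variable {K : Type*} [Field K] {n : ℕ}

/-- diagonal matrices -/
def dMatHom (K : Type*) [Field K] (n : ℕ) : (Fin n → Kˣ) →* Matrix (Fin n) (Fin n) K where
  toFun d := diagonal fun i => (d i : K)
  map_one' := by simp
  map_mul' d d' := by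
    rw [diagonal_mul_diagonal]
    rfl

/-- permutation matrices -/
def pMatHom (K : Type*) [Field K] (n : ℕ) : Perm (Fin n) →* Matrix (Fin n) (Fin n) K where
  toFun σ := pm K σ
  map_one' := pm_one
  map_mul' := pm_mul

/-- the monomial group inside `GL_n(K)` -/
def monGL (K : Type*) [Field K] (n : ℕ) : Mon Kˣ (Fin n) →* GL (Fin n) K :=
  SemidirectProduct.lift (dMatHom K n).toHomUnits (pMatHom K n).toHomUnits (by
    intro σ
    ext d : 1
    simp only [MonoidHom.comp_apply, MulEquiv.coe_toMonoidHom, MulAut.conj_apply]
    rw [eq_mul_inv_iff_mul_eq]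
    apply Units.ext
    simp only [Units.val_mul, MonoidHom.coe_toHomUnits]
    show diagonal (fun i => ((permAut Kˣ (Fin n) σ d) i : K)) * pm K σ =
      pm K σ * diagonal (fun i => (d i : K))
    rw [pm_mul_diagonal]
    rfl)

theorem monGL_val (x : Mon Kˣ (Fin n)) :
    (monGL K n x).1 = diagonal (fun i => (x.left i : K)) * pm K x.right := rfl

theorem monGL_val_apply (x : Mon Kˣ (Fin n)) (i j : Fin n) :
    (monGL K n x).1 i j = if i = x.right j then (x.left i : K) else 0 := by
  rw [monGL_val, diagonal_mul, pm_apply, mul_ite, mul_one, mul_zero]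

theorem monGL_injective : Function.Injective (monGL K n) := by
  intro x y h
  have h1 : ∀ i j, (if i = x.right j then (x.left i : K) else 0) =
      if i = y.right j then (y.left i : K) else 0 := by
    intro i j
    rw [← monGL_val_apply, ← monGL_val_apply, h]
  have hr : x.right = y.right := by
    ext j
    have := h1 (x.right j) j
    rw [if_pos rfl] at this
    by_contra hne
    rw [if_neg (fun h' => hne (by rw [h']))] at this
    exact (x.left (x.right j)).ne_zero this
  have hl : x.left = y.left := by
    funext i
    have := h1 i (x.right.symm i)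
    rw [if_pos (by simp), if_pos (by rw [← hr]; simp)] at this
    exact Units.ext this
  exact SemidirectProduct.ext hl hr

end monGL

section res
variable {F K : Type*} [Field F] [Field K] [Algebra F K] {m e : ℕ}

/-- restriction of scalars for matrices -/
noncomputable def resMat (b : Module.Basis (Fin e) F K) (m : ℕ) :
    Matrix (Fin m) (Fin m) K →+* Matrix (Fin m × Fin e) (Fin m × Fin e) F :=
  (Matrix.compRingEquiv (Fin m) (Fin e) F).toRingHom.comp
    (Algebra.leftMulMatrix b).toRingHom.mapMatrix

theorem resMat_injective (b : Module.Basis (Fin e) F K) (m : ℕ) :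
    Function.Injective (resMat b m) := by
  intro x y h
  have h1 : (Algebra.leftMulMatrix b).toRingHom.mapMatrix x =
      (Algebra.leftMulMatrix b).toRingHom.mapMatrix y :=
    (Matrix.compRingEquiv (Fin m) (Fin e) F).injective h
  ext i j
  have h2 := congrFun (congrFun h1 i) j
  exact Algebra.leftMulMatrix_injective b h2

/-- restriction of scalars for `GL` -/
noncomputable def resGL (b : Module.Basis (Fin e) F K) (m : ℕ) :
    GL (Fin m) K →* GL (Fin m × Fin e) F :=
  Units.map (resMat b m).toMonoidHom

theorem resGL_injective (b : Module.Basis (Fin e) F K) (m : ℕ) :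
    Function.Injective (resGL b m) :=
  Units.map_injective (resMat_injective b m)

end res

section ext
variable {F : Type*} [Field F] {ι ρ κ : Type*} [Fintype ι] [DecidableEq ι] [Fintype ρ]
  [DecidableEq ρ] [Fintype κ] [DecidableEq κ]

/-- block embedding `M ↦ diag(M, 1)` -/
def blockOne (F : Type*) [Field F] (ι ρ : Type*) [Fintype ι] [DecidableEq ι] [Fintype ρ]
    [DecidableEq ρ] : Matrix ι ι F →* Matrix (ι ⊕ ρ) (ι ⊕ ρ) F where
  toFun M := fromBlocks M 0 0 1
  map_one' := fromBlocks_one
  map_mul' M N := by
    rw [fromBlocks_multiply]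
    simp

theorem blockOne_injective : Function.Injective (blockOne F ι ρ) := by
  intro M N h
  exact (fromBlocks_inj.1 h).1

/-- extension of `GL` along `ι ⊕ ρ ≃ κ` -/
def extGL (eq : ι ⊕ ρ ≃ κ) : GL ι F →* GL κ F :=
  Units.map ((Matrix.reindexRingEquiv F eq).toRingHom.toMonoidHom.comp (blockOne F ι ρ))

theorem extGL_injective (eq : ι ⊕ ρ ≃ κ) : Function.Injective (extGL (F := F) eq) := by
  apply Units.map_injective
  exact (Matrix.reindexRingEquiv F eq).injective.comp blockOne_injective

end ext

end Cfsg.Agent.Helper42
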