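import Mathlib
import Cfsg.Agent.Helper42.GLMon

set_option autoImplicit false
set_option linter.unusedSectionVars false

/-!
# Bruhat decomposition (existence) for `GL_n(F)`

`borel F n` is the subgroup of upper triangular matrices; `permGL` embeds permutations.
`bruhat_exists`: every `g` is `u * permGL σ * b` with `u b` upper triangular.
The proof maximises the total number of leading zeros of the rows of `u * g`.
-/

namespace Cfsg.Agent.Helper42

open Matrix Equiv

section lz
variable {F : Type*} [Field F] {n : ℕ}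

/-- the candidates for the number of leading zeros -/
def lzSet (v : Fin n → F) : Set ℕ := {k | k ≤ n ∧ ∀ j : Fin n, (j : ℕ) < k → v j = 0}

/-- the number of leading zeros of a row -/
noncomputable def lz (v : Fin n → F) : ℕ := sSup (lzSet v)

theorem lzSet_bdd (v : Fin n → F) : BddAbove (lzSet v) := ⟨n, fun _ hk => hk.1⟩

theorem lz_mem (v : Fin n → F) : lz v ∈ lzSet v :=
  Nat.sSup_mem ⟨0, Nat.zero_le _, fun j hj => absurd hj (Nat.not_lt_zero _)⟩ (lzSet_bdd v)

theorem le_lz_iff (v : Fin n → F) (k : ℕ) : k ≤ lz v ↔ k ∈ lzSet v := by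
  constructor
  · intro h
    exact ⟨h.trans (lz_mem v).1, fun j hj => (lz_mem v).2 j (lt_of_lt_of_le hj h)⟩
  · intro h
    exact le_csSup (lzSet_bdd v) h

theorem lz_le (v : Fin n → F) : lz v ≤ n := (lz_mem v).1

theorem eq_zero_of_lt_lz (v : Fin n → F) (j : Fin n) (h : (j : ℕ) < lz v) : v j = 0 :=
  (lz_mem v).2 j h

theorem apply_lz_ne_zero (v : Fin n → F) (h : lz v < n) : v ⟨lz v, h⟩ ≠ 0 := by
  intro h0
  have : lz v + 1 ≤ lz v := by
    rw [le_lz_iff]
    refine ⟨h, fun j hj => ?_⟩
    rcases Nat.lt_succ_iff_lt_or_eq.mp hj with h1 | h1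
    · exact eq_zero_of_lt_lz v j h1
    · have : j = ⟨lz v, h⟩ := Fin.ext h1
      rw [this]; exact h0
  omega

theorem lz_lt_of_ne_zero (v : Fin n → F) (hv : v ≠ 0) : lz v < n := by
  by_contra hcon
  apply hv
  funext j
  exact eq_zero_of_lt_lz v j (lt_of_lt_of_le j.2 (not_lt.mp hcon))

end lz

section borel
variable (F : Type*) [Field F] (n : ℕ)

/-- upper triangular invertible matrices -/
def borel : Subgroup (GL (Fin n) F) where
  carrier := {g | (g : Matrix (Fin n) (Fin n) F).BlockTriangular id}
  mul_mem' := by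
    intro a b ha hb
    show ((a * b : GL (Fin n) F) : Matrix (Fin n) (Fin n) F).BlockTriangular id
    rw [Units.val_mul]
    exact BlockTriangular.mul ha hb
  one_mem' := by
    show ((1 : GL (Fin n) F) : Matrix (Fin n) (Fin n) F).BlockTriangular id
    rw [Units.val_one]
    exact blockTriangular_one
  inv_mem' := by
    intro a ha
    show ((a⁻¹ : GL (Fin n) F) : Matrix (Fin n) (Fin n) F).BlockTriangular id
    rw [Matrix.coe_units_inv]
    haveI : Invertible (a : Matrix (Fin n) (Fin n) F) := a.invertible
    exact blockTriangular_inv_of_blockTriangular ha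

variable {F n}

theorem mem_borel {g : GL (Fin n) F} :
    g ∈ borel F n ↔ ∀ i j : Fin n, j < i → (g : Matrix (Fin n) (Fin n) F) i j = 0 := by
  constructor
  · intro h i j hij
    exact h hij
  · intro h i j hij
    exact h i j hij

variable (F n)

/-- permutation matrices in `GL_n` -/
def permGL : Perm (Fin n) →* GL (Fin n) F := (pMatHom F n).toHomUnits

variable {F n}

theorem permGL_val (σ : Perm (Fin n)) :
    ((permGL F n σ : GL (Fin n) F) : Matrix (Fin n) (Fin n) F) = pm F σ := rfl

theorem permGL_mul_apply (σ : Perm (Fin n)) (M : Matrix (Fin n) (Fin n) F) (i j : Fin n) :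
    (pm F σ * M) i j = M (σ.symm i) j := by
  rw [Matrix.mul_apply, Finset.sum_eq_single (σ.symm i)]
  · rw [pm_apply, if_pos (by simp), one_mul]
  · intro b _ hb
    rw [pm_apply, if_neg, zero_mul]
    intro h
    apply hb
    rw [h]; simp
  · intro h; exact absurd (Finset.mem_univ _) h

/-- transvections as elements of `GL_n` -/
noncomputable def transGLn (i k : Fin n) (hik : i ≠ k) (c : F) : GL (Fin n) F :=
  GeneralLinearGroup.mkOfDetNeZero (transvection i k c) (by
    rw [det_transvection_of_ne i k hik]; exact one_ne_zero)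

theorem transGLn_val (i k : Fin n) (hik : i ≠ k) (c : F) :
    ((transGLn i k hik c : GL (Fin n) F) : Matrix (Fin n) (Fin n) F) = transvection i k c := rfl

theorem transGLn_mem_borel (i k : Fin n) (hik : i < k) (c : F) :
    transGLn i k hik.ne c ∈ borel F n := by
  rw [mem_borel]
  intro a b hab
  rw [transGLn_val, transvection, Matrix.add_apply, Matrix.one_apply_ne hab.ne', zero_add]
  rw [Matrix.single_apply]
  rw [if_neg]
  rintro ⟨rfl, rfl⟩
  exact absurd hik (not_lt.mpr hab.le)

end borel

section main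
variable {F : Type*} [Field F] {n : ℕ}

/-- total number of leading zeros -/
noncomputable def lzSum (M : Matrix (Fin n) (Fin n) F) : ℕ := ∑ i, lz (M i)

theorem lzSum_le (M : Matrix (Fin n) (Fin n) F) : lzSum M ≤ n * n := by
  unfold lzSum
  calc ∑ i, lz (M i) ≤ ∑ _i : Fin n, n := Finset.sum_le_sum fun i _ => lz_le _
    _ = n * n := by simp

/-- a row operation increasing the number of leading zeros -/
theorem lzSum_lt_transvection (M : Matrix (Fin n) (Fin n) F) (i k : Fin n) (hik : i ≠ k)
    (hp : lz (M i) = lz (M k)) (hpn : lz (M k) < n) :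
    lzSum M < lzSum (transvection i k (-(M i ⟨lz (M k), hpn⟩ / M k ⟨lz (M k), hpn⟩)) * M) := by
  set p : Fin n := ⟨lz (M k), hpn⟩ with hpdef
  set c : F := -(M i p / M k p) with hc
  have hkp : M k p ≠ 0 := apply_lz_ne_zero (M k) hpn
  unfold lzSum
  apply Finset.sum_lt_sum
  · intro r _
    by_cases hr : r = i
    · subst hr
      rw [le_lz_iff]
      refine ⟨lz_le _, fun j hj => ?_⟩
      rw [transvection_mul_apply_same, eq_zero_of_lt_lz _ j hj,
        eq_zero_of_lt_lz (M k) j (hp ▸ hj), mul_zero, add_zero]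
    · have : (transvection i k c * M) r = M r := by
        funext a
        exact transvection_mul_apply_of_ne i k r a hr c M
      rw [this]
  · refine ⟨i, Finset.mem_univ _, ?_⟩
    have : lz (M i) + 1 ≤ lz ((transvection i k c * M) i) := by
      rw [le_lz_iff]
      refine ⟨by rw [hp]; exact hpn, fun j hj => ?_⟩
      rw [transvection_mul_apply_same]
      rcases Nat.lt_succ_iff_lt_or_eq.mp hj with h1 | h1
      · rw [eq_zero_of_lt_lz _ j h1, eq_zero_of_lt_lz (M k) j (hp ▸ h1), mul_zero, add_zero]
      · have hj' : j = p := Fin.ext (by rw [h1, hp])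
        rw [hj', hc]
        field_simp
        ring
    omega

theorem bruhat_exists (g : GL (Fin n) F) :
    ∃ u ∈ borel F n, ∃ σ : Perm (Fin n), ∃ b ∈ borel F n, g = u * permGL F n σ * b := by
  classical
  -- maximise the number of leading zeros of `u * g`
  let S : Set ℕ := {k | ∃ u ∈ borel F n, lzSum ((u * g : GL (Fin n) F) : Matrix (Fin n) (Fin n) F) = k}
  have hSne : S.Nonempty := ⟨_, 1, (borel F n).one_mem, rfl⟩
  have hSb : BddAbove S := ⟨n * n, by rintro k ⟨u, _, rfl⟩; exact lzSum_le _⟩
  obtain ⟨u₀, hu₀, hmax⟩ := Nat.sSup_mem hSne hSb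
  have hmax' : ∀ u ∈ borel F n,
      lzSum ((u * g : GL (Fin n) F) : Matrix (Fin n) (Fin n) F) ≤
        lzSum ((u₀ * g : GL (Fin n) F) : Matrix (Fin n) (Fin n) F) := by
    intro u hu
    rw [hmax]
    exact le_csSup hSb ⟨u, hu, rfl⟩
  set M : Matrix (Fin n) (Fin n) F := ((u₀ * g : GL (Fin n) F) : Matrix (Fin n) (Fin n) F) with hM
  have hMdet : M.det ≠ 0 := by
    have := (u₀ * g).isUnit
    have h2 : IsUnit M.det := by
      rw [← Matrix.isUnit_iff_isUnit_det]
      exact (u₀ * g).isUnit
    exact h2.ne_zero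
  -- the rows are nonzero
  have hrow : ∀ i, lz (M i) < n := by
    intro i
    apply lz_lt_of_ne_zero
    intro h0
    apply hMdet
    exact Matrix.det_eq_zero_of_row_eq_zero i (fun j => congrFun h0 j)
  -- the pivots are pairwise distinct
  have hinj : ∀ i k, lz (M i) = lz (M k) → i = k := by
    intro i k hp
    by_contra hne
    -- wlog i < k
    have key : ∀ i k : Fin n, i < k → lz (M i) = lz (M k) → False := by
      intro i k hik hp
      have hlt := lzSum_lt_transvection M i k hik.ne hp (hrow k)
      set c : F := -(M i ⟨lz (M k), hrow k⟩ / M k ⟨lz (M k), hrow k⟩)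
      have h1 := hmax' (transGLn i k hik.ne c * u₀)
        ((borel F n).mul_mem (transGLn_mem_borel i k hik c) hu₀)
      have h2 : ((transGLn i k hik.ne c * u₀ * g : GL (Fin n) F) : Matrix (Fin n) (Fin n) F) =
          transvection i k c * M := by
        rw [mul_assoc, Units.val_mul, transGLn_val]
      rw [h2] at h1
      omega
    rcases lt_or_gt_of_ne hne with h | h
    · exact key i k h hp
    · exact key k i h hp.symm
  -- the permutation
  let π : Fin n → Fin n := fun i => ⟨lz (M i), hrow i⟩
  have hπinj : Function.Injective π := by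
    intro i k h
    exact hinj i k (congrArg Fin.val h)
  let σ : Perm (Fin n) := Equiv.ofBijective π (Finite.injective_iff_bijective.mp hπinj)
  have hσ : ∀ i, (σ i : ℕ) = lz (M i) := fun i => rfl
  -- `b = P_σ * M` is upper triangular
  let b : GL (Fin n) F := permGL F n σ * (u₀ * g)
  have hb : b ∈ borel F n := by
    rw [mem_borel]
    intro i j hij
    show ((permGL F n σ * (u₀ * g) : GL (Fin n) F) : Matrix (Fin n) (Fin n) F) i j = 0
    rw [Units.val_mul, permGL_val, permGL_mul_apply]
    apply eq_zero_of_lt_lz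
    rw [← hσ, Equiv.apply_symm_apply]
    exact hij
  refine ⟨u₀⁻¹, (borel F n).inv_mem hu₀, σ⁻¹, b, hb, ?_⟩
  show g = u₀⁻¹ * permGL F n σ⁻¹ * (permGL F n σ * (u₀ * g))
  rw [map_inv]
  group

end main

end Cfsg.Agent.Helper42
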