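import Mathlib
import Cfsg.Prelude.Def_Blocks
import Cfsg.Prelude.Def_LinearParabolics
import Cfsg.Agent.Helper14.AutSylow
import Cfsg.Agent.Helper42.BruhatA

set_option autoImplicit false
set_option linter.unusedSectionVars false

/-!
# Shared definitions for the `p`-blocks of `SL_n(q)` in the defining characteristic
(helper42, for S4538 / S2440)

* `SLn n F`   : `SL_n(F)`
* `US n F`    : the upper unitriangular subgroup (helper14's `UT`)
* `BS n F`    : the upper triangular subgroup of `SL_n(F)`
* `TD n F`    : the diagonal subgroup of `SL_n(F)`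
* `xs i j h a`: the elementary matrix `1 + a E_{ij}` in `SL_n(F)`
* `sd i j h`  : the monomial matrix `x_{ij}(1) x_{ji}(-1) x_{ij}(1)` (rows `i,j`: `[[0,1],[-1,0]]`)
* `psiU ψ₀`   : the function `g ↦ ψ₀ (∑ g_{i,i+1})` (a nondegenerate character on `US`)
* `isoSub ρ H μ` : the `μ`-eigenspace of the subgroup `H` in a representation `ρ`
-/

namespace Cfsg.Agent.Helper42.DZ

open Matrix

/-- `SL_n(F)` -/
abbrev SLn (n : ℕ) (F : Type*) [Field F] := Matrix.SpecialLinearGroup (Fin n) F

variable {n : ℕ} {F : Type*} [Field F]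

/-- the upper unitriangular subgroup of `SL_n(F)` (helper14's `UT`) -/
abbrev US (n : ℕ) (F : Type*) [Field F] : Subgroup (SLn n F) := Cfsg.Agent.Helper14.AutPSL.UT n F

/-- the upper triangular subgroup of `SL_n(F)` -/
def BS (n : ℕ) (F : Type*) [Field F] : Subgroup (SLn n F) :=
  (Cfsg.Agent.Helper42.borel F n).comap Matrix.SpecialLinearGroup.toGL

theorem mem_BS {g : SLn n F} : g ∈ BS n F ↔ ∀ i j : Fin n, j < i → g.1 i j = 0 := by
  unfold BS
  rw [Subgroup.mem_comap, Cfsg.Agent.Helper42.mem_borel]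
  rfl

/-- the diagonal subgroup of `SL_n(F)` -/
def TD (n : ℕ) (F : Type*) [Field F] : Subgroup (SLn n F) where
  carrier := {g | ∀ i j : Fin n, i ≠ j → g.1 i j = 0}
  mul_mem' := by
    intro a b ha hb i j hij
    show (a.1 * b.1) i j = 0
    rw [Matrix.mul_apply]
    apply Finset.sum_eq_zero
    intro k _
    by_cases hik : i = k
    · subst hik
      rw [hb i j hij, mul_zero]
    · rw [ha i k hik, zero_mul]
  one_mem' := by
    intro i j hij
    show (1 : Matrix (Fin n) (Fin n) F) i j = 0
    exact Matrix.one_apply_ne hij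
  inv_mem' := by
    intro a ha i j hij
    -- `a⁻¹ = adjugate a`; use `a * a⁻¹ = 1` entrywise
    have hdiag : ∀ k : Fin n, a.1 k k ≠ 0 := by
      intro k h0
      have hdet : a.1.det = 1 := a.2
      have hup : a.1.BlockTriangular id := by
        intro r s hrs
        exact ha r s (ne_of_gt hrs)
      rw [Matrix.det_of_isUpperTriangular hup] at hdet
      have : ∏ r : Fin n, a.1 r r = 0 := Finset.prod_eq_zero (Finset.mem_univ k) h0
      rw [this] at hdet
      exact zero_ne_one hdet
    have h1 : (a * a⁻¹ : SLn n F) = 1 := mul_inv_cancel a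
    have h2' : a.1 * (a⁻¹).1 = (1 : Matrix (Fin n) (Fin n) F) := by
      rw [← Matrix.SpecialLinearGroup.coe_mul, h1, Matrix.SpecialLinearGroup.coe_one]
    have h2 : (a.1 * (a⁻¹).1) i j = (1 : Matrix (Fin n) (Fin n) F) i j := by rw [h2']
    rw [Matrix.mul_apply, Finset.sum_eq_single i, Matrix.one_apply_ne hij] at h2
    · exact (mul_eq_zero.mp h2).resolve_left (hdiag i)
    · intro k _ hki
      rw [ha i k (Ne.symm hki), zero_mul]
    · intro h; exact absurd (Finset.mem_univ _) h

theorem mem_TD {g : SLn n F} : g ∈ TD n F ↔ ∀ i j : Fin n, i ≠ j → g.1 i j = 0 := Iff.rfl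

/-- the elementary matrix `1 + a E_{ij}` as an element of `SL_n(F)` -/
def xs (i j : Fin n) (hij : i ≠ j) (a : F) : SLn n F :=
  ⟨Matrix.transvection i j a, Matrix.det_transvection_of_ne i j hij a⟩

theorem xs_val (i j : Fin n) (hij : i ≠ j) (a : F) :
    (xs i j hij a).1 = Matrix.transvection i j a := rfl

/-- the monomial matrix `x_{ij}(1) x_{ji}(-1) x_{ij}(1)`: it agrees with the identity outside rows and
columns `i, j`, where it is `[[0, 1], [-1, 0]]` -/
def sd (i j : Fin n) (hij : i ≠ j) : SLn n F :=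
  xs i j hij 1 * xs j i hij.symm (-1) * xs i j hij 1

/-- the function `g ↦ ψ₀ (∑_i g_{i,i+1})`; on `US n F` it is a linear character, nondegenerate when
`ψ₀` is nontrivial -/
noncomputable def psiU (ψ₀ : AddChar F ℂ) (g : SLn n F) : ℂ :=
  ψ₀ (∑ i : Fin n, if h : i.val + 1 < n then g.1 i ⟨i.val + 1, h⟩ else 0)

/-- the `μ`-eigenspace of a subgroup `H` in a representation `ρ`: the vectors `w` with
`ρ h w = μ h • w` for all `h ∈ H` -/
def isoSub {G W : Type*} [Group G] [AddCommGroup W] [Module ℂ W] (ρ : Representation ℂ G W)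
    (H : Subgroup G) (μ : G → ℂ) : Submodule ℂ W where
  carrier := {w | ∀ h ∈ H, ρ h w = μ h • w}
  add_mem' := by
    intro a b ha hb h hh
    rw [map_add, ha h hh, hb h hh, smul_add]
  zero_mem' := by
    intro h _
    rw [map_zero, smul_zero]
  smul_mem' := by
    intro c w hw h hh
    rw [map_smul, hw h hh, smul_comm]

theorem mem_isoSub {G W : Type*} [Group G] [AddCommGroup W] [Module ℂ W] (ρ : Representation ℂ G W)
    (H : Subgroup G) (μ : G → ℂ) (w : W) : w ∈ isoSub ρ H μ ↔ ∀ h ∈ H, ρ h w = μ h • w := Iff.rfl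

/-- the anti-involution of `SL_n(F)`: reflection of the matrix in the anti-diagonal,
`(iota g)_{ij} = g_{rev j, rev i}` -/
def iota (g : SLn n F) : SLn n F :=
  ⟨(g.1ᵀ).submatrix (Fin.revPerm : Fin n ≃ Fin n) (Fin.revPerm : Fin n ≃ Fin n), by
    rw [Matrix.det_submatrix_equiv_self, Matrix.det_transpose]; exact g.2⟩

theorem iota_apply (g : SLn n F) (i j : Fin n) : (iota g).1 i j = g.1 (Fin.rev j) (Fin.rev i) := rfl

/-- monomial matrices: at most one nonzero entry in each row, in the position given by a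
permutation -/
def IsMono (m : SLn n F) : Prop :=
  ∃ σ : Equiv.Perm (Fin n), ∀ i j : Fin n, j ≠ σ i → m.1 i j = 0

/-- the subgroup of `SL_n(F)` of block upper triangular matrices for the composition `α`
(the standard parabolic subgroup, cut out of the prelude's `parabolicGL`) -/
def PS (n : ℕ) (F : Type*) [Field F] (α : Fin n → ℕ) : Subgroup (SLn n F) :=
  (Cfsg.parabolicGL n F α).comap Matrix.SpecialLinearGroup.toGL

end Cfsg.Agent.Helper42.DZ
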