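import Cfsg.Agent.Helper42.SL2Char2Count

set_option autoImplicit false

/-!
# Counting solutions of `x² + t x y + y² = 1` over a finite field of odd characteristic
-/

namespace Cfsg.Agent.Helper42

open Finset

variable {F : Type*} [Field F] [Fintype F] [DecidableEq F]

/-- multiplication in `F[g]`, `g² = t g - 1` -/
def mulPair (t : F) (p p₀ : F × F) : F × F :=
  (p.1 * p₀.1 - p.2 * p₀.2, p.1 * p₀.2 + p.2 * p₀.1 + t * p.2 * p₀.2)

omit [Fintype F] [DecidableEq F] in
theorem qform_mulPair (t : F) (p p₀ : F × F) : qform t (mulPair t p p₀) = qform t p * qform t p₀ := by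
  unfold qform mulPair
  ring

/-- all non-empty fibres over non-zero values have the same size -/
theorem card_fiber_eq_of_mem (t c : F) (hc : c ≠ 0) (p₀ : F × F) (hp₀ : qform t p₀ = c) :
    (univ.filter (fun p : F × F => qform t p = c)).card =
      (univ.filter (fun p : F × F => qform t p = 1)).card := by
  symm
  apply Finset.card_nbij' (fun p => mulPair t p p₀)
    (fun p => (c⁻¹ * (mulPair t p (p₀.1 + t * p₀.2, -p₀.2)).1, c⁻¹ * (mulPair t p (p₀.1 + t * p₀.2, -p₀.2)).2))
  · intro p hp
    simp only [coe_filter, mem_univ, true_and, Set.mem_ofPred_eq] at hp ⊢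
    rw [qform_mulPair, hp, hp₀, one_mul]
  · intro p hp
    simp only [coe_filter, mem_univ, true_and, Set.mem_ofPred_eq] at hp ⊢
    have h1 : qform t (p₀.1 + t * p₀.2, -p₀.2) = c := by
      rw [← hp₀]; unfold qform; ring
    have h2 := qform_mulPair t p (p₀.1 + t * p₀.2, -p₀.2)
    rw [hp, h1] at h2
    have h3 : qform t (c⁻¹ * (mulPair t p (p₀.1 + t * p₀.2, -p₀.2)).1,
        c⁻¹ * (mulPair t p (p₀.1 + t * p₀.2, -p₀.2)).2) =
        c⁻¹ * c⁻¹ * qform t (mulPair t p (p₀.1 + t * p₀.2, -p₀.2)) := by
      unfold qform; ring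
    rw [h3, h2]
    field_simp
  · intro p _
    have k1 : (mulPair t (mulPair t p p₀) (p₀.1 + t * p₀.2, -p₀.2)).1 = qform t p₀ * p.1 := by
      unfold mulPair qform; ring
    have k2 : (mulPair t (mulPair t p p₀) (p₀.1 + t * p₀.2, -p₀.2)).2 = qform t p₀ * p.2 := by
      unfold mulPair qform; ring
    apply Prod.ext
    · show c⁻¹ * (mulPair t (mulPair t p p₀) (p₀.1 + t * p₀.2, -p₀.2)).1 = p.1
      rw [k1, hp₀, ← mul_assoc, inv_mul_cancel₀ hc, one_mul]
    · show c⁻¹ * (mulPair t (mulPair t p p₀) (p₀.1 + t * p₀.2, -p₀.2)).2 = p.2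
      rw [k2, hp₀, ← mul_assoc, inv_mul_cancel₀ hc, one_mul]
  · intro p _
    have k1 : (mulPair t (c⁻¹ * (mulPair t p (p₀.1 + t * p₀.2, -p₀.2)).1,
        c⁻¹ * (mulPair t p (p₀.1 + t * p₀.2, -p₀.2)).2) p₀).1 = c⁻¹ * (qform t p₀ * p.1) := by
      unfold mulPair qform; ring
    have k2 : (mulPair t (c⁻¹ * (mulPair t p (p₀.1 + t * p₀.2, -p₀.2)).1,
        c⁻¹ * (mulPair t p (p₀.1 + t * p₀.2, -p₀.2)).2) p₀).2 = c⁻¹ * (qform t p₀ * p.2) := by
      unfold mulPair qform; ring
    apply Prod.ext
    · show (mulPair t (c⁻¹ * (mulPair t p (p₀.1 + t * p₀.2, -p₀.2)).1,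
        c⁻¹ * (mulPair t p (p₀.1 + t * p₀.2, -p₀.2)).2) p₀).1 = p.1
      rw [k1, hp₀, ← mul_assoc, inv_mul_cancel₀ hc, one_mul]
    · show (mulPair t (c⁻¹ * (mulPair t p (p₀.1 + t * p₀.2, -p₀.2)).1,
        c⁻¹ * (mulPair t p (p₀.1 + t * p₀.2, -p₀.2)).2) p₀).2 = p.2
      rw [k2, hp₀, ← mul_assoc, inv_mul_cancel₀ hc, one_mul]

/-- if every non-zero value is represented, the number of solutions is `q + 1 - r` -/
theorem card_normOne_add_rootCount_of_surj (t : F)
    (hsurj : ∀ c : F, c ≠ 0 → ∃ p₀ : F × F, qform t p₀ = c) :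
    (univ.filter (fun p : F × F => qform t p = 1)).card + rootCount t = Fintype.card F + 1 := by
  have hq : 2 ≤ Fintype.card F := Fintype.one_lt_card
  have h1 : (univ : Finset (F × F)).card =
      ∑ c ∈ (univ : Finset F), (univ.filter (fun p : F × F => qform t p = c)).card :=
    Finset.card_eq_sum_card_fiberwise (fun _ _ => mem_coe.mpr (mem_univ _))
  rw [card_univ, Fintype.card_prod, ← Finset.add_sum_erase _ _ (mem_univ (0 : F)), card_fiber_zero] at h1
  have h2 : ∑ c ∈ (univ : Finset F).erase 0, (univ.filter (fun p : F × F => qform t p = c)).card =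
      (Fintype.card F - 1) * (univ.filter (fun p : F × F => qform t p = 1)).card := by
    rw [Finset.sum_congr rfl (fun c hc => by
      obtain ⟨p₀, hp₀⟩ := hsurj c (ne_of_mem_erase hc)
      exact card_fiber_eq_of_mem t c (ne_of_mem_erase hc) p₀ hp₀), sum_const,
      card_erase_of_mem (mem_univ _), card_univ, smul_eq_mul]
  rw [h2] at h1
  set q := Fintype.card F with hqdef
  set N := (univ.filter (fun p : F × F => qform t p = 1)).card with hN
  set r := rootCount t with hr
  obtain ⟨m, hm⟩ : ∃ m, q = m + 1 := ⟨q - 1, by omega⟩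
  rw [hm] at h1 ⊢
  simp only [Nat.add_sub_cancel] at h1
  have hm0 : 0 < m := by omega
  have : m * (N + r) = m * (m + 2) := by nlinarith
  have := Nat.eq_of_mul_eq_mul_left hm0 this
  omega

/-- in odd characteristic, a non-degenerate form represents everything -/
theorem exists_qform_eq (h2 : (2 : F) ≠ 0) (hodd : Fintype.card F % 2 = 1) (t : F) (ht : t ^ 2 ≠ 4) (c : F) :
    ∃ p₀ : F × F, qform t p₀ = c := by
  have hd : 1 - t ^ 2 / 4 ≠ 0 := by
    intro h
    apply ht
    have h4 : (4 : F) ≠ 0 := by
      have : (4 : F) = 2 * 2 := by norm_num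
      rw [this]; exact mul_ne_zero h2 h2
    field_simp at h
    linear_combination -h
  have hf2 : (Polynomial.X ^ 2 - Polynomial.C c : Polynomial F).degree = 2 :=
    Polynomial.degree_X_pow_sub_C (by norm_num) c
  have hg2 : (Polynomial.C (1 - t ^ 2 / 4) * Polynomial.X ^ 2 : Polynomial F).degree = 2 :=
    Polynomial.degree_C_mul_X_pow 2 hd
  obtain ⟨u, y, huy⟩ := FiniteField.exists_root_sum_quadratic hf2 hg2 hodd
  simp only [Polynomial.eval_sub, Polynomial.eval_pow, Polynomial.eval_X, Polynomial.eval_C,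
    Polynomial.eval_mul] at huy
  refine ⟨(u - t / 2 * y, y), ?_⟩
  unfold qform
  have h4 : (4 : F) ≠ 0 := by
    have : (4 : F) = 2 * 2 := by norm_num
    rw [this]; exact mul_ne_zero h2 h2
  simp only
  field_simp
  field_simp at huy
  linear_combination huy

theorem card_normOne_add_rootCount_odd (h2 : (2 : F) ≠ 0) (hodd : Fintype.card F % 2 = 1) (t : F)
    (ht : t ^ 2 ≠ 4) :
    (univ.filter (fun p : F × F => qform t p = 1)).card + rootCount t = Fintype.card F + 1 :=
  card_normOne_add_rootCount_of_surj t (fun c _ => exists_qform_eq h2 hodd t ht c)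

/-- the degenerate case `t² = 4` -/
theorem card_normOne_of_sq_eq_four (h2 : (2 : F) ≠ 0) (t : F) (ht : t ^ 2 = 4) :
    (univ.filter (fun p : F × F => qform t p = 1)).card = 2 * Fintype.card F := by
  have hpm : ((1 : F)) ≠ -1 := by
    intro h
    apply h2
    linear_combination h
  have hcard : (({1, -1} : Finset F) ×ˢ (univ : Finset F)).card = 2 * Fintype.card F := by
    rw [card_product, card_pair hpm, card_univ]
  rw [← hcard]
  apply Finset.card_nbij' (fun p => (p.1 + t / 2 * p.2, p.2)) (fun p => (p.1 - t / 2 * p.2, p.2))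
  · intro p hp
    simp only [coe_filter, mem_univ, true_and, Set.mem_ofPred_eq] at hp
    simp only [coe_product, coe_insert, coe_singleton, coe_univ, Set.mem_prod, Set.mem_insert_iff,
      Set.mem_singleton_iff, Set.mem_univ, and_true]
    have h1 : (p.1 + t / 2 * p.2) ^ 2 = 1 := by
      unfold qform at hp
      have h4 : (4 : F) ≠ 0 := by
        have : (4 : F) = 2 * 2 := by norm_num
        rw [this]; exact mul_ne_zero h2 h2
      have : (p.1 + t / 2 * p.2) ^ 2 = p.1 ^ 2 + p.1 * p.2 * t + (t ^ 2 / 4) * p.2 ^ 2 := by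
        field_simp
        ring
      rw [this, ht, div_self h4, one_mul]
      exact hp
    have h3 : (p.1 + t / 2 * p.2 - 1) * (p.1 + t / 2 * p.2 + 1) = 0 := by linear_combination h1
    rcases mul_eq_zero.mp h3 with h | h
    · left; linear_combination h
    · right; linear_combination h
  · intro p hp
    simp only [coe_product, coe_insert, coe_singleton, coe_univ, Set.mem_prod, Set.mem_insert_iff,
      Set.mem_singleton_iff, Set.mem_univ, and_true] at hp
    simp only [coe_filter, mem_univ, true_and, Set.mem_ofPred_eq]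
    unfold qform
    have h4 : (4 : F) ≠ 0 := by
      have : (4 : F) = 2 * 2 := by norm_num
      rw [this]; exact mul_ne_zero h2 h2
    have h1 : p.1 ^ 2 = 1 := by
      rcases hp with h | h <;> rw [h] <;> ring
    have : (p.1 - t / 2 * p.2) ^ 2 + (p.1 - t / 2 * p.2) * p.2 * t + p.2 ^ 2 =
        p.1 ^ 2 + (1 - t ^ 2 / 4) * p.2 ^ 2 := by
      field_simp; ring
    rw [this, ht, div_self h4, sub_self, zero_mul, add_zero, h1]
  · intro p _
    apply Prod.ext
    · simp
    · rfl
  · intro p _
    apply Prod.ext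
    · simp
    · rfl

/-! ### Roots of `X² + tX + 1` -/

theorem rootCount_ne_one (t : F) (ht : t ^ 2 ≠ 4) : rootCount t ≠ 1 := by
  intro h1
  unfold rootCount at h1
  obtain ⟨x, hx⟩ := Finset.card_eq_one.mp h1
  have hxmem : x ∈ univ.filter (fun x : F => x ^ 2 + t * x + 1 = 0) := by rw [hx]; exact mem_singleton_self x
  simp only [mem_filter, mem_univ, true_and] at hxmem
  have hx0 : x ≠ 0 := by
    rintro rfl
    simp at hxmem
  have hinv : x⁻¹ ∈ univ.filter (fun x : F => x ^ 2 + t * x + 1 = 0) := by
    simp only [mem_filter, mem_univ, true_and]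
    field_simp
    linear_combination hxmem
  rw [hx, mem_singleton] at hinv
  -- x⁻¹ = x so x² = 1, t = -2x, t² = 4
  have hxx : x * x = 1 := by
    have := congrArg (fun z => x * z) hinv
    simpa [hx0] using this.symm
  apply ht
  have ht' : t * x = -2 := by linear_combination hxmem - hxx
  have : t ^ 2 * (x * x) = 4 := by
    have : t ^ 2 * (x * x) = (t * x) ^ 2 := by ring
    rw [this, ht']; norm_num
  rw [hxx, mul_one] at this
  exact this

theorem rootCount_eq_two_of_root (l : F) (hl0 : l ≠ 0) (hl : l * l ≠ 1) : rootCount (-(l + l⁻¹)) = 2 := by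
  apply le_antisymm (rootCount_le_two _)
  unfold rootCount
  have hne : l ≠ l⁻¹ := by
    intro h
    apply hl
    have := congrArg (fun z => l * z) h
    simpa [hl0] using this
  have hsub : ({l, l⁻¹} : Finset F) ⊆ univ.filter (fun x : F => x ^ 2 + (-(l + l⁻¹)) * x + 1 = 0) := by
    intro x hx
    simp only [mem_insert, mem_singleton] at hx
    simp only [mem_filter, mem_univ, true_and]
    rcases hx with rfl | rfl
    · field_simp; ring
    · field_simp; ring
  calc 2 = ({l, l⁻¹} : Finset F).card := (card_pair hne).symm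
    _ ≤ _ := card_le_card hsub

/-- the number of pairs `(t, x)` with `x² + t x + 1 = 0` is at most `q - 1` -/
theorem sum_rootCount_le : ∑ t ∈ (univ : Finset F), rootCount t ≤ Fintype.card F - 1 := by
  have hcount : ((univ : Finset (F × F)).filter (fun p => p.2 ^ 2 + p.1 * p.2 + 1 = 0)).card =
      ∑ t ∈ (univ : Finset F), rootCount t := by
    rw [Finset.card_eq_sum_card_fiberwise (f := fun p : F × F => p.1) (t := univ)
      (fun _ _ => mem_coe.mpr (mem_univ _))]
    apply Finset.sum_congr rfl
    intro t _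
    unfold rootCount
    apply Finset.card_nbij' (fun p => p.2) (fun x => (t, x))
    · intro p hp
      simp only [coe_filter, mem_filter, mem_univ, true_and, Set.mem_ofPred_eq] at hp ⊢
      rw [← hp.2]; exact hp.1
    · intro x hx
      simp only [coe_filter, mem_filter, mem_univ, true_and, Set.mem_ofPred_eq, and_true] at hx ⊢
      exact hx
    · intro p hp
      simp only [coe_filter, mem_filter, mem_univ, true_and, Set.mem_ofPred_eq] at hp
      exact Prod.ext hp.2.symm rfl
    · intro x _
      rfl
  have hle : ((univ : Finset (F × F)).filter (fun p => p.2 ^ 2 + p.1 * p.2 + 1 = 0)).card ≤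
      ((univ : Finset F).erase 0).card := by
    apply Finset.card_le_card_of_injOn (fun p => p.2)
    · intro p hp
      simp only [coe_filter, mem_univ, true_and, Set.mem_ofPred_eq] at hp
      simp only [coe_erase, coe_univ, Set.mem_sdiff, Set.mem_univ, Set.mem_singleton_iff, true_and]
      intro h0
      rw [h0] at hp
      simp at hp
    · intro p hp p' hp' h
      simp only [coe_filter, mem_univ, true_and, Set.mem_ofPred_eq] at hp hp'
      simp only at h
      have hx0 : p.2 ≠ 0 := by
        intro h0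
        rw [h0] at hp
        simp at hp
      have : p.1 * p.2 = p'.1 * p.2 := by
        rw [← h] at hp'
        linear_combination hp - hp'
      exact Prod.ext (mul_right_cancel₀ hx0 this) h
  rw [hcount, card_erase_of_mem (mem_univ _), card_univ] at hle
  exact hle

/-- existence of a non-zero trace with irreducible polynomial -/
theorem exists_rootCount_eq_zero_ne_zero (h2 : (2 : F) ≠ 0) (h5 : 5 ≤ Fintype.card F) :
    ∃ t : F, t ≠ 0 ∧ rootCount t = 0 := by
  by_contra hcon
  push Not at hcon
  -- pick l ∉ {0, 1, -1}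
  obtain ⟨l, hl0, hl1, hl2⟩ : ∃ l : F, l ≠ 0 ∧ l ≠ 1 ∧ l ≠ -1 := by
    by_contra hc
    push Not at hc
    have hsub : (univ : Finset F) ⊆ {0, 1, -1} := by
      intro x _
      by_cases hx0 : x = 0
      · simp [hx0]
      by_cases hx1 : x = 1
      · simp [hx1]
      simp [hc x hx0 hx1]
    have : Fintype.card F ≤ 3 := by
      calc Fintype.card F = (univ : Finset F).card := rfl
        _ ≤ ({0, 1, -1} : Finset F).card := card_le_card hsub
        _ ≤ 3 := card_le_three
    omega
  have hll : l * l ≠ 1 := by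
    intro h
    have : (l - 1) * (l + 1) = 0 := by linear_combination h
    rcases mul_eq_zero.mp this with h' | h'
    · exact hl1 (sub_eq_zero.mp h')
    · exact hl2 (eq_neg_of_add_eq_zero_left h')
  have hr2 := rootCount_eq_two_of_root l hl0 hll
  set t₁ := -(l + l⁻¹) with ht₁
  -- every non-zero t has a root, t₁ has two
  have hge : Fintype.card F ≤ ∑ t ∈ (univ : Finset F), rootCount t := by
    by_cases ht0 : t₁ = 0
    · -- then rootCount 0 = 2, all others ≥ 1
      have h1 : ∑ t ∈ (univ : Finset F), rootCount t =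
          rootCount (0 : F) + ∑ t ∈ (univ : Finset F).erase 0, rootCount t :=
        (Finset.add_sum_erase _ _ (mem_univ _)).symm
      have h3 : ((univ : Finset F).erase 0).card ≤ ∑ t ∈ (univ : Finset F).erase 0, rootCount t := by
        calc ((univ : Finset F).erase 0).card = ∑ _t ∈ (univ : Finset F).erase 0, 1 := by simp
          _ ≤ _ := Finset.sum_le_sum (fun t ht => Nat.one_le_iff_ne_zero.mpr (hcon t (ne_of_mem_erase ht)))
      rw [card_erase_of_mem (mem_univ _), card_univ] at h3
      rw [ht0] at hr2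
      omega
    · have h1 : ∑ t ∈ (univ : Finset F), rootCount t =
          rootCount t₁ + ∑ t ∈ (univ : Finset F).erase t₁, rootCount t :=
        (Finset.add_sum_erase _ _ (mem_univ _)).symm
      have h1' : ∑ t ∈ (univ : Finset F).erase t₁, rootCount t =
          rootCount (0 : F) + ∑ t ∈ ((univ : Finset F).erase t₁).erase 0, rootCount t :=
        (Finset.add_sum_erase _ _ (mem_erase.mpr ⟨fun h => ht0 h.symm, mem_univ _⟩)).symm
      have h3 : (((univ : Finset F).erase t₁).erase 0).card ≤
          ∑ t ∈ ((univ : Finset F).erase t₁).erase 0, rootCount t := by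
        calc (((univ : Finset F).erase t₁).erase 0).card =
            ∑ _t ∈ ((univ : Finset F).erase t₁).erase 0, 1 := by simp
          _ ≤ _ := Finset.sum_le_sum (fun t ht => Nat.one_le_iff_ne_zero.mpr (hcon t (ne_of_mem_erase ht)))
      rw [card_erase_of_mem (mem_erase.mpr ⟨fun h => ht0 h.symm, mem_univ _⟩),
        card_erase_of_mem (mem_univ _), card_univ] at h3
      omega
  have := sum_rootCount_le (F := F)
  omega

end Cfsg.Agent.Helper42
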