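import Cfsg.Agent.Helper42.SL2Char2Count

set_option autoImplicit false

/-!
# The centralizer of an element of `SL(2,F)` with irreducible characteristic polynomial is cyclic
-/

namespace Cfsg.Agent.Helper42

open Matrix

variable {F : Type*} [Field F]

/-- `lin g x y` commutes with everything commuting with `g` -/
theorem lin_mul_comm_of_comm (g b : Matrix (Fin 2) (Fin 2) F) (x y : F) (hb : b * g = g * b) :
    lin g x y * b = b * lin g x y := by
  have c00 : b 0 0 * g 0 0 + b 0 1 * g 1 0 = g 0 0 * b 0 0 + g 0 1 * b 1 0 := by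
    have := congrFun (congrFun hb 0) 0; rwa [mul00, mul00] at this
  have c01 : b 0 0 * g 0 1 + b 0 1 * g 1 1 = g 0 0 * b 0 1 + g 0 1 * b 1 1 := by
    have := congrFun (congrFun hb 0) 1; rwa [mul01, mul01] at this
  have c10 : b 1 0 * g 0 0 + b 1 1 * g 1 0 = g 1 0 * b 0 0 + g 1 1 * b 1 0 := by
    have := congrFun (congrFun hb 1) 0; rwa [mul10, mul10] at this
  have c11 : b 1 0 * g 0 1 + b 1 1 * g 1 1 = g 1 0 * b 0 1 + g 1 1 * b 1 1 := by
    have := congrFun (congrFun hb 1) 1; rwa [mul11, mul11] at this
  apply ext2
  · rw [mul00, mul00, lin00, lin01, lin10]; linear_combination (-y) * c00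
  · rw [mul01, mul01, lin00, lin01, lin11]; linear_combination (-y) * c01
  · rw [mul10, mul10, lin00, lin10, lin11]; linear_combination (-y) * c10
  · rw [mul11, mul11, lin01, lin10, lin11]; linear_combination (-y) * c11

variable [Fintype F] [DecidableEq F]

theorem qform_ne_zero_of_rootCount (t : F) (hr : rootCount t = 0) (x y : F) (h : qform t (x, y) = 0) :
    x = 0 ∧ y = 0 := by
  rcases (qform_eq_zero_iff t x y).mp h with h0 | ⟨hy, hroot⟩
  · exact h0
  · exfalso
    unfold rootCount at hr
    rw [Finset.card_eq_zero] at hr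
    have : x / y ∈ Finset.univ.filter (fun z : F => z ^ 2 + t * z + 1 = 0) := by
      rw [Finset.mem_filter]; exact ⟨Finset.mem_univ _, hroot⟩
    rw [hr] at this
    exact absurd this (Finset.notMem_empty _)

theorem isCyclic_centralizer (g : Matrix.SpecialLinearGroup (Fin 2) F)
    (hg : IsNonScalarMat (g : Matrix (Fin 2) (Fin 2) F))
    (hr : rootCount ((g : Matrix (Fin 2) (Fin 2) F).trace) = 0) :
    IsCyclic (Subgroup.centralizer ({g} : Set (Matrix.SpecialLinearGroup (Fin 2) F))) := by
  classical
  set gm : Matrix (Fin 2) (Fin 2) F := (g : Matrix (Fin 2) (Fin 2) F) with hgm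
  let R := Subring.centralizer ({gm} : Set (Matrix (Fin 2) (Fin 2) F))
  have hmemR : ∀ a : R, (a : Matrix (Fin 2) (Fin 2) F) * gm = gm * (a : Matrix (Fin 2) (Fin 2) F) := by
    intro a
    have := a.2
    rw [Subring.mem_centralizer_iff] at this
    exact (this gm rfl).symm
  letI : CommRing R :=
    { (inferInstance : Ring R) with
      mul_comm := by
        intro a b
        apply Subtype.ext
        obtain ⟨x, y, hxy⟩ := exists_lin_of_comm gm (a : Matrix (Fin 2) (Fin 2) F) hg (hmemR a)
        show (a : Matrix (Fin 2) (Fin 2) F) * (b : Matrix (Fin 2) (Fin 2) F) =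
          (b : Matrix (Fin 2) (Fin 2) F) * (a : Matrix (Fin 2) (Fin 2) F)
        rw [hxy]
        exact lin_mul_comm_of_comm gm _ x y (hmemR b) }
  have hdet0 : ∀ a : R, (a : Matrix (Fin 2) (Fin 2) F).det = 0 → a = 0 := by
    intro a ha
    obtain ⟨x, y, hxy⟩ := exists_lin_of_comm gm (a : Matrix (Fin 2) (Fin 2) F) hg (hmemR a)
    rw [hxy, det_lin, hgm, g.2, mul_one] at ha
    have := qform_ne_zero_of_rootCount _ hr x y ha
    apply Subtype.ext
    rw [hxy, this.1, this.2]
    apply ext2
    · rw [lin00]; simp
    · rw [lin01]; simp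
    · rw [lin10]; simp
    · rw [lin11]; simp
  haveI : NoZeroDivisors R := by
    constructor
    intro a b hab
    have h1 : ((a * b : R) : Matrix (Fin 2) (Fin 2) F).det = 0 := by
      rw [hab]; simp
    have h2 : ((a * b : R) : Matrix (Fin 2) (Fin 2) F) =
        (a : Matrix (Fin 2) (Fin 2) F) * (b : Matrix (Fin 2) (Fin 2) F) := rfl
    rw [h2, Matrix.det_mul] at h1
    rcases mul_eq_zero.mp h1 with h | h
    · left; exact hdet0 a h
    · right; exact hdet0 b h
  haveI : Nontrivial R := by
    refine ⟨0, 1, ?_⟩
    intro h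
    have := congrArg (fun a : R => (a : Matrix (Fin 2) (Fin 2) F) 0 0) h
    simp at this
  haveI : IsDomain R := NoZeroDivisors.to_isDomain R
  let f : Subgroup.centralizer ({g} : Set (Matrix.SpecialLinearGroup (Fin 2) F)) →* R :=
    { toFun := fun a => ⟨((a : Matrix.SpecialLinearGroup (Fin 2) F) : Matrix (Fin 2) (Fin 2) F), by
        rw [Subring.mem_centralizer_iff]
        intro k hk
        rw [Set.mem_singleton_iff] at hk
        subst hk
        have := a.2
        rw [Subgroup.mem_centralizer_singleton_iff] at this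
        have h2 := congrArg (fun m : Matrix.SpecialLinearGroup (Fin 2) F => (m : Matrix (Fin 2) (Fin 2) F)) this
        simp only [Matrix.SpecialLinearGroup.coe_mul] at h2
        exact h2.symm⟩
      map_one' := by
        apply Subtype.ext
        rfl
      map_mul' := by
        intro a b
        apply Subtype.ext
        rfl }
  have hf : Function.Injective f := by
    intro a b hab
    apply Subtype.ext
    apply Matrix.SpecialLinearGroup.ext
    intro i j
    have := congrArg (fun a : R => (a : Matrix (Fin 2) (Fin 2) F) i j) hab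
    exact this
  exact isCyclic_of_injective_ringHom f hf

end Cfsg.Agent.Helper42
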