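import Cfsg.Agent.Helper42.B66P10
import Cfsg.Agent.Helper81.B66P09

/-!
# (P10) of helper16's S4705 farm, verbatim skeleton statement
-/

set_option autoImplicit false

namespace Cfsg.Agent.Helper42.B66

open Cfsg Cfsg.Agent.Helper16 Cfsg.Agent.Helper16.DefOne Cfsg.Agent.Helper82.DefOne
  Cfsg.Agent.Helper77.DefOne Cfsg.Agent.Helper57.BH Cfsg.Agent.Helper57.BP
open scoped ComplexConjugate

universe u

variable {G : Type u} [Group G] [Fintype G] {p : ℕ} [Fact p.Prime] (P : Sylow p G)

/-- (P10) the value of a character at an element `t` of `N` with `P t` in one class is bounded by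
the multiplicity of the trivial character of `P` -/
theorem norm_apply_le_of_conj (hP : Nat.card P = p)
    [((P : Subgroup G).subgroupOf (nor P)).Normal]
    (χ : G → ℂ) (hχ : IsCharacter G χ) (t : G) (ht : t ∈ nor P)
    (hconj : ∀ x : G, x ∈ (P : Subgroup G) → χ (x * t) = χ t) :
    ∃ m : ℕ, pSum P χ = ((p * m : ℕ) : ℂ) ∧ ‖χ t‖ ≤ (m : ℝ) ∧ (m = 1 → ‖χ t‖ = 1) :=
  norm_apply_le_of_conj_of_fixed P hP χ t ht hconj
    (Cfsg.Agent.Helper81.B66.exists_fixed_part P hP χ hχ)

end Cfsg.Agent.Helper42.B66
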