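import Cfsg.Agent.Helper57.BP.PartI
import Cfsg.Agent.S4701

/-!
# (P11) of helper16's S4705 farm: a central translate of `t` conjugate to `t` is `t`
-/

set_option autoImplicit false

namespace Cfsg.Agent.Helper42.B66

open Cfsg

universe u

variable {G : Type u} [Group G] [Fintype G]

/-- (P11) a central translate of `t` conjugate to `t` is `t`, when a faithful irreducible
character does not vanish at `t` -/
theorem eq_one_of_conj_mul_center (ψ : IrrCharacter G)
    (hfaith : ∀ g : G, (ψ : G → ℂ) g = (ψ : G → ℂ) 1 → g = 1)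
    (t : G) (ht : (ψ : G → ℂ) t ≠ 0) (z : G) (hz : z ∈ Subgroup.center G) (g : G)
    (h : g * t * g⁻¹ = t * z) : z = 1 := by
  have hirr : IsIrrCharacter G (ψ : G → ℂ) := ψ.2
  have hcf : IsClassFunction G (ψ : G → ℂ) :=
    Cfsg.Agent.Helper80.IsCharacter.isClassFunction
      (Cfsg.Agent.Helper80.IsIrrCharacter.isCharacter hirr)
  have h1 : (ψ : G → ℂ) (t * z) = (ψ : G → ℂ) t := by
    rw [← h]
    exact hcf t g
  have hzt : t * z = z * t := ((Subgroup.mem_center_iff.mp hz) t)
  rw [hzt, Cfsg.Agent.Helper76.centralLam_spec hirr hz t] at h1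
  have h2 : Cfsg.Agent.Helper76.centralLam (ψ : G → ℂ) z = 1 := by
    have h3 : (Cfsg.Agent.Helper76.centralLam (ψ : G → ℂ) z - 1) * (ψ : G → ℂ) t = 0 := by
      rw [sub_mul, h1, one_mul, sub_self]
    rcases mul_eq_zero.mp h3 with h4 | h4
    · exact sub_eq_zero.mp h4
    · exact absurd h4 ht
  have h1ne : (ψ : G → ℂ) 1 ≠ 0 := Cfsg.Agent.Helper80.IsIrrCharacter.map_one_ne_zero hirr
  unfold Cfsg.Agent.Helper76.centralLam at h2
  have h5 : (ψ : G → ℂ) z = (ψ : G → ℂ) 1 := by
    field_simp at h2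
    exact h2
  exact hfaith z h5

end Cfsg.Agent.Helper42.B66
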