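import Mathlib

/-!
helper42 for helper18 (S4279, batch C, #11843): abstract piece (IDX) `relIndex_two_of_commute`.
Mathlib only.
-/

set_option autoImplicit false

namespace Cfsg.Agent.Helper42.G2Inv

/-- (IDX) two elementwise commuting subgroups of order `M` meeting in `⟨τ⟩` of order 2, inside `C` of order `M²`:
the join has index 2. -/
theorem relIndex_two_of_commute {Γ : Type*} [Group Γ] [Finite Γ] (C L₁ L₂ : Subgroup Γ) (τ : Γ) (hτ : orderOf τ = 2)
    (hcomm : ∀ x ∈ L₁, ∀ y ∈ L₂, x * y = y * x) (hinf : L₁ ⊓ L₂ = Subgroup.zpowers τ) (hle : L₁ ⊔ L₂ ≤ C)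
    (M : ℕ) (h1 : Nat.card L₁ = M) (h2 : Nat.card L₂ = M) (hC : Nat.card C = M * M) :
    (L₁ ⊔ L₂).relIndex C = 2 := by
  classical
  have hcm : ∀ (a : L₁) (b : L₂), Commute (L₁.subtype a) (L₂.subtype b) := by
    intro a b
    show (a : Γ) * (b : Γ) = (b : Γ) * (a : Γ)
    exact hcomm a a.2 b b.2
  let f : L₁ × L₂ →* Γ := MonoidHom.noncommCoprod L₁.subtype L₂.subtype hcm
  have hfapp : ∀ p : L₁ × L₂, f p = (p.1 : Γ) * (p.2 : Γ) := fun p => rfl
  have hrange : f.range = L₁ ⊔ L₂ := by
    show (MonoidHom.noncommCoprod L₁.subtype L₂.subtype hcm).range = _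
    rw [MonoidHom.noncommCoprod_range, Subgroup.range_subtype, Subgroup.range_subtype]
  -- the kernel is in bijection with `L₁ ⊓ L₂`
  have hker : Nat.card f.ker = 2 := by
    have e : f.ker ≃ (L₁ ⊓ L₂ : Subgroup Γ) :=
      { toFun := fun p => ⟨(p.1.1 : Γ), by
          have hp : (p.1.1 : Γ) * (p.1.2 : Γ) = 1 := by
            have := p.2
            rw [MonoidHom.mem_ker, hfapp] at this
            exact this
          refine ⟨p.1.1.2, ?_⟩
          have : (p.1.1 : Γ) = (p.1.2 : Γ)⁻¹ := eq_inv_of_mul_eq_one_left hp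
          rw [SetLike.mem_coe, this]
          exact L₂.inv_mem p.1.2.2⟩
        invFun := fun x => ⟨(⟨x.1, x.2.1⟩, ⟨x.1⁻¹, L₂.inv_mem x.2.2⟩), by
          rw [MonoidHom.mem_ker, hfapp]
          simp⟩
        left_inv := by
          intro p
          have hp : (p.1.1 : Γ) * (p.1.2 : Γ) = 1 := by
            have := p.2
            rw [MonoidHom.mem_ker, hfapp] at this
            exact this
          apply Subtype.ext
          apply Prod.ext
          · apply Subtype.ext
            rfl
          · apply Subtype.ext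
            show ((p.1.1 : Γ))⁻¹ = (p.1.2 : Γ)
            exact inv_eq_of_mul_eq_one_right hp
        right_inv := by
          intro x
          apply Subtype.ext
          rfl }
    rw [Nat.card_congr e, hinf, Nat.card_zpowers, hτ]
  have hcard : Nat.card f.ker * Nat.card f.range = M * M := by
    rw [← Subgroup.index_ker, Subgroup.card_mul_index, Nat.card_prod, h1, h2]
  rw [hker, hrange] at hcard
  have hpos : 0 < Nat.card (L₁ ⊔ L₂ : Subgroup Γ) := Nat.card_pos
  have hrel : (L₁ ⊔ L₂).relIndex C * Nat.card (L₁ ⊔ L₂ : Subgroup Γ) = Nat.card C := by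
    have := Subgroup.relIndex_mul_relIndex (⊥ : Subgroup Γ) (L₁ ⊔ L₂) C bot_le hle
    rw [Subgroup.relIndex_bot_left, Subgroup.relIndex_bot_left] at this
    rw [mul_comm]
    exact this
  rw [hC, ← hcard] at hrel
  exact Nat.eq_of_mul_eq_mul_right hpos hrel

end Cfsg.Agent.Helper42.G2Inv
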