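import Mathlib

/-!
helper42 for helper18 (S4279, batch C, #11843): abstract piece (TR) `transfer_to_subgroup`.
Mathlib only.
-/

set_option autoImplicit false

namespace Cfsg.Agent.Helper42.G2Inv

/-- general transport of the "two commuting copies of `S`, index 2 in the centraliser" configuration along an
injective homomorphism `ψ : A →* B` (everything living in the range of `ψ`) -/
theorem transfer_comap {A B S : Type*} [Group A] [Group B] [Group S] (ψ : A →* B)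
    (hψ : Function.Injective ψ) (N : ℕ) (τ : B) (t : A) (hψt : ψ t = τ)
    (hcard : Nat.card ↥(Subgroup.centralizer ({τ} : Set B) ⊓ ψ.range) = N)
    (L₁ L₂ : Subgroup B) (h₁ : L₁ ≤ ψ.range) (h₂ : L₂ ≤ ψ.range)
    (e₁ : Nonempty (↥L₁ ≃* S)) (e₂ : Nonempty (↥L₂ ≃* S))
    (hcomm : ∀ x ∈ L₁, ∀ y ∈ L₂, x * y = y * x) (hinf : L₁ ⊓ L₂ = Subgroup.zpowers τ)
    (hle : L₁ ⊔ L₂ ≤ Subgroup.centralizer ({τ} : Set B))
    (hidx : (L₁ ⊔ L₂).relIndex (Subgroup.centralizer ({τ} : Set B) ⊓ ψ.range) = 2) :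
    Nat.card (Subgroup.centralizer ({t} : Set A)) = N ∧
      ∃ L₁' L₂' : Subgroup A, Nonempty (↥L₁' ≃* S) ∧ Nonempty (↥L₂' ≃* S) ∧
        (∀ x ∈ L₁', ∀ y ∈ L₂', x * y = y * x) ∧ L₁' ⊓ L₂' = Subgroup.zpowers t ∧
        L₁' ⊔ L₂' ≤ Subgroup.centralizer ({t} : Set A) ∧
        (L₁' ⊔ L₂').relIndex (Subgroup.centralizer ({t} : Set A)) = 2 := by
  -- the centraliser of `t` is the preimage of the centraliser of `τ`
  have hcent : Subgroup.centralizer ({t} : Set A)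
      = (Subgroup.centralizer ({τ} : Set B)).comap ψ := by
    ext x
    rw [Subgroup.mem_comap, Subgroup.mem_centralizer_singleton_iff,
      Subgroup.mem_centralizer_singleton_iff, ← hψt, ← map_mul, ← map_mul]
    exact ⟨fun h => by rw [h], fun h => hψ h⟩
  have hcent' : Subgroup.centralizer ({t} : Set A)
      = (Subgroup.centralizer ({τ} : Set B) ⊓ ψ.range).comap ψ := by
    rw [Subgroup.comap_inf, ← hcent]
    ext x
    simp
  -- preimages of subgroups of the range are isomorphic copies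
  have hmap : ∀ H : Subgroup B, H ≤ ψ.range → (H.comap ψ).map ψ = H := by
    intro H hH
    rw [Subgroup.map_comap_eq, inf_eq_right.mpr hH]
  have hequiv : ∀ H : Subgroup B, H ≤ ψ.range → Nonempty (↥(H.comap ψ) ≃* ↥H) := by
    intro H hH
    exact ⟨(Subgroup.equivMapOfInjective (H.comap ψ) ψ hψ).trans
      (MulEquiv.subgroupCongr (hmap H hH))⟩
  refine ⟨?_, L₁.comap ψ, L₂.comap ψ, ?_, ?_, ?_, ?_, ?_, ?_⟩
  · rw [hcent']
    obtain ⟨e⟩ := hequiv _ (inf_le_right : Subgroup.centralizer ({τ} : Set B) ⊓ ψ.range ≤ ψ.range)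
    rw [Nat.card_congr e.toEquiv, hcard]
  · obtain ⟨e⟩ := hequiv L₁ h₁
    obtain ⟨e'⟩ := e₁
    exact ⟨e.trans e'⟩
  · obtain ⟨e⟩ := hequiv L₂ h₂
    obtain ⟨e'⟩ := e₂
    exact ⟨e.trans e'⟩
  · intro x hx y hy
    apply hψ
    rw [map_mul, map_mul]
    exact hcomm _ hx _ hy
  · rw [← Subgroup.comap_inf, hinf]
    ext x
    rw [Subgroup.mem_comap, Subgroup.mem_zpowers_iff, Subgroup.mem_zpowers_iff]
    constructor
    · rintro ⟨k, hk⟩
      refine ⟨k, hψ ?_⟩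
      rw [map_zpow, hψt, hk]
    · rintro ⟨k, hk⟩
      refine ⟨k, ?_⟩
      rw [← hk, map_zpow, hψt]
  · rw [Subgroup.comap_sup_eq_of_le_range ψ h₁ h₂, hcent]
    exact Subgroup.comap_mono hle
  · rw [Subgroup.comap_sup_eq_of_le_range ψ h₁ h₂, hcent', Subgroup.relIndex_comap,
      hmap _ (inf_le_right : Subgroup.centralizer ({τ} : Set B) ⊓ ψ.range ≤ ψ.range)]
    exact hidx

/-- (TR) transfer from the ambient group `Γ` to the subgroup `K` and along a conjugation by `g ∈ K`. -/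
theorem transfer_to_subgroup {Γ : Type*} [Group Γ] (K : Subgroup Γ) {S : Type*} [Group S] (N : ℕ) (τ : Γ)
    (hcard : Nat.card ↥(Subgroup.centralizer ({τ} : Set Γ) ⊓ K) = N)
    (L₁ L₂ : Subgroup Γ) (h₁ : L₁ ≤ K) (h₂ : L₂ ≤ K) (e₁ : Nonempty (↥L₁ ≃* S)) (e₂ : Nonempty (↥L₂ ≃* S))
    (hcomm : ∀ x ∈ L₁, ∀ y ∈ L₂, x * y = y * x) (hinf : L₁ ⊓ L₂ = Subgroup.zpowers τ)
    (hle : L₁ ⊔ L₂ ≤ Subgroup.centralizer ({τ} : Set Γ))
    (hidx : (L₁ ⊔ L₂).relIndex (Subgroup.centralizer ({τ} : Set Γ) ⊓ K) = 2)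
    (t : ↥K) (g : Γ) (hg : g ∈ K) (ht : g * τ * g⁻¹ = (t : Γ)) :
    Nat.card (Subgroup.centralizer ({t} : Set ↥K)) = N ∧
      ∃ L₁' L₂' : Subgroup ↥K, Nonempty (↥L₁' ≃* S) ∧ Nonempty (↥L₂' ≃* S) ∧
        (∀ x ∈ L₁', ∀ y ∈ L₂', x * y = y * x) ∧ L₁' ⊓ L₂' = Subgroup.zpowers t ∧
        L₁' ⊔ L₂' ≤ Subgroup.centralizer ({t} : Set ↥K) ∧
        (L₁' ⊔ L₂').relIndex (Subgroup.centralizer ({t} : Set ↥K)) = 2 := by
  -- `ψ x = g⁻¹ x g` on `K`
  let ψ : ↥K →* Γ := (MulAut.conj g⁻¹).toMonoidHom.comp K.subtype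
  have hψapp : ∀ x : ↥K, ψ x = g⁻¹ * (x : Γ) * g := by
    intro x
    show (MulAut.conj g⁻¹) (x : Γ) = _
    rw [MulAut.conj_apply, inv_inv]
  have hψinj : Function.Injective ψ := by
    intro x y hxy
    rw [hψapp, hψapp] at hxy
    apply Subtype.ext
    exact mul_left_cancel (mul_right_cancel hxy)
  have hrange : ψ.range = K := by
    ext x
    constructor
    · rintro ⟨k, rfl⟩
      rw [hψapp]
      exact K.mul_mem (K.mul_mem (K.inv_mem hg) k.2) hg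
    · intro hx
      refine ⟨⟨g * x * g⁻¹, K.mul_mem (K.mul_mem hg hx) (K.inv_mem hg)⟩, ?_⟩
      rw [hψapp]
      group
  have hψt : ψ t = τ := by
    rw [hψapp, ← ht]
    group
  have hcard' : Nat.card ↥(Subgroup.centralizer ({τ} : Set Γ) ⊓ ψ.range) = N := by
    rw [hrange]; exact hcard
  have hidx' : (L₁ ⊔ L₂).relIndex (Subgroup.centralizer ({τ} : Set Γ) ⊓ ψ.range) = 2 := by
    rw [hrange]; exact hidx
  exact transfer_comap ψ hψinj N τ t hψt hcard' L₁ L₂ (by rw [hrange]; exact h₁)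
    (by rw [hrange]; exact h₂) e₁ e₂ hcomm hinf hle hidx'

end Cfsg.Agent.Helper42.G2Inv
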