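import Mathlib
import Cfsg.Agent.Helper42.BruhatA

set_option autoImplicit false
set_option linter.unusedSectionVars false

/-!
# Consequences of the Bruhat decomposition for the Borel subgroup of `GL_n(F)`

* `mem_borel_of_conj_le`: `g B g⁻¹ ≤ B` implies `g ∈ B`;
* `opposite_borel`: if `B ∩ g B g⁻¹ = 1` then `g ∈ B w₀ B`;
* `isPGroup_borel_two`: over `ZMod 2` the Borel subgroup is a `2`-group.
-/

namespace Cfsg.Agent.Helper42

open Matrix Equiv

section
variable {F : Type*} [Field F] {n : ℕ}

theorem mul_pm_apply (M : Matrix (Fin n) (Fin n) F) (σ : Perm (Fin n)) (i j : Fin n) :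
    (M * pm F σ) i j = M i (σ j) := by
  rw [Matrix.mul_apply, Finset.sum_eq_single (σ j)]
  · rw [pm_apply, if_pos rfl, mul_one]
  · intro b _ hb; rw [pm_apply, if_neg hb, mul_zero]
  · intro h; exact absurd (Finset.mem_univ _) h

theorem pm_mul_transvection (σ : Perm (Fin n)) (k l : Fin n) (c : F) :
    pm F σ * transvection k l c = transvection (σ k) (σ l) c * pm F σ := by
  ext i j
  rw [permGL_mul_apply, mul_pm_apply, transvection, transvection, Matrix.add_apply,
    Matrix.add_apply, Matrix.one_apply, Matrix.one_apply, Matrix.single_apply, Matrix.single_apply]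
  congr 1
  · by_cases h : i = σ j
    · rw [if_pos h, if_pos (by rw [h]; simp)]
    · rw [if_neg h, if_neg (fun h' => h (by rw [← h']; simp))]
  · by_cases h : k = σ.symm i ∧ l = j
    · rw [if_pos h, if_pos ⟨by rw [h.1]; simp, by rw [h.2]⟩]
    · rw [if_neg h, if_neg]
      rintro ⟨h1, h2⟩
      exact h ⟨by rw [← h1]; simp, σ.injective h2⟩

theorem permGL_conj_transGLn (σ : Perm (Fin n)) (k l : Fin n) (hkl : k ≠ l) (c : F) :
    permGL F n σ * transGLn k l hkl c * (permGL F n σ)⁻¹ =
      transGLn (σ k) (σ l) (fun h => hkl (σ.injective h)) c := by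
  rw [mul_inv_eq_iff_eq_mul]
  apply Units.ext
  rw [Units.val_mul, Units.val_mul, permGL_val, transGLn_val, transGLn_val]
  exact pm_mul_transvection σ k l c

theorem transGLn_mem_borel_iff (a b : Fin n) (hab : a ≠ b) :
    transGLn a b hab (1 : F) ∈ borel F n ↔ a < b := by
  constructor
  · intro h
    rw [mem_borel] at h
    by_contra hcon
    have hba : b < a := lt_of_le_of_ne (not_lt.mp hcon) (Ne.symm hab)
    have := h a b hba
    rw [transGLn_val, transvection, Matrix.add_apply, Matrix.one_apply_ne hab, zero_add,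
      Matrix.single_apply_same] at this
    exact one_ne_zero this
  · intro h
    exact transGLn_mem_borel a b h 1

theorem transGLn_ne_one (a b : Fin n) (hab : a ≠ b) : transGLn a b hab (1 : F) ≠ 1 := by
  intro h
  have := congrArg (fun g : GL (Fin n) F => (g : Matrix (Fin n) (Fin n) F) a b) h
  simp only [transGLn_val, transvection, Matrix.add_apply, Units.val_one, Matrix.one_apply_ne hab,
    zero_add, Matrix.single_apply_same] at this
  exact one_ne_zero this

/-- the key computation: conjugating a root element through a Bruhat cell -/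
theorem bruhat_conj (u b₀ : GL (Fin n) F) (σ : Perm (Fin n)) (k l : Fin n) (hkl : k ≠ l) :
    (u * permGL F n σ * b₀) * (b₀⁻¹ * transGLn k l hkl (1 : F) * b₀) * (u * permGL F n σ * b₀)⁻¹ =
      u * transGLn (σ k) (σ l) (fun h => hkl (σ.injective h)) 1 * u⁻¹ := by
  rw [← permGL_conj_transGLn]
  group

theorem perm_eq_one_of_strictMono (σ : Perm (Fin n)) (h : StrictMono σ) : σ = 1 := by
  ext i
  have h1 := h.le_id i
  have h2 := h.id_le i
  simp only [id] at h1 h2
  rw [Perm.one_apply]
  exact congrArg Fin.val (le_antisymm h1 h2)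

theorem perm_eq_rev_of_strictAnti (σ : Perm (Fin n)) (h : StrictAnti σ) : σ = Fin.revPerm := by
  have h1 : StrictMono ⇑(σ * (Fin.revPerm : Perm (Fin n))) := by
    intro a b hab
    rw [Perm.mul_apply, Perm.mul_apply]
    apply h
    exact Fin.rev_lt_rev.mpr hab
  have h2 := perm_eq_one_of_strictMono _ h1
  have h3 : (Fin.revPerm : Perm (Fin n)) * Fin.revPerm = 1 := by
    ext i
    simp
  calc σ = σ * (Fin.revPerm * Fin.revPerm) := by rw [h3, mul_one]
    _ = (σ * Fin.revPerm) * Fin.revPerm := by rw [mul_assoc]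
    _ = Fin.revPerm := by rw [h2, one_mul]

/-- the Borel subgroup is self-normalizing (one-sided form) -/
theorem mem_borel_of_conj_le (g : GL (Fin n) F)
    (hg : ∀ b ∈ borel F n, g * b * g⁻¹ ∈ borel F n) : g ∈ borel F n := by
  obtain ⟨u, hu, σ, b₀, hb₀, rfl⟩ := bruhat_exists g
  have hσ : StrictMono σ := by
    intro k l hkl
    have h1 := hg (b₀⁻¹ * transGLn k l hkl.ne (1 : F) * b₀)
      ((borel F n).mul_mem ((borel F n).mul_mem ((borel F n).inv_mem hb₀)
        (transGLn_mem_borel k l hkl 1)) hb₀)
    rw [bruhat_conj] at h1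
    have h2 : transGLn (σ k) (σ l) (fun h => hkl.ne (σ.injective h)) (1 : F) ∈ borel F n := by
      have := (borel F n).mul_mem ((borel F n).mul_mem ((borel F n).inv_mem hu) h1) hu
      have e : u⁻¹ * (u * transGLn (σ k) (σ l) (fun h => hkl.ne (σ.injective h)) (1 : F) * u⁻¹) * u =
          transGLn (σ k) (σ l) (fun h => hkl.ne (σ.injective h)) (1 : F) := by group
      rwa [e] at this
    exact (transGLn_mem_borel_iff _ _ _).mp h2
  rw [perm_eq_one_of_strictMono σ hσ, map_one, mul_one]
  exact (borel F n).mul_mem hu hb₀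

/-- Borel subgroups meeting trivially are opposite -/
theorem opposite_borel (g : GL (Fin n) F)
    (hg : ∀ b ∈ borel F n, g * b * g⁻¹ ∈ borel F n → b = 1) :
    ∃ u ∈ borel F n, ∃ b ∈ borel F n, g = u * permGL F n Fin.revPerm * b := by
  obtain ⟨u, hu, σ, b₀, hb₀, rfl⟩ := bruhat_exists g
  have hσ : StrictAnti σ := by
    intro k l hkl
    by_contra hcon
    have hne : σ k ≠ σ l := fun h => hkl.ne (σ.injective h)
    have hlt : σ k < σ l := lt_of_le_of_ne (not_lt.mp hcon) hne
    have hmem : b₀⁻¹ * transGLn k l hkl.ne (1 : F) * b₀ ∈ borel F n :=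
      (borel F n).mul_mem ((borel F n).mul_mem ((borel F n).inv_mem hb₀)
        (transGLn_mem_borel k l hkl 1)) hb₀
    have h1 := hg _ hmem (by
      rw [bruhat_conj]
      exact (borel F n).mul_mem ((borel F n).mul_mem hu (transGLn_mem_borel _ _ hlt 1))
        ((borel F n).inv_mem hu))
    have h2 : transGLn k l hkl.ne (1 : F) = 1 := by
      have e : transGLn k l hkl.ne (1 : F) =
          b₀ * (b₀⁻¹ * transGLn k l hkl.ne (1 : F) * b₀) * b₀⁻¹ := by group
      rw [e, h1]; group
    exact transGLn_ne_one k l hkl.ne h2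
  rw [perm_eq_rev_of_strictAnti σ hσ]
  exact ⟨u, hu, b₀, hb₀, rfl⟩

end

section two
variable {n : ℕ}

/-- over the field with two elements, upper triangular invertible matrices form a `2`-group -/
theorem isPGroup_borel_two : IsPGroup 2 (borel (ZMod 2) n) := by
  rintro ⟨g, hg⟩
  refine ⟨n, ?_⟩
  apply Subtype.ext
  show g ^ 2 ^ n = 1
  apply Units.ext
  rw [Units.val_pow_eq_pow_val, Units.val_one]
  set M : Matrix (Fin n) (Fin n) (ZMod 2) := (g : Matrix (Fin n) (Fin n) (ZMod 2)) with hM
  have hup : ∀ i j : Fin n, j < i → M i j = 0 := mem_borel.mp hg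
  -- the diagonal entries are `1`
  have hdet : M.det ≠ 0 := by
    have h2 : IsUnit M.det := by
      rw [← Matrix.isUnit_iff_isUnit_det]
      exact g.isUnit
    exact h2.ne_zero
  have hdiag : ∀ i, M i i = 1 := by
    intro i
    have h1 : M.det = ∏ i, M i i := Matrix.det_of_isUpperTriangular (fun i j hij => hup i j hij)
    have h2 : M i i ≠ 0 := by
      intro h0
      apply hdet
      rw [h1]
      exact Finset.prod_eq_zero (Finset.mem_univ i) h0
    have h3 : ∀ x : ZMod 2, x ≠ 0 → x = 1 := by decide
    exact h3 _ h2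
  -- `N = M - 1` is strictly upper triangular
  set N : Matrix (Fin n) (Fin n) (ZMod 2) := M - 1 with hN
  have hNs : ∀ i j : Fin n, j ≤ i → N i j = 0 := by
    intro i j hij
    rw [hN, Matrix.sub_apply]
    rcases lt_or_eq_of_le hij with h | h
    · rw [hup i j h, Matrix.one_apply_ne h.ne', sub_zero]
    · subst h; rw [hdiag, Matrix.one_apply_eq, sub_self]
  -- powers of `N` move further from the diagonal
  have hpow : ∀ k : ℕ, ∀ i j : Fin n, (j : ℕ) < i + k → (N ^ k) i j = 0 := by
    intro k
    induction k with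
    | zero =>
      intro i j hij
      rw [pow_zero, Matrix.one_apply_ne]
      intro h; rw [h] at hij; omega
    | succ k ih =>
      intro i j hij
      rw [pow_succ, Matrix.mul_apply]
      apply Finset.sum_eq_zero
      intro m _
      by_cases hm : (m : ℕ) < i + k
      · rw [ih i m hm, zero_mul]
      · rw [hNs m j (by rw [Fin.le_def]; omega), mul_zero]
  have hNn : N ^ n = 0 := by
    ext i j
    rw [hpow n i j (by have := j.2; omega), Matrix.zero_apply]
  -- squaring in characteristic two
  have hsq : ∀ k : ℕ, M ^ 2 ^ k = 1 + N ^ 2 ^ k := by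
    intro k
    induction k with
    | zero => rw [pow_zero, pow_one, pow_one, hN]; abel
    | succ k ih =>
      rw [pow_succ, pow_mul, ih, pow_mul]
      have h2 : (2 : Matrix (Fin n) (Fin n) (ZMod 2)) = 0 := by
        ext i j
        by_cases h : i = j
        · subst h
          show ((2 : Matrix (Fin n) (Fin n) (ZMod 2))) i i = 0
          rw [show (2 : Matrix (Fin n) (Fin n) (ZMod 2)) = 1 + 1 by norm_num, Matrix.add_apply,
            Matrix.one_apply_eq]
          decide
        · rw [show (2 : Matrix (Fin n) (Fin n) (ZMod 2)) = 1 + 1 by norm_num, Matrix.add_apply,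
            Matrix.one_apply_ne h, add_zero, Matrix.zero_apply]
      have : (1 + N ^ 2 ^ k) ^ 2 = 1 + 2 * N ^ 2 ^ k + (N ^ 2 ^ k) ^ 2 := by
        rw [pow_two, pow_two]
        noncomm_ring
      rw [this, h2, zero_mul, add_zero]
  rw [hsq n]
  have hle : n ≤ 2 ^ n := Nat.lt_two_pow_self.le
  rw [← Nat.sub_add_cancel hle, pow_add, hNn, mul_zero, add_zero]

end two

end Cfsg.Agent.Helper42
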