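import Mathlib

/-!
# Intersection tables of permutations (helper42)

For label functions `la : X → A`, `lb : X → B` on a finite type and a permutation `w` of `X`,
`tab la lb w a b` counts the `j` with `la (w j) = a` and `lb j = b`.

* `exists_equiv_fiber`: two maps with equinumerous fibres differ by an equivalence of the sources.
* `tab_mul`: the table is invariant under label-preserving permutations on both sides.
* `exists_of_tab_eq`: equal tables give the same double coset.
* `exists_tab_eq`: every table with the right margins occurs.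
* `tab_eq_of_cum`: the table is determined by the cumulative counts over upper/lower sets.
-/

set_option autoImplicit false
set_option linter.unusedSectionVars false

namespace Cfsg.Agent.Helper42.Unip

open Equiv

/-- two maps with equinumerous fibres differ by an equivalence of the sources -/
theorem exists_equiv_fiber {X X' Y : Type*} [Fintype X] [Fintype X'] [DecidableEq Y]
    (f : X → Y) (f' : X' → Y)
    (h : ∀ y, Fintype.card {x // f x = y} = Fintype.card {x // f' x = y}) :
    ∃ e : X ≃ X', ∀ x, f' (e x) = f x := by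
  classical
  have he : ∀ y, Nonempty ({x // f x = y} ≃ {x // f' x = y}) := fun y => Fintype.card_eq.1 (h y)
  choose ε _ using fun y => (⟨(he y).some, trivial⟩ : ∃ _ : {x // f x = y} ≃ {x // f' x = y}, True)
  let e : X ≃ X' := (Equiv.sigmaFiberEquiv f).symm.trans
    ((Equiv.sigmaCongrRight ε).trans (Equiv.sigmaFiberEquiv f'))
  refine ⟨e, fun x => ?_⟩
  exact (ε (f x) ⟨x, rfl⟩).2

/-- counting a preimage fibrewise -/
theorem card_subtype_comp {U P : Type*} [Fintype U] [Fintype P] [DecidableEq P] (f : U → P)
    (Q : P → Prop) [DecidablePred Q] :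
    Fintype.card {u // Q (f u)} = ∑ p ∈ Finset.univ.filter Q, Fintype.card {u // f u = p} := by
  classical
  rw [Fintype.card_subtype]
  rw [Finset.card_eq_sum_card_fiberwise (f := f) (t := Finset.univ.filter Q)]
  · refine Finset.sum_congr rfl fun p hp => ?_
    rw [Fintype.card_subtype]
    congr 1
    ext u
    simp only [Finset.mem_filter, Finset.mem_univ, true_and] at hp ⊢
    constructor
    · rintro ⟨_, h⟩; exact h
    · intro h; exact ⟨h ▸ hp, h⟩
  · intro u hu
    simpa using hu

section tab

variable {X A B : Type*} [Fintype X] [DecidableEq X] [DecidableEq A] [DecidableEq B]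

/-- the intersection table of a permutation -/
def tab (la : X → A) (lb : X → B) (w : Perm X) (a : A) (b : B) : ℕ :=
  (Finset.univ.filter fun j => la (w j) = a ∧ lb j = b).card

theorem tab_eq_card (la : X → A) (lb : X → B) (w : Perm X) (a : A) (b : B) :
    tab la lb w a b = Fintype.card {j // (la (w j), lb j) = (a, b)} := by
  rw [Fintype.card_subtype]
  unfold tab
  congr 1
  ext j
  simp

theorem tab_mul (la : X → A) (lb : X → B) (σ τ w : Perm X) (hσ : ∀ i, la (σ i) = la i)
    (hτ : ∀ j, lb (τ j) = lb j) : tab la lb (σ * w * τ) = tab la lb w := by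
  funext a b
  unfold tab
  refine Finset.card_equiv τ fun j => ?_
  simp only [Finset.mem_filter, Finset.mem_univ, true_and, Perm.mul_apply, hσ, hτ]

theorem exists_of_tab_eq (la : X → A) (lb : X → B) (w w' : Perm X)
    (h : tab la lb w = tab la lb w') :
    ∃ σ τ : Perm X, (∀ i, la (σ i) = la i) ∧ (∀ j, lb (τ j) = lb j) ∧ w' = σ * w * τ := by
  obtain ⟨τ, hτ⟩ := exists_equiv_fiber (fun j => (la (w' j), lb j)) (fun j => (la (w j), lb j))
    (fun y => by
      obtain ⟨a, b⟩ := y
      rw [← tab_eq_card, ← tab_eq_card, h])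
  have h1 : ∀ j, la (w (τ j)) = la (w' j) := fun j => (Prod.ext_iff.1 (hτ j)).1
  have h2 : ∀ j, lb (τ j) = lb j := fun j => (Prod.ext_iff.1 (hτ j)).2
  refine ⟨w' * τ⁻¹ * w⁻¹, τ, fun i => ?_, h2, ?_⟩
  · have := h1 (τ⁻¹ (w⁻¹ i))
    simp only [Perm.mul_apply]
    rw [← this]
    simp
  · ext j
    simp

theorem tab_row_sum [Fintype B] (la : X → A) (lb : X → B) (w : Perm X) (a : A) :
    ∑ b, tab la lb w a b = Fintype.card {i // la i = a} := by
  have h1 : Fintype.card {i // la i = a} = Fintype.card {j // la (w j) = a} :=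
    (Fintype.card_congr (w.subtypeEquiv (fun j => Iff.rfl))).symm
  rw [h1, Fintype.card_subtype]
  rw [Finset.card_eq_sum_card_fiberwise (f := lb) (t := Finset.univ) (fun _ _ => Finset.mem_univ _)]
  refine Finset.sum_congr rfl fun b _ => ?_
  unfold tab
  congr 1
  ext j
  simp

theorem tab_col_sum [Fintype A] (la : X → A) (lb : X → B) (w : Perm X) (b : B) :
    ∑ a, tab la lb w a b = Fintype.card {j // lb j = b} := by
  rw [Fintype.card_subtype]
  rw [Finset.card_eq_sum_card_fiberwise (f := fun j => la (w j)) (t := Finset.univ)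
    (fun _ _ => Finset.mem_univ _)]
  refine Finset.sum_congr rfl fun a _ => ?_
  unfold tab
  congr 1
  ext j
  simp [and_comm]

end tab

theorem sum_filter_snd {A B : Type*} [Fintype A] [Fintype B] [DecidableEq A] [DecidableEq B]
    (t : A → B → ℕ) (b : B) :
    ∑ p ∈ Finset.univ.filter (fun p : A × B => p.2 = b), t p.1 p.2 = ∑ a, t a b := by
  rw [Finset.sum_filter, Fintype.sum_prod_type]
  refine Finset.sum_congr rfl fun a _ => ?_
  simp

theorem sum_filter_fst {A B : Type*} [Fintype A] [Fintype B] [DecidableEq A] [DecidableEq B]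
    (t : A → B → ℕ) (a : A) :
    ∑ p ∈ Finset.univ.filter (fun p : A × B => p.1 = a), t p.1 p.2 = ∑ b, t a b := by
  rw [Finset.sum_filter, Fintype.sum_prod_type]
  simp

section tab2

variable {X A B : Type*} [Fintype X] [DecidableEq X] [DecidableEq A] [DecidableEq B]

/-- every table with the right margins occurs -/
theorem exists_tab_eq [Fintype A] [Fintype B] (la : X → A) (lb : X → B) (t : A → B → ℕ)
    (hr : ∀ a, ∑ b, t a b = Fintype.card {i // la i = a})
    (hc : ∀ b, ∑ a, t a b = Fintype.card {j // lb j = b}) :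
    ∃ w : Perm X, tab la lb w = t := by
  classical
  let U := Σ p : A × B, Fin (t p.1 p.2)
  have hU : ∀ p : A × B, Fintype.card {u : U // u.1 = p} = t p.1 p.2 := fun p => by
    rw [Fintype.card_congr (Equiv.sigmaSubtype p), Fintype.card_fin]
  have hU2 : ∀ b, Fintype.card {u : U // u.1.2 = b} = Fintype.card {j // lb j = b} := fun b => by
    rw [card_subtype_comp (fun u : U => u.1) (fun p => p.2 = b), ← hc b]
    simp only [hU]
    exact sum_filter_snd t b
  obtain ⟨e₁, he₁⟩ := exists_equiv_fiber lb (fun u : U => u.1.2) (fun b => (hU2 b).symm)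
  have hU1 : ∀ a, Fintype.card {j : X // (e₁ j).1.1 = a} = Fintype.card {i // la i = a} :=
    fun a => by
      rw [← hr a]
      have : Fintype.card {j : X // (e₁ j).1.1 = a} = Fintype.card {u : U // u.1.1 = a} :=
        Fintype.card_congr (e₁.subtypeEquiv (fun j => Iff.rfl))
      rw [this, card_subtype_comp (fun u : U => u.1) (fun p => p.1 = a)]
      simp only [hU]
      exact sum_filter_fst t a
  obtain ⟨w, hw⟩ := exists_equiv_fiber (fun j => (e₁ j).1.1) la (fun a => hU1 a)
  refine ⟨w, ?_⟩
  funext a b
  rw [tab_eq_card, ← hU (a, b)]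
  refine Fintype.card_congr (e₁.subtypeEquiv fun j => ?_)
  rw [hw, ← he₁]

/-- cumulative counts -/
noncomputable def cum (la : X → A) (lb : X → B) (w : Perm X) (P : Set A) (Q : Set B) : ℕ :=
  {j | la (w j) ∈ P ∧ lb j ∈ Q}.ncard

theorem tab_eq_cum (la : X → A) (lb : X → B) (w : Perm X) (a : A) (b : B) :
    tab la lb w a b = cum la lb w {a} {b} := by
  unfold tab cum
  rw [← Set.ncard_coe_finset]
  congr 1
  ext j
  simp

theorem cum_union_left (la : X → A) (lb : X → B) (w : Perm X) (P P' : Set A) (Q : Set B)
    (h : Disjoint P P') : cum la lb w (P ∪ P') Q = cum la lb w P Q + cum la lb w P' Q := by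
  unfold cum
  rw [← Set.ncard_union_eq]
  · congr 1
    ext j
    simp only [Set.mem_union, Set.mem_ofPred_eq]
    tauto
  · rw [Set.disjoint_left]
    rintro j ⟨h1, _⟩ ⟨h2, _⟩
    exact Set.disjoint_left.1 h h1 h2

theorem cum_union_right (la : X → A) (lb : X → B) (w : Perm X) (P : Set A) (Q Q' : Set B)
    (h : Disjoint Q Q') : cum la lb w P (Q ∪ Q') = cum la lb w P Q + cum la lb w P Q' := by
  unfold cum
  rw [← Set.ncard_union_eq]
  · congr 1
    ext j
    simp only [Set.mem_union, Set.mem_ofPred_eq]
    tauto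
  · rw [Set.disjoint_left]
    rintro j ⟨_, h1⟩ ⟨_, h2⟩
    exact Set.disjoint_left.1 h h1 h2

/-- the table is determined by the cumulative counts over upper sets and lower sets -/
theorem tab_eq_of_cum [LinearOrder A] [LinearOrder B] (la : X → A) (lb : X → B) (w w' : Perm X)
    (h : ∀ (P : Set A) (Q : Set B), IsUpperSet P → IsLowerSet Q →
      cum la lb w P Q = cum la lb w' P Q) : tab la lb w = tab la lb w' := by
  funext a b
  rw [tab_eq_cum, tab_eq_cum]
  have hA : Set.Ici a = {a} ∪ Set.Ioi a := by
    ext x; simp [le_iff_eq_or_lt]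
  have hB : Set.Iic b = {b} ∪ Set.Iio b := by
    ext x; simp [le_iff_eq_or_lt]
  have dA : Disjoint ({a} : Set A) (Set.Ioi a) := by simp
  have dB : Disjoint ({b} : Set B) (Set.Iio b) := by simp
  have key : ∀ Q : Set B, IsLowerSet Q → cum la lb w {a} Q = cum la lb w' {a} Q := by
    intro Q hQ
    have h1 := h (Set.Ici a) Q (isUpperSet_Ici a) hQ
    have h2 := h (Set.Ioi a) Q (isUpperSet_Ioi a) hQ
    rw [hA, cum_union_left _ _ _ _ _ _ dA, cum_union_left _ _ _ _ _ _ dA] at h1
    omega
  have h1 := key (Set.Iic b) (isLowerSet_Iic b)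
  have h2 := key (Set.Iio b) (isLowerSet_Iio b)
  rw [hB, cum_union_right _ _ _ _ _ _ dB, cum_union_right _ _ _ _ _ _ dB] at h1
  omega

end tab2

end Cfsg.Agent.Helper42.Unip
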