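import Mathlib
import Cfsg.Agent.Helper42.UnipA
import Cfsg.Agent.Helper42.BruhatB

/-!
# Orbit counting through representatives; rank invariants of block triangular matrices (helper42)

* `card_orbits_eq_of_reps`, `card_orbits_quotient_prod`: counting the orbits on `G/P × G/Q`
  through a complete invariant of a set of double coset representatives.
* `rank_dSet_BT`: for block triangular invertible `p, p'` the rank of the corner
  `D_P * (p * g * p') * D_Q` (upper set `P` of row labels, lower set `Q` of column labels) is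
  the rank of `D_P * g * D_Q`.
* `rank_dSet_pm`: the corner rank of a permutation matrix is a cumulative count.
-/

set_option autoImplicit false
set_option linter.unusedSectionVars false

namespace Cfsg.Agent.Helper42.Unip

open Equiv Matrix

section abstract

theorem card_orbits_eq_of_reps {G Z ι : Type*} [Group G] [MulAction G Z] (r : ι → Z)
    (hsurj : ∀ z, ∃ i, ∃ g : G, g • r i = z)
    (hinj : ∀ i i' (g : G), g • r i = r i' → i = i') :
    Nat.card (MulAction.orbitRel.Quotient G Z) = Nat.card ι := by
  symm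
  refine Nat.card_congr (Equiv.ofBijective
    (fun i => (Quotient.mk'' (r i) : MulAction.orbitRel.Quotient G Z)) ⟨?_, ?_⟩)
  · intro i i' h
    have h' := Quotient.exact' h
    obtain ⟨g, hg⟩ := h'
    exact (hinj i' i g hg).symm
  · intro q
    induction q using Quotient.inductionOn' with | _ z => ?_
    obtain ⟨i, g, hg⟩ := hsurj z
    refine ⟨i, ?_⟩
    apply Quotient.sound'
    exact ⟨g⁻¹, by rw [← hg]; exact inv_smul_smul g (r i)⟩

theorem card_orbits_quotient_prod {G W ι : Type*} [Group G] (P Q : Subgroup G) (ω : W → G)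
    (T : W → ι) (hT : Function.Surjective T)
    (ha : ∀ g : G, ∃ p ∈ P, ∃ w, ∃ q ∈ Q, g = p * ω w * q)
    (hb : ∀ w w', T w = T w' → ∃ p ∈ P, ∃ q ∈ Q, ω w' = p * ω w * q)
    (hc : ∀ w w', ∀ p ∈ P, ∀ q ∈ Q, ω w' = p * ω w * q → T w = T w') :
    Nat.card (MulAction.orbitRel.Quotient G ((G ⧸ P) × (G ⧸ Q))) = Nat.card ι := by
  choose s hs using hT
  refine card_orbits_eq_of_reps
    (fun i => (((1 : G) : G ⧸ P), ((ω (s i) : G) : G ⧸ Q))) ?_ ?_
  · rintro ⟨x, y⟩
    induction x using QuotientGroup.induction_on with | _ x => ?_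
    induction y using QuotientGroup.induction_on with | _ y => ?_
    obtain ⟨p, hp, w, q, hq, hxy⟩ := ha (x⁻¹ * y)
    obtain ⟨p', hp', q', hq', hw⟩ := hb (s (T w)) w (hs (T w))
    refine ⟨T w, x * p * p', ?_⟩
    rw [Prod.smul_mk, MulAction.Quotient.smul_mk, MulAction.Quotient.smul_mk, smul_eq_mul,
      smul_eq_mul]
    refine Prod.ext ?_ ?_
    · rw [QuotientGroup.eq]
      have : (x * p * p' * 1)⁻¹ * x = (p * p')⁻¹ := by group
      rw [this]
      exact P.inv_mem (P.mul_mem hp hp')
    · rw [QuotientGroup.eq]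
      have hy : y = x * (p * ω w * q) := by rw [← hxy]; group
      have : (x * p * p' * ω (s (T w)))⁻¹ * y = q' * q := by
        rw [hy, hw]; group
      rw [this]
      exact Q.mul_mem hq' hq
  · intro i i' g hg
    rw [Prod.smul_mk, MulAction.Quotient.smul_mk, MulAction.Quotient.smul_mk, smul_eq_mul,
      smul_eq_mul] at hg
    have h1 := (Prod.ext_iff.1 hg).1
    have h2 := (Prod.ext_iff.1 hg).2
    rw [QuotientGroup.eq] at h1 h2
    have hgP : g ∈ P := by
      have : g = ((g * 1)⁻¹ * 1)⁻¹ := by group
      rw [this]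
      exact P.inv_mem h1
    have := hc (s i) (s i') g hgP _ h2 (by group)
    rw [hs, hs] at this
    exact this

end abstract

section rank

variable {F : Type*} [Field F] {n : ℕ} {A B : Type*} [LinearOrder A] [LinearOrder B]

/-- the diagonal idempotent of the positions whose label lies in `P` -/
noncomputable def dSet (F : Type*) [Field F] {n : ℕ} {A : Type*} (l : Fin n → A) (P : Set A) :
    Matrix (Fin n) (Fin n) F :=
  Matrix.diagonal ((l ⁻¹' P).indicator 1)

theorem dSet_mul_BT (l : Fin n → A) (P : Set A) (hP : IsUpperSet P)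
    (M : Matrix (Fin n) (Fin n) F) (hM : M.BlockTriangular l) :
    dSet F l P * M = dSet F l P * M * dSet F l P := by
  classical
  ext i j
  unfold dSet
  rw [Matrix.mul_diagonal, Matrix.diagonal_mul]
  by_cases hj : l j ∈ P
  · rw [Set.indicator_of_mem (show j ∈ l ⁻¹' P from hj)]
    simp
  · rw [Set.indicator_of_notMem (show j ∉ l ⁻¹' P from hj), mul_zero]
    by_cases hi : l i ∈ P
    · have hlt : l j < l i := by
        by_contra hcon
        exact hj (hP (not_lt.1 hcon) hi)
      rw [hM hlt, mul_zero]
    · rw [Set.indicator_of_notMem (show i ∉ l ⁻¹' P from hi), zero_mul]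

theorem BT_mul_dSet (l : Fin n → A) (Q : Set A) (hQ : IsLowerSet Q)
    (M : Matrix (Fin n) (Fin n) F) (hM : M.BlockTriangular l) :
    M * dSet F l Q = dSet F l Q * M * dSet F l Q := by
  classical
  ext i j
  unfold dSet
  rw [Matrix.mul_diagonal, Matrix.mul_diagonal, Matrix.diagonal_mul]
  by_cases hj : l j ∈ Q
  · rw [Set.indicator_of_mem (show j ∈ l ⁻¹' Q from hj)]
    by_cases hi : l i ∈ Q
    · rw [Set.indicator_of_mem (show i ∈ l ⁻¹' Q from hi)]
      simp
    · have hlt : l j < l i := by
        by_contra hcon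
        exact hi (hQ (not_lt.1 hcon) hj)
      rw [hM hlt]
      simp
  · rw [Set.indicator_of_notMem (show j ∉ l ⁻¹' Q from hj), mul_zero, mul_zero]

theorem rank_dSet_le (la : Fin n → A) (lb : Fin n → B) (P : Set A) (Q : Set B)
    (hP : IsUpperSet P) (hQ : IsLowerSet Q) (p p' g : Matrix (Fin n) (Fin n) F)
    (hp : p.BlockTriangular la) (hp' : p'.BlockTriangular lb) :
    (dSet F la P * (p * g * p') * dSet F lb Q).rank ≤ (dSet F la P * g * dSet F lb Q).rank := by
  have h : dSet F la P * (p * g * p') * dSet F lb Q =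
      (dSet F la P * p) * (dSet F la P * g * dSet F lb Q) * (p' * dSet F lb Q) := by
    calc dSet F la P * (p * g * p') * dSet F lb Q
        = (dSet F la P * p) * g * (p' * dSet F lb Q) := by simp only [Matrix.mul_assoc]
      _ = (dSet F la P * p * dSet F la P) * g * (dSet F lb Q * p' * dSet F lb Q) := by
          rw [← dSet_mul_BT la P hP p hp, ← BT_mul_dSet lb Q hQ p' hp']
      _ = _ := by simp only [Matrix.mul_assoc]
  rw [h]
  exact (Matrix.rank_mul_le_left _ _).trans (Matrix.rank_mul_le_right _ _)

/-- invariance of the corner ranks -/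
theorem rank_dSet_BT (la : Fin n → A) (lb : Fin n → B) (P : Set A) (Q : Set B)
    (hP : IsUpperSet P) (hQ : IsLowerSet Q) (p p' pi pi' g : Matrix (Fin n) (Fin n) F)
    (hp : p.BlockTriangular la) (hp' : p'.BlockTriangular lb)
    (hpi : pi.BlockTriangular la) (hpi' : pi'.BlockTriangular lb)
    (h1 : pi * p = 1) (h2 : p' * pi' = 1) :
    (dSet F la P * (p * g * p') * dSet F lb Q).rank = (dSet F la P * g * dSet F lb Q).rank := by
  refine le_antisymm (rank_dSet_le la lb P Q hP hQ p p' g hp hp') ?_
  have := rank_dSet_le la lb P Q hP hQ pi pi' (p * g * p') hpi hpi'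
  have e : pi * (p * g * p') * pi' = g := by
    calc pi * (p * g * p') * pi' = (pi * p) * g * (p' * pi') := by simp only [Matrix.mul_assoc]
      _ = g := by rw [h1, h2, Matrix.one_mul, Matrix.mul_one]
  rwa [e] at this

theorem pm_det_isUnit (w : Perm (Fin n)) : IsUnit (pm F w).det := by
  rw [← Matrix.isUnit_iff_isUnit_det, ← permGL_val]
  exact (permGL F n w).isUnit

/-- the corner rank of a permutation matrix -/
theorem rank_dSet_pm (la : Fin n → A) (lb : Fin n → B) (P : Set A) (Q : Set B)
    (w : Perm (Fin n)) :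
    (dSet F la P * pm F w * dSet F lb Q).rank = cum la lb w P Q := by
  classical
  have h1 : dSet F la P * pm F w =
      pm F w * Matrix.diagonal (fun j => (la ⁻¹' P).indicator (1 : Fin n → F) (w j)) := by
    ext i j
    unfold dSet
    rw [Matrix.mul_diagonal, Matrix.diagonal_mul, pm_apply]
    by_cases h : i = w j
    · rw [if_pos h, h]; ring
    · rw [if_neg h]; ring
  rw [h1]
  unfold dSet
  rw [Matrix.mul_assoc, Matrix.diagonal_mul_diagonal,
    Matrix.rank_mul_eq_right_of_isUnit_det _ _ (pm_det_isUnit w), Matrix.rank_diagonal]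
  unfold cum
  rw [Fintype.card_subtype, ← Set.ncard_coe_finset]
  congr 1
  ext j
  simp only [Finset.coe_filter, Finset.mem_univ, true_and, Set.mem_ofPred_eq, ne_eq,
    mul_eq_zero, not_or]
  constructor
  · rintro ⟨h1, h2⟩
    constructor
    · by_contra hcon
      exact h1 (Set.indicator_of_notMem (show w j ∉ la ⁻¹' P from hcon) _)
    · by_contra hcon
      exact h2 (Set.indicator_of_notMem (show j ∉ lb ⁻¹' Q from hcon) _)
  · rintro ⟨h1, h2⟩
    rw [Set.indicator_of_mem (show w j ∈ la ⁻¹' P from h1),
      Set.indicator_of_mem (show j ∈ lb ⁻¹' Q from h2)]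
    simp

end rank

end Cfsg.Agent.Helper42.Unip
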