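import Mathlib
import Cfsg.Prelude.Def_Characters
import Cfsg.Prelude.Def_LinearParabolics
import Cfsg.Agent.S2420
import Cfsg.Agent.Helper42.UnipB
import Cfsg.Agent.Helper76.PermOrbits

/-!
# Orbits of `GL_n(F)` and `Sym(n)` on pairs of flags / pairs of Young cosets (helper42)

Both numbers of orbits equal the number of `ℕ`-valued tables with row sums `α` and column
sums `β`:
* `card_orbits_GL`, `card_orbits_Sym`;
* `classInner_parabolic`, `classInner_young`: the inner products of the permutation characters.
-/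

set_option autoImplicit false
set_option linter.unusedSectionVars false

namespace Cfsg.Agent.Helper42.Unip

open Cfsg Equiv Matrix
open scoped MatrixGroups

variable {n : ℕ}

/-- tables of natural numbers with prescribed row and column sums -/
def Tables (α β : Fin n → ℕ) : Type :=
  {t : Fin n → Fin n → ℕ // (∀ a, ∑ b, t a b = α a) ∧ ∀ b, ∑ a, t a b = β b}

/-- the block label as an element of `Fin n` -/
def labF (α : Fin n → ℕ) (hα : ∑ i, α i = n) (i : Fin n) : Fin n :=
  ⟨compLabel α i, S2420.compLabel_lt α hα i⟩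

theorem card_labF (α : Fin n → ℕ) (hα : ∑ i, α i = n) (a : Fin n) :
    Fintype.card {i // labF α hα i = a} = α a := by
  rw [← S2420.card_block α hα a]
  exact Fintype.card_congr (Equiv.subtypeEquivRight fun i => Fin.ext_iff)

theorem compLabel_mono (α : Fin n → ℕ) : Monotone (compLabel α) := by
  intro i i' h
  unfold compLabel
  refine Finset.card_le_card fun j hj => ?_
  simp only [Finset.mem_filter, Finset.mem_univ, true_and] at hj ⊢
  exact hj.trans h

theorem BT_labF_iff {F : Type*} [Field F] (α : Fin n → ℕ) (hα : ∑ i, α i = n)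
    (M : Matrix (Fin n) (Fin n) F) :
    M.BlockTriangular (labF α hα) ↔ M.BlockTriangular (compLabel α) := by
  constructor
  · intro h i j hij
    exact h (show labF α hα j < labF α hα i from hij)
  · intro h i j hij
    exact h (show compLabel α j < compLabel α i from hij)

theorem mem_young_iff (α : Fin n → ℕ) (hα : ∑ i, α i = n) (σ : Perm (Fin n)) :
    σ ∈ youngSubgroup α ↔ ∀ i, labF α hα (σ i) = labF α hα i := by
  constructor
  · intro h i
    exact Fin.ext (h i)
  · intro h i
    exact Fin.ext_iff.1 (h i)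

/-- the table of a permutation -/
def tabT (α β : Fin n → ℕ) (hα : ∑ i, α i = n) (hβ : ∑ i, β i = n) (w : Perm (Fin n)) :
    Tables α β :=
  ⟨tab (labF α hα) (labF β hβ) w, fun a => by rw [tab_row_sum, card_labF],
    fun b => by rw [tab_col_sum, card_labF]⟩

theorem tabT_surjective (α β : Fin n → ℕ) (hα : ∑ i, α i = n) (hβ : ∑ i, β i = n) :
    Function.Surjective (tabT α β hα hβ) := by
  intro t
  obtain ⟨w, hw⟩ := exists_tab_eq (labF α hα) (labF β hβ) t.1
    (fun a => by rw [t.2.1 a, card_labF]) (fun b => by rw [t.2.2 b, card_labF])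
  exact ⟨w, Subtype.ext hw⟩

/-- orbits of the symmetric group on pairs of Young cosets -/
theorem card_orbits_Sym (α β : Fin n → ℕ) (hα : ∑ i, α i = n) (hβ : ∑ i, β i = n) :
    Nat.card (MulAction.orbitRel.Quotient (Perm (Fin n))
      ((Perm (Fin n) ⧸ youngSubgroup α) × (Perm (Fin n) ⧸ youngSubgroup β))) =
      Nat.card (Tables α β) := by
  refine card_orbits_quotient_prod (youngSubgroup α) (youngSubgroup β) id (tabT α β hα hβ)
    (tabT_surjective α β hα hβ) ?_ ?_ ?_
  · intro g
    exact ⟨1, Subgroup.one_mem _, g, 1, Subgroup.one_mem _, by simp⟩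
  · intro w w' h
    obtain ⟨σ, τ, hσ, hτ, hw⟩ := exists_of_tab_eq _ _ w w' (congrArg Subtype.val h)
    exact ⟨σ, (mem_young_iff α hα σ).2 hσ, τ, (mem_young_iff β hβ τ).2 hτ, hw⟩
  · intro w w' p hp q hq h
    apply Subtype.ext
    change tab _ _ w = tab _ _ w'
    simp only [id] at h
    rw [h]
    exact (tab_mul _ _ p q w ((mem_young_iff α hα p).1 hp) ((mem_young_iff β hβ q).1 hq)).symm

section glside

variable {F : Type*} [Field F]

theorem borel_le_parabolic (α : Fin n → ℕ) : borel F n ≤ parabolicGL n F α := by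
  intro g hg i j hij
  have hji : j < i := by
    by_contra hcon
    exact absurd (compLabel_mono α (not_lt.1 hcon)) (not_le.2 hij)
  exact hg hji

theorem permGL_mem_parabolic (α : Fin n → ℕ) (σ : Perm (Fin n)) (hσ : σ ∈ youngSubgroup α) :
    permGL F n σ ∈ parabolicGL n F α := by
  intro i j hij
  rw [permGL_val, pm_apply, if_neg]
  rintro rfl
  rw [hσ j] at hij
  exact lt_irrefl _ hij

theorem parabolic_val_BT (α : Fin n → ℕ) (hα : ∑ i, α i = n) (p : GL (Fin n) F)
    (hp : p ∈ parabolicGL n F α) :
    (p : Matrix (Fin n) (Fin n) F).BlockTriangular (labF α hα) :=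
  (BT_labF_iff α hα _).2 hp

/-- orbits of the general linear group on pairs of flags -/
theorem card_orbits_GL (α β : Fin n → ℕ) (hα : ∑ i, α i = n) (hβ : ∑ i, β i = n) :
    Nat.card (MulAction.orbitRel.Quotient (GL (Fin n) F)
      ((GL (Fin n) F ⧸ parabolicGL n F α) × (GL (Fin n) F ⧸ parabolicGL n F β))) =
      Nat.card (Tables α β) := by
  refine card_orbits_quotient_prod (parabolicGL n F α) (parabolicGL n F β) (permGL F n)
    (tabT α β hα hβ) (tabT_surjective α β hα hβ) ?_ ?_ ?_
  · intro g
    obtain ⟨u, hu, σ, b, hb, hg⟩ := bruhat_exists g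
    exact ⟨u, borel_le_parabolic α hu, σ, b, borel_le_parabolic β hb, hg⟩
  · intro w w' h
    obtain ⟨σ, τ, hσ, hτ, hw⟩ := exists_of_tab_eq _ _ w w' (congrArg Subtype.val h)
    refine ⟨permGL F n σ, permGL_mem_parabolic α σ ((mem_young_iff α hα σ).2 hσ),
      permGL F n τ, permGL_mem_parabolic β τ ((mem_young_iff β hβ τ).2 hτ), ?_⟩
    rw [hw, map_mul, map_mul]
  · intro w w' p hp q hq h
    apply Subtype.ext
    change tab _ _ w = tab _ _ w'
    refine tab_eq_of_cum _ _ w w' fun P Q hP hQ => ?_
    rw [← rank_dSet_pm (F := F), ← rank_dSet_pm (F := F)]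
    have hval : pm F w' = (p : Matrix (Fin n) (Fin n) F) * pm F w * (q : Matrix (Fin n) (Fin n) F) := by
      rw [← permGL_val, h]
      rfl
    rw [hval]
    symm
    refine rank_dSet_BT _ _ P Q hP hQ _ _ ((p⁻¹ : GL (Fin n) F) : Matrix (Fin n) (Fin n) F)
      ((q⁻¹ : GL (Fin n) F) : Matrix (Fin n) (Fin n) F) _
      (parabolic_val_BT α hα p hp) (parabolic_val_BT β hβ q hq)
      (parabolic_val_BT α hα _ (Subgroup.inv_mem _ hp))
      (parabolic_val_BT β hβ _ (Subgroup.inv_mem _ hq)) ?_ ?_
    · rw [← Units.val_mul, inv_mul_cancel, Units.val_one]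
    · rw [← Units.val_mul, mul_inv_cancel, Units.val_one]

end glside

section inner

open Cfsg.Agent.Helper12.PermCharBasics

theorem classInner_fixedPoint {G : Type*} [Group G] [Fintype G] (H K : Subgroup G) :
    classInner (fixedPointCharacter H) (fixedPointCharacter K) =
      (Nat.card (MulAction.orbitRel.Quotient G ((G ⧸ H) × (G ⧸ K))) : ℂ) := by
  classical
  have : Fintype (G ⧸ H) := Fintype.ofFinite _
  have : Fintype (G ⧸ K) := Fintype.ofFinite _
  exact Helper76.classInner_permChar_permChar (G ⧸ H) (G ⧸ K)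

theorem classInner_parabolic {F : Type*} [Field F] [Fintype (GL (Fin n) F)] (α β : Fin n → ℕ)
    (hα : ∑ i, α i = n) (hβ : ∑ i, β i = n) :
    classInner (fixedPointCharacter (parabolicGL n F α)) (fixedPointCharacter (parabolicGL n F β)) =
      (Nat.card (Tables α β) : ℂ) := by
  rw [classInner_fixedPoint, card_orbits_GL α β hα hβ]

theorem classInner_young (α β : Fin n → ℕ) (hα : ∑ i, α i = n) (hβ : ∑ i, β i = n) :
    classInner (fixedPointCharacter (youngSubgroup α)) (fixedPointCharacter (youngSubgroup β)) =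
      (Nat.card (Tables α β) : ℂ) := by
  rw [classInner_fixedPoint, card_orbits_Sym α β hα hβ]

theorem sum_fixedPoint_eq_classInner {G : Type*} [Group G] [Fintype G] (H K : Subgroup G) :
    (Nat.card G : ℂ)⁻¹ * ∑ g : G, fixedPointCharacter H g * fixedPointCharacter K g =
      classInner (fixedPointCharacter H) (fixedPointCharacter K) := by
  unfold classInner
  congr 1
  refine Finset.sum_congr rfl fun g _ => ?_
  simp [fixedPointCharacter]

end inner

end Cfsg.Agent.Helper42.Unip
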