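import Cfsg.Agent.Helper42.SL2Cent

set_option autoImplicit false

/-!
# Counting solutions of `x² + t x y + y² = 1` over a finite field of characteristic 2
-/

namespace Cfsg.Agent.Helper42

open Finset

variable {F : Type*} [Field F] [Fintype F] [DecidableEq F]

/-- the quadratic form -/
def qform (t : F) (p : F × F) : F := p.1 ^ 2 + p.1 * p.2 * t + p.2 ^ 2

/-- number of roots of `X² + tX + 1` -/
def rootCount (t : F) : ℕ := (univ.filter (fun x : F => x ^ 2 + t * x + 1 = 0)).card

theorem card_fiber_eq [CharP F 2] (t c : F) (hc : c ≠ 0) :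
    (univ.filter (fun p : F × F => qform t p = c)).card =
      (univ.filter (fun p : F × F => qform t p = 1)).card := by
  obtain ⟨s, hs⟩ := FiniteField.isSquare_of_char_two (ringChar.eq F 2) c
  have hs0 : s ≠ 0 := by
    rintro rfl
    rw [mul_zero] at hs
    exact hc hs
  symm
  apply Finset.card_nbij' (fun p => (s * p.1, s * p.2)) (fun p => (s⁻¹ * p.1, s⁻¹ * p.2))
  · intro p hp
    simp only [coe_filter, mem_univ, true_and, Set.mem_ofPred_eq] at hp ⊢
    simp only [qform] at hp ⊢
    rw [hs]
    linear_combination (s * s) * hp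
  · intro p hp
    simp only [coe_filter, mem_univ, true_and, Set.mem_ofPred_eq] at hp ⊢
    simp only [qform] at hp ⊢
    have : s⁻¹ * s⁻¹ * c = 1 := by rw [hs]; field_simp
    rw [← this]
    linear_combination (s⁻¹ * s⁻¹) * hp
  · intro p _
    simp only
    rw [← mul_assoc, ← mul_assoc, inv_mul_cancel₀ hs0, one_mul, one_mul]
  · intro p _
    simp only
    rw [← mul_assoc, ← mul_assoc, mul_inv_cancel₀ hs0, one_mul, one_mul]

theorem qform_eq_zero_iff (t x y : F) :
    qform t (x, y) = 0 ↔ (x = 0 ∧ y = 0) ∨ (y ≠ 0 ∧ (x / y) ^ 2 + t * (x / y) + 1 = 0) := by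
  unfold qform
  constructor
  · intro h
    by_cases hy : y = 0
    · left
      subst hy
      simp only [mul_zero, zero_mul, add_zero, ne_eq, OfNat.ofNat_ne_zero, not_false_eq_true,
        zero_pow] at h
      exact ⟨pow_eq_zero_iff (two_ne_zero) |>.mp h, rfl⟩
    · right
      refine ⟨hy, ?_⟩
      field_simp
      linear_combination h
  · rintro (⟨rfl, rfl⟩ | ⟨hy, h⟩)
    · simp
    · field_simp at h
      linear_combination h

theorem card_fiber_zero (t : F) :
    (univ.filter (fun p : F × F => qform t p = 0)).card = 1 + rootCount t * (Fintype.card F - 1) := by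
  have hset : univ.filter (fun p : F × F => qform t p = 0) =
      insert ((0 : F), (0 : F)) (((univ.filter (fun x : F => x ^ 2 + t * x + 1 = 0)) ×ˢ (univ.erase (0 : F))).image
        (fun r => (r.1 * r.2, r.2))) := by
    ext ⟨x, y⟩
    rw [mem_filter, mem_insert, mem_image, qform_eq_zero_iff]
    constructor
    · rintro ⟨-, (⟨rfl, rfl⟩ | ⟨hy, h⟩)⟩
      · left; rfl
      · right
        refine ⟨(x / y, y), ?_, ?_⟩
        · rw [mem_product, mem_filter, mem_erase]
          exact ⟨⟨mem_univ _, h⟩, hy, mem_univ _⟩
        · simp only [Prod.mk.injEq, and_true]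
          field_simp
    · rintro (h | ⟨⟨ρ, y'⟩, hmem, h⟩)
      · rw [Prod.mk.injEq] at h
        exact ⟨mem_univ _, Or.inl h⟩
      · rw [mem_product, mem_filter, mem_erase] at hmem
        simp only [Prod.mk.injEq] at h
        obtain ⟨rfl, rfl⟩ := h
        refine ⟨mem_univ _, Or.inr ⟨hmem.2.1, ?_⟩⟩
        rw [mul_div_assoc, div_self hmem.2.1, mul_one]
        exact hmem.1.2
  rw [hset, card_insert_of_notMem, card_image_of_injOn, card_product, card_erase_of_mem (mem_univ _),
    card_univ, add_comm]
  · rfl
  · rintro ⟨ρ, y⟩ hρy ⟨ρ', y'⟩ hρy' h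
    rw [mem_coe, mem_product, mem_erase] at hρy hρy'
    simp only [Prod.mk.injEq] at h
    obtain ⟨h1, rfl⟩ := h
    have hy : y ≠ 0 := hρy.2.1
    have : ρ = ρ' := mul_right_cancel₀ hy h1
    rw [this]
  · intro hmem
    rw [mem_image] at hmem
    obtain ⟨⟨ρ, y⟩, hmem, h⟩ := hmem
    rw [mem_product, mem_erase] at hmem
    simp only [Prod.mk.injEq] at h
    exact hmem.2.1 h.2

/-- the number of solutions of the norm equation in characteristic 2 -/
theorem card_normOne_add_rootCount [CharP F 2] (t : F) :
    (univ.filter (fun p : F × F => qform t p = 1)).card + rootCount t = Fintype.card F + 1 := by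
  have hq : 2 ≤ Fintype.card F := Fintype.one_lt_card
  have h1 : (univ : Finset (F × F)).card =
      ∑ c ∈ (univ : Finset F), (univ.filter (fun p : F × F => qform t p = c)).card :=
    Finset.card_eq_sum_card_fiberwise (fun _ _ => mem_coe.mpr (mem_univ _))
  rw [card_univ, Fintype.card_prod, ← Finset.add_sum_erase _ _ (mem_univ (0 : F)), card_fiber_zero] at h1
  have h2 : ∑ c ∈ (univ : Finset F).erase 0, (univ.filter (fun p : F × F => qform t p = c)).card =
      (Fintype.card F - 1) * (univ.filter (fun p : F × F => qform t p = 1)).card := by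
    rw [Finset.sum_congr rfl (fun c hc => card_fiber_eq t c (ne_of_mem_erase hc)), sum_const,
      card_erase_of_mem (mem_univ _), card_univ, smul_eq_mul]
  rw [h2] at h1
  set q := Fintype.card F with hqdef
  set N := (univ.filter (fun p : F × F => qform t p = 1)).card with hN
  set r := rootCount t with hr
  -- q * q = 1 + r * (q - 1) + (q - 1) * N
  obtain ⟨m, hm⟩ : ∃ m, q = m + 1 := ⟨q - 1, by omega⟩
  rw [hm] at h1 ⊢
  simp only [Nat.add_sub_cancel] at h1
  have hm0 : 0 < m := by omega
  have : m * (N + r) = m * (m + 2) := by nlinarith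
  have := Nat.eq_of_mul_eq_mul_left hm0 this
  omega

theorem rootCount_le_two (t : F) : rootCount t ≤ 2 := by
  classical
  unfold rootCount
  have hp : (Polynomial.X ^ 2 + Polynomial.C t * Polynomial.X + 1 : Polynomial F).natDegree = 2 := by
    compute_degree!
  have hp0 : (Polynomial.X ^ 2 + Polynomial.C t * Polynomial.X + 1 : Polynomial F) ≠ 0 := by
    intro h
    rw [h] at hp
    simp at hp
  have hsub : univ.filter (fun x : F => x ^ 2 + t * x + 1 = 0) ⊆
      (Polynomial.X ^ 2 + Polynomial.C t * Polynomial.X + 1 : Polynomial F).roots.toFinset := by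
    intro x hx
    simp only [mem_filter, mem_univ, true_and] at hx
    rw [Multiset.mem_toFinset, Polynomial.mem_roots hp0]
    simp [hx]
  calc _ ≤ ((Polynomial.X ^ 2 + Polynomial.C t * Polynomial.X + 1 : Polynomial F).roots.toFinset).card :=
        card_le_card hsub
    _ ≤ Multiset.card (Polynomial.X ^ 2 + Polynomial.C t * Polynomial.X + 1 : Polynomial F).roots :=
        Multiset.toFinset_card_le _
    _ ≤ 2 := le_trans (Polynomial.card_roots' _) (le_of_eq hp)

theorem rootCount_zero [CharP F 2] : rootCount (0 : F) = 1 := by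
  unfold rootCount
  have : univ.filter (fun x : F => x ^ 2 + 0 * x + 1 = 0) = {1} := by
    ext x
    simp only [mem_filter, mem_univ, true_and, mem_singleton, zero_mul, add_zero]
    constructor
    · intro h
      have h1 : (x + 1) ^ 2 = 0 := by
        have : (x + 1) ^ 2 = x ^ 2 + 1 + 2 * x := by ring
        rw [this, h, CharTwo.two_eq_zero]; ring
      have := pow_eq_zero_iff (two_ne_zero) |>.mp h1
      have h2 : x = -1 := eq_neg_of_add_eq_zero_left this
      rw [h2, CharTwo.neg_eq]
    · rintro rfl
      have : (1 : F) ^ 2 + 1 = 2 := by norm_num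
      rw [this, CharTwo.two_eq_zero]
  rw [this, card_singleton]

theorem rootCount_of_root [CharP F 2] (l : F) (hl0 : l ≠ 0) (hl1 : l ≠ 1) : rootCount (l + l⁻¹) = 2 := by
  apply le_antisymm (rootCount_le_two _)
  unfold rootCount
  have hne : l ≠ l⁻¹ := by
    intro h
    have h1 : l * l = 1 := by
      have := congrArg (fun z => l * z) h
      simpa [hl0] using this
    have h2 : (l + 1) ^ 2 = 0 := by
      have : (l + 1) ^ 2 = l * l + 1 + 2 * l := by ring
      rw [this, h1, CharTwo.two_eq_zero]
      have : (1 : F) + 1 = 2 := by norm_num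
      rw [this, CharTwo.two_eq_zero]; ring
    have := pow_eq_zero_iff (two_ne_zero) |>.mp h2
    have h3 : l = -1 := eq_neg_of_add_eq_zero_left this
    rw [CharTwo.neg_eq] at h3
    exact hl1 h3
  have hsub : ({l, l⁻¹} : Finset F) ⊆ univ.filter (fun x : F => x ^ 2 + (l + l⁻¹) * x + 1 = 0) := by
    intro x hx
    simp only [mem_insert, mem_singleton] at hx
    simp only [mem_filter, mem_univ, true_and]
    rcases hx with rfl | rfl
    · have : x ^ 2 + (x + x⁻¹) * x + 1 = 2 * x ^ 2 + 2 := by field_simp; ring
      rw [this, CharTwo.two_eq_zero]; ring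
    · have : l⁻¹ ^ 2 + (l + l⁻¹) * l⁻¹ + 1 = 2 * l⁻¹ ^ 2 + 2 := by field_simp; ring
      rw [this, CharTwo.two_eq_zero]; ring
  calc 2 = ({l, l⁻¹} : Finset F).card := (card_pair hne).symm
    _ ≤ _ := card_le_card hsub

theorem exists_rootCount_eq_zero [CharP F 2] : ∃ t : F, rootCount t = 0 := by
  by_contra hcon
  push Not at hcon
  -- count pairs (t, x) with x² + t x + 1 = 0
  have hcount : ((univ : Finset (F × F)).filter (fun p => p.2 ^ 2 + p.1 * p.2 + 1 = 0)).card =
      ∑ t ∈ (univ : Finset F), rootCount t := by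
    rw [Finset.card_eq_sum_card_fiberwise (f := fun p : F × F => p.1) (t := univ)
      (fun _ _ => mem_coe.mpr (mem_univ _))]
    apply Finset.sum_congr rfl
    intro t _
    unfold rootCount
    apply Finset.card_nbij' (fun p => p.2) (fun x => (t, x))
    · intro p hp
      simp only [coe_filter, mem_filter, mem_univ, true_and, Set.mem_ofPred_eq] at hp ⊢
      rw [← hp.2]; exact hp.1
    · intro x hx
      simp only [coe_filter, mem_filter, mem_univ, true_and, Set.mem_ofPred_eq, and_true] at hx ⊢
      exact hx
    · intro p hp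
      simp only [coe_filter, mem_filter, mem_univ, true_and, Set.mem_ofPred_eq] at hp
      exact Prod.ext hp.2.symm rfl
    · intro x _
      rfl
  have hle : ((univ : Finset (F × F)).filter (fun p => p.2 ^ 2 + p.1 * p.2 + 1 = 0)).card ≤
      ((univ : Finset F).erase 0).card := by
    apply Finset.card_le_card_of_injOn (fun p => p.2)
    · intro p hp
      simp only [coe_filter, mem_univ, true_and, Set.mem_ofPred_eq] at hp
      simp only [coe_erase, coe_univ, Set.mem_sdiff, Set.mem_univ, Set.mem_singleton_iff, true_and]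
      intro h0
      rw [h0] at hp
      simp at hp
    · intro p hp p' hp' h
      simp only [coe_filter, mem_univ, true_and, Set.mem_ofPred_eq] at hp hp'
      simp only at h
      have hx0 : p.2 ≠ 0 := by
        intro h0
        rw [h0] at hp
        simp at hp
      have : p.1 * p.2 = p'.1 * p.2 := by
        rw [← h] at hp'
        linear_combination hp - hp'
      exact Prod.ext (mul_right_cancel₀ hx0 this) h
  rw [hcount, card_erase_of_mem (mem_univ _), card_univ] at hle
  have hge : Fintype.card F ≤ ∑ t ∈ (univ : Finset F), rootCount t := by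
    calc Fintype.card F = ∑ _t ∈ (univ : Finset F), 1 := by simp
      _ ≤ _ := Finset.sum_le_sum (fun t _ => Nat.one_le_iff_ne_zero.mpr (hcon t))
  have : 0 < Fintype.card F := Fintype.card_pos
  omega

end Cfsg.Agent.Helper42
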