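import Mathlib
import Cfsg.Agent.Helper18.TorusCard

/-!
# helper80 Tor piece (IDX): `card_ker_zact_eq`

If `A * B = B * A = N₀ • 1` over `ℤ` with `N₀ ∣ #K - 1`, then the kernel of `zact B` on `(Kˣ)^l`
has exactly `|det B|` elements.
-/

set_option autoImplicit false

namespace Cfsg.Agent.Helper42.Tor

open Cfsg.Agent.Helper18 (zact)

section IDX

variable {G : Type*} [CommGroup G] {l : ℕ}

/-- the tuple `(γ ^ u j)_j` -/
def gpow (γ : G) (u : Fin l → ℤ) : Fin l → G := fun j => γ ^ u j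

theorem gpow_apply (γ : G) (u : Fin l → ℤ) (j : Fin l) : gpow γ u j = γ ^ u j := rfl

theorem gpow_add (γ : G) (u v : Fin l → ℤ) : gpow γ (u + v) = gpow γ u * gpow γ v := by
  funext j
  simp only [gpow_apply, Pi.add_apply, Pi.mul_apply, zpow_add]

theorem gpow_zero (γ : G) : gpow γ (0 : Fin l → ℤ) = 1 := by
  funext j
  simp only [gpow_apply, Pi.zero_apply, zpow_zero, Pi.one_apply]

theorem zact_gpow (γ : G) (M : Matrix (Fin l) (Fin l) ℤ) (u : Fin l → ℤ) :
    zact M (gpow γ u) = gpow γ (Matrix.vecMul u M) := by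
  funext j
  rw [Cfsg.Agent.Helper18.zact_apply, gpow_apply]
  have : Matrix.vecMul u M j = ∑ i, u i * M i j := by
    simp only [Matrix.vecMul, dotProduct]
  rw [this, Cfsg.Agent.Helper18.zpow_finset_sum]
  apply Finset.prod_congr rfl
  intro i _
  rw [gpow_apply, zpow_mul]

theorem gpow_eq_one_iff (γ : G) (u : Fin l → ℤ) :
    gpow γ u = 1 ↔ ∀ j, (orderOf γ : ℤ) ∣ u j := by
  constructor
  · intro h j
    have := congrFun h j
    rw [gpow_apply, Pi.one_apply] at this
    exact orderOf_dvd_iff_zpow_eq_one.mpr this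
  · intro h
    funext j
    rw [gpow_apply, Pi.one_apply]
    exact orderOf_dvd_iff_zpow_eq_one.mp (h j)

theorem gpow_surjective (γ : G) (hγ : ∀ x : G, x ∈ Subgroup.zpowers γ) (c : Fin l → G) :
    ∃ u : Fin l → ℤ, gpow γ u = c := by
  choose u hu using fun j => Subgroup.mem_zpowers_iff.mp (hγ (c j))
  exact ⟨u, funext hu⟩

end IDX

theorem card_ker_zact_eq {K : Type*} [Field K] [Fintype K] {l : ℕ} (A B : Matrix (Fin l) (Fin l) ℤ)
    (N₀ : ℕ) (hN₀ : 0 < N₀) (hAB : A * B = (N₀ : ℤ) • (1 : Matrix (Fin l) (Fin l) ℤ))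
    (hBA : B * A = (N₀ : ℤ) • (1 : Matrix (Fin l) (Fin l) ℤ)) (hdvd : N₀ ∣ Fintype.card K - 1) :
    Nat.card (zact B : (Fin l → Kˣ) →* (Fin l → Kˣ)).ker = B.det.natAbs := by
  classical
  obtain ⟨γ, hγ⟩ := IsCyclic.exists_generator (α := Kˣ)
  have hord : orderOf γ = Fintype.card K - 1 := by
    rw [orderOf_eq_card_of_forall_mem_zpowers hγ, Nat.card_units, Nat.card_eq_fintype_card]
  obtain ⟨N₁, hN₁⟩ := hdvd
  have hn_pos : 0 < Fintype.card K - 1 := by
    have := Fintype.one_lt_card (α := K); omega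
  have hN₁_pos : 0 < N₁ := by
    rcases Nat.eq_zero_or_pos N₁ with h | h
    · rw [h, mul_zero] at hN₁; omega
    · exact h
  have hordZ : (orderOf γ : ℤ) = (N₀ : ℤ) * (N₁ : ℤ) := by
    rw [hord, hN₁]; push_cast; ring
  have hN₀Z : (N₀ : ℤ) ≠ 0 := by exact_mod_cast hN₀.ne'
  have hN₁Z : (N₁ : ℤ) ≠ 0 := by exact_mod_cast hN₁_pos.ne'
  have hvAB : ∀ w : Fin l → ℤ, Matrix.vecMul (Matrix.vecMul w A) B = (N₀ : ℤ) • w := by
    intro w
    rw [Matrix.vecMul_vecMul, hAB, Matrix.vecMul_smul, Matrix.vecMul_one]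
  have hvBA : ∀ w : Fin l → ℤ, Matrix.vecMul (Matrix.vecMul w B) A = (N₀ : ℤ) • w := by
    intro w
    rw [Matrix.vecMul_vecMul, hBA, Matrix.vecMul_smul, Matrix.vecMul_one]
  -- the parametrisation of the kernel
  have hmap_add : ∀ w w' : Fin l → ℤ,
      gpow γ ((N₁ : ℤ) • Matrix.vecMul (w + w') A) =
        gpow γ ((N₁ : ℤ) • Matrix.vecMul w A) * gpow γ ((N₁ : ℤ) • Matrix.vecMul w' A) := by
    intro w w'
    rw [Matrix.add_vecMul, smul_add, gpow_add]
  let ψ : (Fin l → ℤ) →+ Additive (Fin l → Kˣ) :=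
    { toFun := fun w => Additive.ofMul (gpow γ ((N₁ : ℤ) • Matrix.vecMul w A))
      map_zero' := by
        show Additive.ofMul (gpow γ ((N₁ : ℤ) • Matrix.vecMul (0 : Fin l → ℤ) A)) = 0
        rw [Matrix.zero_vecMul, smul_zero, gpow_zero]; rfl
      map_add' := by
        intro w w'
        show Additive.ofMul (gpow γ ((N₁ : ℤ) • Matrix.vecMul (w + w') A)) = _
        rw [hmap_add]; rfl }
  have hψ : ∀ w, ψ w = Additive.ofMul (gpow γ ((N₁ : ℤ) • Matrix.vecMul w A)) := fun _ => rfl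
  -- Claim 1: the range of ψ is the kernel of `zact B`
  have hrange : ∀ c : Fin l → Kˣ, c ∈ (zact B : (Fin l → Kˣ) →* (Fin l → Kˣ)).ker ↔
      ∃ w : Fin l → ℤ, gpow γ ((N₁ : ℤ) • Matrix.vecMul w A) = c := by
    intro c
    rw [MonoidHom.mem_ker]
    constructor
    · intro hc
      obtain ⟨u, rfl⟩ := gpow_surjective γ hγ c
      rw [zact_gpow, gpow_eq_one_iff] at hc
      choose w hw using hc
      refine ⟨w, ?_⟩
      have h1 : Matrix.vecMul u B = (orderOf γ : ℤ) • w := by
        funext j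
        rw [hw j]; rfl
      have h2 : (N₀ : ℤ) • u = (N₀ : ℤ) • ((N₁ : ℤ) • Matrix.vecMul w A) := by
        rw [← hvBA u, h1, Matrix.smul_vecMul, hordZ, mul_smul]
      have h3 : u = (N₁ : ℤ) • Matrix.vecMul w A := by
        funext j
        have := congrFun h2 j
        simp only [Pi.smul_apply, smul_eq_mul] at this
        simp only [Pi.smul_apply, smul_eq_mul]
        exact mul_left_cancel₀ hN₀Z this
      rw [← h3]
    · rintro ⟨w, rfl⟩
      rw [zact_gpow, gpow_eq_one_iff]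
      intro j
      rw [Matrix.smul_vecMul, hvAB, hordZ]
      simp only [Pi.smul_apply, smul_eq_mul]
      exact ⟨w j, by ring⟩
  -- Claim 2: the kernel of ψ is the image of `· ᵥ* B`
  have hker : ∀ w : Fin l → ℤ, gpow γ ((N₁ : ℤ) • Matrix.vecMul w A) = 1 ↔
      ∃ v : Fin l → ℤ, Matrix.vecMul v B = w := by
    intro w
    rw [gpow_eq_one_iff]
    constructor
    · intro h
      have h' : ∀ j, (N₀ : ℤ) ∣ Matrix.vecMul w A j := by
        intro j
        have := h j
        rw [hordZ, mul_comm] at this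
        simp only [Pi.smul_apply, smul_eq_mul] at this
        exact (mul_dvd_mul_iff_left hN₁Z).mp this
      choose v hv using h'
      refine ⟨v, ?_⟩
      have h1 : Matrix.vecMul w A = (N₀ : ℤ) • v := by
        funext j
        rw [hv j]; rfl
      have h2 : (N₀ : ℤ) • w = (N₀ : ℤ) • Matrix.vecMul v B := by
        rw [← hvAB w, h1, Matrix.smul_vecMul]
      funext j
      have := congrFun h2 j
      simp only [Pi.smul_apply, smul_eq_mul] at this
      exact (mul_left_cancel₀ hN₀Z this).symm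
    · rintro ⟨v, rfl⟩ j
      rw [hvBA, hordZ]
      simp only [Pi.smul_apply, smul_eq_mul]
      exact ⟨v j, by ring⟩
  -- injectivity of `· ᵥ* B`
  have hinj : Function.Injective (Matrix.vecMulLinear B) := by
    rw [← LinearMap.ker_eq_bot, LinearMap.ker_eq_bot']
    intro v hv
    rw [Matrix.vecMulLinear_apply] at hv
    have h := hvBA v
    rw [hv, Matrix.zero_vecMul] at h
    funext j
    have := congrFun h j
    simp only [Pi.smul_apply, smul_eq_mul, Pi.zero_apply] at this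
    rcases mul_eq_zero.mp this.symm with h0 | h0
    · exact absurd h0 hN₀Z
    · exact h0
  -- counting
  set N : Submodule ℤ (Fin l → ℤ) := LinearMap.range (Matrix.vecMulLinear B) with hN
  have hkerN : ψ.ker = N.toAddSubgroup := by
    ext w
    rw [AddMonoidHom.mem_ker, hψ, Submodule.mem_toAddSubgroup, hN, LinearMap.mem_range]
    have : Additive.ofMul (gpow γ ((N₁ : ℤ) • Matrix.vecMul w A)) = 0 ↔
        gpow γ ((N₁ : ℤ) • Matrix.vecMul w A) = 1 := Iff.rfl
    rw [this, hker]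
    rfl
  have hcard1 : Nat.card (zact B : (Fin l → Kˣ) →* (Fin l → Kˣ)).ker = Nat.card ψ.range := by
    apply Nat.card_congr
    refine (Equiv.subtypeEquiv Additive.toMul ?_).symm
    intro a
    rw [AddMonoidHom.mem_range, hrange]
    constructor
    · rintro ⟨w, rfl⟩
      exact ⟨w, rfl⟩
    · rintro ⟨w, hw⟩
      exact ⟨w, by rw [hψ, hw]; rfl⟩
  have hcard2 : Nat.card ψ.range = Nat.card ((Fin l → ℤ) ⧸ N) := by
    rw [← AddSubgroup.index_ker, hkerN]
    rfl
  let e : (Fin l → ℤ) ≃ₗ[ℤ] N := LinearEquiv.ofInjective (Matrix.vecMulLinear B) hinj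
  have hdet := Submodule.natAbs_det_equiv N e
  have hcomp : N.subtype ∘ₗ AddMonoidHom.toIntLinearMap ((e : (Fin l → ℤ) →+ N)) =
      Matrix.toLin' B.transpose := by
    apply LinearMap.ext
    intro x
    rw [Matrix.toLin'_apply, Matrix.mulVec_transpose]
    rfl
  rw [hcard1, hcard2, ← hdet, hcomp, LinearMap.det_toLin', Matrix.det_transpose]

end Cfsg.Agent.Helper42.Tor
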