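import Mathlib

set_option autoImplicit false
set_option linter.unusedSectionVars false

/-!
# `P / P'` is elementary abelian for Sylow subgroups of symmetric and alternating groups

The explicit Sylow subgroup `C_p^m ⋊ P_m` of `Sym(Fin m × ZMod p)`.
-/

namespace Cfsg.Agent.Helper42

open Equiv

section general

/-- `G / G'` has exponent dividing `p` -/
def EA (p : ℕ) (G : Type*) [Group G] : Prop := ∀ x : G, x ^ p ∈ commutator G

theorem pow_mem_commutator_of_mul {G : Type*} [Group G] (p : ℕ) {b h : G}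
    (hb : b ^ p ∈ commutator G) (hh : h ^ p ∈ commutator G) : (b * h) ^ p ∈ commutator G := by
  rw [← Abelianization.ker_of, MonoidHom.mem_ker] at *
  rw [map_pow, map_mul, mul_pow, ← map_pow, ← map_pow, hb, hh, one_mul]

theorem map_commutator_le {G G' : Type*} [Group G] [Group G'] (f : G →* G') :
    (commutator G).map f ≤ commutator G' := by
  rw [commutator_def, commutator_def, Subgroup.map_commutator]
  exact Subgroup.commutator_mono le_top le_top

theorem EA.of_mulEquiv {p : ℕ} {G G' : Type*} [Group G] [Group G'] (e : G ≃* G') (h : EA p G) :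
    EA p G' := by
  intro x
  have h1 := h (e.symm x)
  have h2 : e.toMonoidHom ((e.symm x) ^ p) ∈ commutator G' :=
    map_commutator_le e.toMonoidHom ⟨_, h1, rfl⟩
  rw [map_pow] at h2
  simpa using h2

theorem EA.of_subsingleton {p : ℕ} {G : Type*} [Group G] [Subsingleton G] : EA p G := by
  intro x
  rw [Subsingleton.elim (x ^ p) 1]
  exact Subgroup.one_mem _

end general

section wr

variable {β : Type*} [DecidableEq β] [Fintype β] {p : ℕ} [Fact p.Prime]

/-- translation of the fibres of `β × ZMod p → β` -/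
def tr (f : β → ZMod p) : Perm (β × ZMod p) := Equiv.prodCongrRight (fun i => Equiv.addRight (f i))

/-- permutation of the fibres -/
def lf (p : ℕ) (σ : Perm β) : Perm (β × ZMod p) := Equiv.prodCongrLeft (fun _ => σ)

theorem tr_apply (f : β → ZMod p) (i : β) (t : ZMod p) : tr f (i, t) = (i, t + f i) := rfl

theorem lf_apply (σ : Perm β) (i : β) (t : ZMod p) : lf p σ (i, t) = (σ i, t) := rfl

theorem tr_add (f g : β → ZMod p) : tr (f + g) = tr f * tr g := by
  ext ⟨i, t⟩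
  · rfl
  · simp only [Perm.mul_apply, tr_apply, Pi.add_apply]
    ring

theorem tr_zero : tr (0 : β → ZMod p) = 1 := by
  ext ⟨i, t⟩
  · rfl
  · simp [tr_apply]

theorem tr_neg (f : β → ZMod p) : tr (-f) = (tr f)⁻¹ := by
  rw [eq_inv_iff_mul_eq_one, ← tr_add, neg_add_cancel, tr_zero]

theorem lf_mul (σ τ : Perm β) : lf p (σ * τ) = lf p σ * lf p τ := by
  ext ⟨i, t⟩ <;> rfl

theorem lf_one : lf p (1 : Perm β) = 1 := by
  ext ⟨i, t⟩ <;> rfl

theorem lf_inv (σ : Perm β) : lf p σ⁻¹ = (lf p σ)⁻¹ := by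
  rw [eq_inv_iff_mul_eq_one, ← lf_mul, inv_mul_cancel, lf_one]

theorem lf_tr (σ : Perm β) (f : β → ZMod p) : lf p σ * tr f = tr (f ∘ σ.symm) * lf p σ := by
  ext ⟨i, t⟩
  · rfl
  · simp [Perm.mul_apply, tr_apply, lf_apply]

theorem tr_pow (f : β → ZMod p) (k : ℕ) : tr f ^ k = tr (k • f) := by
  induction k with
  | zero => rw [pow_zero, zero_smul, tr_zero]
  | succ k ih => rw [pow_succ, ih, ← tr_add, succ_nsmul]

theorem tr_pow_p (f : β → ZMod p) : tr f ^ p = 1 := by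
  rw [tr_pow]
  have : p • f = 0 := by
    ext i
    simp
  rw [this, tr_zero]

theorem tr_lf_inj {f f' : β → ZMod p} {σ σ' : Perm β} (h : tr f * lf p σ = tr f' * lf p σ') :
    f = f' ∧ σ = σ' := by
  have hσ : σ = σ' := by
    ext i
    have := congrArg (fun g : Perm (β × ZMod p) => (g (i, 0)).1) h
    simpa [Perm.mul_apply, tr_apply, lf_apply] using this
  subst hσ
  refine ⟨?_, rfl⟩
  ext i
  have := congrArg (fun g : Perm (β × ZMod p) => (g (σ.symm i, 0)).2) h
  simpa [Perm.mul_apply, tr_apply, lf_apply] using this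

/-- the group `F ⋊ K` of permutations `tr f * lf σ` -/
def wr (F : AddSubgroup (β → ZMod p)) (K : Subgroup (Perm β))
    (hFK : ∀ σ ∈ K, ∀ f ∈ F, f ∘ σ.symm ∈ F) : Subgroup (Perm (β × ZMod p)) where
  carrier := {g | ∃ f ∈ F, ∃ σ ∈ K, g = tr f * lf p σ}
  mul_mem' := by
    rintro _ _ ⟨f, hf, σ, hσ, rfl⟩ ⟨f', hf', σ', hσ', rfl⟩
    refine ⟨f + f' ∘ σ.symm, F.add_mem hf (hFK σ hσ f' hf'), σ * σ', K.mul_mem hσ hσ', ?_⟩
    rw [tr_add, lf_mul, mul_assoc, ← mul_assoc (lf p σ), lf_tr]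
    simp only [mul_assoc]
  one_mem' := ⟨0, F.zero_mem, 1, K.one_mem, by rw [tr_zero, lf_one, one_mul]⟩
  inv_mem' := by
    rintro _ ⟨f, hf, σ, hσ, rfl⟩
    refine ⟨(-f) ∘ (σ⁻¹).symm, hFK σ⁻¹ (K.inv_mem hσ) (-f) (F.neg_mem hf), σ⁻¹, K.inv_mem hσ, ?_⟩
    rw [← lf_tr, mul_inv_rev, tr_neg, lf_inv]

theorem mem_wr {F : AddSubgroup (β → ZMod p)} {K : Subgroup (Perm β)}
    {hFK : ∀ σ ∈ K, ∀ f ∈ F, f ∘ σ.symm ∈ F} {g : Perm (β × ZMod p)} :
    g ∈ wr F K hFK ↔ ∃ f ∈ F, ∃ σ ∈ K, g = tr f * lf p σ := Iff.rfl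

theorem card_wr (F : AddSubgroup (β → ZMod p)) (K : Subgroup (Perm β))
    (hFK : ∀ σ ∈ K, ∀ f ∈ F, f ∘ σ.symm ∈ F) :
    Nat.card (wr F K hFK) = Nat.card F * Nat.card K := by
  rw [← Nat.card_prod]
  symm
  apply Nat.card_congr
  refine Equiv.ofBijective (fun x : F × K => ⟨tr x.1.1 * lf p x.2.1, x.1.1, x.1.2, x.2.1, x.2.2, rfl⟩) ⟨?_, ?_⟩
  · rintro ⟨⟨f, hf⟩, ⟨σ, hσ⟩⟩ ⟨⟨f', hf'⟩, ⟨σ', hσ'⟩⟩ h
    have h' : tr f * lf p σ = tr f' * lf p σ' := congrArg Subtype.val h
    obtain ⟨rfl, rfl⟩ := tr_lf_inj h'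
    rfl
  · rintro ⟨g, f, hf, σ, hσ, rfl⟩
    exact ⟨⟨⟨f, hf⟩, ⟨σ, hσ⟩⟩, rfl⟩

/-- `EA` passes from `K` to `F ⋊ K` -/
theorem EA_wr (F : AddSubgroup (β → ZMod p)) (K : Subgroup (Perm β))
    (hFK : ∀ σ ∈ K, ∀ f ∈ F, f ∘ σ.symm ∈ F) (hK : EA p K) : EA p (wr F K hFK) := by
  rintro ⟨g, f, hf, σ, hσ, rfl⟩
  have hb_mem : tr f ∈ wr F K hFK := ⟨f, hf, 1, K.one_mem, by rw [lf_one, mul_one]⟩
  have hh_mem : lf p σ ∈ wr F K hFK := ⟨0, F.zero_mem, σ, hσ, by rw [tr_zero, one_mul]⟩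
  have hsplit : (⟨tr f * lf p σ, f, hf, σ, hσ, rfl⟩ : wr F K hFK) = ⟨tr f, hb_mem⟩ * ⟨lf p σ, hh_mem⟩ := rfl
  rw [hsplit]
  apply pow_mem_commutator_of_mul
  · have : (⟨tr f, hb_mem⟩ : wr F K hFK) ^ p = 1 := by
      apply Subtype.ext
      rw [Subgroup.coe_pow]
      exact tr_pow_p f
    rw [this]
    exact Subgroup.one_mem _
  · let ψ : ↥K →* ↥(wr F K hFK) :=
      { toFun := fun τ => ⟨lf p τ.1, 0, F.zero_mem, τ.1, τ.2, by rw [tr_zero, one_mul]⟩
        map_one' := Subtype.ext lf_one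
        map_mul' := fun a b => Subtype.ext (lf_mul a.1 b.1) }
    have h1 := hK ⟨σ, hσ⟩
    have h2 : ψ (⟨σ, hσ⟩ ^ p) ∈ commutator (wr F K hFK) := map_commutator_le ψ ⟨_, h1, rfl⟩
    rw [map_pow] at h2
    exact h2

end wr

theorem factorization_card_perm (p n : ℕ) [hp : Fact p.Prime] :
    (Nat.card (Perm (Fin n))).factorization p = n / p + (Nat.card (Perm (Fin (n / p)))).factorization p := by
  rw [Nat.card_perm, Nat.card_perm, Nat.card_fin, Nat.card_fin, Nat.factorization_def _ hp.out,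
    Nat.factorization_def _ hp.out, ← padicValNat_mul_div_factorial, padicValNat_factorial_mul,
    add_comm]

/-- the top additive subgroup is invariant -/
theorem top_invariant {β : Type*} {p : ℕ} (K : Subgroup (Perm β)) :
    ∀ σ ∈ K, ∀ f ∈ (⊤ : AddSubgroup (β → ZMod p)), f ∘ σ.symm ∈ (⊤ : AddSubgroup (β → ZMod p)) :=
  fun _ _ _ _ => AddSubgroup.mem_top _

theorem card_std (p n : ℕ) [hp : Fact p.Prime] (Pm : Sylow p (Perm (Fin (n / p))))
    (ι : Fin (n / p) × ZMod p ↪ Fin n) :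
    Nat.card ((wr (⊤ : AddSubgroup (Fin (n / p) → ZMod p)) (Pm : Subgroup (Perm (Fin (n / p))))
      (top_invariant _)).map (Perm.viaEmbeddingHom ι)) =
      p ^ (Nat.card (Perm (Fin n))).factorization p := by
  rw [Subgroup.card_map_of_injective (Perm.viaEmbeddingHom_injective ι), card_wr,
    Pm.card_eq_multiplicity, factorization_card_perm p n, pow_add]
  congr 1
  rw [AddSubgroup.card_top, Nat.card_fun, Nat.card_zmod, Nat.card_fin]

theorem exists_embedding (p n : ℕ) [hp : Fact p.Prime] :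
    Nonempty (Fin (n / p) × ZMod p ↪ Fin n) := by
  apply Function.Embedding.nonempty_of_card_le
  rw [Fintype.card_prod, Fintype.card_fin, ZMod.card, Fintype.card_fin]
  exact Nat.div_mul_le_self n p

/-- Sylow subgroups of symmetric groups have elementary abelian abelianization. -/
theorem sylow_perm_EA (p : ℕ) [hp : Fact p.Prime] (n : ℕ) :
    ∀ P : Sylow p (Perm (Fin n)), EA p (P : Subgroup (Perm (Fin n))) := by
  induction n using Nat.strong_induction_on with
  | _ n ih =>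
    intro P
    rcases Nat.eq_zero_or_pos n with h0 | hpos
    · subst h0
      exact EA.of_subsingleton
    · have hlt : n / p < n := Nat.div_lt_self hpos hp.out.one_lt
      let Pm : Sylow p (Perm (Fin (n / p))) := default
      have hPm := ih (n / p) hlt Pm
      obtain ⟨ι⟩ := exists_embedding p n
      have hW := EA_wr (⊤ : AddSubgroup (Fin (n / p) → ZMod p)) (Pm : Subgroup (Perm (Fin (n / p))))
        (top_invariant _) hPm
      let Q : Sylow p (Perm (Fin n)) := Sylow.ofCard _ (card_std p n Pm ι)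
      have hQ : EA p (Q : Subgroup (Perm (Fin n))) :=
        EA.of_mulEquiv (Subgroup.equivMapOfInjective _ _ (Perm.viaEmbeddingHom_injective ι)) hW
      exact EA.of_mulEquiv (Q.equiv P) hQ


end Cfsg.Agent.Helper42
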