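import Cfsg.Agent.Helper25.FSwan.Defs
import Cfsg.Agent.Helper37.FS_INFL1
import Cfsg.Agent.Helper76.FS_PREG

/-!
# Fong–Swan farm (helper25, S4440, #15059), piece (INFL2) (helper42)

Inflation of irreducible Brauer characters and of Brauer constituents along a surjection whose
kernel has order prime to `p`.
-/

set_option autoImplicit false
set_option linter.unusedSectionVars false
set_option linter.unusedVariables false

namespace Cfsg.Agent.Helper42.FS

open Cfsg Cfsg.Agent.Helper16 Cfsg.Agent.Helper16.DT Cfsg.Agent.Helper25.FS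

universe u

variable {p : ℕ} [Fact p.Prime] {M : Ideal AlgInt} [M.IsMaximal] {G : Type u} [Group G]

/-- (INFL) inflation of irreducible Brauer characters along a surjection with kernel of order prime
to `p` (invariant subspaces of `ρ.comp f` are those of `ρ`). -/
theorem IBr_comp_of_surjective {A B : Type u} [Group A] [Group B] (f : A →* B)
    (hf : Function.Surjective f) [Finite f.ker] (h : ¬ p ∣ Nat.card f.ker) {φ : B → ℂ}
    (hφ : φ ∈ IBr p M B) : φ ∘ f ∈ IBr p M A := by
  obtain ⟨n, ρ, hρ, rfl⟩ := hφ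
  refine ⟨n, ρ.comp f, ⟨hρ.1, ?_⟩, ?_⟩
  · intro W hW
    refine hρ.2 W ?_
    intro b w hw
    obtain ⟨a, rfl⟩ := hf b
    exact hW a w hw
  · exact (Cfsg.Agent.Helper37.FS.brauerChar_comp f h ρ).symm

/-- composition distributes over sums of lists of functions -/
theorem INFL2_list_sum_comp {A B : Type u} (f : A → B) (l : List (B → ℂ)) :
    (l.map (fun ψ => ψ ∘ f)).sum = l.sum ∘ f := by
  induction l with
  | nil => rfl
  | cons ψ l ih =>
    rw [List.map_cons, List.sum_cons, List.sum_cons, ih]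
    rfl

/-- (INFL) inflation of Brauer constituents. -/
theorem brConst_comp_of_surjective {A B : Type u} [Group A] [Group B] (f : A →* B)
    (hf : Function.Surjective f) [Finite f.ker] (h : ¬ p ∣ Nat.card f.ker) {φ χ : B → ℂ}
    (hφ : BrConst p M φ χ) : BrConst p M (φ ∘ f) (χ ∘ f) := by
  obtain ⟨l, hl, hφl, hsum⟩ := hφ
  refine ⟨l.map (fun ψ => ψ ∘ f), ?_, ?_, ?_⟩
  · intro ψ hψ
    obtain ⟨ψ', hψ', rfl⟩ := List.mem_map.mp hψ
    exact IBr_comp_of_surjective f hf h (hl ψ' hψ')
  · exact List.mem_map.mpr ⟨φ, hφl, rfl⟩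
  · rw [Cfsg.Agent.Helper76.FS.pRegularPart_comp f h χ, hsum, INFL2_list_sum_comp]

end Cfsg.Agent.Helper42.FS
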