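import Mathlib
import Cfsg.Agent.Helper3.Cov2Ops

/-!
helper42 for helper3 (S2500 part 4, #12132): piece (EIG2) `eig2`.
An isometry of a non-degenerate 2-dimensional subspace has an eigenvector, given the parity statement
`hscr` (= piece (SCR)) as a hypothesis.
-/

set_option autoImplicit false

namespace Cfsg.Agent.Helper42.Cov2P4

open Polynomial Module Cfsg.Agent.Helper3.Cov2

variable {F V : Type*} [Field F] [Finite F] [AddCommGroup V] [Module F V] [FiniteDimensional F V]
  {σ : F →+* F} (B : V →ₛₗ[σ] V →ₗ[F] F)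

omit [Finite F] in
/-- an eigenvector from a root of the minimal polynomial -/
theorem EIG2_of_root {P : Type*} [AddCommGroup P] [Module F P] [FiniteDimensional F P]
    (S : P →ₗ[F] P) (c : F) (hc : (minpoly F S).IsRoot c) :
    ∃ v : P, v ≠ 0 ∧ ∃ c : F, S v = c • v := by
  have hev : Module.End.HasEigenvalue S c := Module.End.hasEigenvalue_of_isRoot hc
  obtain ⟨v, hv⟩ := hev.exists_hasEigenvector
  exact ⟨v, hv.2, c, hv.apply_eq_smul⟩

/-- (EIG2) -/
theorem eig2 (hS : B.IsSymm)
    (hscr : ∀ f : F[X], Irreducible f → f.coeff 0 ≠ 0 → f ∣ conjRev σ f → Odd f.natDegree)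
    (P : Submodule F V) (hP2 : finrank F P = 2)
    (hPnd : ∀ x ∈ P, (∀ y ∈ P, B x y = 0) → x = 0)
    (S : P →ₗ[F] P) (hSiso : ∀ x y : P, B (S x : V) (S y : V) = B (x : V) (y : V)) :
    ∃ v : P, v ≠ 0 ∧ ∃ c : F, S v = c • v := by
  classical
  -- the restricted form
  let B' : P →ₛₗ[σ] P →ₗ[F] F := B.domRestrict₁₂ P P
  have hB'app : ∀ x y : P, B' x y = B (x : V) (y : V) := fun x y => rfl
  have hB'iso : ∀ x y : P, B' (S x) (S y) = B' x y := by
    intro x y
    rw [hB'app, hB'app]
    exact hSiso x y
  have hB'sep : B'.SeparatingRight := by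
    intro y hy
    have hy0 : (y : V) = 0 := by
      apply hPnd (y : V) y.2
      intro x hx
      have h1 : B' ⟨x, hx⟩ y = 0 := hy ⟨x, hx⟩
      rw [hB'app] at h1
      have h2 := hS.eq x (y : V)
      rw [h1, map_zero] at h2
      exact h2.symm
    exact Subtype.ext hy0
  -- the minimal polynomial
  have hnt : Nontrivial P := Module.nontrivial_of_finrank_pos (R := F) (by omega)
  have hint : IsIntegral F S := Algebra.IsIntegral.isIntegral S
  have hmonic : (minpoly F S).Monic := minpoly.monic hint
  have hdeg : (minpoly F S).natDegree ≤ 2 := by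
    have h1 := natDegree_le_of_dvd (LinearMap.minpoly_dvd_charpoly S) (LinearMap.charpoly_monic S).ne_zero
    rw [LinearMap.charpoly_natDegree, hP2] at h1
    exact h1
  have hpos : 0 < (minpoly F S).natDegree := minpoly.natDegree_pos hint
  by_cases hroot : ∃ c : F, (minpoly F S).IsRoot c
  · obtain ⟨c, hc⟩ := hroot
    exact EIG2_of_root S c hc
  · exfalso
    have hroots : (minpoly F S).roots = 0 := by
      rw [Multiset.eq_zero_iff_forall_notMem]
      intro c hc
      exact hroot ⟨c, (mem_roots hmonic.ne_zero).mp hc⟩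
    -- the degree is 2
    have hdeg2 : (minpoly F S).natDegree = 2 := by
      rcases Nat.lt_or_ge (minpoly F S).natDegree 2 with h | h
      · exfalso
        have h1 : (minpoly F S).natDegree = 1 := by omega
        have h1' : (minpoly F S).degree = 1 := by
          rw [degree_eq_natDegree hmonic.ne_zero, h1]; rfl
        obtain ⟨c, hc⟩ := exists_root_of_degree_eq_one h1'
        exact hroot ⟨c, hc⟩
      · omega
    have hirr : Irreducible (minpoly F S) :=
      (hmonic.irreducible_iff_roots_eq_zero_of_degree_le_three (by omega) (by omega)).mpr hroots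
    have h0 : (minpoly F S).coeff 0 ≠ 0 := by
      intro h0
      apply hroot
      refine ⟨0, ?_⟩
      rw [IsRoot.def, ← coeff_zero_eq_eval_zero]
      exact h0
    have hdvd : minpoly F S ∣ conjRev σ (minpoly F S) := by
      apply minpoly.dvd
      exact aeval_conjRev_eq_zero B' hB'sep S hB'iso (minpoly F S) (minpoly.aeval F S)
    have hodd := hscr (minpoly F S) hirr h0 hdvd
    rw [hdeg2] at hodd
    exact absurd hodd (by decide)

end Cfsg.Agent.Helper42.Cov2P4
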