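import Mathlib
import Cfsg.Agent.Helper42.SylowEA

/-!
# 2-elements of symmetric groups lying in a unique Sylow 2-subgroup, part A

The predicate `SylGood`, its translation to cycle types, and the construction of two different
Sylow 2-subgroups through a 2-element which is not `SylGood`.
-/

namespace Cfsg.Agent.Helper42

open Equiv Equiv.Perm

section good

set_option linter.unusedSectionVars false

variable {α : Type*} [DecidableEq α] [Fintype α]

/-- at most two fixed points, and points of equal period off the fixed points are in one cycle -/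
def SylGood (x : Perm α) : Prop :=
  (∀ a b c, x a = a → x b = b → x c = c → a = b ∨ a = c ∨ b = c) ∧
  (∀ a b, x a ≠ a → MulAction.period x a = MulAction.period x b → x.SameCycle a b)

theorem period_eq_card_cycleOf (x : Perm α) {a : α} (ha : x a ≠ a) :
    MulAction.period x a = (x.cycleOf a).support.card := by
  have hmem : a ∈ (x.cycleOf a).support := by
    rw [mem_support_cycleOf_iff]
    exact ⟨SameCycle.refl _ _, mem_support.mpr ha⟩
  have hc := isCycleOn_support_cycleOf x a
  apply Nat.dvd_antisymm
  · rw [← MulAction.pow_smul_eq_iff_period_dvd, Perm.smul_def]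
    exact (hc.pow_apply_eq hmem).mpr dvd_rfl
  · rw [← hc.pow_apply_eq hmem]
    have := MulAction.pow_period_smul x a
    rwa [Perm.smul_def] at this

theorem period_ne_one_iff (x : Perm α) (a : α) : MulAction.period x a ≠ 1 ↔ x a ≠ a := by
  rw [Ne, MulAction.period_eq_one_iff, Perm.smul_def]

theorem sylGood_fst_iff (x : Perm α) :
    (∀ a b c, x a = a → x b = b → x c = c → a = b ∨ a = c ∨ b = c) ↔
      Fintype.card α ≤ x.support.card + 2 := by
  have hcard : (x.supportᶜ).card = Fintype.card α - x.support.card := Finset.card_compl _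
  have hle : x.support.card ≤ Fintype.card α := Finset.card_le_univ _
  constructor
  · intro h
    by_contra hlt
    have h3 : 2 < (x.supportᶜ).card := by omega
    obtain ⟨a, b, c, ha, hb, hc, hab, hac, hbc⟩ := Finset.two_lt_card_iff.mp h3
    rw [Finset.mem_compl, notMem_support] at ha hb hc
    rcases h a b c ha hb hc with h | h | h
    · exact hab h
    · exact hac h
    · exact hbc h
  · intro h a b c ha hb hc
    by_contra hne
    push Not at hne
    have h3 : 2 < (x.supportᶜ).card := by
      rw [Finset.two_lt_card_iff]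
      refine ⟨a, b, c, ?_, ?_, ?_, hne.1, hne.2.1, hne.2.2⟩ <;>
        rw [Finset.mem_compl, notMem_support] <;> assumption
    omega

theorem sylGood_snd_iff (x : Perm α) :
    (∀ a b, x a ≠ a → MulAction.period x a = MulAction.period x b → x.SameCycle a b) ↔
      x.cycleType.Nodup := by
  rw [cycleType_def, Multiset.nodup_map_iff_inj_on (Finset.nodup _)]
  constructor
  · intro h c1 hc1 c2 hc2 heq
    rw [Finset.mem_val] at hc1 hc2
    obtain ⟨a, ha⟩ := IsCycle.nonempty_support (mem_cycleFactorsFinset_iff.mp hc1).1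
    obtain ⟨b, hb⟩ := IsCycle.nonempty_support (mem_cycleFactorsFinset_iff.mp hc2).1
    have e1 := cycle_is_cycleOf ha hc1
    have e2 := cycle_is_cycleOf hb hc2
    have hxa : x a ≠ a := mem_support.mp (mem_cycleFactorsFinset_support_le hc1 ha)
    have hxb : x b ≠ b := mem_support.mp (mem_cycleFactorsFinset_support_le hc2 hb)
    have hper : MulAction.period x a = MulAction.period x b := by
      rw [period_eq_card_cycleOf x hxa, period_eq_card_cycleOf x hxb, ← e1, ← e2]
      exact heq
    rw [e1, e2]
    exact (h a b hxa hper).cycleOf_eq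
  · intro h a b hxa hper
    have hxb : x b ≠ b := by
      rw [← period_ne_one_iff, ← hper, period_ne_one_iff]
      exact hxa
    have h1 : x.cycleOf a ∈ x.cycleFactorsFinset.val :=
      Finset.mem_val.mpr (cycleOf_mem_cycleFactorsFinset_iff.mpr (mem_support.mpr hxa))
    have h2 : x.cycleOf b ∈ x.cycleFactorsFinset.val :=
      Finset.mem_val.mpr (cycleOf_mem_cycleFactorsFinset_iff.mpr (mem_support.mpr hxb))
    have := h _ h1 _ h2 (by
      simp only [Function.comp_apply]
      rw [← period_eq_card_cycleOf x hxa, ← period_eq_card_cycleOf x hxb, hper])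
    exact (sameCycle_iff_cycleOf_eq_of_mem_support (mem_support.mpr hxa)
      (mem_support.mpr hxb)).mpr this

theorem sylGood_iff (x : Perm α) :
    SylGood x ↔ (Fintype.card α ≤ x.support.card + 2 ∧ x.cycleType.Nodup) := by
  rw [SylGood, sylGood_fst_iff, sylGood_snd_iff]

end good

section twoSylows

set_option linter.unusedSectionVars false

variable {α : Type*} [DecidableEq α] [Fintype α]

theorem not_two_swaps {P : Subgroup (Perm α)} (hP : IsPGroup 2 P) {a b c : α} (hab : a ≠ b)
    (hac : a ≠ c) (hbc : b ≠ c) (h1 : swap a b ∈ P) (h2 : swap a c ∈ P) : False := by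
  have h3 := isThreeCycle_swap_mul_swap_same hab hac hbc
  have ho := h3.orderOf
  have hm : swap a b * swap a c ∈ P := P.mul_mem h1 h2
  obtain ⟨k, hk⟩ := hP ⟨_, hm⟩
  have hk' : (swap a b * swap a c) ^ 2 ^ k = 1 := by
    have := congrArg Subtype.val hk
    simpa using this
  have hdvd : orderOf (swap a b * swap a c) ∣ 2 ^ k := orderOf_dvd_of_pow_eq_one hk'
  rw [ho] at hdvd
  have := Nat.Prime.dvd_of_dvd_pow Nat.prime_three hdvd
  omega

theorem zpow_apply_eq_iff (x : Perm α) (i j : ℤ) (w : α) :
    (x ^ i) w = (x ^ j) w ↔ ((MulAction.period x w : ℤ) ∣ i - j) := by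
  rw [← MulAction.zpow_smul_eq_iff_period_dvd]
  have : x ^ (i - j) = (x ^ j)⁻¹ * x ^ i := by rw [sub_eq_neg_add, zpow_add, zpow_neg]
  rw [this, Perm.smul_def, Perm.mul_apply, Perm.inv_eq_iff_eq]

theorem sameCycle_of_zpow_eq {x : Perm α} {i j : ℤ} {u v : α} (h : (x ^ i) u = (x ^ j) v) :
    x.SameCycle u v := by
  have h1 : x.SameCycle ((x ^ i) u) ((x ^ j) v) := by rw [h]
  exact sameCycle_zpow_left.mp (sameCycle_zpow_right.mp h1)

/-- for two points of equal period in different cycles of a 2-element `x`, some Sylow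
2-subgroup contains `x` and the transposition of the two points -/
theorem exists_sylow_swap (x : Perm α) (hx : ∃ k : ℕ, orderOf x = 2 ^ k) {u v : α}
    (hper : MulAction.period x u = MulAction.period x v) (hns : ¬ x.SameCycle u v) :
    ∃ P : Sylow 2 (Perm α), x ∈ P ∧ swap u v ∈ P := by
  set S : Set (Perm α) := Set.range (fun i : ℤ => swap ((x ^ i) u) ((x ^ i) v)) with hS
  have hperz : ∀ i j : ℤ, (x ^ i) u = (x ^ j) u ↔ (x ^ i) v = (x ^ j) v := by
    intro i j
    rw [zpow_apply_eq_iff, zpow_apply_eq_iff, hper]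
  have huv : ∀ i j : ℤ, (x ^ i) u ≠ (x ^ j) v := fun i j h => hns (sameCycle_of_zpow_eq h)
  have hcomm : ∀ s ∈ S, ∀ t ∈ S, s * t = t * s := by
    rintro _ ⟨i, rfl⟩ _ ⟨j, rfl⟩
    by_cases h : (x ^ i) u = (x ^ j) u
    · have h' := (hperz i j).mp h
      simp only [h, h']
    · have h' : (x ^ i) v ≠ (x ^ j) v := fun e => h ((hperz i j).mpr e)
      apply (disjoint_swap_swap _).commute
      simp only [List.nodup_cons, List.mem_cons, List.not_mem_nil, or_false, not_or,
        List.nodup_nil, and_true, not_false_eq_true]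
      refine ⟨⟨huv i i, h, huv i j⟩, ⟨fun e => huv j i e.symm, h'⟩, huv j j⟩
  set K : Subgroup (Perm α) := Subgroup.closure S with hK
  have hC := Subgroup.isMulCommutative_closure hcomm
  have hKcomm : ∀ a ∈ K, ∀ b ∈ K, a * b = b * a :=
    fun a ha b hb => congrArg Subtype.val (mul_comm' (⟨a, ha⟩ : Subgroup.closure S) ⟨b, hb⟩)
  have hsq : ∀ a ∈ K, a ^ 2 = 1 := by
    intro a ha
    induction ha using Subgroup.closure_induction with
    | mem s hs =>
      obtain ⟨i, rfl⟩ := hs
      rw [pow_two, swap_mul_self]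
    | one => simp
    | mul a b ha hb iha ihb =>
      rw [(show Commute a b from hKcomm a ha b hb).mul_pow, iha, ihb, one_mul]
    | inv a _ iha => rw [inv_pow, iha, inv_one]
  have hK2 : IsPGroup 2 K := by
    intro g
    refine ⟨1, ?_⟩
    apply Subtype.ext
    rw [pow_one, Subgroup.coe_pow, Subgroup.coe_one]
    exact hsq g.1 g.2
  have conj_mem : ∀ y : Perm α, (∀ s ∈ S, y * s * y⁻¹ ∈ S) → ∀ h ∈ K, y * h * y⁻¹ ∈ K := by
    intro y hy h hh
    induction hh using Subgroup.closure_induction with
    | mem s hs => exact Subgroup.subset_closure (hy s hs)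
    | one => simp
    | mul a b _ _ ha hb =>
      have : y * (a * b) * y⁻¹ = (y * a * y⁻¹) * (y * b * y⁻¹) := by group
      rw [this]; exact K.mul_mem ha hb
    | inv a _ ha =>
      have : y * a⁻¹ * y⁻¹ = (y * a * y⁻¹)⁻¹ := by group
      rw [this]; exact K.inv_mem ha
  have hSx : ∀ s ∈ S, x * s * x⁻¹ ∈ S := by
    rintro _ ⟨i, rfl⟩
    refine ⟨1 + i, ?_⟩
    simp only
    rw [← swap_apply_apply, zpow_one_add, Perm.mul_apply, Perm.mul_apply]
  have hSx' : ∀ s ∈ S, x⁻¹ * s * x⁻¹⁻¹ ∈ S := by
    rintro _ ⟨i, rfl⟩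
    refine ⟨-1 + i, ?_⟩
    simp only
    rw [← swap_apply_apply, zpow_add, zpow_neg_one, Perm.mul_apply, Perm.mul_apply]
  have hxN : x ∈ Subgroup.normalizer (K : Set (Perm α)) := by
    rw [Subgroup.mem_normalizer_iff]
    intro h
    constructor
    · exact conj_mem x hSx h
    · intro hh
      have := conj_mem x⁻¹ hSx' _ hh
      have e : x⁻¹ * (x * h * x⁻¹) * x⁻¹⁻¹ = h := by group
      rwa [e] at this
  have hH : IsPGroup 2 (Subgroup.zpowers x) := by
    obtain ⟨k, hk⟩ := hx
    apply IsPGroup.of_card (n := k)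
    rw [Nat.card_zpowers, hk]
  have hHK := IsPGroup.to_sup_of_normal_right' hH hK2 (Subgroup.zpowers_le.mpr hxN)
  obtain ⟨P, hP⟩ := hHK.exists_le_sylow
  refine ⟨P, hP (Subgroup.mem_sup_left (Subgroup.mem_zpowers x)),
    hP (Subgroup.mem_sup_right (Subgroup.subset_closure ⟨0, by simp⟩))⟩

/-- a 2-element lying in a unique Sylow 2-subgroup is `SylGood` -/
theorem sylGood_of_unique (x : Perm α) (hx : ∃ k : ℕ, orderOf x = 2 ^ k)
    (huniq : ∀ P Q : Sylow 2 (Perm α), x ∈ P → x ∈ Q → P = Q) : SylGood x := by
  constructor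
  · intro a b c ha hb hc
    by_contra hne
    push Not at hne
    obtain ⟨hab, hac, hbc⟩ := hne
    have hfix : ∀ w, x w = w → MulAction.period x w = 1 := fun w hw => by
      rw [MulAction.period_eq_one_iff, Perm.smul_def, hw]
    have hnot : ∀ w w', x w = w → w ≠ w' → ¬ x.SameCycle w w' := by
      rintro w w' hw hne ⟨i, hi⟩
      rw [zpow_apply_eq_self_of_apply_eq_self hw] at hi
      exact hne hi
    obtain ⟨P, hxP, h1⟩ := exists_sylow_swap x hx ((hfix a ha).trans (hfix b hb).symm)
      (hnot a b ha hab)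
    obtain ⟨Q, hxQ, h2⟩ := exists_sylow_swap x hx ((hfix a ha).trans (hfix c hc).symm)
      (hnot a c ha hac)
    rw [← huniq P Q hxP hxQ] at h2
    exact not_two_swaps P.isPGroup' hab hac hbc h1 h2
  · intro a b hxa hper
    by_contra hns
    have hxb : x b ≠ b := by
      rw [← period_ne_one_iff, ← hper, period_ne_one_iff]
      exact hxa
    have hper' : MulAction.period x a = MulAction.period x (x b) := by
      rw [hper]
      apply Nat.dvd_antisymm
      · rw [← MulAction.pow_smul_eq_iff_period_dvd, Perm.smul_def]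
        have := MulAction.pow_period_smul x (x b)
        rw [Perm.smul_def, ← Perm.mul_apply, ← pow_succ, pow_succ', Perm.mul_apply] at this
        exact x.injective this
      · rw [← MulAction.pow_smul_eq_iff_period_dvd, Perm.smul_def]
        have := MulAction.pow_period_smul x b
        rw [Perm.smul_def] at this
        rw [← Perm.mul_apply, ← pow_succ, pow_succ', Perm.mul_apply, this]
    have hns' : ¬ x.SameCycle a (x b) := fun h => hns (sameCycle_apply_right.mp h)
    obtain ⟨P, hxP, h1⟩ := exists_sylow_swap x hx hper hns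
    obtain ⟨Q, hxQ, h2⟩ := exists_sylow_swap x hx hper' hns'
    rw [← huniq P Q hxP hxQ] at h2
    have hab : a ≠ b := fun e => hns (e ▸ SameCycle.refl _ _)
    have hab' : a ≠ x b := fun e => hns' (e ▸ SameCycle.refl _ _)
    exact not_two_swaps P.isPGroup' hab hab' (Ne.symm hxb) h1 h2

end twoSylows

end Cfsg.Agent.Helper42
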