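import Mathlib
import Cfsg.Agent.Helper42.Syl2A

/-!
# 2-elements of symmetric groups lying in a unique Sylow 2-subgroup, part B

The groups `stdW ι K` (`C_2 wr K` transported along an embedding `ι`), and the involution `piI ι`
attached to them.
-/

namespace Cfsg.Agent.Helper42

open Equiv Equiv.Perm

set_option linter.unusedSectionVars false

section compat

variable {β γ : Type*} [DecidableEq β] [Fintype β] [DecidableEq γ] [Fintype γ]

/-- `C_2 wr K` transported along `ι` -/
noncomputable def stdW (ι : β × ZMod 2 ↪ γ) (K : Subgroup (Perm β)) : Subgroup (Perm γ) :=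
  (wr (⊤ : AddSubgroup (β → ZMod 2)) K (top_invariant K)).map (Perm.viaEmbeddingHom ι)

/-- `y` acts through `ι` as `tr f * lf σ` -/
structure Compat (ι : β × ZMod 2 ↪ γ) (y : Perm γ) (σ : Perm β) (f : β → ZMod 2) : Prop where
  app : ∀ i t, y (ι (i, t)) = ι (σ i, t + f (σ i))
  out : ∀ b, b ∉ Set.range ι → y b = b

theorem compat_iff (ι : β × ZMod 2 ↪ γ) (y : Perm γ) (σ : Perm β) (f : β → ZMod 2) :
    Compat ι y σ f ↔ y = (tr f * lf 2 σ).viaEmbedding ι := by
  constructor
  · intro h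
    ext b
    by_cases hb : b ∈ Set.range ι
    · obtain ⟨⟨i, t⟩, rfl⟩ := hb
      rw [viaEmbedding_apply, h.app, Perm.mul_apply, lf_apply, tr_apply]
    · rw [viaEmbedding_apply_of_notMem _ _ _ hb, h.out b hb]
  · rintro rfl
    constructor
    · intro i t
      rw [viaEmbedding_apply, Perm.mul_apply, lf_apply, tr_apply]
    · intro b hb
      exact viaEmbedding_apply_of_notMem _ _ _ hb

theorem mem_stdW {ι : β × ZMod 2 ↪ γ} {K : Subgroup (Perm β)} {y : Perm γ} :
    y ∈ stdW ι K ↔ ∃ σ ∈ K, ∃ f, Compat ι y σ f := by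
  constructor
  · rintro ⟨w, ⟨f, -, σ, hσ, rfl⟩, rfl⟩
    exact ⟨σ, hσ, f, (compat_iff _ _ _ _).mpr rfl⟩
  · rintro ⟨σ, hσ, f, h⟩
    rw [compat_iff] at h
    exact ⟨tr f * lf 2 σ, ⟨f, AddSubgroup.mem_top _, σ, hσ, rfl⟩, h.symm⟩

/-- the involution exchanging the two points of every fibre -/
noncomputable def piI (ι : β × ZMod 2 ↪ γ) : Perm γ := (tr (fun _ : β => (1 : ZMod 2))).viaEmbedding ι

theorem piI_apply (ι : β × ZMod 2 ↪ γ) (i : β) (t : ZMod 2) : piI ι (ι (i, t)) = ι (i, t + 1) := by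
  rw [piI, viaEmbedding_apply, tr_apply]

theorem piI_out (ι : β × ZMod 2 ↪ γ) {b : γ} (hb : b ∉ Set.range ι) : piI ι b = b :=
  viaEmbedding_apply_of_notMem _ _ _ hb

theorem zmod2_add_one_add_one (t : ZMod 2) : t + 1 + 1 = t := by
  revert t; decide

theorem zmod2_add_one_ne (t : ZMod 2) : t + 1 ≠ t := by
  revert t; decide

theorem piI_piI (ι : β × ZMod 2 ↪ γ) (b : γ) : piI ι (piI ι b) = b := by
  by_cases hb : b ∈ Set.range ι
  · obtain ⟨⟨i, t⟩, rfl⟩ := hb
    rw [piI_apply, piI_apply, zmod2_add_one_add_one]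
  · rw [piI_out ι hb, piI_out ι hb]

theorem piI_fixed_iff (ι : β × ZMod 2 ↪ γ) (b : γ) : piI ι b = b ↔ b ∉ Set.range ι := by
  constructor
  · rintro h ⟨⟨i, t⟩, rfl⟩
    rw [piI_apply] at h
    have := ι.injective h
    rw [Prod.mk.injEq] at this
    exact zmod2_add_one_ne t this.2
  · exact piI_out ι

theorem Compat.comm {ι : β × ZMod 2 ↪ γ} {y : Perm γ} {σ : Perm β} {f : β → ZMod 2}
    (h : Compat ι y σ f) (b : γ) : y (piI ι b) = piI ι (y b) := by
  by_cases hb : b ∈ Set.range ι
  · obtain ⟨⟨i, t⟩, rfl⟩ := hb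
    rw [piI_apply, h.app, h.app, piI_apply, add_right_comm]
  · rw [piI_out ι hb, h.out b hb, piI_out ι hb]

theorem Compat.pow {ι : β × ZMod 2 ↪ γ} {y : Perm γ} {σ : Perm β} {f : β → ZMod 2}
    (h : Compat ι y σ f) (k : ℕ) (i : β) (t : ZMod 2) :
    ∃ s, (y ^ k) (ι (i, t)) = ι ((σ ^ k) i, s) := by
  induction k with
  | zero => exact ⟨t, by simp⟩
  | succ k ih =>
    obtain ⟨s, hs⟩ := ih
    refine ⟨s + f (σ ((σ ^ k) i)), ?_⟩
    rw [pow_succ', Perm.mul_apply, hs, h.app, pow_succ', Perm.mul_apply]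

theorem Compat.fixed_of_out {ι : β × ZMod 2 ↪ γ} {y : Perm γ} {σ : Perm β} {f : β → ZMod 2}
    (h : Compat ι y σ f) {b : γ} (hb : piI ι b = b) : y b = b :=
  h.out b ((piI_fixed_iff ι b).mp hb)

end compat

section involUnique

variable {γ : Type*} [DecidableEq γ] [Fintype γ]

theorem period_eq_of_forall {x : Perm γ} {a b : γ}
    (h : ∀ k : ℕ, (x ^ k) a = a ↔ (x ^ k) b = b) :
    MulAction.period x a = MulAction.period x b := by
  apply Nat.dvd_antisymm
  · rw [← MulAction.pow_smul_eq_iff_period_dvd, Perm.smul_def, h]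
    have := MulAction.pow_period_smul x b
    rwa [Perm.smul_def] at this
  · rw [← MulAction.pow_smul_eq_iff_period_dvd, Perm.smul_def, ← h]
    have := MulAction.pow_period_smul x a
    rwa [Perm.smul_def] at this

theorem int_dvd_sub_of_half {m j j' : ℤ} (h1 : m ∣ j + j) (h2 : ¬ m ∣ j) (h1' : m ∣ j' + j')
    (h2' : ¬ m ∣ j') : m ∣ j - j' := by
  obtain ⟨c, hc⟩ := h1
  obtain ⟨c', hc'⟩ := h1'
  rcases Int.even_or_odd' c with ⟨d, rfl | rfl⟩
  · exact absurd ⟨d, by linarith⟩ h2
  rcases Int.even_or_odd' c' with ⟨d', rfl | rfl⟩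
  · exact absurd ⟨d', by linarith⟩ h2'
  exact ⟨d - d', by linarith⟩

/-- a `SylGood` permutation commutes with at most one involution of a given fixed-point
pattern -/
theorem invol_unique {x : Perm γ} (hg : SylGood x) {π π' : Perm γ}
    (hπ : ∀ b, π (π b) = b) (hπ' : ∀ b, π' (π' b) = b)
    (hc : ∀ b, x (π b) = π (x b)) (hc' : ∀ b, x (π' b) = π' (x b))
    (hf : ∀ b, π b = b → x b = b) (hf' : ∀ b, π' b = b → x b = b)
    (hex : (∃ b, π b = b) ↔ (∃ b, π' b = b)) : π = π' := by
  -- a general statement to be used for `π` and `π'`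
  have key : ∀ ρ : Perm γ, (∀ b, ρ (ρ b) = b) → (∀ b, x (ρ b) = ρ (x b)) →
      (∀ b, ρ b = b → x b = b) → ∀ a, x a ≠ a →
      ∃ j : ℤ, (x ^ j) a = ρ a ∧ ((MulAction.period x a : ℤ) ∣ j + j) ∧
        ¬ ((MulAction.period x a : ℤ) ∣ j) := by
    intro ρ hρ hcρ hfρ a ha
    have hcomm : Commute x ρ := by
      ext b
      exact hcρ b
    have hper : MulAction.period x a = MulAction.period x (ρ a) := by
      apply period_eq_of_forall
      intro k
      have : (x ^ k) (ρ a) = ρ ((x ^ k) a) := by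
        have := (hcomm.pow_left k).eq
        exact congrArg (fun g : Perm γ => g a) this
      rw [this]
      exact ⟨fun h => by rw [h], fun h => ρ.injective h⟩
    obtain ⟨j, hj⟩ := hg.2 a (ρ a) ha hper
    refine ⟨j, hj, ?_, ?_⟩
    · rw [← MulAction.zpow_smul_eq_iff_period_dvd, Perm.smul_def, zpow_add, Perm.mul_apply, hj]
      have : (x ^ j) (ρ a) = ρ ((x ^ j) a) := by
        have := (hcomm.zpow_left j).eq
        exact congrArg (fun g : Perm γ => g a) this
      rw [this, hj, hρ]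
    · rw [← MulAction.zpow_smul_eq_iff_period_dvd, Perm.smul_def, hj]
      intro h
      exact ha (hfρ a h)
  ext a
  by_cases ha : x a = a
  · -- fixed points of `x`
    have h1 : x (π a) = π a := by rw [hc, ha]
    have h2 : x (π' a) = π' a := by rw [hc', ha]
    rcases hg.1 a (π a) (π' a) ha h1 h2 with h | h | h
    · -- `π a = a`
      have hex' := hex.mp ⟨a, h.symm⟩
      obtain ⟨a', ha'⟩ := hex'
      by_cases haa : a' = a
      · rw [← h, ← haa, ha']
      · rcases hg.1 a a' (π' a) ha (hf' a' ha') h2 with h' | h' | h'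
        · exact absurd h'.symm haa
        · rw [← h, ← h']
        · exfalso
          apply haa
          have : π' a' = a := by rw [h', hπ']
          rw [← this, ha']
    · -- `π' a = a`
      have hex' := hex.mpr ⟨a, h.symm⟩
      obtain ⟨a', ha'⟩ := hex'
      by_cases haa : a' = a
      · rw [← h, ← haa, ha']
      · rcases hg.1 a a' (π a) ha (hf a' ha') h1 with h' | h' | h'
        · exact absurd h'.symm haa
        · rw [← h, ← h']
        · exfalso
          apply haa
          have : π a' = a := by rw [h', hπ]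
          rw [← this, ha']
    · exact h
  · obtain ⟨j, hj, hj1, hj2⟩ := key π hπ hc hf a ha
    obtain ⟨j', hj', hj1', hj2'⟩ := key π' hπ' hc' hf' a ha
    rw [← hj, ← hj', zpow_apply_eq_iff]
    exact int_dvd_sub_of_half hj1 hj2 hj1' hj2'

end involUnique

end Cfsg.Agent.Helper42
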