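import Mathlib
import Cfsg.Agent.Helper42.Syl2B

/-!
# 2-elements of symmetric groups lying in a unique Sylow 2-subgroup, part C

Reindexing of embeddings with equal involutions, descent of `SylGood`, and the induction.
-/

namespace Cfsg.Agent.Helper42

open Equiv Equiv.Perm

set_option linter.unusedSectionVars false

section reindex

variable {β γ : Type*} [DecidableEq β] [Fintype β] [DecidableEq γ] [Fintype γ]

theorem zmod2_cases (t : ZMod 2) : t = 0 ∨ t = 1 := by
  revert t; decide

theorem zmod2_ne (a b : ZMod 2) (h : a ≠ b) : b = 1 + a := by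
  revert a b; decide

/-- embeddings with the same involution differ by a reindexing -/
theorem exists_reindex {ι ι' : β × ZMod 2 ↪ γ} (h : piI ι = piI ι') :
    ∃ (τ : Perm β) (g : β → ZMod 2), ∀ i t, ι' (i, t) = ι (τ i, t + g i) := by
  have hr : ∀ i, ι' (i, 0) ∈ Set.range ι := by
    intro i
    by_contra hn
    have h1 := piI_out ι hn
    rw [h, piI_apply] at h1
    have := ι'.injective h1
    rw [Prod.mk.injEq] at this
    exact zmod2_add_one_ne 0 this.2
  choose c hc using hr
  have h0 : ∀ i, ι' (i, 0) = ι ((c i).1, (c i).2) := fun i => (hc i).symm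
  have h1 : ∀ i, ι' (i, 1) = ι ((c i).1, 1 + (c i).2) := by
    intro i
    have e1 : ι' (i, 1) = piI ι' (ι' (i, 0)) := by rw [piI_apply, zero_add]
    rw [e1, ← h, h0, piI_apply, add_comm]
  have hall : ∀ i t, ι' (i, t) = ι ((c i).1, t + (c i).2) := by
    intro i t
    rcases zmod2_cases t with rfl | rfl
    · rw [zero_add]; exact h0 i
    · exact h1 i
  have hinj : Function.Injective (fun i => (c i).1) := by
    intro i i' hii
    simp only at hii
    by_cases hs : (c i).2 = (c i').2
    · have : ι' (i, 0) = ι' (i', 0) := by rw [h0, h0, hii, hs]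
      have := ι'.injective this
      rw [Prod.mk.injEq] at this
      exact this.1
    · exfalso
      have e := zmod2_ne _ _ hs
      have : ι' (i', 0) = ι' (i, 1) := by rw [h0, h1, hii, e]
      have := ι'.injective this
      rw [Prod.mk.injEq] at this
      exact zero_ne_one this.2
  refine ⟨Equiv.ofBijective _ ⟨hinj, Finite.surjective_of_injective hinj⟩, fun i => (c i).2, ?_⟩
  intro i t
  exact hall i t

end reindex

section descent

variable {β γ : Type*} [DecidableEq β] [Fintype β] [DecidableEq γ] [Fintype γ]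

theorem Compat.pow_fst {ι : β × ZMod 2 ↪ γ} {y : Perm γ} {σ : Perm β} {f : β → ZMod 2}
    (h : Compat ι y σ f) {k : ℕ} {i j : β} {t s : ZMod 2}
    (e : (y ^ k) (ι (i, t)) = ι (j, s)) : (σ ^ k) i = j := by
  obtain ⟨s', hs'⟩ := h.pow k i t
  rw [hs'] at e
  have := ι.injective e
  rw [Prod.mk.injEq] at this
  exact this.1

theorem Compat.comm_pow {ι : β × ZMod 2 ↪ γ} {y : Perm γ} {σ : Perm β} {f : β → ZMod 2}
    (h : Compat ι y σ f) (k : ℕ) (b : γ) : (y ^ k) (piI ι b) = piI ι ((y ^ k) b) := by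
  induction k with
  | zero => simp
  | succ k ih => rw [pow_succ', Perm.mul_apply, ih, h.comm, Perm.mul_apply]

theorem period_pos_perm {δ : Type*} [DecidableEq δ] [Fintype δ] (x : Perm δ) (a : δ) :
    0 < MulAction.period x a :=
  MulAction.period_pos_of_orderOf_pos (orderOf_pos x) a

theorem pow_apply_eq_iff_period {δ : Type*} (x : Perm δ) (a : δ) (k : ℕ) :
    (x ^ k) a = a ↔ MulAction.period x a ∣ k := by
  rw [← MulAction.pow_smul_eq_iff_period_dvd, Perm.smul_def]

theorem Compat.fixed_pair {ι : β × ZMod 2 ↪ γ} {x : Perm γ} {σ : Perm β} {f : β → ZMod 2}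
    (hg : SylGood x) (h : Compat ι x σ f) {i j : β} (hi : σ i = i) (hj : σ j = j) (hij : i ≠ j)
    (hf : f i = f j) : False := by
  have hne : ∀ (i' j' : β) (t s : ZMod 2), ι (i', t) = ι (j', s) → i' = j' ∧ t = s := by
    intro i' j' t s e
    have := ι.injective e
    rwa [Prod.mk.injEq] at this
  rcases zmod2_cases (f i) with h0 | h1
  · have hj0 : f j = 0 := hf ▸ h0
    have e1 : ∀ t, x (ι (i, t)) = ι (i, t) := fun t => by rw [h.app, hi, h0, add_zero]
    have e2 : ∀ t, x (ι (j, t)) = ι (j, t) := fun t => by rw [h.app, hj, hj0, add_zero]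
    rcases hg.1 _ _ _ (e1 0) (e1 1) (e2 0) with e | e | e
    · exact zero_ne_one (hne _ _ _ _ e).2
    · exact hij (hne _ _ _ _ e).1
    · exact hij (hne _ _ _ _ e).1
  · have hj1 : f j = 1 := hf ▸ h1
    have p2 : ∀ i', σ i' = i' → f i' = 1 → x (ι (i', 0)) ≠ ι (i', 0) ∧
        MulAction.period x (ι (i', 0)) = 2 := by
      intro i' hi' hf'
      have e1 : x (ι (i', 0)) = ι (i', 1) := by rw [h.app, hi', hf', zero_add]
      have e2 : x (ι (i', 1)) = ι (i', 0) := by
        rw [h.app, hi', hf']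
        congr 2
      have hne1 : x (ι (i', 0)) ≠ ι (i', 0) := by
        rw [e1]
        intro e
        exact zero_ne_one (hne _ _ _ _ e).2.symm
      refine ⟨hne1, ?_⟩
      have hd : MulAction.period x (ι (i', 0)) ∣ 2 := by
        rw [← pow_apply_eq_iff_period, pow_two, Perm.mul_apply, e1, e2]
      rcases (Nat.dvd_prime Nat.prime_two).mp hd with h' | h'
      · exact absurd h' ((period_ne_one_iff x _).mpr hne1)
      · exact h'
    obtain ⟨hn1, hp1⟩ := p2 i hi h1
    obtain ⟨-, hp2⟩ := p2 j hj hj1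
    obtain ⟨k, hk⟩ := (hg.2 _ _ hn1 (hp1.trans hp2.symm)).exists_nat_pow_eq
    have := h.pow_fst hk
    rw [pow_apply_eq_self_of_apply_eq_self hi] at this
    exact hij this

theorem Compat.period_double {ι : β × ZMod 2 ↪ γ} {x : Perm γ} {σ : Perm β} {f : β → ZMod 2}
    (hg : SylGood x) (h : Compat ι x σ f) {i : β} (hi : σ i ≠ i) :
    MulAction.period x (ι (i, 0)) = 2 * MulAction.period σ i := by
  set m := MulAction.period σ i with hm
  have hmpos : 0 < m := period_pos_perm σ i
  have hne : ∀ (i' j' : β) (t s : ZMod 2), ι (i', t) = ι (j', s) → i' = j' ∧ t = s := by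
    intro i' j' t s e
    have := ι.injective e
    rwa [Prod.mk.injEq] at this
  have hσm : (σ ^ m) i = i := (pow_apply_eq_iff_period σ i m).mpr dvd_rfl
  have hdiv : ∀ (k : ℕ) (t : ZMod 2), (x ^ k) (ι (i, t)) = ι (i, t) → m ∣ k := by
    intro k t e
    rw [← pow_apply_eq_iff_period]
    exact h.pow_fst e
  obtain ⟨s, hs⟩ := h.pow m i 0
  rw [hσm] at hs
  have hxa : x (ι (i, 0)) ≠ ι (i, 0) := by
    rw [h.app]
    intro e
    exact hi (hne _ _ _ _ e).1
  have hpi : piI ι (ι (i, 0)) = ι (i, 1) := by rw [piI_apply, zero_add]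
  have hpi' : piI ι (ι (i, 1)) = ι (i, 0) := by
    rw [piI_apply]
    congr 2
  rcases zmod2_cases s with rfl | rfl
  · exfalso
    have hs' : (x ^ m) (ι (i, 1)) = ι (i, 1) := by rw [← hpi, h.comm_pow, hs]
    have hp0 : MulAction.period x (ι (i, 0)) = m :=
      Nat.dvd_antisymm ((pow_apply_eq_iff_period _ _ _).mp hs)
        (hdiv _ 0 ((pow_apply_eq_iff_period _ _ _).mpr dvd_rfl))
    have hp1 : MulAction.period x (ι (i, 1)) = m :=
      Nat.dvd_antisymm ((pow_apply_eq_iff_period _ _ _).mp hs')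
        (hdiv _ 1 ((pow_apply_eq_iff_period _ _ _).mpr dvd_rfl))
    obtain ⟨k, hk⟩ := (hg.2 _ _ hxa (hp0.trans hp1.symm)).exists_nat_pow_eq
    have h1 : (σ ^ k) i = i := h.pow_fst hk
    have h2 : m ∣ k := (pow_apply_eq_iff_period _ _ _).mp h1
    rw [← hp0] at h2
    rw [(pow_apply_eq_iff_period _ _ _).mpr h2] at hk
    exact zero_ne_one (hne _ _ _ _ hk).2
  · have hs' : (x ^ m) (ι (i, 1)) = ι (i, 0) := by rw [← hpi, h.comm_pow, hs, hpi']
    have h2m : (x ^ (m + m)) (ι (i, 0)) = ι (i, 0) := by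
      rw [pow_add, Perm.mul_apply, hs, hs']
    have hd1 : MulAction.period x (ι (i, 0)) ∣ m + m := (pow_apply_eq_iff_period _ _ _).mp h2m
    have hd2 : m ∣ MulAction.period x (ι (i, 0)) :=
      hdiv _ 0 ((pow_apply_eq_iff_period _ _ _).mpr dvd_rfl)
    obtain ⟨c, hc⟩ := hd2
    rw [hc, ← two_mul, mul_comm 2 m] at hd1
    have hc2 : c ∣ 2 := Nat.dvd_of_mul_dvd_mul_left hmpos hd1
    rcases (Nat.dvd_prime Nat.prime_two).mp hc2 with rfl | rfl
    · exfalso
      rw [mul_one] at hc
      have := (pow_apply_eq_iff_period x (ι (i, 0)) m).mpr (by rw [hc])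
      rw [hs] at this
      exact zero_ne_one (hne _ _ _ _ this).2.symm
    · rw [hc, mul_comm]

/-- `SylGood` descends to the permutation induced on the fibres -/
theorem Compat.sylGood {ι : β × ZMod 2 ↪ γ} {x : Perm γ} {σ : Perm β} {f : β → ZMod 2}
    (hg : SylGood x) (h : Compat ι x σ f) : SylGood σ := by
  constructor
  · intro a b c ha hb hc
    by_contra hne
    push Not at hne
    obtain ⟨hab, hac, hbc⟩ := hne
    have h3 : ∀ u v w : ZMod 2, u = v ∨ u = w ∨ v = w := by decide
    rcases h3 (f a) (f b) (f c) with e | e | e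
    · exact h.fixed_pair hg ha hb hab e
    · exact h.fixed_pair hg ha hc hac e
    · exact h.fixed_pair hg hb hc hbc e
  · intro i j hi hper
    have hj : σ j ≠ j := by
      rw [← period_ne_one_iff, ← hper, period_ne_one_iff]
      exact hi
    have hne : ∀ (i' j' : β) (t s : ZMod 2), ι (i', t) = ι (j', s) → i' = j' ∧ t = s := by
      intro i' j' t s e
      have := ι.injective e
      rwa [Prod.mk.injEq] at this
    have hxa : x (ι (i, 0)) ≠ ι (i, 0) := by
      rw [h.app]
      intro e
      exact hi (hne _ _ _ _ e).1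
    have hp : MulAction.period x (ι (i, 0)) = MulAction.period x (ι (j, 0)) := by
      rw [h.period_double hg hi, h.period_double hg hj, hper]
    obtain ⟨k, hk⟩ := (hg.2 _ _ hxa hp).exists_nat_pow_eq
    exact ⟨k, by rw [zpow_natCast]; exact h.pow_fst hk⟩

end descent

end Cfsg.Agent.Helper42
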