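import Mathlib
import Cfsg.Agent.Helper42.Syl2C

/-!
# 2-elements of symmetric groups lying in a unique Sylow 2-subgroup, part D

Every Sylow 2-subgroup of `Sym(n)` is a `stdW ι P₀`; the induction; the final statement.
-/

namespace Cfsg.Agent.Helper42

open Equiv Equiv.Perm

set_option linter.unusedSectionVars false

theorem perm_inv_apply_self {α : Type*} (f : Perm α) (x : α) : f⁻¹ (f x) = x :=
  f.symm_apply_apply x

theorem perm_apply_inv_self {α : Type*} (f : Perm α) (x : α) : f (f⁻¹ x) = x :=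
  f.apply_symm_apply x

section structureLemma

variable {β γ : Type*} [DecidableEq β] [Fintype β] [DecidableEq γ] [Fintype γ]

theorem compat_conj (ι0 : β × ZMod 2 ↪ γ) (g : Perm γ) (y : Perm γ) (σ : Perm β)
    (f : β → ZMod 2) :
    Compat (ι0.trans g.toEmbedding) y σ f ↔ Compat ι0 (g⁻¹ * y * g) σ f := by
  have hap : ∀ c, (ι0.trans g.toEmbedding) c = g (ι0 c) := fun c => rfl
  constructor
  · intro h
    constructor
    · intro i t
      rw [Perm.mul_apply, Perm.mul_apply, ← hap, h.app, hap, perm_inv_apply_self]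
    · intro b hb
      have : g b ∉ Set.range (ι0.trans g.toEmbedding) := by
        rintro ⟨c, hc⟩
        rw [hap] at hc
        exact hb ⟨c, g.injective hc⟩
      rw [Perm.mul_apply, Perm.mul_apply, h.out _ this, perm_inv_apply_self]
  · intro h
    constructor
    · intro i t
      have := h.app i t
      rw [Perm.mul_apply, Perm.mul_apply, Perm.inv_eq_iff_eq] at this
      rw [hap, this, hap]
    · intro b hb
      have : g⁻¹ b ∉ Set.range ι0 := by
        rintro ⟨c, hc⟩
        apply hb
        refine ⟨c, ?_⟩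
        rw [hap, hc, perm_apply_inv_self]
      have := h.out _ this
      rw [Perm.mul_apply, Perm.mul_apply, perm_apply_inv_self, Perm.inv_eq_iff_eq,
        perm_apply_inv_self] at this
      exact this

theorem exists_fixed_iff (ι : β × ZMod 2 ↪ γ) :
    (∃ b, piI ι b = b) ↔ 2 * Fintype.card β < Fintype.card γ := by
  have hcard : Fintype.card (β × ZMod 2) = 2 * Fintype.card β := by
    rw [Fintype.card_prod, ZMod.card, mul_comm]
  have hle : Fintype.card (β × ZMod 2) ≤ Fintype.card γ := Fintype.card_le_of_injective _ ι.injective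
  constructor
  · rintro ⟨b, hb⟩
    rw [piI_fixed_iff] at hb
    by_contra hlt
    have heq : Fintype.card (β × ZMod 2) = Fintype.card γ := by omega
    have hbij := (Fintype.bijective_iff_injective_and_card ι).mpr ⟨ι.injective, heq⟩
    exact hb (hbij.2 b)
  · intro hlt
    by_contra hne
    push Not at hne
    have hsurj : Function.Surjective ι := by
      intro b
      have := hne b
      rw [Ne, piI_fixed_iff, not_not] at this
      exact this
    have := Fintype.card_le_of_surjective _ hsurj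
    omega

end structureLemma

theorem sylow_eq_stdW (n : ℕ) (Pm0 : Sylow 2 (Perm (Fin (n / 2)))) (P : Sylow 2 (Perm (Fin n))) :
    ∃ ι : Fin (n / 2) × ZMod 2 ↪ Fin n, (P : Subgroup (Perm (Fin n))) = stdW ι Pm0 := by
  obtain ⟨ι0⟩ := exists_embedding 2 n
  let Q : Sylow 2 (Perm (Fin n)) := Sylow.ofCard (stdW ι0 Pm0) (card_std 2 n Pm0 ι0)
  obtain ⟨g, hg⟩ := MulAction.exists_smul_eq (Perm (Fin n)) Q P
  refine ⟨ι0.trans g.toEmbedding, ?_⟩
  rw [← hg, Sylow.coe_subgroup_smul]
  ext y
  rw [Subgroup.mem_pointwise_smul_iff_inv_smul_mem, MulAut.smul_def, MulAut.conj_inv_apply]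
  show g⁻¹ * y * g ∈ stdW ι0 Pm0 ↔ _
  rw [mem_stdW, mem_stdW]
  constructor
  · rintro ⟨σ, hσ, f, h⟩
    exact ⟨σ, hσ, f, (compat_conj ι0 g y σ f).mpr h⟩
  · rintro ⟨σ, hσ, f, h⟩
    exact ⟨σ, hσ, f, (compat_conj ι0 g y σ f).mp h⟩

theorem zmod2_add_add_self (s g : ZMod 2) : s + g + g = s := by
  revert s g; decide

/-- a `SylGood` permutation lies in at most one Sylow 2-subgroup -/
theorem sylow_unique_of_sylGood : ∀ (n : ℕ) (x : Perm (Fin n)), SylGood x →
    ∀ P Q : Sylow 2 (Perm (Fin n)), x ∈ P → x ∈ Q → P = Q := by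
  intro n
  induction n using Nat.strong_induction_on with
  | _ n ih =>
    intro x hg P Q hxP hxQ
    rcases Nat.eq_zero_or_pos n with rfl | hpos
    · apply Sylow.ext
      ext y
      have : y = 1 := Subsingleton.elim _ _
      rw [this]
      exact ⟨fun _ => Subgroup.one_mem _, fun _ => Subgroup.one_mem _⟩
    · have hlt : n / 2 < n := Nat.div_lt_self hpos one_lt_two
      let Pm0 : Sylow 2 (Perm (Fin (n / 2))) := default
      obtain ⟨ι, hP⟩ := sylow_eq_stdW n Pm0 P
      obtain ⟨ι', hQ⟩ := sylow_eq_stdW n Pm0 Q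
      have hxP' : x ∈ stdW ι Pm0 := by rw [← hP]; exact hxP
      have hxQ' : x ∈ stdW ι' Pm0 := by rw [← hQ]; exact hxQ
      obtain ⟨σ, hσ, f, hc⟩ := mem_stdW.mp hxP'
      obtain ⟨σ', hσ', f', hc'⟩ := mem_stdW.mp hxQ'
      have hex : (∃ b, piI ι b = b) ↔ (∃ b, piI ι' b = b) := by
        rw [exists_fixed_iff, exists_fixed_iff]
      have hπ : piI ι = piI ι' :=
        invol_unique hg (piI_piI ι) (piI_piI ι') hc.comm hc'.comm
          (fun b hb => hc.fixed_of_out hb) (fun b hb => hc'.fixed_of_out hb) hex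
      obtain ⟨τ, g, hτ⟩ := exists_reindex hπ
      have hinj : ∀ (i' j' : Fin (n / 2)) (t s : ZMod 2), ι (i', t) = ι (j', s) →
          i' = j' ∧ t = s := by
        intro i' j' t s e
        have := ι.injective e
        rwa [Prod.mk.injEq] at this
      have hconj : ∀ i, τ (σ' i) = σ (τ i) := by
        intro i
        have e1 := hc'.app i 0
        rw [hτ, hτ, hc.app] at e1
        exact (hinj _ _ _ _ e1).1.symm
      have hmemsmul : ∀ ρ : Perm (Fin (n / 2)),
          ρ ∈ (τ • Pm0 : Sylow 2 (Perm (Fin (n / 2)))) ↔ τ⁻¹ * ρ * τ ∈ Pm0 := by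
        intro ρ
        show ρ ∈ ((τ • Pm0 : Sylow 2 (Perm (Fin (n / 2)))) : Subgroup _) ↔ _
        rw [Sylow.coe_subgroup_smul, Subgroup.mem_pointwise_smul_iff_inv_smul_mem,
          MulAut.smul_def, MulAut.conj_inv_apply]
        rfl
      have hσ2 : σ ∈ (τ • Pm0 : Sylow 2 (Perm (Fin (n / 2)))) := by
        rw [hmemsmul]
        have : τ⁻¹ * σ * τ = σ' := by
          ext i
          rw [Perm.mul_apply, Perm.mul_apply, ← hconj, perm_inv_apply_self]
        rw [this]
        exact hσ'
      have hgσ : SylGood σ := hc.sylGood hg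
      have hPm : Pm0 = τ • Pm0 := ih (n / 2) hlt σ hgσ Pm0 (τ • Pm0) hσ hσ2
      have hQP : (Q : Subgroup (Perm (Fin n))) ≤ P := by
        rw [hP, hQ]
        intro y hy
        obtain ⟨ρ, hρ, φ, hcy⟩ := mem_stdW.mp hy
        refine mem_stdW.mpr ⟨τ * ρ * τ⁻¹, ?_,
          fun k => g (ρ⁻¹ (τ⁻¹ k)) + φ (τ⁻¹ k) + g (τ⁻¹ k), ?_⟩
        · have : τ * ρ * τ⁻¹ ∈ (τ • Pm0 : Sylow 2 (Perm (Fin (n / 2)))) := by
            rw [hmemsmul]
            have : τ⁻¹ * (τ * ρ * τ⁻¹) * τ = ρ := by group
            rw [this]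
            exact hρ
          rw [← hPm] at this
          exact this
        · constructor
          · intro j s
            have e : ι (j, s) = ι' (τ⁻¹ j, s + g (τ⁻¹ j)) := by
              rw [hτ, perm_apply_inv_self, zmod2_add_add_self]
            rw [e, hcy.app, hτ]
            simp only [Perm.mul_apply, perm_inv_apply_self]
            congr 2
            abel
          · intro b hb
            apply hcy.out
            rintro ⟨⟨i, t⟩, rfl⟩
            exact hb ⟨(τ i, t + g i), (hτ i t).symm⟩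
      exact Sylow.ext (Q.is_maximal' P.isPGroup' hQP)

/-- the main statement for `Sym(n)` -/
theorem sylow_unique_iff (n : ℕ) (x : Perm (Fin n)) (hx : ∃ k : ℕ, orderOf x = 2 ^ k) :
    (∃! P : Sylow 2 (Perm (Fin n)), x ∈ P) ↔ (n ≤ x.support.card + 2 ∧ x.cycleType.Nodup) := by
  have hiff := sylGood_iff x
  rw [Fintype.card_fin] at hiff
  rw [← hiff]
  constructor
  · rintro ⟨P, hP, huniq⟩
    apply sylGood_of_unique x hx
    intro P1 P2 h1 h2
    rw [huniq P1 h1, huniq P2 h2]
  · intro hg
    have hH : IsPGroup 2 (Subgroup.zpowers x) := by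
      obtain ⟨k, hk⟩ := hx
      apply IsPGroup.of_card (n := k)
      rw [Nat.card_zpowers, hk]
    obtain ⟨P, hP⟩ := hH.exists_le_sylow
    refine ⟨P, hP (Subgroup.mem_zpowers x), ?_⟩
    intro Q hQ
    exact sylow_unique_of_sylGood n x hg Q P hQ (hP (Subgroup.mem_zpowers x))

end Cfsg.Agent.Helper42
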