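import Mathlib
import Cfsg.Agent.Helper42.Syl2D

/-!
# Sylow 2-subgroups of `S_n`, `A_n` and maximal subgroups: general lemmas
-/

set_option autoImplicit false

namespace Cfsg.Agent.Helper42.MaxSyl

open Equiv Equiv.Perm

/-- Two proper overgroups of `R` generating the whole group give two coatoms over `R`. -/
theorem not_existsUnique_of_sup_eq_top {Γ : Type*} [Group Γ] [Finite Γ]
    (R H₁ H₂ : Subgroup Γ) (h₁ : R ≤ H₁) (h₂ : R ≤ H₂) (n₁ : H₁ ≠ ⊤) (n₂ : H₂ ≠ ⊤)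
    (hsup : H₁ ⊔ H₂ = ⊤) : ¬ ∃! M : Subgroup Γ, IsCoatom M ∧ R ≤ M := by
  rintro ⟨M, -, huniq⟩
  obtain ⟨M₁, hM₁, hle₁⟩ := (eq_top_or_exists_le_coatom H₁).resolve_left n₁
  obtain ⟨M₂, hM₂, hle₂⟩ := (eq_top_or_exists_le_coatom H₂).resolve_left n₂
  have e₁ := huniq M₁ ⟨hM₁, h₁.trans hle₁⟩
  have e₂ := huniq M₂ ⟨hM₂, h₂.trans hle₂⟩
  have : H₁ ⊔ H₂ ≤ M := sup_le (e₁ ▸ hle₁) (e₂ ▸ hle₂)
  rw [hsup] at this
  have hM : IsCoatom M := e₁ ▸ hM₁
  exact hM.1 (top_le_iff.mp this)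

/-- Two distinct coatoms over `R`. -/
theorem not_existsUnique_of_two {Γ : Type*} [Group Γ]
    (R M₁ M₂ : Subgroup Γ) (h₁ : IsCoatom M₁) (h₂ : IsCoatom M₂) (l₁ : R ≤ M₁) (l₂ : R ≤ M₂)
    (hne : M₁ ≠ M₂) : ¬ ∃! M : Subgroup Γ, IsCoatom M ∧ R ≤ M := by
  rintro ⟨M, -, huniq⟩
  exact hne ((huniq M₁ ⟨h₁, l₁⟩).trans (huniq M₂ ⟨h₂, l₂⟩).symm)

/-- A Sylow subgroup of `Γ` is the preimage of a Sylow subgroup of any finite overgroup. -/
theorem exists_sylow_comap_eq {Γ G : Type*} [Group Γ] [Group G] [Finite G] (p : ℕ)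
    [Fact p.Prime] (φ : Γ →* G) (hφ : Function.Injective φ) (R : Sylow p Γ) :
    ∃ Q : Sylow p G, (R : Subgroup Γ) = (Q : Subgroup G).comap φ := by
  have hR : IsPGroup p ((R : Subgroup Γ).map φ) := R.isPGroup'.map φ
  obtain ⟨Q, hQ⟩ := hR.exists_le_sylow
  refine ⟨Q, ?_⟩
  have hcomap : IsPGroup p ((Q : Subgroup G).comap φ) :=
    Q.isPGroup'.comap_of_injective φ hφ
  have hle : (R : Subgroup Γ) ≤ (Q : Subgroup G).comap φ := by
    rw [← Subgroup.map_le_iff_le_comap]; exact hQ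
  exact (R.is_maximal' hcomap hle).symm

/-- The subgroup of permutations preserving a relation in both directions. -/
def relStab {α : Type*} (r : α → α → Prop) : Subgroup (Perm α) where
  carrier := {g | ∀ x y, r x y ↔ r (g x) (g y)}
  one_mem' := fun x y => Iff.rfl
  mul_mem' := by
    intro g h hg hh x y
    rw [hh x y, hg (h x) (h y)]
    rfl
  inv_mem' := by
    intro g hg x y
    have := hg (g⁻¹ x) (g⁻¹ y)
    rw [perm_apply_inv_self, perm_apply_inv_self] at this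
    exact this.symm

theorem mem_relStab {α : Type*} {r : α → α → Prop} {g : Perm α} :
    g ∈ relStab r ↔ ∀ x y, r x y ↔ r (g x) (g y) := Iff.rfl

end Cfsg.Agent.Helper42.MaxSyl
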