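import Mathlib
import Cfsg.Agent.Helper42.MaxSylA

/-!
# Structure facts on `stdW ι K` used for maximal overgroups of Sylow 2-subgroups
-/

set_option autoImplicit false
set_option linter.unusedSectionVars false

namespace Cfsg.Agent.Helper42.MaxSyl

open Equiv Equiv.Perm Cfsg.Agent.Helper42

section

variable {β γ : Type*} [DecidableEq β] [Fintype β] [DecidableEq γ] [Fintype γ]

theorem one_add_one_zmod2 : (1 + 1 : ZMod 2) = 0 := by decide

/-- action of a base swap in `ι`-coordinates -/
theorem baseSwap_apply (ι : β × ZMod 2 ↪ γ) (i l : β) (t : ZMod 2) :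
    swap (ι (i, 0)) (ι (i, 1)) (ι (l, t)) = ι (l, t + (Pi.single i 1 : β → ZMod 2) l) := by
  by_cases hl : l = i
  · subst hl
    rw [Pi.single_eq_same]
    rcases zmod2_cases t with rfl | rfl
    · rw [swap_apply_left, zero_add]
    · rw [swap_apply_right, one_add_one_zmod2]
  · rw [Pi.single_eq_of_ne hl, add_zero]
    apply swap_apply_of_ne_of_ne
    · intro h
      have := ι.injective h
      simp only [Prod.mk.injEq] at this
      exact hl this.1
    · intro h
      have := ι.injective h
      simp only [Prod.mk.injEq] at this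
      exact hl this.1

theorem baseSwap_apply_out (ι : β × ZMod 2 ↪ γ) (i : β) (b : γ) (hb : b ∉ Set.range ι) :
    swap (ι (i, 0)) (ι (i, 1)) b = b := by
  apply swap_apply_of_ne_of_ne
  · rintro rfl; exact hb ⟨_, rfl⟩
  · rintro rfl; exact hb ⟨_, rfl⟩

/-- the base swaps lie in `stdW ι K` -/
theorem swap_mem_stdW (ι : β × ZMod 2 ↪ γ) (K : Subgroup (Perm β)) (i : β) :
    swap (ι (i, 0)) (ι (i, 1)) ∈ stdW ι K := by
  rw [mem_stdW]
  refine ⟨1, K.one_mem, (Pi.single i 1 : β → ZMod 2), ?_⟩
  constructor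
  · intro j t
    rw [baseSwap_apply]
    rfl
  · intro b hb
    exact baseSwap_apply_out ι i b hb

/-- action of a pair exchange in `ι`-coordinates -/
theorem pairExch_apply (ι : β × ZMod 2 ↪ γ) (i j : β) (hij : i ≠ j) (l : β) (t : ZMod 2) :
    (swap (ι (i, 0)) (ι (j, 0)) * swap (ι (i, 1)) (ι (j, 1))) (ι (l, t)) =
      ι (swap i j l, t) := by
  have hinj : ∀ a b : β × ZMod 2, ι a = ι b ↔ a = b := fun a b => ι.injective.eq_iff
  rw [Perm.mul_apply]
  rcases zmod2_cases t with rfl | rfl
  · -- t = 0 : the inner swap fixes the point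
    have h1 : swap (ι (i, 1)) (ι (j, 1)) (ι (l, 0)) = ι (l, 0) := by
      apply swap_apply_of_ne_of_ne
      · rw [Ne, hinj]; simp
      · rw [Ne, hinj]; simp
    rw [h1]
    by_cases hli : l = i
    · subst hli
      rw [swap_apply_left, swap_apply_left]
    · by_cases hlj : l = j
      · subst hlj
        rw [swap_apply_right, swap_apply_right]
      · rw [swap_apply_of_ne_of_ne hli hlj]
        apply swap_apply_of_ne_of_ne
        · rw [Ne, hinj]; simp [hli]
        · rw [Ne, hinj]; simp [hlj]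
  · -- t = 1
    by_cases hli : l = i
    · subst hli
      rw [swap_apply_left, swap_apply_left]
      apply swap_apply_of_ne_of_ne
      · rw [Ne, hinj]; simp
      · rw [Ne, hinj]; simp
    · by_cases hlj : l = j
      · subst hlj
        rw [swap_apply_right, swap_apply_right]
        apply swap_apply_of_ne_of_ne
        · rw [Ne, hinj]; simp
        · rw [Ne, hinj]; simp
      · rw [swap_apply_of_ne_of_ne hli hlj]
        have h1 : swap (ι (i, 1)) (ι (j, 1)) (ι (l, 1)) = ι (l, 1) := by
          apply swap_apply_of_ne_of_ne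
          · rw [Ne, hinj]; simp [hli]
          · rw [Ne, hinj]; simp [hlj]
        rw [h1]
        apply swap_apply_of_ne_of_ne
        · rw [Ne, hinj]; simp
        · rw [Ne, hinj]; simp

/-- lifts of elements of `K` -/
theorem exists_lift_mem_stdW (ι : β × ZMod 2 ↪ γ) (K : Subgroup (Perm β)) {σ : Perm β}
    (hσ : σ ∈ K) : ∃ y ∈ stdW ι K, ∀ l t, y (ι (l, t)) = ι (σ l, t) := by
  refine ⟨(tr (0 : β → ZMod 2) * lf 2 σ).viaEmbedding ι, ?_, ?_⟩
  · rw [mem_stdW]
    exact ⟨σ, hσ, 0, (compat_iff _ _ _ _).mpr rfl⟩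
  · intro l t
    have h := ((compat_iff ι _ σ (0 : β → ZMod 2)).mpr rfl).app l t
    rw [h]
    simp

/-- every element of `stdW ι K` permutes the fibres of `ι` according to an element of `K` -/
theorem exists_fibre_perm (ι : β × ZMod 2 ↪ γ) (K : Subgroup (Perm β)) {y : Perm γ}
    (hy : y ∈ stdW ι K) :
    ∃ σ ∈ K, (∀ l t, ∃ t', y (ι (l, t)) = ι (σ l, t')) ∧ ∀ b, b ∉ Set.range ι → y b = b := by
  rw [mem_stdW] at hy
  obtain ⟨σ, hσ, f, hc⟩ := hy
  exact ⟨σ, hσ, fun l t => ⟨_, hc.app l t⟩, hc.out⟩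

end

end Cfsg.Agent.Helper42.MaxSyl
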