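import Mathlib
import Cfsg.Agent.Helper42.SpSylA
import Cfsg.Agent.Helper42.SylowEA

set_option autoImplicit false
set_option linter.unusedSectionVars false

/-!
# The wreath product `Q ≀ T` inside `Sp_{2n}(F)`
-/

namespace Cfsg.Agent.Helper42

open Matrix Equiv

section general

/-- the subgroup of elements whose `p`-th power lies in the commutator subgroup -/
def eaSub (p : ℕ) (G : Type*) [Group G] : Subgroup G :=
  ((powMonoidHom p : Abelianization G →* Abelianization G).ker).comap Abelianization.of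

theorem mem_eaSub {p : ℕ} {G : Type*} [Group G] {x : G} : x ∈ eaSub p G ↔ x ^ p ∈ commutator G := by
  rw [eaSub, Subgroup.mem_comap, MonoidHom.mem_ker, powMonoidHom_apply, ← map_pow,
    ← MonoidHom.mem_ker, Abelianization.ker_of]

theorem EA_iff_eaSub {p : ℕ} {G : Type*} [Group G] : EA p G ↔ eaSub p G = ⊤ := by
  rw [Subgroup.eq_top_iff']
  exact forall_congr' fun x => mem_eaSub.symm

theorem map_mem_eaSub {p : ℕ} {G G' : Type*} [Group G] [Group G'] (f : G →* G') {x : G}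
    (hx : x ∈ eaSub p G) : f x ∈ eaSub p G' := by
  rw [mem_eaSub] at hx ⊢
  rw [← map_pow]
  exact map_commutator_le f ⟨_, hx, rfl⟩

theorem EA.pi {p : ℕ} {ι : Type*} [Finite ι] [DecidableEq ι] {G : ι → Type*} [∀ i, Group (G i)]
    (h : ∀ i, EA p (G i)) : EA p (∀ i, G i) := by
  rw [EA_iff_eaSub, Subgroup.eq_top_iff']
  intro x
  apply Subgroup.pi_mem_of_mulSingle_mem
  intro i
  exact map_mem_eaSub (MonoidHom.mulSingle G i) (mem_eaSub.2 (h i (x i)))

end general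

variable {F : Type*} [Field F] {n : ℕ}

/-- the group `Q ≀ T` of block-monomial symplectic matrices -/
def spWr (Q : Subgroup (SpecialLinearGroup (Fin 2) F)) (T : Subgroup (Perm (Fin n))) :
    Subgroup (symplecticGroup (Fin n) F) where
  carrier := {g | ∃ f : Fin n → SpecialLinearGroup (Fin 2) F, (∀ i, f i ∈ Q) ∧
    ∃ σ ∈ T, g = bHom F n f * pHom F n σ}
  mul_mem' := by
    rintro _ _ ⟨f, hf, σ, hσ, rfl⟩ ⟨f', hf', σ', hσ', rfl⟩
    refine ⟨f * f' ∘ σ.symm, fun i => Q.mul_mem (hf i) (hf' _), σ * σ', T.mul_mem hσ hσ', ?_⟩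
    rw [map_mul, map_mul, mul_assoc, ← mul_assoc (pHom F n σ), pHom_bHom]
    simp only [mul_assoc]
  one_mem' := ⟨1, fun _ => Q.one_mem, 1, T.one_mem, by rw [map_one, map_one, one_mul]⟩
  inv_mem' := by
    rintro _ ⟨f, hf, σ, hσ, rfl⟩
    refine ⟨(f⁻¹) ∘ (σ⁻¹).symm, fun i => Q.inv_mem (hf _), σ⁻¹, T.inv_mem hσ, ?_⟩
    rw [← pHom_bHom, _root_.mul_inv_rev, map_inv, map_inv]

theorem mem_spWr {Q : Subgroup (SpecialLinearGroup (Fin 2) F)} {T : Subgroup (Perm (Fin n))}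
    {g : symplecticGroup (Fin n) F} :
    g ∈ spWr Q T ↔ ∃ f : Fin n → SpecialLinearGroup (Fin 2) F, (∀ i, f i ∈ Q) ∧
      ∃ σ ∈ T, g = bHom F n f * pHom F n σ := Iff.rfl

theorem bHom_mem_spWr {Q : Subgroup (SpecialLinearGroup (Fin 2) F)} (T : Subgroup (Perm (Fin n)))
    {f : Fin n → SpecialLinearGroup (Fin 2) F} (hf : ∀ i, f i ∈ Q) : bHom F n f ∈ spWr Q T :=
  ⟨f, hf, 1, T.one_mem, by rw [map_one, mul_one]⟩

theorem pHom_mem_spWr (Q : Subgroup (SpecialLinearGroup (Fin 2) F)) {T : Subgroup (Perm (Fin n))}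
    {σ : Perm (Fin n)} (hσ : σ ∈ T) : pHom F n σ ∈ spWr Q T :=
  ⟨1, fun _ => Q.one_mem, σ, hσ, by rw [map_one, one_mul]⟩

theorem card_spWr (Q : Subgroup (SpecialLinearGroup (Fin 2) F)) (T : Subgroup (Perm (Fin n))) :
    Nat.card (spWr Q T) = Nat.card Q ^ n * Nat.card T := by
  have h1 : Nat.card ((Fin n → Q) × T) = Nat.card Q ^ n * Nat.card T := by
    rw [Nat.card_prod, Nat.card_fun, Nat.card_fin]
  rw [← h1]
  symm
  apply Nat.card_congr
  refine Equiv.ofBijective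
    (fun x : (Fin n → Q) × T => ⟨bHom F n (fun i => (x.1 i).1) * pHom F n x.2.1,
      fun i => (x.1 i).1, fun i => (x.1 i).2, x.2.1, x.2.2, rfl⟩) ⟨?_, ?_⟩
  · rintro ⟨f, ⟨σ, hσ⟩⟩ ⟨f', ⟨σ', hσ'⟩⟩ h
    have h' : bHom F n (fun i => (f i).1) * pHom F n σ = bHom F n (fun i => (f' i).1) * pHom F n σ' :=
      congrArg Subtype.val h
    obtain ⟨h1, rfl⟩ := bHom_pHom_inj h'
    have : f = f' := by
      funext i
      exact Subtype.ext (congrFun h1 i)
    rw [this]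
  · rintro ⟨g, f, hf, σ, hσ, rfl⟩
    exact ⟨⟨fun i => ⟨f i, hf i⟩, ⟨σ, hσ⟩⟩, rfl⟩

/-- `EA` passes from `Q` and `T` to `Q ≀ T` -/
theorem EA_spWr {p : ℕ} (Q : Subgroup (SpecialLinearGroup (Fin 2) F)) (T : Subgroup (Perm (Fin n)))
    (hQ : EA p Q) (hT : EA p T) : EA p (spWr Q T) := by
  rintro ⟨g, f, hf, σ, hσ, rfl⟩
  have hsplit : (⟨bHom F n f * pHom F n σ, f, hf, σ, hσ, rfl⟩ : spWr Q T) =
      ⟨bHom F n f, bHom_mem_spWr T hf⟩ * ⟨pHom F n σ, pHom_mem_spWr Q hσ⟩ := rfl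
  rw [hsplit]
  apply pow_mem_commutator_of_mul
  · let ψ : (Fin n → Q) →* ↥(spWr Q T) :=
      { toFun := fun f => ⟨bHom F n (fun i => (f i).1), bHom_mem_spWr T (fun i => (f i).2)⟩
        map_one' := Subtype.ext (map_one (bHom F n))
        map_mul' := fun a b => Subtype.ext (map_mul (bHom F n) _ _) }
    have h1 := (EA.pi (fun _ : Fin n => hQ)) (fun i => ⟨f i, hf i⟩)
    have h2 : ψ ((fun i => (⟨f i, hf i⟩ : Q)) ^ p) ∈ commutator (spWr Q T) :=
      map_commutator_le ψ ⟨_, h1, rfl⟩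
    rw [map_pow] at h2
    exact h2
  · let ψ : ↥T →* ↥(spWr Q T) :=
      { toFun := fun τ => ⟨pHom F n τ.1, pHom_mem_spWr Q τ.2⟩
        map_one' := Subtype.ext (map_one (pHom F n))
        map_mul' := fun a b => Subtype.ext (map_mul (pHom F n) a.1 b.1) }
    have h1 := hT ⟨σ, hσ⟩
    have h2 : ψ (⟨σ, hσ⟩ ^ p) ∈ commutator (spWr Q T) := map_commutator_le ψ ⟨_, h1, rfl⟩
    rw [map_pow] at h2
    exact h2

end Cfsg.Agent.Helper42
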