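import Mathlib
import Cfsg.Agent.Helper42.SpSylB
import Cfsg.Agent.Helper5.SpCard
import Cfsg.Agent.Helper5.ProjLine
import Cfsg.Agent.Helper37.SL2Sylow2

set_option autoImplicit false
set_option linter.unusedSectionVars false

/-!
# The Sylow 2-subgroup `Q ≀ T` of `Sp_{2n}(F)`, `|F|` odd
-/

namespace Cfsg.Agent.Helper42

open Matrix Equiv
open scoped commutatorElement

section quaternion

theorem quaternion_a_two_mul_mem {n : ℕ} (i : ZMod (2 * n)) :
    (QuaternionGroup.a (2 * i) : QuaternionGroup n) ∈ commutator (QuaternionGroup n) := by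
  have hn : ((n : ZMod (2 * n)) + n) = 0 := by
    have := ZMod.natCast_self (2 * n)
    push_cast at this
    rw [← this]; ring
  have h : ⁅(QuaternionGroup.xa 0 : QuaternionGroup n), QuaternionGroup.a (-i)⁆ =
      QuaternionGroup.a (2 * i) := by
    rw [commutatorElement_def]
    have h1 : (QuaternionGroup.xa 0 : QuaternionGroup n)⁻¹ = QuaternionGroup.xa n := by
      apply inv_eq_of_mul_eq_one_right
      rw [QuaternionGroup.xa_mul_xa, sub_zero, hn, QuaternionGroup.a_zero]
    have h2 : (QuaternionGroup.a (-i) : QuaternionGroup n)⁻¹ = QuaternionGroup.a i := by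
      apply inv_eq_of_mul_eq_one_right
      rw [QuaternionGroup.a_mul_a, neg_add_cancel, QuaternionGroup.a_zero]
    rw [h1, h2, QuaternionGroup.xa_mul_a, QuaternionGroup.xa_mul_xa, QuaternionGroup.a_mul_a]
    congr 1
    linear_combination hn
  rw [← h, commutator_def]
  exact Subgroup.commutator_mem_commutator (Subgroup.mem_top _) (Subgroup.mem_top _)

theorem EA_quaternion (k : ℕ) (hk : 1 ≤ k) : EA 2 (QuaternionGroup (2 ^ k)) := by
  intro x
  cases x with
  | a i =>
    rw [sq, QuaternionGroup.a_mul_a, ← two_mul]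
    exact quaternion_a_two_mul_mem i
  | xa i =>
    rw [QuaternionGroup.xa_sq]
    obtain ⟨m, rfl⟩ : ∃ m, k = m + 1 := ⟨k - 1, by omega⟩
    have : ((2 ^ (m + 1) : ℕ) : ZMod (2 * 2 ^ (m + 1))) =
        2 * ((2 ^ m : ℕ) : ZMod (2 * 2 ^ (m + 1))) := by
      rw [pow_succ]; push_cast; ring
    rw [this]
    exact quaternion_a_two_mul_mem _

end quaternion

variable {F : Type*} [Field F] [Fintype F]

/-- Sylow 2-subgroups of `SL₂(F)`, `|F|` odd, have elementary abelian abelianization -/
theorem sylow_SL2_EA (hF : Odd (Fintype.card F)) (Q : Sylow 2 (SpecialLinearGroup (Fin 2) F)) :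
    EA 2 (Q : Subgroup (SpecialLinearGroup (Fin 2) F)) := by
  obtain ⟨k, hk, ⟨e⟩⟩ := Cfsg.Agent.Helper37.SL2Q.sylow_two_quaternion hF Q
  exact EA.of_mulEquiv e.symm (EA_quaternion k hk)

/-- the 2-part of `|Sp_{2n}(F)|` -/
theorem padicValNat_card_sp (hF : Odd (Fintype.card F)) (n : ℕ) :
    padicValNat 2 (Nat.card (symplecticGroup (Fin n) F)) =
      n * padicValNat 2 (Nat.card (SpecialLinearGroup (Fin 2) F)) + padicValNat 2 (n.factorial) := by
  have hq1 : 1 < Fintype.card F := Fintype.one_lt_card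
  have hq2 : ¬ 2 ∣ Fintype.card F := fun h => (Nat.not_even_iff_odd.2 hF) (even_iff_two_dvd.2 h)
  set q := Fintype.card F with hq
  have hpow : ∀ m : ℕ, m ≠ 0 → q ^ m - 1 ≠ 0 := by
    intro m hm
    have : 1 < q ^ m := Nat.one_lt_pow hm hq1
    omega
  have hqv : ∀ m : ℕ, padicValNat 2 (q ^ m) = 0 := by
    intro m
    apply padicValNat.eq_zero_of_not_dvd
    intro h
    exact hq2 (Nat.prime_two.dvd_of_dvd_pow h)
  have hSL : padicValNat 2 (Nat.card (SpecialLinearGroup (Fin 2) F)) = padicValNat 2 (q ^ 2 - 1) := by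
    rw [Cfsg.Agent.Helper5.card_SL2, padicValNat.mul (by omega) (hpow 2 (by norm_num))]
    have := hqv 1
    rw [pow_one] at this
    rw [this, zero_add]
  have hLTE : ∀ i : ℕ, padicValNat 2 (q ^ (2 * (i + 1)) - 1) =
      padicValNat 2 (q ^ 2 - 1) + padicValNat 2 (i + 1) := by
    intro i
    have h1 := padicValNat.pow_two_sub_one hq1 hq2 (n := 2 * (i + 1)) (by omega) (even_two_mul _)
    have h2 := padicValNat.pow_two_sub_one hq1 hq2 (n := 2) (by norm_num) even_two
    rw [padicValNat.mul (by norm_num) (by omega)] at h1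
    have h3 : padicValNat 2 2 = 1 := by simp
    rw [h3] at h1 h2
    omega
  rw [hSL]
  induction n with
  | zero =>
    have : Subsingleton (symplecticGroup (Fin 0) F) :=
      ⟨fun a b => Subtype.ext (Subsingleton.elim _ _)⟩
    rw [Nat.card_of_subsingleton (1 : symplecticGroup (Fin 0) F)]
    simp
  | succ k ih =>
    rw [Cfsg.Agent.Helper5.card_sp_succ, ← hq,
      padicValNat.mul (mul_ne_zero (hpow _ (by omega)) (pow_ne_zero _ (by omega))) Nat.card_pos.ne',
      padicValNat.mul (hpow _ (by omega)) (pow_ne_zero _ (by omega)), hqv, ih, hLTE,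
      Nat.factorial_succ, padicValNat.mul (by omega) (Nat.factorial_ne_zero k)]
    ring

end Cfsg.Agent.Helper42
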