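import Mathlib
import Cfsg.Agent.Helper42.SpSylC

set_option autoImplicit false
set_option linter.unusedSectionVars false

/-!
# Sylow 2-subgroups of `Sp_{2n}(F)`: `P / P'` is elementary abelian
-/

namespace Cfsg.Agent.Helper42

open Matrix Equiv

variable {F : Type*} [Field F] [Fintype F]

theorem card_spWr_sylow (hF : Odd (Fintype.card F)) (n : ℕ)
    (Q : Sylow 2 (SpecialLinearGroup (Fin 2) F)) (T : Sylow 2 (Perm (Fin n))) :
    Nat.card (spWr (Q : Subgroup (SpecialLinearGroup (Fin 2) F)) (T : Subgroup (Perm (Fin n)))) =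
      2 ^ (Nat.card (symplecticGroup (Fin n) F)).factorization 2 := by
  rw [card_spWr, Q.card_eq_multiplicity, T.card_eq_multiplicity, Nat.factorization_def _ Nat.prime_two,
    Nat.factorization_def _ Nat.prime_two, Nat.factorization_def _ Nat.prime_two,
    padicValNat_card_sp hF n, Nat.card_perm, Nat.card_fin, pow_add, ← pow_mul, mul_comm n]

/-- the standard Sylow 2-subgroup of `Sp_{2n}(F)` -/
noncomputable def spSylow (hF : Odd (Fintype.card F)) (n : ℕ)
    (Q : Sylow 2 (SpecialLinearGroup (Fin 2) F)) (T : Sylow 2 (Perm (Fin n))) :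
    Sylow 2 (symplecticGroup (Fin n) F) :=
  Sylow.ofCard _ (card_spWr_sylow hF n Q T)

theorem coe_spSylow (hF : Odd (Fintype.card F)) (n : ℕ)
    (Q : Sylow 2 (SpecialLinearGroup (Fin 2) F)) (T : Sylow 2 (Perm (Fin n))) :
    (spSylow hF n Q T : Subgroup (symplecticGroup (Fin n) F)) =
      spWr (Q : Subgroup (SpecialLinearGroup (Fin 2) F)) (T : Subgroup (Perm (Fin n))) := rfl

/-- Sylow 2-subgroups of `Sp_{2n}(F)`, `|F|` odd, have elementary abelian abelianization. -/
theorem sylow_sp_EA (hF : Odd (Fintype.card F)) (n : ℕ) (P : Sylow 2 (symplecticGroup (Fin n) F)) :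
    EA 2 (P : Subgroup (symplecticGroup (Fin n) F)) := by
  let Q : Sylow 2 (SpecialLinearGroup (Fin 2) F) := default
  let T : Sylow 2 (Perm (Fin n)) := default
  have hW : EA 2 (spSylow hF n Q T : Subgroup (symplecticGroup (Fin n) F)) := by
    rw [coe_spSylow]
    exact EA_spWr _ _ (sylow_SL2_EA hF Q) (sylow_perm_EA 2 n T)
  exact EA.of_mulEquiv ((spSylow hF n Q T).equiv P) hW

end Cfsg.Agent.Helper42
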