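import Mathlib
import Cfsg.Prelude.Def_Transfer
import Cfsg.Agent.Helper42.SpSylD
import Cfsg.Agent.Helper37.OddCard
import Cfsg.Agent.Helper37.TwoRankSp

set_option autoImplicit false
set_option linter.unusedSectionVars false

/-!
# Normal 2-rank of Sylow 2-subgroups of `Sp_{2n}(F)`
-/

namespace Cfsg.Agent.Helper42

open Matrix Equiv

section

variable {F : Type*} [Field F] {n : ℕ}

theorem spWr_mono {Q Q' : Subgroup (SpecialLinearGroup (Fin 2) F)} {T T' : Subgroup (Perm (Fin n))}
    (hQ : Q ≤ Q') (hT : T ≤ T') : spWr Q T ≤ spWr Q' T' := by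
  rintro _ ⟨f, hf, σ, hσ, rfl⟩
  exact ⟨f, fun i => hQ (hf i), σ, hT hσ, rfl⟩

/-- the central element `-1` of `SL₂(F)` -/
def negOneSL (F : Type*) [Field F] : SpecialLinearGroup (Fin 2) F :=
  ⟨Matrix.scalar (Fin 2) (-1), by simp [Matrix.det_fin_two]⟩

theorem negOneSL_mem_center : negOneSL F ∈ Subgroup.center (SpecialLinearGroup (Fin 2) F) := by
  rw [Cfsg.Agent.Helper41.sl2_mem_center_iff]
  exact ⟨-1, by ring, rfl⟩

theorem negOneSL_ne_one (h2 : (2 : F) ≠ 0) : negOneSL F ≠ 1 := by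
  intro h
  have := congrArg (fun A : SpecialLinearGroup (Fin 2) F => A.1 0 0) h
  have h1 : (1 : SpecialLinearGroup (Fin 2) F).1 0 0 = 1 := by
    show (1 : Matrix (Fin 2) (Fin 2) F) 0 0 = 1
    rw [Matrix.one_apply_eq]
  simp only [negOneSL, Matrix.scalar_apply, Matrix.diagonal_apply_eq] at this
  rw [h1] at this
  apply h2
  linear_combination -this

theorem two_le_card_center (h2 : (2 : F) ≠ 0) :
    2 ≤ Nat.card (Subgroup.center (SpecialLinearGroup (Fin 2) F)) := by
  by_contra hlt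
  rcases Nat.eq_zero_or_pos (Nat.card (Subgroup.center (SpecialLinearGroup (Fin 2) F))) with h0 | hpos
  · have : Infinite (Subgroup.center (SpecialLinearGroup (Fin 2) F)) := by
      rcases finite_or_infinite (Subgroup.center (SpecialLinearGroup (Fin 2) F)) with hf | hi
      · exact absurd h0 Nat.card_pos.ne'
      · exact hi
    have : ∀ z ∈ Subgroup.center (SpecialLinearGroup (Fin 2) F), z = 1 ∨ z = negOneSL F := by
      intro z hz
      obtain ⟨r, hr, h⟩ := (Cfsg.Agent.Helper41.sl2_mem_center_iff z).1 hz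
      have hr' : (r - 1) * (r + 1) = 0 := by linear_combination hr
      rcases mul_eq_zero.1 hr' with h1 | h1
      · left
        apply Subtype.ext
        rw [h, sub_eq_zero.1 h1]
        simp
      · right
        apply Subtype.ext
        rw [h, eq_neg_of_add_eq_zero_left h1]
        rfl
    have hfin : Finite (Subgroup.center (SpecialLinearGroup (Fin 2) F)) := by
      have : (Subgroup.center (SpecialLinearGroup (Fin 2) F) : Set (SpecialLinearGroup (Fin 2) F)) ⊆
          {1, negOneSL F} := by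
        intro z hz
        rcases this z hz with h | h
        · left; exact h
        · right; exact h
      exact Set.Finite.subset (Set.toFinite _) this
    exact not_finite (Subgroup.center (SpecialLinearGroup (Fin 2) F))
  · have h1 : Nat.card (Subgroup.center (SpecialLinearGroup (Fin 2) F)) = 1 := by omega
    have hbot := Subgroup.card_eq_one.1 h1
    have := negOneSL_mem_center (F := F)
    rw [hbot, Subgroup.mem_bot] at this
    exact negOneSL_ne_one h2 this

theorem bHom_conj_of_center {f g : Fin n → SpecialLinearGroup (Fin 2) F} {σ : Perm (Fin n)}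
    (hf : ∀ i, f i ∈ Subgroup.center (SpecialLinearGroup (Fin 2) F)) :
    (bHom F n g * pHom F n σ) * bHom F n f * (bHom F n g * pHom F n σ)⁻¹ = bHom F n (f ∘ σ.symm) := by
  rw [mul_assoc (bHom F n g), pHom_bHom, _root_.mul_inv_rev, ← mul_assoc, mul_assoc (bHom F n g),
    mul_assoc (bHom F n (f ∘ σ.symm)), mul_inv_cancel, mul_one, ← map_mul, ← map_inv, ← map_mul]
  congr 1
  funext i
  simp only [Pi.mul_apply, Pi.inv_apply, Function.comp_apply]
  rw [mul_inv_eq_iff_eq_mul]
  exact Subgroup.mem_center_iff.1 (hf (σ.symm i)) (g i)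

/-- the normal elementary abelian subgroup `Z ^ n` of `Q ≀ T` -/
theorem exists_normal_EA (h2 : (2 : F) ≠ 0) (Q : Subgroup (SpecialLinearGroup (Fin 2) F))
    (T : Subgroup (Perm (Fin n))) (hZ : Subgroup.center (SpecialLinearGroup (Fin 2) F) ≤ Q) :
    ∃ E : Subgroup ↥(spWr Q T), E.Normal ∧ Cfsg.IsElementaryAbelian 2 E ∧ 2 ^ n ≤ Nat.card E := by
  set Z := Subgroup.center (SpecialLinearGroup (Fin 2) F) with hZdef
  have hle : spWr Z (⊥ : Subgroup (Perm (Fin n))) ≤ spWr Q T := spWr_mono hZ bot_le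
  have hmem : ∀ x : symplecticGroup (Fin n) F, x ∈ spWr Z (⊥ : Subgroup (Perm (Fin n))) ↔
      ∃ f : Fin n → SpecialLinearGroup (Fin 2) F, (∀ i, f i ∈ Z) ∧ x = bHom F n f := by
    intro x
    constructor
    · rintro ⟨f, hf, σ, hσ, rfl⟩
      rw [Subgroup.mem_bot] at hσ
      exact ⟨f, hf, by rw [hσ, map_one, mul_one]⟩
    · rintro ⟨f, hf, rfl⟩
      exact bHom_mem_spWr _ hf
  refine ⟨(spWr Z (⊥ : Subgroup (Perm (Fin n)))).subgroupOf (spWr Q T), ?_, ⟨?_, ?_⟩, ?_⟩
  · constructor
    rintro ⟨e, he'⟩ he ⟨w, hw⟩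
    rw [Subgroup.mem_subgroupOf] at he ⊢
    obtain ⟨f, hf, rfl⟩ := (hmem _).1 he
    obtain ⟨g, -, σ, -, rfl⟩ := hw
    show (bHom F n g * pHom F n σ) * bHom F n f * (bHom F n g * pHom F n σ)⁻¹ ∈ _
    rw [bHom_conj_of_center hf]
    exact (hmem _).2 ⟨_, fun i => hf _, rfl⟩
  · constructor
    constructor
    rintro ⟨⟨a, ha'⟩, ha⟩ ⟨⟨b, hb'⟩, hb⟩
    rw [Subgroup.mem_subgroupOf] at ha hb
    obtain ⟨f, hf, rfl⟩ := (hmem _).1 ha
    obtain ⟨f', hf', rfl⟩ := (hmem _).1 hb
    apply Subtype.ext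
    apply Subtype.ext
    show (bHom F n f * bHom F n f' : symplecticGroup (Fin n) F) = bHom F n f' * bHom F n f
    rw [← map_mul, ← map_mul]
    congr 1
    funext i
    exact (Subgroup.mem_center_iff.1 (hf i) (f' i)).symm
  · rintro ⟨a, ha'⟩ ha
    rw [Subgroup.mem_subgroupOf] at ha
    obtain ⟨f, hf, rfl⟩ := (hmem _).1 ha
    apply Subtype.ext
    show (bHom F n f) ^ 2 = 1
    rw [← map_pow]
    have : f ^ 2 = 1 := by
      funext i
      exact Cfsg.Agent.Helper37.SL2Q.sq_eq_one_of_mem_center (f i) (hf i)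
    rw [this, map_one]
  · rw [Nat.card_congr (Subgroup.subgroupOfEquivOfLe hle).toEquiv, card_spWr, Subgroup.card_bot,
      mul_one]
    exact Nat.pow_le_pow_left (two_le_card_center h2) n

end

end Cfsg.Agent.Helper42
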