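import Cfsg.Agent.Helper39.X648.Defs

/-!
# Helper42 / S3366 piece (A11): starting data `i ∈ Q` of order 4 and `r1 ≠ 1` inverted
-/

set_option autoImplicit false

open Cfsg.Agent.Helper39.X648

namespace Cfsg.Agent.Helper42.X648

section A
variable {X : Type*} [Group X] [Finite X] {R Z : Subgroup X} {u : X}
variable {t : X}
variable {Q : Subgroup X}

/-- (A11) starting data: `i ∈ Q` of order 4 and `r1 ≠ 1` inverted -/
theorem QSetup.exists_i_r1 (h : QSetup R Z u t Q) :
    ∃ i r1 : X, i ∈ Q ∧ i ≠ 1 ∧ i ≠ t ∧ r1 ∈ Inv R t ∧ r1 ≠ 1 := by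
  classical
  -- an element of `Q` outside `{1, t}`
  have hQ : ∃ i : X, i ∈ Q ∧ i ≠ 1 ∧ i ≠ t := by
    by_contra hcon
    push Not at hcon
    have hsub : ∀ q : Q, q = 1 ∨ q = ⟨t, h.isQ.t_mem⟩ := by
      intro q
      by_cases hq : (q : X) = 1
      · left; exact Subtype.ext hq
      · right; exact Subtype.ext (hcon q q.2 hq)
    letI := Fintype.ofFinite Q
    have hle : Fintype.card Q ≤ 2 := by
      have : (Finset.univ : Finset Q) ⊆ {1, ⟨t, h.isQ.t_mem⟩} := by
        intro q _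
        rcases hsub q with hq | hq
        · simp [hq]
        · simp [hq]
      calc Fintype.card Q = (Finset.univ : Finset Q).card := rfl
        _ ≤ ({1, ⟨t, h.isQ.t_mem⟩} : Finset Q).card := Finset.card_le_card this
        _ ≤ 2 := Finset.card_le_two
    have h8 := h.isQ.card
    rw [Nat.card_eq_fintype_card] at h8
    omega
  -- an element of `R` outside `Z`
  have hR : ∃ r : X, r ∈ R ∧ r ∉ Z := by
    by_contra hcon
    push Not at hcon
    have hRZ : R ≤ Z := fun r hr => hcon r hr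
    have hle : Nat.card R ≤ Nat.card Z := Subgroup.card_le_of_le hRZ
    rw [h.setup.base.cardR, h.setup.base.cardZ] at hle
    omega
  obtain ⟨i, hi, hi1, hit⟩ := hQ
  obtain ⟨r, hr, hrZ⟩ := hR
  obtain ⟨z, hz, hrz⟩ := h.setup.rep1 r hr
  refine ⟨i, r * z, hi, hi1, hit, hrz, ?_⟩
  intro h1
  apply hrZ
  have : r = z⁻¹ := eq_inv_of_mul_eq_one_left h1
  rw [this]
  exact Z.inv_mem hz

end A

end Cfsg.Agent.Helper42.X648
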