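import Cfsg.Agent.Helper39.X648.Defs

/-!
# Helper42 / S3366 piece (A3): an involution above `u`
-/

set_option autoImplicit false

open Cfsg.Agent.Helper39.X648

namespace Cfsg.Agent.Helper42.X648

section A
variable {X : Type*} [Group X] [Finite X] {R Z : Subgroup X} {u : X}

/-- (A3) an involution above `u` -/
theorem Base.exists_t (h : Base R Z u) : ∃ t : X, orderOf t = 2 ∧ t * u⁻¹ ∈ R := by
  have hs : u * u ∈ R := h.u_sq
  have h3 : (u * u) ^ 3 = 1 := h.exp3 _ hs
  have huu : u * u = u ^ 2 := (pow_two u).symm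
  have h6 : u ^ 6 = 1 := by
    have : (u * u) ^ 3 = u ^ 6 := by rw [huu, ← pow_mul]
    rw [← this]; exact h3
  refine ⟨u ^ 3, ?_, ?_⟩
  · haveI : Fact (Nat.Prime 2) := ⟨Nat.prime_two⟩
    apply orderOf_eq_prime
    · rw [← pow_mul]; exact h6
    · intro h1
      apply h.u_not
      have hu : (u * u) ^ 2 = u := by
        rw [huu, ← pow_mul]
        calc u ^ (2 * 2) = u ^ 3 * u := by rw [← pow_succ]
          _ = u := by rw [h1, one_mul]
      rw [← hu]
      exact R.pow_mem hs 2
  · have : u ^ 3 * u⁻¹ = u * u := by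
      rw [pow_succ, mul_inv_cancel_right, pow_two]
    rw [this]; exact hs

end A

end Cfsg.Agent.Helper42.X648
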