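import Cfsg.Agent.Helper42.SylowEA

set_option autoImplicit false

namespace Cfsg.Agent.Helper42

open Equiv
open scoped Pointwise

theorem sign_viaEmbeddingHom {α β : Type*} [DecidableEq α] [Fintype α] [DecidableEq β] [Fintype β]
    (ι : α ↪ β) (e : Perm α) : Perm.sign (Perm.viaEmbeddingHom ι e) = Perm.sign e := by
  classical
  rw [Perm.viaEmbeddingHom_apply]
  unfold Perm.viaEmbedding
  convert Perm.sign_extendDomain e (ofInjective ι.1 ι.2)

theorem sign_lf_two {β : Type*} [DecidableEq β] [Fintype β] (σ : Perm β) :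
    Perm.sign (lf 2 σ) = 1 := by
  unfold lf
  rw [Perm.sign_prodCongrLeft, Finset.prod_const, Finset.card_univ, ZMod.card]
  exact Int.units_sq _

/-- the even translations -/
def evenTr (β : Type*) [DecidableEq β] [Fintype β] : AddSubgroup (β → ZMod 2) where
  carrier := {f | Perm.sign (tr f) = 1}
  add_mem' := by
    intro f g hf hg
    show Perm.sign (tr (f + g)) = 1
    rw [tr_add, map_mul, hf, hg, one_mul]
  zero_mem' := by
    show Perm.sign (tr (0 : β → ZMod 2)) = 1
    rw [tr_zero, map_one]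
  neg_mem' := by
    intro f hf
    show Perm.sign (tr (-f)) = 1
    rw [tr_neg, map_inv, hf, inv_one]

theorem evenTr_invariant {β : Type*} [DecidableEq β] [Fintype β] (K : Subgroup (Perm β)) :
    ∀ σ ∈ K, ∀ f ∈ evenTr β, f ∘ σ.symm ∈ evenTr β := by
  intro σ _ f hf
  show Perm.sign (tr (f ∘ σ.symm)) = 1
  have h : tr (f ∘ σ.symm) = lf 2 σ * tr f * (lf 2 σ)⁻¹ := by
    rw [lf_tr, mul_inv_cancel_right]
  rw [h, map_mul, map_mul, map_inv, mul_right_comm, mul_inv_cancel, one_mul]
  exact hf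

theorem isPGroup_le_alternatingGroup {p : ℕ} [hp : Fact p.Prime] (hp2 : p ≠ 2) {n : ℕ}
    (P : Subgroup (Perm (Fin n))) (hP : IsPGroup p P) : P ≤ alternatingGroup (Fin n) := by
  intro x hx
  rw [Perm.mem_alternatingGroup]
  obtain ⟨k, hk⟩ := hP ⟨x, hx⟩
  have hk' : x ^ p ^ k = 1 := congrArg Subtype.val hk
  have h1 : Perm.sign x ^ p ^ k = 1 := by rw [← map_pow, hk', map_one]
  have hodd : Odd (p ^ k) := (hp.out.odd_of_ne_two hp2).pow
  rcases Int.units_eq_one_or (Perm.sign x) with h | h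
  · exact h
  · rw [h, hodd.neg_one_pow] at h1
    exact absurd h1 (by decide)

theorem sylow_alt_inf {p : ℕ} [hp : Fact p.Prime] {n : ℕ} (Q : Sylow p (alternatingGroup (Fin n)))
    (P : Sylow p (Perm (Fin n)))
    (hQP : (Q : Subgroup (alternatingGroup (Fin n))).map (alternatingGroup (Fin n)).subtype ≤ P) :
    (P : Subgroup (Perm (Fin n))) ⊓ alternatingGroup (Fin n) =
      (Q : Subgroup (alternatingGroup (Fin n))).map (alternatingGroup (Fin n)).subtype := by
  apply le_antisymm
  · intro x hx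
    let R : Subgroup (alternatingGroup (Fin n)) :=
      ((P : Subgroup (Perm (Fin n))) ⊓ alternatingGroup (Fin n)).subgroupOf (alternatingGroup (Fin n))
    have hR : IsPGroup p R := by
      intro r
      obtain ⟨k, hk⟩ := P.2 ⟨r.1.1, (Subgroup.mem_subgroupOf.mp r.2).1⟩
      refine ⟨k, ?_⟩
      apply Subtype.ext
      apply Subtype.ext
      have := congrArg Subtype.val hk
      simpa using this
    have hQR : (Q : Subgroup (alternatingGroup (Fin n))) ≤ R := by
      intro q hq
      rw [Subgroup.mem_subgroupOf]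
      exact ⟨hQP ⟨q, hq, rfl⟩, q.2⟩
    have hRQ : R = Q := Q.3 hR hQR
    have hxR : (⟨x, hx.2⟩ : alternatingGroup (Fin n)) ∈ R := by
      rw [Subgroup.mem_subgroupOf]
      exact hx
    rw [hRQ] at hxR
    exact ⟨⟨x, hx.2⟩, hxR, rfl⟩
  · intro x hx
    refine ⟨hQP hx, ?_⟩
    obtain ⟨q, -, rfl⟩ := hx
    exact q.2

end Cfsg.Agent.Helper42
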