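import Cfsg.Agent.Helper42.AbelianPerm

set_option autoImplicit false

/-!
# Abelian subgroups of alternating groups: the bound `|A| ≤ aAlt n` and constructions
-/

namespace Cfsg.Agent.Helper42

open Equiv

/-- maximal order of an abelian subgroup of `A_n` -/
def aAlt : ℕ → ℕ
  | 0 => 1
  | 1 => 1
  | 2 => 1
  | 3 => 3
  | 4 => 4
  | 5 => 5
  | 6 => 9
  | 7 => 12
  | 8 => 16
  | (n + 9) => 3 * aAlt (n + 6)

theorem aAlt_add_nine (n : ℕ) : aAlt (n + 9) = 3 * aAlt (n + 6) := by rw [aAlt]

theorem aAlt_steps (n : ℕ) : aAlt n ≤ aAlt (n + 1) ∧ 3 * aAlt n ≤ aAlt (n + 3) ∧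
    4 * aAlt n ≤ aAlt (n + 4) ∧ 5 * aAlt n ≤ aAlt (n + 5) ∧ g n ≤ aAlt (n + 2) := by
  induction n using Nat.strong_induction_on with
  | _ n ih =>
    match n, ih with
    | 0, _ => decide
    | 1, _ => decide
    | 2, _ => decide
    | 3, _ => decide
    | 4, _ => decide
    | 5, _ => decide
    | 6, _ => decide
    | 7, _ => decide
    | 8, _ => decide
    | (m + 9), ih =>
      have h := ih (m + 6) (by omega)
      have e0 : aAlt (m + 9) = 3 * aAlt (m + 6) := aAlt_add_nine m
      have e1 : aAlt (m + 9 + 1) = 3 * aAlt (m + 6 + 1) := aAlt_add_nine (m + 1)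
      have e2 : aAlt (m + 9 + 2) = 3 * aAlt (m + 6 + 2) := aAlt_add_nine (m + 2)
      have e3 : aAlt (m + 9 + 3) = 3 * aAlt (m + 6 + 3) := aAlt_add_nine (m + 3)
      have e4 : aAlt (m + 9 + 4) = 3 * aAlt (m + 6 + 4) := aAlt_add_nine (m + 4)
      have e5 : aAlt (m + 9 + 5) = 3 * aAlt (m + 6 + 5) := aAlt_add_nine (m + 5)
      have eg : g (m + 9) = 3 * g (m + 6) := g_add_five (m + 4)
      rw [e0, e1, e2, e3, e4, e5, eg]
      omega

theorem mul_aAlt_le (a b : ℕ) (ha : 1 ≤ a) (ha2 : a ≠ 2) : a * aAlt b ≤ aAlt (a + b) := by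
  induction a using Nat.strong_induction_on generalizing b with
  | _ a ih =>
    rcases Nat.lt_or_ge a 6 with h6 | h6
    · interval_cases a
      · have := (aAlt_steps b).1
        rw [one_mul, add_comm]; exact this
      · exact absurd rfl ha2
      · have := (aAlt_steps b).2.1
        rw [add_comm]; exact this
      · have := (aAlt_steps b).2.2.1
        rw [add_comm]; exact this
      · have := (aAlt_steps b).2.2.2.1
        rw [add_comm]; exact this
    · have h1 := ih (a - 3) (by omega) b (by omega) (by omega)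
      have h2 := (aAlt_steps (a - 3 + b)).2.1
      have e : a - 3 + b + 3 = a + b := by omega
      rw [e] at h2
      have h3 : a * aAlt b ≤ 3 * ((a - 3) * aAlt b) := by
        have : a ≤ 3 * (a - 3) := by omega
        calc a * aAlt b ≤ 3 * (a - 3) * aAlt b := Nat.mul_le_mul_right _ this
          _ = 3 * ((a - 3) * aAlt b) := by ring
      omega

theorem aAlt_pos (n : ℕ) : 0 < aAlt n := by
  have := mul_aAlt_le 1 n le_rfl (by omega)
  induction n with
  | zero => decide
  | succ n ih =>
    have h := (aAlt_steps n).1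
    have := ih (mul_aAlt_le 1 n le_rfl (by omega))
    omega

theorem aAlt_three_mul_add_two (k : ℕ) (hk : 2 ≤ k) : aAlt (3 * k + 2) = 16 * 3 ^ (k - 2) := by
  induction k with
  | zero => omega
  | succ k ih =>
    rcases Nat.lt_or_ge k 2 with h | h
    · have : k = 1 := by omega
      subst this
      rfl
    · have e : 3 * (k + 1) + 2 = (3 * k - 4) + 9 := by omega
      have e' : 3 * k - 4 + 6 = 3 * k + 2 := by omega
      rw [e, aAlt_add_nine, e', ih h]
      have : k + 1 - 2 = (k - 2) + 1 := by omega
      rw [this, pow_succ]; ring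

/-! ### The special case of an orbit of size two -/

theorem two_orbit {α : Type*} [DecidableEq α] [Fintype α] (A : Subgroup (Perm α))
    (hcomm : ∀ a ∈ A, ∀ b ∈ A, a * b = b * a) (heven : ∀ a ∈ A, Perm.sign a = 1)
    (x y : α) (hxy : x ≠ y) (hx : ∀ a ∈ A, a x = x ∨ a x = y) (hy : ∀ a ∈ A, a y = x ∨ a y = y) :
    ∃ A' : Subgroup (Perm α), (∀ a ∈ A', ∀ b ∈ A', a * b = b * a) ∧ Nat.card A' = Nat.card A ∧
      ∀ a' ∈ A', a' x = x ∧ a' y = y ∧ ∀ z, z ≠ x → z ≠ y → ∃ a ∈ A, a' z = a z := by
  classical
  have hfix : ∀ a ∈ A, a x = x → a y = y := by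
    intro a ha hax
    rcases hy a ha with h | h
    · exact absurd (a.injective (h.trans hax.symm)) hxy.symm
    · exact h
  have hswap : ∀ a ∈ A, a x ≠ x → a x = y ∧ a y = x := by
    intro a ha hax
    have h1 : a x = y := (hx a ha).resolve_left hax
    refine ⟨h1, ?_⟩
    rcases hy a ha with h | h
    · exact h
    · exact absurd (a.injective (h1.trans h.symm)) hxy
  let ρ : A →* Perm α :=
    { toFun := fun a => if (a : Perm α) x = x then (a : Perm α) else (a : Perm α) * swap x y
      map_one' := by simp
      map_mul' := by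
        intro a b
        have hab : ((a * b : A) : Perm α) x = (a : Perm α) ((b : Perm α) x) := rfl
        by_cases ha : (a : Perm α) x = x <;> by_cases hb : (b : Perm α) x = x
        · rw [if_pos ha, if_pos hb, if_pos (by rw [hab, hb, ha])]
          rfl
        · obtain ⟨hb1, hb2⟩ := hswap b b.2 hb
          rw [if_pos ha, if_neg hb, if_neg (by rw [hab, hb1, hfix a a.2 ha]; exact hxy.symm)]
          show (a : Perm α) * (b : Perm α) * swap x y = (a : Perm α) * ((b : Perm α) * swap x y)
          rw [mul_assoc]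
        · obtain ⟨ha1, ha2⟩ := hswap a a.2 ha
          rw [if_neg ha, if_pos hb, if_neg (by rw [hab, hb, ha1]; exact hxy.symm)]
          show (a : Perm α) * (b : Perm α) * swap x y = (a : Perm α) * swap x y * (b : Perm α)
          have : (b : Perm α) * swap x y = swap x y * (b : Perm α) := by
            rw [mul_swap_eq_swap_mul, hb, hfix b b.2 hb]
          rw [mul_assoc, this, mul_assoc]
        · obtain ⟨ha1, ha2⟩ := hswap a a.2 ha
          obtain ⟨hb1, hb2⟩ := hswap b b.2 hb
          rw [if_neg ha, if_neg hb, if_pos (by rw [hab, hb1, ha2])]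
          show (a : Perm α) * (b : Perm α) = (a : Perm α) * swap x y * ((b : Perm α) * swap x y)
          have : (b : Perm α) * swap x y = swap y x * (b : Perm α) := by
            rw [mul_swap_eq_swap_mul, hb1, hb2]
          rw [this, mul_assoc, ← mul_assoc (swap x y), swap_comm y x, swap_mul_self, one_mul] }
  have hρ : ∀ a : A, ρ a = if (a : Perm α) x = x then (a : Perm α) else (a : Perm α) * swap x y :=
    fun a => rfl
  have hinj : Function.Injective ρ := by
    rw [injective_iff_map_eq_one]
    intro a ha1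
    rw [hρ] at ha1
    by_cases hax : (a : Perm α) x = x
    · rw [if_pos hax] at ha1
      exact Subtype.ext ha1
    · rw [if_neg hax] at ha1
      exfalso
      have h1 : (a : Perm α) = swap x y := by
        have := mul_eq_one_iff_eq_inv.mp ha1
        rw [this, swap_inv]
      have h2 := heven a a.2
      rw [h1, Perm.sign_swap hxy] at h2
      exact absurd h2 (by decide)
  refine ⟨ρ.range, ?_, ?_, ?_⟩
  · rintro _ ⟨a, rfl⟩ _ ⟨b, rfl⟩
    rw [← map_mul, ← map_mul]
    congr 1
    exact Subtype.ext (hcomm a a.2 b b.2)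
  · exact (Nat.card_congr (MonoidHom.ofInjective hinj).toEquiv).symm
  · rintro _ ⟨a, rfl⟩
    rw [hρ]
    by_cases hax : (a : Perm α) x = x
    · rw [if_pos hax]
      exact ⟨hax, hfix a a.2 hax, fun z _ _ => ⟨a, a.2, rfl⟩⟩
    · obtain ⟨ha1, ha2⟩ := hswap a a.2 hax
      rw [if_neg hax]
      refine ⟨?_, ?_, ?_⟩
      · show (a : Perm α) (swap x y x) = x
        rw [swap_apply_left, ha2]
      · show (a : Perm α) (swap x y y) = y
        rw [swap_apply_right, ha1]
      · intro z hzx hzy
        refine ⟨a, a.2, ?_⟩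
        show (a : Perm α) (swap x y z) = (a : Perm α) z
        rw [swap_apply_of_ne_of_ne hzx hzy]

/-! ### The upper bound -/

theorem card_le_aAlt_aux {α : Type*} [DecidableEq α] [Fintype α] (n : ℕ) :
    ∀ (A : Subgroup (Perm α)) (_ : ∀ a ∈ A, ∀ b ∈ A, a * b = b * a) (_ : ∀ a ∈ A, Perm.sign a = 1)
      (S : Finset α) (_ : ∀ a ∈ A, ∀ x, x ∉ S → a x = x), S.card = n → Nat.card A ≤ aAlt n := by
  induction n using Nat.strong_induction_on with
  | _ n ih =>
    intro A hcomm heven S hS hn
    classical
    rcases S.eq_empty_or_nonempty with hemp | ⟨x, hx⟩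
    · have hA : A = ⊥ := by
        rw [Subgroup.eq_bot_iff_forall]
        intro a ha
        ext y
        rw [hS a ha y (by rw [hemp]; exact Finset.notMem_empty y)]
        rfl
      rw [hA, Subgroup.card_bot]
      exact aAlt_pos _
    · let St : Subgroup A := MulAction.stabilizer A x
      let O : Set α := MulAction.orbit A x
      let B : Subgroup (Perm α) := St.map A.subtype
      have hBmem : ∀ b, b ∈ B ↔ b ∈ A ∧ b x = x := by
        intro b
        constructor
        · rintro ⟨⟨b', hb'⟩, hst, rfl⟩
          refine ⟨hb', ?_⟩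
          have : (⟨b', hb'⟩ : A) • x = x := MulAction.mem_stabilizer_iff.mp hst
          exact this
        · rintro ⟨hbA, hbx⟩
          refine ⟨⟨b, hbA⟩, ?_, rfl⟩
          exact MulAction.mem_stabilizer_iff.mpr hbx
      have hBA : ∀ b ∈ B, b ∈ A := fun b hb => ((hBmem b).mp hb).1
      have hOmem : ∀ y, y ∈ O ↔ ∃ a ∈ A, a x = y := by
        intro y
        constructor
        · rintro ⟨⟨a, ha⟩, rfl⟩
          exact ⟨a, ha, rfl⟩
        · rintro ⟨a, ha, rfl⟩
          exact ⟨⟨a, ha⟩, rfl⟩
      have hOS : ∀ y ∈ O, y ∈ S := by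
        intro y hy
        obtain ⟨a, ha, rfl⟩ := (hOmem y).mp hy
        by_contra hnot
        have h1 := hS a⁻¹ (A.inv_mem ha) (a x) hnot
        have h2 : a x = x := by
          have : a⁻¹ (a x) = x := by simp
          rw [this] at h1
          exact h1.symm
        rw [h2] at hnot
        exact hnot hx
      have hBO : ∀ b ∈ B, ∀ y ∈ O, b y = y := by
        intro b hb y hy
        obtain ⟨a, ha, rfl⟩ := (hOmem y).mp hy
        obtain ⟨hbA, hbx⟩ := (hBmem b).mp hb
        have := hcomm b hbA a ha
        calc b (a x) = (b * a) x := rfl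
          _ = (a * b) x := by rw [this]
          _ = a (b x) := rfl
          _ = a x := by rw [hbx]
      let S' : Finset α := S.filter (fun y => y ∉ O)
      let T : Finset α := S.filter (fun y => y ∈ O)
      have hT : (T : Set α) = O := by
        ext y
        simp only [T, Finset.coe_filter, Set.mem_ofPred_eq]
        exact ⟨fun h => h.2, fun h => ⟨hOS y h, h⟩⟩
      have hTcard : T.card = O.ncard := by
        rw [← hT, Set.ncard_coe_finset]
      have hsum : T.card + S'.card = S.card :=
        Finset.card_filter_add_card_filter_not (s := S) (fun y => y ∈ O)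
      have hxO : x ∈ O := MulAction.mem_orbit_self x
      have hOpos : 1 ≤ O.ncard := by
        rw [← hTcard]
        apply Finset.card_pos.mpr
        refine ⟨x, ?_⟩
        simp only [T, Finset.mem_filter]
        exact ⟨hx, hxO⟩
      by_cases hO2 : O.ncard = 2
      · -- the special case
        obtain ⟨p, q, hpq, hOpq⟩ := Set.ncard_eq_two.mp hO2
        obtain ⟨y, hxy, hOxy⟩ : ∃ y, x ≠ y ∧ O = {x, y} := by
          have : x ∈ ({p, q} : Set α) := hOpq ▸ hxO
          rcases this with rfl | rfl
          · exact ⟨q, hpq, hOpq⟩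
          · exact ⟨p, hpq.symm, by rw [hOpq, Set.pair_comm]⟩
        have hyO : y ∈ O := by rw [hOxy]; simp
        have hAx : ∀ a ∈ A, a x = x ∨ a x = y := by
          intro a ha
          have : a x ∈ O := (hOmem _).mpr ⟨a, ha, rfl⟩
          rw [hOxy] at this
          exact this
        have hAy : ∀ a ∈ A, a y = x ∨ a y = y := by
          intro a ha
          obtain ⟨t, ht, rfl⟩ := (hOmem y).mp hyO
          have : a (t x) ∈ O := (hOmem _).mpr ⟨a * t, A.mul_mem ha ht, rfl⟩
          rw [hOxy] at this
          exact this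
        obtain ⟨A', hA'comm, hA'card, hA'⟩ := two_orbit A hcomm heven x y hxy hAx hAy
        have hS'A' : ∀ a' ∈ A', ∀ z, z ∉ S' → a' z = z := by
          intro a' ha' z hz
          obtain ⟨h1, h2, h3⟩ := hA' a' ha'
          by_cases hzx : z = x
          · rw [hzx]; exact h1
          by_cases hzy : z = y
          · rw [hzy]; exact h2
          obtain ⟨a, ha, haz⟩ := h3 z hzx hzy
          rw [haz]
          apply hS a ha
          intro hzS
          apply hz
          simp only [S', Finset.mem_filter]
          refine ⟨hzS, ?_⟩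
          rw [hOxy]
          simp [hzx, hzy]
        have hS'card : S'.card + 2 = n := by omega
        have h1 := card_le_g_aux S'.card A' hA'comm S' hS'A' rfl
        have h2 := (aAlt_steps S'.card).2.2.2.2
        rw [hS'card] at h2
        omega
      · have hS' : ∀ b ∈ B, ∀ y, y ∉ S' → b y = y := by
          intro b hb y hy
          simp only [S', Finset.mem_filter, not_and, not_not] at hy
          by_cases hyS : y ∈ S
          · exact hBO b hb y (hy hyS)
          · exact hS b (hBA b hb) y hyS
        have hBcomm : ∀ a ∈ B, ∀ b ∈ B, a * b = b * a :=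
          fun a ha b hb => hcomm a (hBA a ha) b (hBA b hb)
        have hBeven : ∀ a ∈ B, Perm.sign a = 1 := fun a ha => heven a (hBA a ha)
        have hlt : S'.card < n := by omega
        have hIH := ih S'.card hlt B hBcomm hBeven S' hS' rfl
        have hBcard : Nat.card B = Nat.card St := Subgroup.card_map_of_injective A.subtype_injective
        have hidx : St.index = O.ncard := MulAction.index_stabilizer A x
        have hcard : Nat.card A = Nat.card B * O.ncard := by
          rw [hBcard, ← hidx, Subgroup.card_mul_index]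
        rw [hcard]
        calc Nat.card B * O.ncard ≤ aAlt S'.card * O.ncard := Nat.mul_le_mul_right _ hIH
          _ = O.ncard * aAlt S'.card := mul_comm _ _
          _ ≤ aAlt (O.ncard + S'.card) := mul_aAlt_le _ _ hOpos hO2
          _ = aAlt n := by rw [← hTcard, hsum, hn]

/-- An abelian subgroup of `Perm (Fin n)` consisting of even permutations has order at most `aAlt n`. -/
theorem card_le_aAlt (n : ℕ) (A : Subgroup (Perm (Fin n))) (hA : IsMulCommutative A)
    (hle : A ≤ alternatingGroup (Fin n)) : Nat.card A ≤ aAlt n := by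
  have hcomm : ∀ a ∈ A, ∀ b ∈ A, a * b = b * a := by
    intro a ha b hb
    have := mul_comm' (⟨a, ha⟩ : A) ⟨b, hb⟩
    exact congrArg Subtype.val this
  have := card_le_aAlt_aux (Finset.univ : Finset (Fin n)).card A hcomm
    (fun a ha => Perm.mem_alternatingGroup.mp (hle ha)) Finset.univ
    (fun a _ x hx => absurd (Finset.mem_univ x) hx) rfl
  simpa using this

/-! ### Constructions inside the alternating group -/

/-- there is an abelian subgroup of order `c` in `Perm (Fin n)` consisting of even permutations -/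
def AchievableAlt (n c : ℕ) : Prop :=
  ∃ A : Subgroup (Perm (Fin n)), A ≤ alternatingGroup (Fin n) ∧ IsMulCommutative A ∧ Nat.card A = c

theorem achievableAlt_zero : AchievableAlt 0 1 :=
  ⟨⊥, bot_le, inferInstance, Subgroup.card_bot⟩

theorem achievableAlt_three : AchievableAlt 3 3 := by
  refine ⟨Subgroup.zpowers (finRotate 3), ?_, inferInstance, ?_⟩
  · rw [Subgroup.zpowers_le, Perm.mem_alternatingGroup, sign_finRotate]
    norm_num
  · rw [Nat.card_zpowers, ← Equiv.Perm.lcm_cycleType, cycleType_finRotate]
    simp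

/-- the Klein four-group in `A_4`, as a list -/
def kleinList : List (Perm (Fin 4)) :=
  [1, swap 0 1 * swap 2 3, swap 0 2 * swap 1 3, swap 0 3 * swap 1 2]

/-- the Klein four-group in `A_4` -/
def klein : Subgroup (Perm (Fin 4)) where
  carrier := {σ | σ ∈ kleinList}
  mul_mem' := by
    have : ∀ σ τ : Perm (Fin 4), σ ∈ kleinList → τ ∈ kleinList → σ * τ ∈ kleinList := by decide
    intro a b ha hb
    exact this a b ha hb
  one_mem' := by
    show (1 : Perm (Fin 4)) ∈ kleinList
    decide
  inv_mem' := by
    have : ∀ σ : Perm (Fin 4), σ ∈ kleinList → σ⁻¹ ∈ kleinList := by decide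
    intro a ha
    exact this a ha

theorem achievableAlt_four : AchievableAlt 4 4 := by
  refine ⟨klein, ?_, ?_, ?_⟩
  · intro σ hσ
    have : ∀ σ : Perm (Fin 4), σ ∈ kleinList → Perm.sign σ = 1 := by decide
    exact Perm.mem_alternatingGroup.mpr (this σ hσ)
  · refine ⟨⟨?_⟩⟩
    have : ∀ σ τ : Perm (Fin 4), σ ∈ kleinList → τ ∈ kleinList → σ * τ = τ * σ := by decide
    rintro ⟨a, ha⟩ ⟨b, hb⟩
    exact Subtype.ext (this a b ha hb)
  · have h1 : Nat.card klein = Nat.card {σ : Perm (Fin 4) // σ ∈ kleinList} := rfl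
    rw [h1, Nat.card_eq_fintype_card]
    decide

theorem sumHom_sign (a b : ℕ) (p : Perm (Fin a)) (q : Perm (Fin b)) :
    Perm.sign (sumHom a b (p, q)) = Perm.sign p * Perm.sign q := by
  show Perm.sign (finSumFinEquiv.permCongr (Perm.sumCongr p q)) = _
  rw [Perm.sign_permCongr, Perm.sign_sumCongr]

theorem achievableAlt_add {a b c d : ℕ} (h1 : AchievableAlt a c) (h2 : AchievableAlt b d) :
    AchievableAlt (a + b) (c * d) := by
  obtain ⟨A, hAle, hA, rfl⟩ := h1
  obtain ⟨B, hBle, hB, rfl⟩ := h2
  refine ⟨(A.prod B).map (sumHom a b), ?_, ?_, ?_⟩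
  · rintro _ ⟨⟨p, q⟩, hpq, rfl⟩
    rw [SetLike.mem_coe, Subgroup.mem_prod] at hpq
    rw [Perm.mem_alternatingGroup, sumHom_sign, Perm.mem_alternatingGroup.mp (hAle hpq.1),
      Perm.mem_alternatingGroup.mp (hBle hpq.2), one_mul]
  · refine ⟨⟨?_⟩⟩
    rintro ⟨_, ⟨p, q⟩, hpq, rfl⟩ ⟨_, ⟨p', q'⟩, hpq', rfl⟩
    apply Subtype.ext
    show sumHom a b (p, q) * sumHom a b (p', q') = sumHom a b (p', q') * sumHom a b (p, q)
    rw [← map_mul, ← map_mul]
    congr 1
    rw [SetLike.mem_coe, Subgroup.mem_prod] at hpq hpq'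
    have e1 : p * p' = p' * p := congrArg Subtype.val (mul_comm' (⟨p, hpq.1⟩ : A) ⟨p', hpq'.1⟩)
    have e2 : q * q' = q' * q := congrArg Subtype.val (mul_comm' (⟨q, hpq.2⟩ : B) ⟨q', hpq'.2⟩)
    exact Prod.ext e1 e2
  · rw [Subgroup.card_map_of_injective (sumHom_injective a b),
      Nat.card_congr (Subgroup.prodEquiv A B).toEquiv, Nat.card_prod]

theorem achievableAlt_cast {n m c : ℕ} (h : n = m) (hc : AchievableAlt n c) : AchievableAlt m c := by
  subst h; exact hc

theorem achievableAlt_three_mul (k : ℕ) : AchievableAlt (3 * k) (3 ^ k) := by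
  induction k with
  | zero => exact achievableAlt_zero
  | succ k ih =>
    have := achievableAlt_add ih achievableAlt_three
    rw [← pow_succ] at this
    exact achievableAlt_cast (by ring) this

theorem achievableAlt_three_mul_add_one (k : ℕ) (hk : 1 ≤ k) :
    AchievableAlt (3 * k + 1) (4 * 3 ^ (k - 1)) := by
  have := achievableAlt_add achievableAlt_four (achievableAlt_three_mul (k - 1))
  exact achievableAlt_cast (by omega) this

theorem achievableAlt_three_mul_add_two (k : ℕ) (hk : 2 ≤ k) :
    AchievableAlt (3 * k + 2) (16 * 3 ^ (k - 2)) := by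
  have := achievableAlt_add (achievableAlt_add achievableAlt_four achievableAlt_four)
    (achievableAlt_three_mul (k - 2))
  exact achievableAlt_cast (by omega) this

end Cfsg.Agent.Helper42
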