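import Cfsg.Agent.Helper42.AbelianAltSmall

set_option autoImplicit false

namespace Cfsg.Agent.Helper42

open Equiv

variable {α : Type*} [DecidableEq α] [Fintype α]

/-- the conjugate `τ A τ⁻¹` -/
def conjSub (τ : Perm α) (A : Subgroup (Perm α)) : Subgroup (Perm α) :=
  A.map (MulAut.conj τ).toMonoidHom

omit [DecidableEq α] [Fintype α] in
theorem mem_conjSub {τ : Perm α} {A : Subgroup (Perm α)} {b : Perm α} :
    b ∈ conjSub τ A ↔ ∃ a ∈ A, τ * a * τ⁻¹ = b := by
  rw [conjSub, Subgroup.mem_map]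
  rfl

omit [DecidableEq α] [Fintype α] in
theorem inv_apply_of_fix {τ : Perm α} {z : α} (h : τ z = z) : τ⁻¹ z = z :=
  Perm.inv_eq_iff_eq.mpr h.symm

theorem MaxAb.conj_maxAb {A : Subgroup (Perm α)} {S : Finset α} (h : MaxAb A S) (τ : Perm α)
    (hτ : ∀ z, z ∉ S → τ z = z) : MaxAb (conjSub τ A) S := by
  refine ⟨?_, ?_, ?_, ?_⟩
  · intro a ha b hb
    obtain ⟨a', ha', rfl⟩ := mem_conjSub.mp ha
    obtain ⟨b', hb', rfl⟩ := mem_conjSub.mp hb
    have := h.comm a' ha' b' hb'
    calc τ * a' * τ⁻¹ * (τ * b' * τ⁻¹) = τ * (a' * b') * τ⁻¹ := by group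
      _ = τ * (b' * a') * τ⁻¹ := by rw [this]
      _ = τ * b' * τ⁻¹ * (τ * a' * τ⁻¹) := by group
  · intro a ha
    obtain ⟨a', ha', rfl⟩ := mem_conjSub.mp ha
    rw [map_mul, map_mul, map_inv, mul_right_comm, mul_inv_cancel, one_mul]
    exact h.even a' ha'
  · intro a ha z hz
    obtain ⟨a', ha', rfl⟩ := mem_conjSub.mp ha
    rw [Perm.mul_apply, Perm.mul_apply, inv_apply_of_fix (hτ z hz), h.supp a' ha' z hz, hτ z hz]
  · rw [conjSub, Subgroup.card_map_of_injective (MulAut.conj τ).injective]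
    exact h.card

theorem mem_orb_conjSub {A : Subgroup (Perm α)} {τ : Perm α} {x y : α} :
    y ∈ orb (conjSub τ A) (τ x) ↔ τ⁻¹ y ∈ orb A x := by
  rw [mem_orb, mem_orb]
  constructor
  · rintro ⟨b, hb, rfl⟩
    obtain ⟨a, ha, rfl⟩ := mem_conjSub.mp hb
    refine ⟨a, ha, ?_⟩
    simp
  · rintro ⟨a, ha, hax⟩
    refine ⟨τ * a * τ⁻¹, mem_conjSub.mpr ⟨a, ha, rfl⟩, ?_⟩
    simp [hax]

omit [DecidableEq α] [Fintype α] in
theorem conjSub_mul (τ₁ τ₀ : Perm α) (A : Subgroup (Perm α)) :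
    conjSub (τ₁ * τ₀) A = conjSub τ₁ (conjSub τ₀ A) := by
  ext b
  rw [mem_conjSub, mem_conjSub]
  constructor
  · rintro ⟨a, ha, rfl⟩
    exact ⟨τ₀ * a * τ₀⁻¹, mem_conjSub.mpr ⟨a, ha, rfl⟩, by group⟩
  · rintro ⟨c, hc, rfl⟩
    obtain ⟨a, ha, rfl⟩ := mem_conjSub.mp hc
    exact ⟨a, ha, by group⟩

/-- a permutation supported on `O` commutes with one fixing `O` pointwise -/
theorem comm_of_supp_fix (O : Finset α) (u w : Perm α) (hu : ∀ y, y ∉ O → u y = y)
    (hw : ∀ y, y ∈ O → w y = y) : u * w = w * u := by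
  ext z
  rw [Perm.mul_apply, Perm.mul_apply]
  by_cases hz : z ∈ O
  · have huz : u z ∈ O := (preserves_of_supp O u hu z).mpr hz
    rw [hw z hz, hw (u z) huz]
  · have hwz : w z ∉ O := by
      intro h
      have h1 := hw (w z) h
      have h2 : w z = z := w.injective h1
      rw [h2] at h
      exact hz h
    rw [hu z hz, hu (w z) hwz]

/-- the core step: two extremal groups sharing an orbit, with conjugate stabilizers, are conjugate -/
theorem MaxAb.le_of_common_orbit {A' B : Subgroup (Perm α)} {S : Finset α} (hA' : MaxAb A' S)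
    (hB : MaxAb B S) (hSm : 3 ≤ S.card) (hS5 : S.card ≠ 5) {x' y : α} (hx' : x' ∈ S) (hy : y ∈ S)
    (horb : orb A' x' = orb B y) (τ₁ : Perm α) (hτ₁S : ∀ z, z ∉ S \ orb B y → τ₁ z = z)
    (hτ₁ : stab B y = conjSub τ₁ (stab A' x')) : conjSub τ₁ A' ≤ B := by
  intro b hb
  obtain ⟨σ, hσ, rfl⟩ := mem_conjSub.mp hb
  obtain ⟨hBcase, -, -⟩ := hB.orbit_card hSm hS5 hy
  set u := inPart A' x' ⟨σ, hσ⟩ with hu
  set w := outPart A' x' ⟨σ, hσ⟩ with hw
  have huw : u * w = σ := inPart_mul_outPart A' x' ⟨σ, hσ⟩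
  have hu_mem : u ∈ A' := hA'.inPart_mem hSm hS5 hx' ⟨σ, hσ⟩
  have hw_stab : w ∈ stab A' x' := hA'.outPart_mem_stab hSm hS5 hx' ⟨σ, hσ⟩
  have hu_supp : ∀ z, z ∉ orb B y → u z = z := by
    intro z hz
    rw [← horb] at hz
    exact inPart_of_not_mem A' x' ⟨σ, hσ⟩ hz
  have hτ₁fix : ∀ z, z ∈ orb B y → τ₁ z = z := by
    intro z hz
    apply hτ₁S
    intro h
    exact (Finset.mem_sdiff.mp h).2 hz
  have hcomm1 : u * τ₁ = τ₁ * u := comm_of_supp_fix (orb B y) u τ₁ hu_supp hτ₁fix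
  have h1 : τ₁ * u * τ₁⁻¹ = u := by rw [← hcomm1, mul_inv_cancel_right]
  have h2 : τ₁ * w * τ₁⁻¹ ∈ B := by
    have : τ₁ * w * τ₁⁻¹ ∈ stab B y := by
      rw [hτ₁]; exact mem_conjSub.mpr ⟨w, hw_stab, rfl⟩
    exact (mem_stab.mp this).1
  have hu_even : Perm.sign u = 1 := hA'.even u hu_mem
  have hu_reg : u = 1 ∨ ∀ z ∈ orb B y, u z ≠ z := by
    have := inPart_semiregular hA'.comm x' ⟨σ, hσ⟩
    rw [horb] at this
    exact this
  have h3 : u ∈ B := by
    apply hB.mem_of_commute u hu_even (hA'.supp u hu_mem)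
    intro β hβ
    set i := inPart B y ⟨β, hβ⟩ with hi
    set o := outPart B y ⟨β, hβ⟩ with ho
    have hio : i * o = β := inPart_mul_outPart B y ⟨β, hβ⟩
    have hi_supp : ∀ z, z ∉ orb B y → i z = z := fun z hz => inPart_of_not_mem B y ⟨β, hβ⟩ hz
    have hi_even : Perm.sign i = 1 := hB.sign_inPart hSm hS5 hy ⟨β, hβ⟩
    have hi_reg : i = 1 ∨ ∀ z ∈ orb B y, i z ≠ z := inPart_semiregular hB.comm y ⟨β, hβ⟩
    have c1 : u * i = i * u :=
      comm_of_small (orb B y) hBcase u i hu_supp hi_supp hu_even hi_even hu_reg hi_reg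
    have c2 : u * o = o * u :=
      comm_of_supp_fix (orb B y) u o hu_supp (fun z hz => outPart_of_mem B y ⟨β, hβ⟩ hz)
    calc u * β = u * (i * o) := by rw [hio]
      _ = (u * i) * o := by rw [mul_assoc]
      _ = (i * u) * o := by rw [c1]
      _ = i * (u * o) := by rw [mul_assoc]
      _ = i * (o * u) := by rw [c2]
      _ = (i * o) * u := by rw [mul_assoc]
      _ = β * u := by rw [hio]
  have h4 : τ₁ * σ * τ₁⁻¹ = (τ₁ * u * τ₁⁻¹) * (τ₁ * w * τ₁⁻¹) := by
    rw [← huw]; group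
  rw [h4, h1]
  exact B.mul_mem h3 h2

/-- Any two abelian groups of even permutations of the largest possible order (on `m ≠ 5` points)
are conjugate under an even permutation. -/
theorem conj_of_maxAb (m : ℕ) : ∀ (A B : Subgroup (Perm α)) (S : Finset α), S.card = m → m ≠ 5 →
    MaxAb A S → MaxAb B S →
    ∃ τ : Perm α, (∀ z, z ∉ S → τ z = z) ∧ Perm.sign τ = 1 ∧ B = conjSub τ A := by
  induction m using Nat.strong_induction_on with
  | _ m ih =>
    intro A B S hS h5 hA hB
    rcases Nat.lt_or_ge m 3 with hm | hm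
    · have h1 : aAlt S.card = 1 := by
        rw [hS]; interval_cases m <;> rfl
      have hAbot : A = ⊥ := Subgroup.eq_bot_of_card_eq A (by rw [hA.card, h1])
      have hBbot : B = ⊥ := Subgroup.eq_bot_of_card_eq B (by rw [hB.card, h1])
      refine ⟨1, fun _ _ => rfl, by simp, ?_⟩
      rw [hAbot, hBbot, conjSub, Subgroup.map_bot]
    · have hSm : 3 ≤ S.card := by omega
      have hS5 : S.card ≠ 5 := by omega
      obtain ⟨x, hx⟩ : S.Nonempty := Finset.card_pos.mp (by omega)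
      obtain ⟨hAcase, -, -⟩ := hA.orbit_card hSm hS5 hx
      have hdvd : (orb A x).card ∣ Nat.card B := by
        rw [hB.card, ← hA.card, card_eq_stab_mul_orb A x]
        exact dvd_mul_left _ _
      obtain ⟨q, hq, hqdvd, hqcases⟩ : ∃ q : ℕ, q.Prime ∧ q ∣ (orb A x).card ∧
          ((orb A x).card = 3 ∧ q = 3 ∨ (orb A x).card = 4 ∧ q = 2) := by
        rcases hAcase with h3 | h4
        · exact ⟨3, Nat.prime_three, by rw [h3], Or.inl ⟨h3, rfl⟩⟩
        · exact ⟨2, Nat.prime_two, by rw [h4]; norm_num, Or.inr ⟨h4, rfl⟩⟩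
      haveI : Fact q.Prime := ⟨hq⟩
      obtain ⟨t, ht⟩ := exists_prime_orderOf_dvd_card' (G := ↥B) q (hqdvd.trans hdvd)
      have ht1 : t ≠ 1 := by
        intro h
        rw [h, orderOf_one] at ht
        exact hq.one_lt.ne ht
      have ht1' : t.1 ≠ 1 := fun h => ht1 (Subtype.ext h)
      obtain ⟨y, hy⟩ : ∃ y, t.1 y ≠ y := by
        by_contra hcon
        push Not at hcon
        exact ht1' (Equiv.ext hcon)
      have hyS : y ∈ S := by
        by_contra hn
        exact hy (hB.supp t.1 t.2 y hn)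
      obtain ⟨hBcase, hB5, hBst⟩ := hB.orbit_card hSm hS5 hyS
      have hpowq : t.1 ^ q = 1 := by
        have := pow_orderOf_eq_one t
        rw [ht] at this
        exact congrArg Subtype.val this
      have hsame : (orb A x).card = (orb B y).card := by
        have hpow := pow_card_orb_mem_stab hB.comm y t.2
        have hfix := (mem_stab.mp hpow).2
        rcases hqcases with ⟨h3, rfl⟩ | ⟨h4, rfl⟩
        · rcases hBcase with hb3 | hb4
          · rw [h3, hb3]
          · exfalso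
            rw [hb4] at hfix
            have : t.1 ^ 4 = t.1 := by rw [pow_succ, hpowq, one_mul]
            rw [this] at hfix
            exact hy hfix
        · rcases hBcase with hb3 | hb4
          · exfalso
            rw [hb3] at hfix
            have : t.1 ^ 3 = t.1 := by rw [pow_succ, hpowq, one_mul]
            rw [this] at hfix
            exact hy hfix
          · rw [h4, hb4]
      have hOA : orb A x ⊆ S := orb_subset hA.supp hx
      have hOB : orb B y ⊆ S := orb_subset hB.supp hyS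
      obtain ⟨τ₀, hτ₀S, hτ₀s, hτ₀⟩ := exists_even_perm_map S (orb A x) (orb B y) hOA hOB hsame
        (by rcases hBcase with h | h <;> omega)
      have hA' := hA.conj_maxAb τ₀ hτ₀S
      have hx' : τ₀ x ∈ S := hOB ((hτ₀ x).mp (self_mem_orb A x))
      have horb : orb (conjSub τ₀ A) (τ₀ x) = orb B y := by
        ext z
        rw [mem_orb_conjSub, hτ₀ (τ₀⁻¹ z)]
        simp
      obtain ⟨-, -, hA'st⟩ := hA'.orbit_card hSm hS5 hx'
      rw [horb] at hA'st
      have hlt : (S \ orb B y).card < m := by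
        have := Finset.card_sdiff_add_card_eq_card hOB
        have : 1 ≤ (orb B y).card := by rcases hBcase with h | h <;> omega
        omega
      obtain ⟨τ₁, hτ₁S, hτ₁s, hτ₁⟩ := ih _ hlt (stab (conjSub τ₀ A) (τ₀ x)) (stab B y)
        (S \ orb B y) rfl hB5 hA'st hBst
      refine ⟨τ₁ * τ₀, ?_, ?_, ?_⟩
      · intro z hz
        rw [Perm.mul_apply, hτ₀S z hz]
        apply hτ₁S
        intro h
        exact hz (Finset.mem_sdiff.mp h).1
      · rw [map_mul, hτ₁s, hτ₀s, one_mul]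
      · rw [conjSub_mul]
        symm
        apply Subgroup.eq_of_le_of_card_ge
        · exact hA'.le_of_common_orbit hB hSm hS5 hx' hyS horb τ₁ hτ₁S hτ₁
        · have : Nat.card (conjSub τ₁ (conjSub τ₀ A)) = Nat.card (conjSub τ₀ A) :=
            Subgroup.card_map_of_injective (MulAut.conj τ₁).injective
          rw [this, hA'.card, hB.card]


end Cfsg.Agent.Helper42
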