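import Cfsg.Agent.Helper42.AbelianAltEq

set_option autoImplicit false

namespace Cfsg.Agent.Helper42

open Equiv

variable {α : Type*} [DecidableEq α] [Fintype α]

theorem index_stabilizer_eq_card_orb (A : Subgroup (Perm α)) (x : α) :
    (MulAction.stabilizer A x).index = (orb A x).card := by
  have hidx : (MulAction.stabilizer A x).index = (MulAction.orbit A x).ncard :=
    MulAction.index_stabilizer A x
  have h3 : ((orb A x : Finset α) : Set α) = MulAction.orbit A x := by
    ext y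
    rw [Finset.mem_coe, mem_orb]
    constructor
    · rintro ⟨a, ha, rfl⟩
      exact ⟨⟨a, ha⟩, rfl⟩
    · rintro ⟨⟨a, ha⟩, rfl⟩
      exact ⟨a, ha, rfl⟩
  rw [hidx, ← h3, Set.ncard_coe_finset]

theorem pow_card_orb_mem_stab {A : Subgroup (Perm α)} (hcomm : ∀ a ∈ A, ∀ b ∈ A, a * b = b * a)
    (x : α) {σ : Perm α} (hσ : σ ∈ A) : σ ^ (orb A x).card ∈ stab A x := by
  haveI : (MulAction.stabilizer A x).Normal := by
    refine ⟨fun n hn g => ?_⟩
    have : g * n * g⁻¹ = n := by
      have h1 : g * n = n * g := Subtype.ext (hcomm g.1 g.2 n.1 n.2)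
      rw [h1, mul_inv_cancel_right]
    rw [this]; exact hn
  have h := (MulAction.stabilizer A x).pow_index_mem (⟨σ, hσ⟩ : A)
  rw [index_stabilizer_eq_card_orb] at h
  rw [mem_stab]
  refine ⟨A.pow_mem hσ _, ?_⟩
  have := MulAction.mem_stabilizer_iff.mp h
  exact this

/-- the part of `σ ∈ A` on the orbit of `x` -/
noncomputable def inPart (A : Subgroup (Perm α)) (x : α) : ↥A →* Perm α :=
  resHom A (fun y => y ∈ orb A x) (fun _ hσ y => orb_invariant hσ y)

/-- the part of `σ ∈ A` off the orbit of `x` -/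
noncomputable def outPart (A : Subgroup (Perm α)) (x : α) : ↥A →* Perm α :=
  resHom A (fun y => ¬ y ∈ orb A x) (fun _ hσ y => (orb_invariant hσ y).not)

theorem inPart_of_mem (A : Subgroup (Perm α)) (x : α) (σ : ↥A) {y : α} (hy : y ∈ orb A x) :
    inPart A x σ y = σ.1 y :=
  resPerm_of_mem _ _ _ hy

theorem inPart_of_not_mem (A : Subgroup (Perm α)) (x : α) (σ : ↥A) {y : α} (hy : y ∉ orb A x) :
    inPart A x σ y = y :=
  resPerm_of_not_mem _ _ _ hy

theorem outPart_of_mem (A : Subgroup (Perm α)) (x : α) (σ : ↥A) {y : α} (hy : y ∈ orb A x) :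
    outPart A x σ y = y :=
  resPerm_of_not_mem (fun y => ¬ y ∈ orb A x) _ _ (not_not.mpr hy)

theorem outPart_of_not_mem (A : Subgroup (Perm α)) (x : α) (σ : ↥A) {y : α} (hy : y ∉ orb A x) :
    outPart A x σ y = σ.1 y :=
  resPerm_of_mem (fun y => ¬ y ∈ orb A x) _ _ hy

theorem inPart_mul_outPart (A : Subgroup (Perm α)) (x : α) (σ : ↥A) :
    inPart A x σ * outPart A x σ = σ.1 :=
  resPerm_mul_resPerm_not _ _ _ _

theorem inPart_comm_outPart (A : Subgroup (Perm α)) (x : α) (σ τ : ↥A) :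
    inPart A x σ * outPart A x τ = outPart A x τ * inPart A x σ :=
  resPerm_comm _ _ _ _ _

theorem sign_inPart_mul_sign_outPart (A : Subgroup (Perm α)) (x : α) (σ : ↥A) :
    Perm.sign (inPart A x σ) * Perm.sign (outPart A x σ) = Perm.sign σ.1 := by
  rw [← map_mul, inPart_mul_outPart]

theorem inPart_eq_one_iff {A : Subgroup (Perm α)} (hcomm : ∀ a ∈ A, ∀ b ∈ A, a * b = b * a)
    (x : α) (σ : ↥A) : inPart A x σ = 1 ↔ σ.1 x = x := by
  constructor
  · intro h
    have := inPart_of_mem A x σ (self_mem_orb A x)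
    rw [h] at this
    exact this.symm
  · intro h
    have hst : σ.1 ∈ stab A x := mem_stab.mpr ⟨σ.2, h⟩
    ext y
    by_cases hy : y ∈ orb A x
    · rw [inPart_of_mem A x σ hy, stab_fix_orb hcomm hst hy]; rfl
    · rw [inPart_of_not_mem A x σ hy]; rfl

/-- the action on an orbit is semiregular -/
theorem inPart_semiregular {A : Subgroup (Perm α)} (hcomm : ∀ a ∈ A, ∀ b ∈ A, a * b = b * a)
    (x : α) (σ : ↥A) : inPart A x σ = 1 ∨ ∀ y ∈ orb A x, inPart A x σ y ≠ y := by
  by_cases h : σ.1 x = x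
  · exact Or.inl ((inPart_eq_one_iff hcomm x σ).mpr h)
  · right
    intro y hy hfix
    apply h
    rw [inPart_of_mem A x σ hy] at hfix
    obtain ⟨a, ha, rfl⟩ := mem_orb.mp hy
    have h1 : σ.1 * a = a * σ.1 := hcomm σ.1 σ.2 a ha
    have h2 : a (σ.1 x) = a x := by
      calc a (σ.1 x) = (a * σ.1) x := rfl
        _ = (σ.1 * a) x := by rw [h1]
        _ = σ.1 (a x) := rfl
        _ = a x := hfix
    exact a.injective h2

theorem inPart_supp {A : Subgroup (Perm α)} {S : Finset α}
    (hsupp : ∀ a ∈ A, ∀ x, x ∉ S → a x = x) (x : α) (σ : ↥A) (y : α) (hy : y ∉ S) :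
    inPart A x σ y = y := by
  by_cases hyO : y ∈ orb A x
  · rw [inPart_of_mem A x σ hyO]; exact hsupp σ.1 σ.2 y hy
  · exact inPart_of_not_mem A x σ hyO

theorem outPart_supp {A : Subgroup (Perm α)} {S : Finset α}
    (hsupp : ∀ a ∈ A, ∀ x, x ∉ S → a x = x) (x : α) (σ : ↥A) (y : α) (hy : y ∉ S \ orb A x) :
    outPart A x σ y = y := by
  by_cases hyO : y ∈ orb A x
  · exact outPart_of_mem A x σ hyO
  · rw [outPart_of_not_mem A x σ hyO]
    apply hsupp σ.1 σ.2 y
    intro hyS
    exact hy (Finset.mem_sdiff.mpr ⟨hyS, hyO⟩)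

theorem sign_inPart_of_three {A : Subgroup (Perm α)} (hcomm : ∀ a ∈ A, ∀ b ∈ A, a * b = b * a)
    (x : α) (h3 : (orb A x).card = 3) (σ : ↥A) : Perm.sign (inPart A x σ) = 1 := by
  have h := pow_card_orb_mem_stab hcomm x σ.2
  rw [h3] at h
  have h1 : inPart A x (σ ^ 3) = 1 := by
    rw [inPart_eq_one_iff hcomm]
    exact (mem_stab.mp h).2
  rw [map_pow] at h1
  have h2 : Perm.sign (inPart A x σ) ^ 3 = 1 := by rw [← map_pow, h1, map_one]
  rcases Int.units_eq_one_or (Perm.sign (inPart A x σ)) with h | h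
  · exact h
  · rw [h] at h2
    exact absurd h2 (by decide)

theorem card_range_inPart {A : Subgroup (Perm α)} (hcomm : ∀ a ∈ A, ∀ b ∈ A, a * b = b * a)
    (x : α) : Nat.card (inPart A x).range = (orb A x).card := by
  rw [← Subgroup.index_ker, ← index_stabilizer_eq_card_orb]
  congr 1
  ext σ
  rw [MonoidHom.mem_ker, inPart_eq_one_iff hcomm, MulAction.mem_stabilizer_iff]
  rfl

theorem sign_inPart_of_four {A : Subgroup (Perm α)} {S : Finset α} (h : MaxAb A S) {x : α}
    (hx : x ∈ S) (h4 : (orb A x).card = 4) (σ : ↥A) : Perm.sign (inPart A x σ) = 1 := by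
  classical
  by_contra hodd
  have hOS : orb A x ⊆ S := orb_subset h.supp hx
  have hsd : (S \ orb A x).card + (orb A x).card = S.card := Finset.card_sdiff_add_card_eq_card hOS
  -- the range of `outPart` is abelian, supported off the orbit
  have hRcomm : ∀ a ∈ (outPart A x).range, ∀ b ∈ (outPart A x).range, a * b = b * a := by
    rintro _ ⟨a, rfl⟩ _ ⟨b, rfl⟩
    rw [← map_mul, ← map_mul]
    congr 1
    exact Subtype.ext (h.comm a.1 a.2 b.1 b.2)
  have hRsupp : ∀ a ∈ (outPart A x).range, ∀ y, y ∉ S \ orb A x → a y = y := by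
    rintro _ ⟨a, rfl⟩ y hy
    exact outPart_supp h.supp x a y hy
  have hR := card_le_g_aux (S \ orb A x).card (outPart A x).range hRcomm (S \ orb A x) hRsupp rfl
  -- the kernel of `outPart` has at most two elements
  let K : Subgroup ↥A := (outPart A x).ker
  let E : Subgroup (Perm α) := (inPart A x).range ⊓ alternatingGroup α
  have hEle : E ≤ (inPart A x).range := inf_le_left
  have hEne : Nat.card E ≠ 4 := by
    intro hE4
    have := Subgroup.eq_of_le_of_card_ge hEle (by rw [card_range_inPart h.comm, h4, hE4])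
    have hmem : inPart A x σ ∈ E := by rw [this]; exact ⟨σ, rfl⟩
    exact hodd (Perm.mem_alternatingGroup.mp hmem.2)
  have hEdvd : Nat.card E ∣ 4 := by
    have := Subgroup.card_dvd_of_le hEle
    rwa [card_range_inPart h.comm, h4] at this
  have hE2 : Nat.card E ≤ 2 := by
    have hle : Nat.card E ≤ 4 := Nat.le_of_dvd (by norm_num) hEdvd
    have hpos : 0 < Nat.card E := Nat.card_pos
    interval_cases hE : Nat.card E
    · omega
    · omega
    · exfalso; revert hEdvd; decide
    · exact absurd rfl hEne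
  have hKinj : Function.Injective ((inPart A x).comp K.subtype) := by
    rw [injective_iff_map_eq_one]
    intro k hk
    have h1 : outPart A x k.1 = 1 := MonoidHom.mem_ker.mp k.2
    have h2 : inPart A x k.1 = 1 := hk
    have h3 := inPart_mul_outPart A x k.1
    rw [h1, h2, mul_one] at h3
    apply Subtype.ext
    apply Subtype.ext
    exact h3.symm
  have hKE : ((inPart A x).comp K.subtype).range ≤ E := by
    rintro _ ⟨k, rfl⟩
    refine ⟨⟨k.1, rfl⟩, ?_⟩
    apply Perm.mem_alternatingGroup.mpr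
    have h1 : outPart A x k.1 = 1 := MonoidHom.mem_ker.mp k.2
    have h3 := sign_inPart_mul_sign_outPart A x k.1
    rw [h1, map_one, mul_one] at h3
    show Perm.sign (inPart A x k.1) = 1
    rw [h3]
    exact h.even k.1.1 k.1.2
  have hK2 : Nat.card K ≤ 2 := by
    have h1 : Nat.card K = Nat.card ((inPart A x).comp K.subtype).range :=
      Nat.card_congr (MonoidHom.ofInjective hKinj).toEquiv
    have h2 := Subgroup.card_le_of_le hKE
    omega
  have hcard : Nat.card K * Nat.card (outPart A x).range = Nat.card A := by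
    rw [← Subgroup.index_ker]
    exact Subgroup.card_mul_index K
  have hstrict := (aAlt_strict (S \ orb A x).card).2.2.2
  have e : (S \ orb A x).card + 4 = S.card := by omega
  rw [e] at hstrict
  have hA := h.card
  have : Nat.card K * Nat.card (outPart A x).range ≤ 2 * g (S \ orb A x).card :=
    Nat.mul_le_mul hK2 hR
  omega


theorem MaxAb.sign_inPart {A : Subgroup (Perm α)} {S : Finset α} (h : MaxAb A S) (hm : 3 ≤ S.card)
    (h5 : S.card ≠ 5) {x : α} (hx : x ∈ S) (σ : ↥A) : Perm.sign (inPart A x σ) = 1 := by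
  rcases (h.orbit_card hm h5 hx).1 with h3 | h4
  · exact sign_inPart_of_three h.comm x h3 σ
  · exact sign_inPart_of_four h hx h4 σ

/-- In the equality case, `A` contains the orbit parts of its elements. -/
theorem MaxAb.inPart_mem {A : Subgroup (Perm α)} {S : Finset α} (h : MaxAb A S) (hm : 3 ≤ S.card)
    (h5 : S.card ≠ 5) {x : α} (hx : x ∈ S) (σ : ↥A) : inPart A x σ ∈ A := by
  apply h.mem_of_commute _ (h.sign_inPart hm h5 hx σ) (inPart_supp h.supp x σ)
  intro a ha
  have h1 : inPart A x σ * inPart A x ⟨a, ha⟩ = inPart A x ⟨a, ha⟩ * inPart A x σ := by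
    rw [← map_mul, ← map_mul]
    congr 1
    exact Subtype.ext (h.comm σ.1 σ.2 a ha)
  have h2 := inPart_comm_outPart A x σ ⟨a, ha⟩
  have h3 : a = inPart A x ⟨a, ha⟩ * outPart A x ⟨a, ha⟩ := (inPart_mul_outPart A x ⟨a, ha⟩).symm
  calc inPart A x σ * a = inPart A x σ * (inPart A x ⟨a, ha⟩ * outPart A x ⟨a, ha⟩) := by rw [← h3]
    _ = (inPart A x σ * inPart A x ⟨a, ha⟩) * outPart A x ⟨a, ha⟩ := by rw [mul_assoc]
    _ = (inPart A x ⟨a, ha⟩ * inPart A x σ) * outPart A x ⟨a, ha⟩ := by rw [h1]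
    _ = inPart A x ⟨a, ha⟩ * (inPart A x σ * outPart A x ⟨a, ha⟩) := by rw [mul_assoc]
    _ = inPart A x ⟨a, ha⟩ * (outPart A x ⟨a, ha⟩ * inPart A x σ) := by rw [h2]
    _ = (inPart A x ⟨a, ha⟩ * outPart A x ⟨a, ha⟩) * inPart A x σ := by rw [mul_assoc]
    _ = a * inPart A x σ := by rw [← h3]

theorem MaxAb.outPart_mem_stab {A : Subgroup (Perm α)} {S : Finset α} (h : MaxAb A S)
    (hm : 3 ≤ S.card) (h5 : S.card ≠ 5) {x : α} (hx : x ∈ S) (σ : ↥A) :
    outPart A x σ ∈ stab A x := by
  rw [mem_stab]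
  refine ⟨?_, outPart_of_mem A x σ (self_mem_orb A x)⟩
  have h1 := inPart_mul_outPart A x σ
  have h2 : outPart A x σ = (inPart A x σ)⁻¹ * σ.1 := by
    rw [← h1, inv_mul_cancel_left]
  rw [h2]
  exact A.mul_mem (A.inv_mem (h.inPart_mem hm h5 hx σ)) σ.2


end Cfsg.Agent.Helper42
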