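import Cfsg.Agent.Helper42.AbelianAltNum

set_option autoImplicit false

/-!
# The equality case of `|A| ≤ aAlt n`: orbits and the product decomposition
-/

namespace Cfsg.Agent.Helper42

open Equiv

variable {α : Type*} [DecidableEq α] [Fintype α]

/-! ### Restriction of permutations to invariant sets -/

/-- the part of `σ` on the invariant set `p`, extended by the identity -/
def resPerm (p : α → Prop) [DecidablePred p] (σ : Perm α) (h : ∀ y, p (σ y) ↔ p y) : Perm α :=
  Perm.ofSubtype (σ.subtypePerm h)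

theorem resPerm_of_mem (p : α → Prop) [DecidablePred p] (σ : Perm α) (h : ∀ y, p (σ y) ↔ p y)
    {y : α} (hy : p y) : resPerm p σ h y = σ y :=
  Perm.ofSubtype_subtypePerm_of_mem h hy

theorem resPerm_of_not_mem (p : α → Prop) [DecidablePred p] (σ : Perm α) (h : ∀ y, p (σ y) ↔ p y)
    {y : α} (hy : ¬ p y) : resPerm p σ h y = y :=
  Perm.ofSubtype_subtypePerm_of_not_mem h hy

theorem resPerm_mul_resPerm_not (p : α → Prop) [DecidablePred p] (σ : Perm α)
    (h : ∀ y, p (σ y) ↔ p y) (h' : ∀ y, ¬ p (σ y) ↔ ¬ p y) :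
    resPerm p σ h * resPerm (fun y => ¬ p y) σ h' = σ := by
  ext y
  rw [Perm.mul_apply]
  by_cases hy : p y
  · rw [resPerm_of_not_mem (fun y => ¬ p y) σ h' (not_not.mpr hy), resPerm_of_mem p σ h hy]
  · rw [resPerm_of_mem (fun y => ¬ p y) σ h' hy, resPerm_of_not_mem p σ h ((h y).not.mpr hy)]

theorem resPerm_comm (p : α → Prop) [DecidablePred p] (σ τ : Perm α)
    (h : ∀ y, p (σ y) ↔ p y) (h' : ∀ y, ¬ p (τ y) ↔ ¬ p y) :
    resPerm p σ h * resPerm (fun y => ¬ p y) τ h' = resPerm (fun y => ¬ p y) τ h' * resPerm p σ h := by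
  ext y
  simp only [Perm.mul_apply]
  by_cases hy : p y
  · have hy' : p (σ y) := (h y).mpr hy
    rw [resPerm_of_not_mem _ τ h' (not_not.mpr hy), resPerm_of_mem p σ h hy,
      resPerm_of_not_mem _ τ h' (not_not.mpr hy')]
  · have hy' : ¬ p (τ y) := (h' y).mpr hy
    rw [resPerm_of_mem _ τ h' hy, resPerm_of_not_mem p σ h hy', resPerm_of_not_mem p σ h hy,
      resPerm_of_mem _ τ h' hy]

/-- restriction to an invariant set, as a homomorphism -/
def resHom (A : Subgroup (Perm α)) (p : α → Prop) [DecidablePred p]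
    (hp : ∀ σ ∈ A, ∀ y, p (σ y) ↔ p y) : ↥A →* Perm α where
  toFun σ := resPerm p σ.1 (hp σ.1 σ.2)
  map_one' := by
    ext y
    by_cases hy : p y
    · rw [resPerm_of_mem _ _ _ hy]; rfl
    · rw [resPerm_of_not_mem _ _ _ hy]; rfl
  map_mul' σ τ := by
    ext y
    by_cases hy : p y
    · rw [resPerm_of_mem _ _ _ hy, Perm.mul_apply, resPerm_of_mem _ _ _ hy,
        resPerm_of_mem _ _ _ ((hp τ.1 τ.2 y).mpr hy)]
      rfl
    · rw [resPerm_of_not_mem _ _ _ hy, Perm.mul_apply, resPerm_of_not_mem _ _ _ hy,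
        resPerm_of_not_mem _ _ _ hy]

theorem resHom_apply (A : Subgroup (Perm α)) (p : α → Prop) [DecidablePred p]
    (hp : ∀ σ ∈ A, ∀ y, p (σ y) ↔ p y) (σ : ↥A) :
    resHom A p hp σ = resPerm p σ.1 (hp σ.1 σ.2) := rfl

/-! ### Maximal abelian groups of even permutations -/

/-- `A` is an abelian group of even permutations supported on `S`, of the largest possible order -/
structure MaxAb (A : Subgroup (Perm α)) (S : Finset α) : Prop where
  comm : ∀ a ∈ A, ∀ b ∈ A, a * b = b * a
  even : ∀ a ∈ A, Perm.sign a = 1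
  supp : ∀ a ∈ A, ∀ x, x ∉ S → a x = x
  card : Nat.card A = aAlt S.card

/-- a maximal abelian group of even permutations contains its centralizer among the even permutations
supported on `S` -/
theorem MaxAb.mem_of_commute {A : Subgroup (Perm α)} {S : Finset α} (h : MaxAb A S) (u : Perm α)
    (hu : Perm.sign u = 1) (hus : ∀ x, x ∉ S → u x = x) (huc : ∀ a ∈ A, u * a = a * u) : u ∈ A := by
  let k : Set (Perm α) := (A : Set (Perm α)) ∪ {u}
  have hk : ∀ x ∈ k, ∀ y ∈ k, x * y = y * x := by
    rintro x (hx | hx) y (hy | hy)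
    · exact h.comm x hx y hy
    · rw [Set.mem_singleton_iff] at hy
      rw [hy]; exact (huc x hx).symm
    · rw [Set.mem_singleton_iff] at hx
      rw [hx]; exact huc y hy
    · rw [Set.mem_singleton_iff] at hx hy
      rw [hx, hy]
  have hC := Subgroup.isMulCommutative_closure hk
  have hcomm : ∀ a ∈ Subgroup.closure k, ∀ b ∈ Subgroup.closure k, a * b = b * a :=
    fun a ha b hb => congrArg Subtype.val (mul_comm' (⟨a, ha⟩ : Subgroup.closure k) ⟨b, hb⟩)
  have heven : ∀ a ∈ Subgroup.closure k, Perm.sign a = 1 := by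
    intro a ha
    induction ha using Subgroup.closure_induction with
    | mem x hx =>
      rcases hx with hx | hx
      · exact h.even x hx
      · rw [Set.mem_singleton_iff] at hx
        rw [hx]; exact hu
    | one => simp
    | mul x y _ _ hx hy => rw [map_mul, hx, hy, one_mul]
    | inv x _ hx => rw [map_inv, hx, inv_one]
  have hsupp : ∀ a ∈ Subgroup.closure k, ∀ x, x ∉ S → a x = x := by
    intro a ha
    induction ha using Subgroup.closure_induction with
    | mem x hx =>
      rcases hx with hx | hx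
      · exact h.supp x hx
      · rw [Set.mem_singleton_iff] at hx
        rw [hx]; exact hus
    | one => intro x _; rfl
    | mul x y _ _ hx hy =>
      intro z hz
      rw [Perm.mul_apply, hy z hz, hx z hz]
    | inv x _ hx =>
      intro z hz
      rw [Perm.inv_eq_iff_eq, hx z hz]
  have hle : Nat.card (Subgroup.closure k) ≤ aAlt S.card :=
    card_le_aAlt_aux S.card (Subgroup.closure k) hcomm heven S hsupp rfl
  have hA : A ≤ Subgroup.closure k := fun a ha => Subgroup.subset_closure (Or.inl ha)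
  have := Subgroup.eq_of_le_of_card_ge hA (by rw [h.card]; exact hle)
  rw [this]
  exact Subgroup.subset_closure (Or.inr rfl)

/-! ### Orbits and stabilizers -/

/-- the stabilizer of `x` in `A` -/
def stab (A : Subgroup (Perm α)) (x : α) : Subgroup (Perm α) :=
  A ⊓ MulAction.stabilizer (Perm α) x

theorem mem_stab {A : Subgroup (Perm α)} {x : α} {b : Perm α} : b ∈ stab A x ↔ b ∈ A ∧ b x = x := by
  rw [stab, Subgroup.mem_inf, MulAction.mem_stabilizer_iff, Perm.smul_def]

/-- the orbit of `x` under `A`, as a finset -/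
noncomputable def orb (A : Subgroup (Perm α)) (x : α) : Finset α := by
  classical exact Finset.univ.filter (fun y => ∃ a ∈ A, a x = y)

theorem mem_orb {A : Subgroup (Perm α)} {x y : α} : y ∈ orb A x ↔ ∃ a ∈ A, a x = y := by
  classical
  simp [orb]

theorem self_mem_orb (A : Subgroup (Perm α)) (x : α) : x ∈ orb A x :=
  mem_orb.mpr ⟨1, A.one_mem, rfl⟩

theorem orb_invariant {A : Subgroup (Perm α)} {x : α} {σ : Perm α} (hσ : σ ∈ A) (y : α) :
    σ y ∈ orb A x ↔ y ∈ orb A x := by
  constructor
  · intro hy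
    obtain ⟨a, ha, hax⟩ := mem_orb.mp hy
    refine mem_orb.mpr ⟨σ⁻¹ * a, A.mul_mem (A.inv_mem hσ) ha, ?_⟩
    rw [Perm.mul_apply, hax]
    exact Perm.inv_eq_iff_eq.mpr rfl
  · intro hy
    obtain ⟨a, ha, hax⟩ := mem_orb.mp hy
    refine mem_orb.mpr ⟨σ * a, A.mul_mem hσ ha, ?_⟩
    rw [Perm.mul_apply, hax]

theorem orb_subset {A : Subgroup (Perm α)} {S : Finset α} (hsupp : ∀ a ∈ A, ∀ x, x ∉ S → a x = x)
    {x : α} (hx : x ∈ S) : orb A x ⊆ S := by
  intro y hy
  obtain ⟨a, ha, rfl⟩ := mem_orb.mp hy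
  by_contra hnot
  have h1 := hsupp a⁻¹ (A.inv_mem ha) (a x) hnot
  have h2 : a⁻¹ (a x) = x := Perm.inv_eq_iff_eq.mpr rfl
  rw [h2] at h1
  rw [← h1] at hnot
  exact hnot hx

theorem stab_fix_orb {A : Subgroup (Perm α)} (hcomm : ∀ a ∈ A, ∀ b ∈ A, a * b = b * a) {x : α}
    {b : Perm α} (hb : b ∈ stab A x) {y : α} (hy : y ∈ orb A x) : b y = y := by
  obtain ⟨a, ha, rfl⟩ := mem_orb.mp hy
  obtain ⟨hbA, hbx⟩ := mem_stab.mp hb
  calc b (a x) = (b * a) x := rfl
    _ = (a * b) x := by rw [hcomm b hbA a ha]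
    _ = a (b x) := rfl
    _ = a x := by rw [hbx]

theorem card_eq_stab_mul_orb (A : Subgroup (Perm α)) (x : α) :
    Nat.card A = Nat.card (stab A x) * (orb A x).card := by
  let St : Subgroup A := MulAction.stabilizer A x
  have h1 : stab A x = St.map A.subtype := by
    ext b
    rw [mem_stab]
    constructor
    · rintro ⟨hbA, hbx⟩
      exact ⟨⟨b, hbA⟩, MulAction.mem_stabilizer_iff.mpr hbx, rfl⟩
    · rintro ⟨⟨b', hb'⟩, hst, rfl⟩
      exact ⟨hb', MulAction.mem_stabilizer_iff.mp hst⟩
  have h2 : Nat.card (stab A x) = Nat.card St := by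
    rw [h1]; exact Subgroup.card_map_of_injective A.subtype_injective
  have hidx : St.index = (MulAction.orbit A x).ncard := MulAction.index_stabilizer A x
  have h3 : ((orb A x : Finset α) : Set α) = MulAction.orbit A x := by
    ext y
    rw [Finset.mem_coe, mem_orb]
    constructor
    · rintro ⟨a, ha, rfl⟩
      exact ⟨⟨a, ha⟩, rfl⟩
    · rintro ⟨⟨a, ha⟩, rfl⟩
      exact ⟨a, ha, rfl⟩
  have h4 : (MulAction.orbit A x).ncard = (orb A x).card := by
    rw [← h3, Set.ncard_coe_finset]
  rw [h2, ← h4, ← hidx, Subgroup.card_mul_index]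

theorem MaxAb.stab_props {A : Subgroup (Perm α)} {S : Finset α} (h : MaxAb A S) (x : α) :
    (∀ a ∈ stab A x, ∀ b ∈ stab A x, a * b = b * a) ∧ (∀ a ∈ stab A x, Perm.sign a = 1) ∧
    (∀ a ∈ stab A x, ∀ y, y ∉ S \ orb A x → a y = y) := by
  refine ⟨fun a ha b hb => h.comm a (mem_stab.mp ha).1 b (mem_stab.mp hb).1,
    fun a ha => h.even a (mem_stab.mp ha).1, ?_⟩
  intro a ha y hy
  by_cases hyS : y ∈ S
  · have : y ∈ orb A x := by
      by_contra hn
      exact hy (Finset.mem_sdiff.mpr ⟨hyS, hn⟩)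
    exact stab_fix_orb h.comm ha this
  · exact h.supp a (mem_stab.mp ha).1 y hyS

/-- In the equality case every orbit has size `3` or `4`, and the stabilizer is again extremal. -/
theorem MaxAb.orbit_card {A : Subgroup (Perm α)} {S : Finset α} (h : MaxAb A S) (hm : 3 ≤ S.card)
    (h5 : S.card ≠ 5) {x : α} (hx : x ∈ S) :
    ((orb A x).card = 3 ∨ (orb A x).card = 4) ∧ (S \ orb A x).card ≠ 5 ∧
      MaxAb (stab A x) (S \ orb A x) := by
  classical
  have hOS : orb A x ⊆ S := orb_subset h.supp hx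
  have hsd : (S \ orb A x).card + (orb A x).card = S.card := Finset.card_sdiff_add_card_eq_card hOS
  have hpos : 1 ≤ (orb A x).card := Finset.card_pos.mpr ⟨x, self_mem_orb A x⟩
  obtain ⟨hc, he, hs⟩ := h.stab_props x
  have hcard := card_eq_stab_mul_orb A x
  have hStle : Nat.card (stab A x) ≤ aAlt (S \ orb A x).card :=
    card_le_aAlt_aux _ (stab A x) hc he (S \ orb A x) hs rfl
  have h2 : (orb A x).card ≠ 2 := by
    intro h2
    obtain ⟨p, q, hpq, hOpq⟩ := Finset.card_eq_two.mp h2
    obtain ⟨y, hxy, hOxy⟩ : ∃ y, x ≠ y ∧ orb A x = {x, y} := by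
      have : x ∈ ({p, q} : Finset α) := hOpq ▸ self_mem_orb A x
      rw [Finset.mem_insert, Finset.mem_singleton] at this
      rcases this with rfl | rfl
      · exact ⟨q, hpq, hOpq⟩
      · exact ⟨p, hpq.symm, by rw [hOpq, Finset.pair_comm]⟩
    have hyO : y ∈ orb A x := by rw [hOxy]; simp
    have hAx : ∀ a ∈ A, a x = x ∨ a x = y := by
      intro a ha
      have : a x ∈ orb A x := mem_orb.mpr ⟨a, ha, rfl⟩
      rw [hOxy, Finset.mem_insert, Finset.mem_singleton] at this
      exact this
    have hAy : ∀ a ∈ A, a y = x ∨ a y = y := by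
      intro a ha
      have : a y ∈ orb A x := (orb_invariant ha y).mpr hyO
      rw [hOxy, Finset.mem_insert, Finset.mem_singleton] at this
      exact this
    obtain ⟨A', hA'comm, hA'card, hA'⟩ := two_orbit A h.comm h.even x y hxy hAx hAy
    have hS'A' : ∀ a' ∈ A', ∀ z, z ∉ S \ orb A x → a' z = z := by
      intro a' ha' z hz
      obtain ⟨h1, h2', h3⟩ := hA' a' ha'
      by_cases hzx : z = x
      · rw [hzx]; exact h1
      by_cases hzy : z = y
      · rw [hzy]; exact h2'
      obtain ⟨a, ha, haz⟩ := h3 z hzx hzy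
      rw [haz]
      apply h.supp a ha
      intro hzS
      apply hz
      rw [Finset.mem_sdiff]
      refine ⟨hzS, ?_⟩
      rw [hOxy]
      simp [hzx, hzy]
    have h1 := card_le_g_aux (S \ orb A x).card A' hA'comm (S \ orb A x) hS'A' rfl
    have h3 := (aAlt_strict (S \ orb A x).card).2.2.1 (by omega)
    have e : (S \ orb A x).card + 2 = S.card := by omega
    rw [e] at h3
    have := h.card
    omega
  have hmul := mul_aAlt_le (orb A x).card (S \ orb A x).card hpos h2
  have e : (orb A x).card + (S \ orb A x).card = S.card := by omega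
  rw [e] at hmul
  have hAc := h.card
  have h3 : Nat.card (stab A x) * (orb A x).card ≤ aAlt (S \ orb A x).card * (orb A x).card :=
    Nat.mul_le_mul_right _ hStle
  have heq1 : (orb A x).card * aAlt (S \ orb A x).card = aAlt S.card := by
    have : aAlt (S \ orb A x).card * (orb A x).card = (orb A x).card * aAlt (S \ orb A x).card :=
      mul_comm _ _
    omega
  have hSt : Nat.card (stab A x) = aAlt (S \ orb A x).card := by
    have h4 : Nat.card (stab A x) * (orb A x).card = aAlt (S \ orb A x).card * (orb A x).card := by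
      have : aAlt (S \ orb A x).card * (orb A x).card = (orb A x).card * aAlt (S \ orb A x).card :=
        mul_comm _ _
      omega
    exact Nat.eq_of_mul_eq_mul_right hpos h4
  have hcase := eq_case (orb A x).card (S \ orb A x).card hpos h2 (by omega) (by omega)
    (by rw [e]; exact heq1)
  exact ⟨hcase.1, hcase.2, ⟨hc, he, hs, hSt⟩⟩


end Cfsg.Agent.Helper42
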