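import Cfsg.Agent.Helper42.AbelianAlt

set_option autoImplicit false

/-!
# Numerical lemmas for the equality case of the bound `|A| ≤ aAlt n`
-/

namespace Cfsg.Agent.Helper42

theorem aAlt_strict (n : ℕ) :
    (2 ≤ n → aAlt n < aAlt (n + 1)) ∧ (1 ≤ n → 5 * aAlt n < aAlt (n + 5)) ∧
    (1 ≤ n → g n < aAlt (n + 2)) ∧ 2 * g n < aAlt (n + 4) := by
  induction n using Nat.strong_induction_on with
  | _ n ih =>
    match n, ih with
    | 0, _ => decide
    | 1, _ => decide
    | 2, _ => decide
    | 3, _ => decide
    | 4, _ => decide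
    | 5, _ => decide
    | 6, _ => decide
    | 7, _ => decide
    | 8, _ => decide
    | (m + 9), ih =>
      have h := ih (m + 6) (by omega)
      have e0 : aAlt (m + 9) = 3 * aAlt (m + 6) := aAlt_add_nine m
      have e1 : aAlt (m + 9 + 1) = 3 * aAlt (m + 6 + 1) := aAlt_add_nine (m + 1)
      have e2 : aAlt (m + 9 + 2) = 3 * aAlt (m + 6 + 2) := aAlt_add_nine (m + 2)
      have e4 : aAlt (m + 9 + 4) = 3 * aAlt (m + 6 + 4) := aAlt_add_nine (m + 4)
      have e5 : aAlt (m + 9 + 5) = 3 * aAlt (m + 6 + 5) := aAlt_add_nine (m + 5)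
      have eg : g (m + 9) = 3 * g (m + 6) := g_add_five (m + 4)
      rw [e0, e1, e2, e4, e5, eg]
      have h1 := h.1 (by omega)
      have h2 := h.2.1 (by omega)
      have h3 := h.2.2.1 (by omega)
      have h4 := h.2.2.2
      refine ⟨fun _ => by omega, fun _ => by omega, fun _ => by omega, by omega⟩

/-- the orbit sizes that can occur in the equality case -/
theorem eq_case (a b : ℕ) (ha : 1 ≤ a) (ha2 : a ≠ 2) (hab : 3 ≤ a + b) (h5 : a + b ≠ 5)
    (h : a * aAlt b = aAlt (a + b)) : (a = 3 ∨ a = 4) ∧ b ≠ 5 := by
  rcases Nat.lt_or_ge a 6 with h6 | h6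
  · interval_cases a
    · exfalso
      have := (aAlt_strict b).1 (by omega)
      rw [one_mul, add_comm] at h
      omega
    · exact absurd rfl ha2
    · refine ⟨Or.inl rfl, ?_⟩
      rintro rfl
      revert h; decide
    · refine ⟨Or.inr rfl, ?_⟩
      rintro rfl
      revert h; decide
    · exfalso
      have := (aAlt_strict b).2.1 (by omega)
      rw [add_comm] at h
      omega
  · exfalso
    have h1 := mul_aAlt_le (a - 3) b (by omega) (by omega)
    have h2 := (aAlt_steps (a - 3 + b)).2.1
    have e : a - 3 + b + 3 = a + b := by omega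
    rw [e] at h2
    have hpos := aAlt_pos b
    have h3 : a * aAlt b < 3 * ((a - 3) * aAlt b) := by
      have : a < 3 * (a - 3) := by omega
      calc a * aAlt b < 3 * (a - 3) * aAlt b := Nat.mul_lt_mul_of_pos_right this hpos
        _ = 3 * ((a - 3) * aAlt b) := by ring
    omega

theorem achievableAlt_one (n : ℕ) : AchievableAlt n 1 :=
  ⟨⊥, bot_le, inferInstance, Subgroup.card_bot⟩

theorem achievableAlt_aAlt (n : ℕ) (hn : n ≠ 5) : AchievableAlt n (aAlt n) := by
  induction n using Nat.strong_induction_on with
  | _ n ih =>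
    match n, ih, hn with
    | 0, _, _ => exact achievableAlt_one 0
    | 1, _, _ => exact achievableAlt_one 1
    | 2, _, _ => exact achievableAlt_one 2
    | 3, _, _ => exact achievableAlt_three
    | 4, _, _ => exact achievableAlt_four
    | 5, _, h => exact absurd rfl h
    | 6, _, _ => exact achievableAlt_add achievableAlt_three achievableAlt_three
    | 7, _, _ => exact achievableAlt_add achievableAlt_four achievableAlt_three
    | 8, _, _ => exact achievableAlt_add achievableAlt_four achievableAlt_four
    | (m + 9), ih, _ =>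
      have h := ih (m + 6) (by omega) (by omega)
      have := achievableAlt_add h achievableAlt_three
      rw [aAlt_add_nine, mul_comm]
      exact achievableAlt_cast (by omega) this

end Cfsg.Agent.Helper42
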