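import Cfsg.Agent.Helper42.AbelianAltDecomp

set_option autoImplicit false

namespace Cfsg.Agent.Helper42

open Equiv

theorem fin3_comm : ∀ u v : Perm (Fin 3), Perm.sign u = 1 → Perm.sign v = 1 → u * v = v * u := by
  decide

theorem fin4_comm : ∀ u v : Perm (Fin 4), Perm.sign u = 1 → Perm.sign v = 1 →
    (u = 1 ∨ ∀ i, u i ≠ i) → (v = 1 ∨ ∀ i, v i ≠ i) → u * v = v * u := by
  decide

variable {α : Type*} [DecidableEq α] [Fintype α]

theorem preserves_of_supp (O : Finset α) (u : Perm α) (hu : ∀ y, y ∉ O → u y = y) (y : α) :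
    u y ∈ O ↔ y ∈ O := by
  constructor
  · intro h
    by_contra hy
    rw [hu y hy] at h
    exact hy h
  · intro h
    by_contra hy
    have h1 := hu (u y) hy
    have h2 : u y = y := u.injective h1
    rw [h2] at hy
    exact hy h

/-- Two even semiregular permutations of a set of `3` or `4` points commute. -/
theorem comm_of_small (O : Finset α) (hO : O.card = 3 ∨ O.card = 4) (u v : Perm α)
    (hu : ∀ y, y ∉ O → u y = y) (hv : ∀ y, y ∉ O → v y = y)
    (hus : Perm.sign u = 1) (hvs : Perm.sign v = 1)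
    (hur : u = 1 ∨ ∀ y ∈ O, u y ≠ y) (hvr : v = 1 ∨ ∀ y ∈ O, v y ≠ y) : u * v = v * u := by
  have hu' := preserves_of_supp O u hu
  have hv' := preserves_of_supp O v hv
  have hu2 : ∀ y, u y ≠ y → y ∈ O := fun y hy => by
    by_contra hn; exact hy (hu y hn)
  have hv2 : ∀ y, v y ≠ y → y ∈ O := fun y hy => by
    by_contra hn; exact hy (hv y hn)
  have eu : Perm.ofSubtype (u.subtypePerm hu') = u := Perm.ofSubtype_subtypePerm hu' hu2
  have ev : Perm.ofSubtype (v.subtypePerm hv') = v := Perm.ofSubtype_subtypePerm hv' hv2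
  have su : Perm.sign (u.subtypePerm hu') = 1 := by
    convert (Perm.sign_subtypePerm u hu' hu2).trans hus
  have sv : Perm.sign (v.subtypePerm hv') = 1 := by
    convert (Perm.sign_subtypePerm v hv' hv2).trans hvs
  have ru : u.subtypePerm hu' = 1 ∨ ∀ z, u.subtypePerm hu' z ≠ z := by
    rcases hur with h | h
    · left; ext z; rw [Perm.subtypePerm_apply]; simp [h]
    · right; intro z hz
      apply h z.1 z.2
      exact congrArg Subtype.val hz
  have rv : v.subtypePerm hv' = 1 ∨ ∀ z, v.subtypePerm hv' z ≠ z := by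
    rcases hvr with h | h
    · left; ext z; rw [Perm.subtypePerm_apply]; simp [h]
    · right; intro z hz
      apply h z.1 z.2
      exact congrArg Subtype.val hz
  suffices hs : u.subtypePerm hu' * v.subtypePerm hv' = v.subtypePerm hv' * u.subtypePerm hu' by
    rw [← eu, ← ev, ← map_mul, ← map_mul, hs]
  have key : ∀ (k : ℕ) (e : {y // y ∈ O} ≃ Fin k)
      (hk : ∀ a b : Perm (Fin k), Perm.sign a = 1 → Perm.sign b = 1 →
        (a = 1 ∨ ∀ i, a i ≠ i) → (b = 1 ∨ ∀ i, b i ≠ i) → a * b = b * a),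
      u.subtypePerm hu' * v.subtypePerm hv' = v.subtypePerm hv' * u.subtypePerm hu' := by
    intro k e hk
    apply e.permCongrHom.injective
    rw [map_mul, map_mul]
    have hreg : ∀ w : Perm {y // y ∈ O}, (w = 1 ∨ ∀ z, w z ≠ z) →
        (e.permCongrHom w = 1 ∨ ∀ i, e.permCongrHom w i ≠ i) := by
      intro w hw
      rcases hw with h | h
      · left; rw [h, map_one]
      · right
        intro i hi
        apply h (e.symm i)
        have : e.permCongrHom w i = e (w (e.symm i)) := rfl
        rw [this] at hi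
        have := congrArg e.symm hi
        rwa [Equiv.symm_apply_apply] at this
    apply hk
    · rw [Equiv.permCongrHom_coe, Perm.sign_permCongr, su]
    · rw [Equiv.permCongrHom_coe, Perm.sign_permCongr, sv]
    · exact hreg _ ru
    · exact hreg _ rv
  rcases hO with h3 | h4
  · exact key 3 (Fintype.equivFinOfCardEq (by rw [Fintype.card_coe, h3]))
      (fun a b ha hb _ _ => fin3_comm a b ha hb)
  · exact key 4 (Fintype.equivFinOfCardEq (by rw [Fintype.card_coe, h4])) fin4_comm

omit [Fintype α] in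
theorem exists_perm_map_aux (S O' : Finset α) (hO' : O' ⊆ S) (k : ℕ) :
    ∀ O : Finset α, (O \ O').card = k → O ⊆ S → O.card = O'.card →
      ∃ τ : Perm α, (∀ z, z ∉ S → τ z = z) ∧ ∀ z, z ∈ O ↔ τ z ∈ O' := by
  induction k with
  | zero =>
    intro O hk hOS hcard
    have hsub : O ⊆ O' := by
      rw [Finset.card_eq_zero, Finset.sdiff_eq_empty_iff_subset] at hk
      exact hk
    have : O = O' := Finset.eq_of_subset_of_card_le hsub (by omega)
    exact ⟨1, fun _ _ => rfl, fun z => by rw [this]; rfl⟩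
  | succ k ih =>
    intro O hk hOS hcard
    have hne : (O \ O').Nonempty := Finset.card_pos.mp (by omega)
    obtain ⟨u, hu⟩ := hne
    have hcomm : (O' \ O).card = (O \ O').card := Finset.card_sdiff_comm hcard.symm
    have hne' : (O' \ O).Nonempty := Finset.card_pos.mp (by omega)
    obtain ⟨v, hv⟩ := hne'
    rw [Finset.mem_sdiff] at hu hv
    have huv : u ≠ v := by
      rintro rfl
      exact hu.2 hv.1
    let O₁ : Finset α := insert v (O.erase u)
    have hvO : v ∉ O.erase u := fun h => hv.2 (Finset.mem_of_mem_erase h)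
    have hO₁card : O₁.card = O'.card := by
      rw [Finset.card_insert_of_notMem hvO, Finset.card_erase_of_mem hu.1]
      have : 1 ≤ O.card := Finset.card_pos.mpr ⟨u, hu.1⟩
      omega
    have hO₁S : O₁ ⊆ S := by
      intro z hz
      rw [Finset.mem_insert] at hz
      rcases hz with rfl | hz
      · exact hO' hv.1
      · exact hOS (Finset.mem_of_mem_erase hz)
    have hO₁sd : O₁ \ O' = (O \ O').erase u := by
      ext z
      simp only [O₁, Finset.mem_sdiff, Finset.mem_insert, Finset.mem_erase]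
      constructor
      · rintro ⟨h1 | h1, h2⟩
        · rw [h1] at h2; exact absurd hv.1 h2
        · exact ⟨h1.1, h1.2, h2⟩
      · rintro ⟨h1, h2, h3⟩
        exact ⟨Or.inr ⟨h1, h2⟩, h3⟩
    have hk₁ : (O₁ \ O').card = k := by
      rw [hO₁sd, Finset.card_erase_of_mem (Finset.mem_sdiff.mpr hu)]
      omega
    obtain ⟨τ₁, hτ₁S, hτ₁⟩ := ih O₁ hk₁ hO₁S hO₁card
    refine ⟨τ₁ * swap u v, ?_, ?_⟩
    · intro z hz
      have hzu : z ≠ u := fun h => hz (h ▸ hOS hu.1)
      have hzv : z ≠ v := fun h => hz (h ▸ hO' hv.1)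
      rw [Perm.mul_apply, swap_apply_of_ne_of_ne hzu hzv, hτ₁S z hz]
    · intro z
      rw [Perm.mul_apply, ← hτ₁]
      simp only [O₁, Finset.mem_insert, Finset.mem_erase]
      by_cases hzu : z = u
      · subst hzu
        rw [swap_apply_left]
        simp [hu.1]
      by_cases hzv : z = v
      · subst hzv
        rw [swap_apply_right]
        simp [hv.2, huv]
      · rw [swap_apply_of_ne_of_ne hzu hzv]
        simp [hzu, hzv]

omit [Fintype α] in
theorem exists_perm_map (S O O' : Finset α) (hO : O ⊆ S) (hO' : O' ⊆ S) (hcard : O.card = O'.card) :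
    ∃ τ : Perm α, (∀ z, z ∉ S → τ z = z) ∧ ∀ z, z ∈ O ↔ τ z ∈ O' :=
  exists_perm_map_aux S O' hO' _ O rfl hO hcard

theorem exists_even_perm_map (S O O' : Finset α) (hO : O ⊆ S) (hO' : O' ⊆ S)
    (hcard : O.card = O'.card) (h2 : 2 ≤ O'.card) :
    ∃ τ : Perm α, (∀ z, z ∉ S → τ z = z) ∧ Perm.sign τ = 1 ∧ ∀ z, z ∈ O ↔ τ z ∈ O' := by
  obtain ⟨τ, hτS, hτ⟩ := exists_perm_map S O O' hO hO' hcard
  rcases Int.units_eq_one_or (Perm.sign τ) with hs | hs
  · exact ⟨τ, hτS, hs, hτ⟩
  · obtain ⟨c, hc, d, hd, hcd⟩ := Finset.one_lt_card.mp (by omega : 1 < O'.card)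
    refine ⟨swap c d * τ, ?_, ?_, ?_⟩
    · intro z hz
      rw [Perm.mul_apply, hτS z hz]
      have hzc : z ≠ c := fun h => hz (h ▸ hO' hc)
      have hzd : z ≠ d := fun h => hz (h ▸ hO' hd)
      exact swap_apply_of_ne_of_ne hzc hzd
    · rw [map_mul, hs, Perm.sign_swap hcd]; rfl
    · intro z
      rw [Perm.mul_apply, hτ z]
      by_cases h1 : τ z = c
      · rw [h1, swap_apply_left]
        exact ⟨fun _ => hd, fun _ => hc⟩
      by_cases h2 : τ z = d
      · rw [h2, swap_apply_right]
        exact ⟨fun _ => hc, fun _ => hd⟩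
      · rw [swap_apply_of_ne_of_ne h1 h2]


end Cfsg.Agent.Helper42
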