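import Mathlib

set_option autoImplicit false

/-!
# Abelian subgroups of symmetric groups: the bound `|A| ≤ g n` and constructions

`g n` is the maximal product of positive integers with sum `n`
(`g (3k) = 3^k`, `g (3k+1) = 4·3^(k-1)`, `g (3k+2) = 2·3^k`).
-/

namespace Cfsg.Agent.Helper42

open Equiv

/-- maximal product of a partition of `n` -/
def g : ℕ → ℕ
  | 0 => 1
  | 1 => 1
  | 2 => 2
  | 3 => 3
  | 4 => 4
  | (n + 5) => 3 * g (n + 2)

theorem g_add_five (n : ℕ) : g (n + 5) = 3 * g (n + 2) := by rw [g]

theorem g_steps (n : ℕ) : g n ≤ g (n + 1) ∧ 2 * g n ≤ g (n + 2) ∧ 3 * g n ≤ g (n + 3) := by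
  induction n using Nat.strong_induction_on with
  | _ n ih =>
    match n, ih with
    | 0, _ => decide
    | 1, _ => decide
    | 2, _ => decide
    | 3, _ => decide
    | 4, _ => decide
    | (m + 5), ih =>
      have h := ih (m + 2) (by omega)
      have e1 : g (m + 5 + 1) = 3 * g (m + 2 + 1) := g_add_five (m + 1)
      have e2 : g (m + 5 + 2) = 3 * g (m + 2 + 2) := g_add_five (m + 2)
      have e3 : g (m + 5 + 3) = 3 * g (m + 2 + 3) := g_add_five (m + 3)
      rw [e1, e2, e3, g_add_five]
      omega

theorem g_pos (n : ℕ) : 0 < g n := by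
  induction n using Nat.strong_induction_on with
  | _ n ih =>
    match n, ih with
    | 0, _ => decide
    | 1, _ => decide
    | 2, _ => decide
    | 3, _ => decide
    | 4, _ => decide
    | (m + 5), ih =>
      rw [g_add_five]
      have := ih (m + 2) (by omega)
      omega

theorem mul_g_le (a b : ℕ) (ha : 1 ≤ a) : a * g b ≤ g (a + b) := by
  induction a using Nat.strong_induction_on generalizing b with
  | _ a ih =>
    rcases Nat.lt_or_ge a 5 with h5 | h5
    · interval_cases a
      · have := (g_steps b).1
        rw [one_mul, add_comm]; exact this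
      · have := (g_steps b).2.1
        rw [add_comm]; exact this
      · have := (g_steps b).2.2
        rw [add_comm]; exact this
      · have h1 := (g_steps b).2.1
        have h2 := (g_steps (b + 2)).2.1
        have e : 4 + b = b + 2 + 2 := by omega
        rw [e]; omega
    · -- a ≥ 5: a ≤ 3 (a - 3)
      have h1 := ih (a - 3) (by omega) b (by omega)
      have h2 := (g_steps (a - 3 + b)).2.2
      have e : a - 3 + b + 3 = a + b := by omega
      rw [e] at h2
      have h3 : a * g b ≤ 3 * ((a - 3) * g b) := by
        have : a ≤ 3 * (a - 3) := by omega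
        calc a * g b ≤ 3 * (a - 3) * g b := Nat.mul_le_mul_right _ this
          _ = 3 * ((a - 3) * g b) := by ring
      omega

theorem g_three_mul (k : ℕ) : g (3 * k) = 3 ^ k := by
  induction k with
  | zero => rfl
  | succ k ih =>
    rcases k with _ | k
    · rfl
    · have e : 3 * (k + 1 + 1) = (3 * k + 1) + 5 := by ring
      have e' : 3 * k + 1 + 2 = 3 * (k + 1) := by ring
      rw [e, g_add_five, e', ih, pow_succ]; ring

theorem g_three_mul_add_one (k : ℕ) (hk : 1 ≤ k) : g (3 * k + 1) = 4 * 3 ^ (k - 1) := by
  induction k with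
  | zero => omega
  | succ k ih =>
    rcases k with _ | k
    · rfl
    · have e : 3 * (k + 1 + 1) + 1 = (3 * k + 2) + 5 := by ring
      have e' : 3 * k + 2 + 2 = 3 * (k + 1) + 1 := by ring
      rw [e, g_add_five, e', ih (by omega)]
      simp only [Nat.add_sub_cancel]
      rw [pow_succ]; ring

theorem g_three_mul_add_two (k : ℕ) : g (3 * k + 2) = 2 * 3 ^ k := by
  induction k with
  | zero => rfl
  | succ k ih =>
    have e : 3 * (k + 1) + 2 = (3 * k) + 5 := by ring
    rw [e, g_add_five, ih, pow_succ]; ring

/-! ### The upper bound -/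

theorem card_le_g_aux {α : Type*} [DecidableEq α] [Fintype α] (n : ℕ) :
    ∀ (A : Subgroup (Perm α)) (_ : ∀ a ∈ A, ∀ b ∈ A, a * b = b * a) (S : Finset α)
      (_ : ∀ a ∈ A, ∀ x, x ∉ S → a x = x), S.card = n → Nat.card A ≤ g n := by
  induction n using Nat.strong_induction_on with
  | _ n ih =>
    intro A hcomm S hS hn
    classical
    rcases S.eq_empty_or_nonempty with hemp | ⟨x, hx⟩
    · -- A is trivial
      have hA : A = ⊥ := by
        rw [Subgroup.eq_bot_iff_forall]
        intro a ha
        ext y
        rw [hS a ha y (by rw [hemp]; exact Finset.notMem_empty y)]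
        rfl
      subst hemp
      rw [hA, Subgroup.card_bot]
      exact g_pos _
    · let St : Subgroup A := MulAction.stabilizer A x
      let O : Set α := MulAction.orbit A x
      let B : Subgroup (Perm α) := St.map A.subtype
      have hBmem : ∀ b, b ∈ B ↔ b ∈ A ∧ b x = x := by
        intro b
        constructor
        · rintro ⟨⟨b', hb'⟩, hst, rfl⟩
          refine ⟨hb', ?_⟩
          have : (⟨b', hb'⟩ : A) • x = x := MulAction.mem_stabilizer_iff.mp hst
          exact this
        · rintro ⟨hbA, hbx⟩
          refine ⟨⟨b, hbA⟩, ?_, rfl⟩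
          exact MulAction.mem_stabilizer_iff.mpr hbx
      have hBA : ∀ b ∈ B, b ∈ A := fun b hb => ((hBmem b).mp hb).1
      have hOmem : ∀ y, y ∈ O ↔ ∃ a ∈ A, a x = y := by
        intro y
        constructor
        · rintro ⟨⟨a, ha⟩, rfl⟩
          exact ⟨a, ha, rfl⟩
        · rintro ⟨a, ha, rfl⟩
          exact ⟨⟨a, ha⟩, rfl⟩
      have hOS : ∀ y ∈ O, y ∈ S := by
        intro y hy
        obtain ⟨a, ha, rfl⟩ := (hOmem y).mp hy
        by_contra hnot
        have h1 := hS a⁻¹ (A.inv_mem ha) (a x) hnot
        have h2 : a x = x := by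
          have : a⁻¹ (a x) = x := by simp
          rw [this] at h1
          exact h1.symm
        rw [h2] at hnot
        exact hnot hx
      have hBO : ∀ b ∈ B, ∀ y ∈ O, b y = y := by
        intro b hb y hy
        obtain ⟨a, ha, rfl⟩ := (hOmem y).mp hy
        obtain ⟨hbA, hbx⟩ := (hBmem b).mp hb
        have := hcomm b hbA a ha
        calc b (a x) = (b * a) x := rfl
          _ = (a * b) x := by rw [this]
          _ = a (b x) := rfl
          _ = a x := by rw [hbx]
      let S' : Finset α := S.filter (fun y => y ∉ O)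
      let T : Finset α := S.filter (fun y => y ∈ O)
      have hT : (T : Set α) = O := by
        ext y
        simp only [T, Finset.coe_filter, Set.mem_ofPred_eq]
        exact ⟨fun h => h.2, fun h => ⟨hOS y h, h⟩⟩
      have hTcard : T.card = O.ncard := by
        rw [← hT, Set.ncard_coe_finset]
      have hsum : T.card + S'.card = S.card := Finset.card_filter_add_card_filter_not (s := S) (fun y => y ∈ O)
      have hOpos : 1 ≤ O.ncard := by
        rw [← hTcard]
        apply Finset.card_pos.mpr
        refine ⟨x, ?_⟩
        simp only [T, Finset.mem_filter]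
        exact ⟨hx, MulAction.mem_orbit_self x⟩
      have hS' : ∀ b ∈ B, ∀ y, y ∉ S' → b y = y := by
        intro b hb y hy
        simp only [S', Finset.mem_filter, not_and, not_not] at hy
        by_cases hyS : y ∈ S
        · exact hBO b hb y (hy hyS)
        · exact hS b (hBA b hb) y hyS
      have hBcomm : ∀ a ∈ B, ∀ b ∈ B, a * b = b * a := fun a ha b hb => hcomm a (hBA a ha) b (hBA b hb)
      have hlt : S'.card < n := by omega
      have hIH := ih S'.card hlt B hBcomm S' hS' rfl
      have hBcard : Nat.card B = Nat.card St := Subgroup.card_map_of_injective A.subtype_injective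
      have hidx : St.index = O.ncard := MulAction.index_stabilizer A x
      have hcard : Nat.card A = Nat.card B * O.ncard := by
        rw [hBcard, ← hidx, Subgroup.card_mul_index]
      rw [hcard]
      calc Nat.card B * O.ncard ≤ g S'.card * O.ncard := Nat.mul_le_mul_right _ hIH
        _ = O.ncard * g S'.card := mul_comm _ _
        _ ≤ g (O.ncard + S'.card) := mul_g_le _ _ hOpos
        _ = g n := by rw [← hTcard, hsum, hn]

/-- An abelian subgroup of `Perm (Fin n)` has order at most `g n`. -/
theorem card_le_g (n : ℕ) (A : Subgroup (Perm (Fin n))) (hA : IsMulCommutative A) : Nat.card A ≤ g n := by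
  have hcomm : ∀ a ∈ A, ∀ b ∈ A, a * b = b * a := by
    intro a ha b hb
    have := mul_comm' (⟨a, ha⟩ : A) ⟨b, hb⟩
    exact congrArg Subtype.val this
  have := card_le_g_aux (Finset.univ : Finset (Fin n)).card A hcomm Finset.univ
    (fun a _ x hx => absurd (Finset.mem_univ x) hx) rfl
  simpa using this

/-! ### Constructions -/

/-- there is an abelian subgroup of order `c` in `Perm (Fin n)` -/
def Achievable (n c : ℕ) : Prop :=
  ∃ A : Subgroup (Perm (Fin n)), IsMulCommutative A ∧ Nat.card A = c

theorem achievable_zero : Achievable 0 1 :=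
  ⟨⊥, inferInstance, Subgroup.card_bot⟩

theorem achievable_cyclic (n : ℕ) : Achievable (n + 2) (n + 2) := by
  refine ⟨Subgroup.zpowers (finRotate (n + 2)), inferInstance, ?_⟩
  rw [Nat.card_zpowers, ← Equiv.Perm.lcm_cycleType, cycleType_finRotate]
  simp

/-- the embedding `Perm (Fin a) × Perm (Fin b) →* Perm (Fin (a + b))` -/
def sumHom (a b : ℕ) : Perm (Fin a) × Perm (Fin b) →* Perm (Fin (a + b)) :=
  (Equiv.permCongrHom finSumFinEquiv).toMonoidHom.comp (Equiv.Perm.sumCongrHom (Fin a) (Fin b))

theorem sumHom_injective (a b : ℕ) : Function.Injective (sumHom a b) := by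
  unfold sumHom
  exact (Equiv.permCongrHom finSumFinEquiv).injective.comp Equiv.Perm.sumCongrHom_injective

theorem achievable_add {a b c d : ℕ} (h1 : Achievable a c) (h2 : Achievable b d) :
    Achievable (a + b) (c * d) := by
  obtain ⟨A, hA, rfl⟩ := h1
  obtain ⟨B, hB, rfl⟩ := h2
  refine ⟨(A.prod B).map (sumHom a b), ?_, ?_⟩
  · refine ⟨⟨?_⟩⟩
    rintro ⟨_, ⟨p, q⟩, hpq, rfl⟩ ⟨_, ⟨p', q'⟩, hpq', rfl⟩
    apply Subtype.ext
    show sumHom a b (p, q) * sumHom a b (p', q') = sumHom a b (p', q') * sumHom a b (p, q)
    rw [← map_mul, ← map_mul]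
    congr 1
    rw [SetLike.mem_coe, Subgroup.mem_prod] at hpq hpq'
    have e1 : p * p' = p' * p := congrArg Subtype.val (mul_comm' (⟨p, hpq.1⟩ : A) ⟨p', hpq'.1⟩)
    have e2 : q * q' = q' * q := congrArg Subtype.val (mul_comm' (⟨q, hpq.2⟩ : B) ⟨q', hpq'.2⟩)
    exact Prod.ext e1 e2
  · rw [Subgroup.card_map_of_injective (sumHom_injective a b),
      Nat.card_congr (Subgroup.prodEquiv A B).toEquiv, Nat.card_prod]

theorem achievable_cast {n m c : ℕ} (h : n = m) (hc : Achievable n c) : Achievable m c := by
  subst h; exact hc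

theorem achievable_three_mul (k : ℕ) : Achievable (3 * k) (3 ^ k) := by
  induction k with
  | zero => exact achievable_zero
  | succ k ih =>
    have := achievable_add ih (achievable_cyclic 1)
    rw [← pow_succ] at this
    exact achievable_cast (by ring) this

theorem achievable_three_mul_add_one (k : ℕ) (hk : 1 ≤ k) : Achievable (3 * k + 1) (4 * 3 ^ (k - 1)) := by
  have := achievable_add (achievable_cyclic 2) (achievable_three_mul (k - 1))
  exact achievable_cast (by omega) this

theorem achievable_three_mul_add_two (k : ℕ) : Achievable (3 * k + 2) (2 * 3 ^ k) := by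
  have := achievable_add (achievable_cyclic 0) (achievable_three_mul k)
  exact achievable_cast (by omega) this

end Cfsg.Agent.Helper42
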