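import Cfsg.Agent.Helper57.BP.PartI
import Cfsg.Agent.S4701

/-!
# (P10) of helper16's S4705 farm: `|χ(t)| ≤ m` where `p m` is the `P`-sum of `χ`

`norm_apply_le_of_conj_of_fixed` is (P10) with the conclusion of (P09) `exists_fixed_part` as an
explicit hypothesis.
-/

set_option autoImplicit false

namespace Cfsg.Agent.Helper42.B66

open Cfsg Cfsg.Agent.Helper16 Cfsg.Agent.Helper16.DefOne Cfsg.Agent.Helper82.DefOne
  Cfsg.Agent.Helper77.DefOne Cfsg.Agent.Helper57.BH Cfsg.Agent.Helper57.BP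
open scoped ComplexConjugate

universe u

variable {G : Type u} [Group G] [Fintype G] {p : ℕ} [Fact p.Prime] (P : Sylow p G)

/-- the finite sum over `P` of a constant -/
theorem finsum_mem_sylow_const (hP : Nat.card P = p) (c : ℂ) :
    ∑ᶠ x ∈ ((P : Subgroup G) : Set G), c = (p : ℂ) * c := by
  classical
  rw [finsum_mem_eq_finite_toFinset_sum _ (Set.toFinite _), Finset.sum_const, nsmul_eq_mul]
  congr 2
  have h1 : (Set.toFinite ((P : Subgroup G) : Set G)).toFinset.card =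
      Nat.card ((P : Subgroup G) : Set G) := by
    rw [Nat.card_eq_card_finite_toFinset]
  rw [h1]
  exact hP

/-- (P10) with the `P`-fixed part `ξ` of (P09) given -/
theorem norm_apply_le_of_conj_of_fixed (hP : Nat.card P = p)
    (χ : G → ℂ) (t : G) (ht : t ∈ nor P)
    (hconj : ∀ x : G, x ∈ (P : Subgroup G) → χ (x * t) = χ t)
    (hfix : ∃ ξ : nor P → ℂ, IsCharacter (nor P) ξ ∧
      ∀ n : nor P, (p : ℂ) * ξ n = ∑ᶠ x ∈ ((P : Subgroup G) : Set G), χ (x * (n : G))) :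
    ∃ m : ℕ, pSum P χ = ((p * m : ℕ) : ℂ) ∧ ‖χ t‖ ≤ (m : ℝ) ∧ (m = 1 → ‖χ t‖ = 1) := by
  have hp : p.Prime := Fact.out
  have hp0 : (p : ℂ) ≠ 0 := by exact_mod_cast hp.ne_zero
  obtain ⟨ξ, hξ, hsum⟩ := hfix
  obtain ⟨m, hm⟩ := Cfsg.Agent.Helper80.IsCharacter.map_one hξ
  have hdeg : charDegree ξ = m := by
    have := Cfsg.Agent.Helper80.IsCharacter.charDegree_cast hξ
    rw [hm] at this
    exact_mod_cast this
  have h1 : pSum P χ = ((p * m : ℕ) : ℂ) := by
    have h := hsum 1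
    rw [hm] at h
    unfold pSum
    push_cast
    rw [h]
    refine finsum_mem_congr rfl fun x _ => ?_
    rw [Subgroup.coe_one, mul_one]
  have h2 : ξ ⟨t, ht⟩ = χ t := by
    have h := hsum ⟨t, ht⟩
    have h3 : ∑ᶠ x ∈ ((P : Subgroup G) : Set G), χ (x * t) =
        ∑ᶠ x ∈ ((P : Subgroup G) : Set G), χ t :=
      finsum_mem_congr rfl fun x hx => hconj x hx
    change (p : ℂ) * ξ ⟨t, ht⟩ = ∑ᶠ x ∈ ((P : Subgroup G) : Set G), χ (x * t) at h
    rw [h3, finsum_mem_sylow_const P hP] at h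
    exact mul_left_cancel₀ hp0 h
  refine ⟨m, h1, ?_, ?_⟩
  · rw [← h2, ← hdeg]
    exact Cfsg.Agent.Helper80.IsCharacter.norm_le hξ _
  · intro hm1
    rw [← h2]
    have hξ1 : ξ 1 = 1 := by rw [hm, hm1, Nat.cast_one]
    obtain ⟨φ, hφ⟩ := Cfsg.Agent.Helper80.IsCharacter.exists_monoidHom hξ hξ1
    rw [hφ]
    exact Cfsg.Agent.Helper76.norm_monoidHom_eq_one
      ((Units.coeHom ℂ).comp φ) ⟨t, ht⟩

end Cfsg.Agent.Helper42.B66
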