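import Mathlib

set_option autoImplicit false

/-! # Transfer of a central involution fixed by the normalizer of a Sylow 2-subgroup (helper42) -/

namespace Cfsg.Agent.Helper42

open MulAction Subgroup

/-- Parity product lemma: a `2`-group `P` acts on a finite set, `Ψ` is an invariant function with
values of square one, constant `c₀` on the fixed points, of which there is an odd number: then the
product of `Ψ` is `c₀`. -/
theorem prod_eq_of_two_group_invariant {P : Type*} [Group P] (hP : IsPGroup 2 P)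
    {α : Type*} [MulAction P α] [Fintype α] {A : Type*} [CommGroup A] (Ψ : α → A)
    (hinv : ∀ (p : P) (a : α), Ψ (p • a) = Ψ a) (hsq : ∀ a, Ψ a * Ψ a = 1) (c₀ : A)
    (hfix : ∀ a ∈ fixedPoints P α, Ψ a = c₀)
    (hodd : Odd (Nat.card (fixedPoints P α))) : ∏ a, Ψ a = c₀ := by
  classical
  have hfib : ∀ c : A, (Finset.univ.filter (fun a => Ψ a = c)).card % 2 = if c = c₀ then 1 else 0 := by
    intro c
    let S : SubMulAction P α :=
      { carrier := {a | Ψ a = c}
        smul_mem' := fun p a ha => by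
          show Ψ (p • a) = c
          rw [hinv]; exact ha }
    have hmemS : ∀ a, a ∈ S ↔ Ψ a = c := fun a => Iff.rfl
    have h1 : Nat.card S ≡ Nat.card (fixedPoints P S) [MOD 2] := hP.card_modEq_card_fixedPoints S
    have h2 : Nat.card S = (Finset.univ.filter (fun a => Ψ a = c)).card := by
      rw [Nat.card_eq_fintype_card]
      exact Fintype.card_subtype _
    rw [← h2]
    by_cases hc : c = c₀
    · rw [if_pos hc]
      have h3 : Nat.card (fixedPoints P S) = Nat.card (fixedPoints P α) := by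
        apply Nat.card_congr
        refine
          { toFun := fun s => ⟨s.1.1, fun p => congrArg Subtype.val (s.2 p)⟩
            invFun := fun a => ⟨⟨a.1, (hmemS _).2 ((hfix a.1 a.2).trans hc.symm)⟩,
              fun p => Subtype.ext (a.2 p)⟩
            left_inv := fun s => rfl
            right_inv := fun a => rfl }
      rw [h3] at h1
      rw [h1]
      exact Nat.odd_iff.1 hodd
    · rw [if_neg hc]
      have h3 : Nat.card (fixedPoints P S) = 0 := by
        rw [Nat.card_eq_zero]
        left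
        constructor
        rintro ⟨s, hs⟩
        apply hc
        have h4 : s.1 ∈ fixedPoints P α := fun p => congrArg Subtype.val (hs p)
        rw [← hfix s.1 h4]
        exact ((hmemS _).1 s.2).symm
      rw [h3] at h1
      exact h1
  have hne : (fixedPoints P α).Nonempty := by
    by_contra h
    rw [Set.not_nonempty_iff_eq_empty] at h
    rw [h] at hodd
    simp at hodd
  obtain ⟨a₀, ha₀⟩ := hne
  have hc₀ : c₀ ∈ Finset.univ.image Ψ := by
    rw [Finset.mem_image]
    exact ⟨a₀, Finset.mem_univ _, hfix a₀ ha₀⟩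
  rw [Finset.prod_comp (fun b => b) Ψ]
  have hterm : ∀ b ∈ Finset.univ.image Ψ,
      b ^ (Finset.univ.filter (fun a => Ψ a = b)).card = if b = c₀ then c₀ else 1 := by
    intro b hb
    rw [Finset.mem_image] at hb
    obtain ⟨a, -, rfl⟩ := hb
    have h2 : (Ψ a) ^ 2 = 1 := by rw [pow_two]; exact hsq a
    rw [← Nat.div_add_mod (Finset.univ.filter (fun a' => Ψ a' = Ψ a)).card 2, pow_add, pow_mul,
      h2, one_pow, one_mul, hfib]
    split_ifs with h
    · rw [pow_one, h]
    · rw [pow_zero]
  rw [Finset.prod_congr rfl hterm, Finset.prod_ite_eq' _ c₀, if_pos hc₀]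

/-- Transfer of a central involution `d` of a Sylow `2`-subgroup `P` whose conjugates under the
normalizer of `P` have the same value under `ϕ : P →* A`: the transfer of `ϕ` takes the value
`ϕ d` at `d`. -/
theorem transfer_central_involution {G : Type*} [Group G] [Finite G] (P : Sylow 2 G)
    {A : Type*} [CommGroup A] (ϕ : ↥(P : Subgroup G) →* A) (d : G)
    (hdP : d ∈ (P : Subgroup G)) (hd2 : d * d = 1)
    (hdc : ∀ x ∈ (P : Subgroup G), x * d = d * x)
    (hdn : ∀ n ∈ Subgroup.normalizer ((P : Subgroup G) : Set G),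
      ∀ h : n⁻¹ * d * n ∈ (P : Subgroup G), ϕ ⟨n⁻¹ * d * n, h⟩ = ϕ ⟨d, hdP⟩) :
    MonoidHom.transfer ϕ d = ϕ ⟨d, hdP⟩ := by
  classical
  have : Fintype (G ⧸ (P : Subgroup G)) := Fintype.ofFinite _
  have : Fintype (Quotient (orbitRel (zpowers d) (G ⧸ (P : Subgroup G)))) := Fintype.ofFinite _
  rw [MonoidHom.transfer_eq_prod_quotient_orbitRel_zpowers_quot]
  -- the function on cosets
  let Ψ : G ⧸ (P : Subgroup G) → A := fun a =>
    if h : a.out⁻¹ * d * a.out ∈ (P : Subgroup G) then ϕ ⟨a.out⁻¹ * d * a.out, h⟩ else 1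
  have hconj : ∀ (g h : G) (hh : h ∈ (P : Subgroup G)),
      (g * h)⁻¹ * d * (g * h) ∈ (P : Subgroup G) ↔ g⁻¹ * d * g ∈ (P : Subgroup G) := by
    intro g h hh
    have e : (g * h)⁻¹ * d * (g * h) = h⁻¹ * (g⁻¹ * d * g) * h := by group
    rw [e]
    constructor
    · intro h1
      have := (P : Subgroup G).mul_mem ((P : Subgroup G).mul_mem hh h1) ((P : Subgroup G).inv_mem hh)
      have e2 : h * (h⁻¹ * (g⁻¹ * d * g) * h) * h⁻¹ = g⁻¹ * d * g := by group
      rwa [e2] at this
    · intro h1
      exact (P : Subgroup G).mul_mem ((P : Subgroup G).mul_mem ((P : Subgroup G).inv_mem hh) h1) hh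
  have hϕconj : ∀ (g h : G) (hh : h ∈ (P : Subgroup G)) (h1 : g⁻¹ * d * g ∈ (P : Subgroup G))
      (h2 : (g * h)⁻¹ * d * (g * h) ∈ (P : Subgroup G)),
      ϕ ⟨(g * h)⁻¹ * d * (g * h), h2⟩ = ϕ ⟨g⁻¹ * d * g, h1⟩ := by
    intro g h hh h1 h2
    have e : (⟨(g * h)⁻¹ * d * (g * h), h2⟩ : ↥(P : Subgroup G)) =
        (⟨h, hh⟩ : ↥(P : Subgroup G))⁻¹ * ⟨g⁻¹ * d * g, h1⟩ * ⟨h, hh⟩ := by
      apply Subtype.ext
      show (g * h)⁻¹ * d * (g * h) = h⁻¹ * (g⁻¹ * d * g) * h
      group
    rw [e, map_mul, map_mul, map_inv, mul_comm, mul_inv_cancel_left]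
  have hrep_pos : ∀ (g : G) (hg : g⁻¹ * d * g ∈ (P : Subgroup G)),
      Ψ (g : G ⧸ (P : Subgroup G)) = ϕ ⟨g⁻¹ * d * g, hg⟩ := by
    intro g hg
    obtain ⟨h, hh⟩ := QuotientGroup.mk_out_eq_mul (P : Subgroup G) g
    have h2 : ((g : G ⧸ (P : Subgroup G))).out⁻¹ * d * ((g : G ⧸ (P : Subgroup G))).out
        ∈ (P : Subgroup G) := by
      rw [hh]; exact (hconj g h h.2).2 hg
    show (if h : _ then _ else _) = _
    rw [dif_pos h2]
    have h3 : (g * (h : G))⁻¹ * d * (g * (h : G)) ∈ (P : Subgroup G) := (hconj g h h.2).2 hg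
    rw [← hϕconj g h h.2 hg h3]
    congr 1
    apply Subtype.ext
    show ((g : G ⧸ (P : Subgroup G))).out⁻¹ * d * ((g : G ⧸ (P : Subgroup G))).out = _
    rw [hh]
  have hrep_neg : ∀ (g : G), g⁻¹ * d * g ∉ (P : Subgroup G) →
      Ψ (g : G ⧸ (P : Subgroup G)) = 1 := by
    intro g hg
    obtain ⟨h, hh⟩ := QuotientGroup.mk_out_eq_mul (P : Subgroup G) g
    have h2 : ¬ ((g : G ⧸ (P : Subgroup G))).out⁻¹ * d * ((g : G ⧸ (P : Subgroup G))).out
        ∈ (P : Subgroup G) := by
      rw [hh]; exact fun h3 => hg ((hconj g h h.2).1 h3)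
    show (if h : _ then _ else _) = _
    rw [dif_neg h2]
  have hfixiff : ∀ g : G, d • (g : G ⧸ (P : Subgroup G)) = (g : G ⧸ (P : Subgroup G)) ↔
      g⁻¹ * d * g ∈ (P : Subgroup G) := by
    intro g
    have e1 : d • (g : G ⧸ (P : Subgroup G)) = ((d * g : G) : G ⧸ (P : Subgroup G)) := rfl
    rw [e1, eq_comm, QuotientGroup.eq, mul_assoc]
  have hfixout : ∀ a : G ⧸ (P : Subgroup G), d • a = a ↔
      a.out⁻¹ * d * a.out ∈ (P : Subgroup G) := by
    intro a
    have := hfixiff a.out
    rwa [QuotientGroup.out_eq'] at this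
  -- step 1: the orbit formula is the product of Ψ over all cosets
  have step1 : (∏ q : Quotient (orbitRel (zpowers d) (G ⧸ (P : Subgroup G))),
      ϕ ⟨q.out.out⁻¹ * d ^ Function.minimalPeriod (d • ·) q.out * q.out.out,
        QuotientGroup.out_conj_pow_minimalPeriod_mem (P : Subgroup G) d q.out⟩) = ∏ a, Ψ a := by
    refine Fintype.prod_of_injective (fun q => q.out) ?_ _ Ψ ?_ ?_
    · intro q₁ q₂ h
      have := congrArg (Quotient.mk (orbitRel (zpowers d) (G ⧸ (P : Subgroup G)))) h
      simpa using this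
    · intro a ha
      by_contra hne
      apply ha
      have hmem : a.out⁻¹ * d * a.out ∈ (P : Subgroup G) := by
        by_contra h
        apply hne
        show (if h : _ then _ else _) = _
        rw [dif_neg h]
      have hda : d • a = a := (hfixout a).2 hmem
      refine ⟨Quotient.mk _ a, ?_⟩
      have hrel : (orbitRel (zpowers d) (G ⧸ (P : Subgroup G))).r
          (Quotient.mk (orbitRel (zpowers d) (G ⧸ (P : Subgroup G))) a).out a :=
        Quotient.exact (Quotient.out_eq _)
      obtain ⟨⟨z, hz⟩, hz2⟩ := hrel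
      obtain ⟨k, rfl⟩ := mem_zpowers_iff.1 hz
      have hk : ∀ k : ℤ, (d ^ k) • a = a := by
        intro k
        have h1 : ∀ n : ℕ, (d ^ n) • a = a := by
          intro n
          induction n with
          | zero => simp
          | succ n ih => rw [pow_succ, mul_smul, hda, ih]
        cases k with
        | ofNat n => simpa using h1 n
        | negSucc n =>
          rw [zpow_negSucc, inv_smul_eq_iff, h1]
      show (Quotient.mk (orbitRel (zpowers d) (G ⧸ (P : Subgroup G))) a).out = a
      rw [← hz2]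
      exact hk k
    · intro q
      have hper : Function.minimalPeriod (d • ·) q.out ∣ 2 := by
        apply Function.IsPeriodicPt.minimalPeriod_dvd
        show (d • ·)^[2] q.out = q.out
        rw [smul_iterate, pow_two, hd2]
        exact one_smul _ _
      rcases (Nat.dvd_prime Nat.prime_two).1 hper with h1 | h2
      · have hda : d • q.out = q.out := by
          have := Function.minimalPeriod_eq_one_iff_isFixedPt.1 h1
          exact this
        have hmem := (hfixout q.out).1 hda
        show _ = (if h : _ then _ else _)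
        rw [dif_pos hmem]
        congr 1
        apply Subtype.ext
        show q.out.out⁻¹ * d ^ Function.minimalPeriod (d • ·) q.out * q.out.out = _
        rw [h1, pow_one]
      · have hmem : ¬ q.out.out⁻¹ * d * q.out.out ∈ (P : Subgroup G) := by
          intro h
          have hda := (hfixout q.out).2 h
          have : Function.minimalPeriod (d • ·) q.out = 1 :=
            Function.minimalPeriod_eq_one_iff_isFixedPt.2 hda
          omega
        show _ = (if h : _ then _ else _)
        rw [dif_neg hmem, ← map_one ϕ]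
        congr 1
        apply Subtype.ext
        show q.out.out⁻¹ * d ^ Function.minimalPeriod (d • ·) q.out * q.out.out = 1
        rw [h2, pow_two, hd2, mul_one, inv_mul_cancel]
  rw [step1]
  -- step 2: the parity product lemma
  have hd_inv : d⁻¹ = d := inv_eq_of_mul_eq_one_left hd2
  refine prod_eq_of_two_group_invariant (P := ↥(P : Subgroup G)) P.isPGroup' Ψ ?_ ?_ _ ?_ ?_
  · intro p a
    obtain ⟨g, rfl⟩ := QuotientGroup.mk_surjective a
    have e1 : p • (g : G ⧸ (P : Subgroup G)) = (((p : G) * g : G) : G ⧸ (P : Subgroup G)) := rfl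
    rw [e1]
    have e2 : ((p : G) * g)⁻¹ * d * ((p : G) * g) = g⁻¹ * d * g := by
      have := hdc p p.2
      calc ((p : G) * g)⁻¹ * d * ((p : G) * g) = g⁻¹ * ((p : G)⁻¹ * (d * (p : G))) * g := by group
        _ = g⁻¹ * ((p : G)⁻¹ * ((p : G) * d)) * g := by rw [this]
        _ = g⁻¹ * d * g := by group
    by_cases hg : g⁻¹ * d * g ∈ (P : Subgroup G)
    · have hg' : ((p : G) * g)⁻¹ * d * ((p : G) * g) ∈ (P : Subgroup G) := by rw [e2]; exact hg
      rw [hrep_pos _ hg, hrep_pos _ hg']
      congr 1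
      exact Subtype.ext e2
    · have hg' : ((p : G) * g)⁻¹ * d * ((p : G) * g) ∉ (P : Subgroup G) := by rw [e2]; exact hg
      rw [hrep_neg _ hg, hrep_neg _ hg']
  · intro a
    obtain ⟨g, rfl⟩ := QuotientGroup.mk_surjective a
    by_cases hg : g⁻¹ * d * g ∈ (P : Subgroup G)
    · rw [hrep_pos _ hg, ← map_mul, ← map_one ϕ]
      congr 1
      apply Subtype.ext
      show g⁻¹ * d * g * (g⁻¹ * d * g) = 1
      calc g⁻¹ * d * g * (g⁻¹ * d * g) = g⁻¹ * (d * d) * g := by group
        _ = 1 := by rw [hd2]; group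
    · rw [hrep_neg _ hg, one_mul]
  · intro a ha
    obtain ⟨g, rfl⟩ := QuotientGroup.mk_surjective a
    have hgn : g ∈ Subgroup.normalizer ((P : Subgroup G) : Set G) :=
      Sylow.mem_fixedPoints_mul_left_cosets_iff_mem_normalizer.1 ha
    have hg : g⁻¹ * d * g ∈ (P : Subgroup G) := (Subgroup.mem_normalizer_iff''.1 hgn d).1 hdP
    rw [hrep_pos _ hg]
    exact hdn g hgn hg
  · have h1 : Nat.card (G ⧸ (P : Subgroup G)) ≡
        Nat.card (fixedPoints ↥(P : Subgroup G) (G ⧸ (P : Subgroup G))) [MOD 2] :=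
      P.isPGroup'.card_modEq_card_fixedPoints _
    have h2 : ¬ 2 ∣ (P : Subgroup G).index := P.not_dvd_index
    rw [Subgroup.index] at h2
    rw [Nat.odd_iff, ← h1]
    omega

end Cfsg.Agent.Helper42
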