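import Mathlib

/-!
# The Jacobi–Trudi / bialternant identity (helper42)

In `MvPolynomial (Fin n) K`: with `hh a` the complete homogeneous symmetric polynomial of degree
`a`, `Hm lam = (hh (lam i - r))` and `Am lam = (X k ^ lam i)`:
`det (Hm lam) * det (Am id) = det (Am lam)`.
-/

set_option autoImplicit false
set_option linter.unusedSectionVars false

namespace Cfsg.Agent.Helper42.Unip

open Finset

section genfun

variable (K : Type*) [CommRing K] (n : ℕ)

/-- the geometric series in `y_k t` -/
noncomputable def geom (k : Fin n) : PowerSeries (MvPolynomial (Fin n) K) :=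
  PowerSeries.mk fun a => (MvPolynomial.X k) ^ a

/-- the generating function of the complete homogeneous symmetric polynomials -/
noncomputable def Hser : PowerSeries (MvPolynomial (Fin n) K) := ∏ k, geom K n k

/-- the complete homogeneous symmetric polynomial -/
noncomputable def hh (a : ℕ) : MvPolynomial (Fin n) K := PowerSeries.coeff a (Hser K n)

/-- the generating polynomial of the signed elementary symmetric polynomials in the variables
other than `y_k` -/
noncomputable def Epol (k : Fin n) : Polynomial (MvPolynomial (Fin n) K) :=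
  ∏ j ∈ Finset.univ.erase k, (1 - Polynomial.C (MvPolynomial.X j) * Polynomial.X)

/-- signed elementary symmetric polynomials in the variables other than `y_k` -/
noncomputable def ee (k : Fin n) (r : ℕ) : MvPolynomial (Fin n) K := (Epol K n k).coeff r

variable {K n}

theorem geom_mul (k : Fin n) :
    geom K n k * (1 - PowerSeries.C (MvPolynomial.X k) * PowerSeries.X) = 1 := by
  ext a
  rw [mul_sub, mul_one, map_sub, ← mul_assoc]
  cases a with
  | zero =>
    rw [PowerSeries.coeff_zero_mul_X, sub_zero]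
    simp [geom]
  | succ a =>
    rw [PowerSeries.coeff_succ_mul_X, PowerSeries.coeff_mul_C]
    simp [geom, pow_succ]

theorem coe_Epol (k : Fin n) :
    ((Epol K n k : Polynomial (MvPolynomial (Fin n) K)) : PowerSeries (MvPolynomial (Fin n) K)) =
      ∏ j ∈ Finset.univ.erase k, (1 - PowerSeries.C (MvPolynomial.X j) * PowerSeries.X) := by
  unfold Epol
  rw [← Polynomial.coeToPowerSeries.ringHom_apply, map_prod]
  refine Finset.prod_congr rfl fun j _ => ?_
  rw [Polynomial.coeToPowerSeries.ringHom_apply]
  simp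

theorem Hser_mul_Epol (k : Fin n) :
    Hser K n * (Epol K n k : PowerSeries (MvPolynomial (Fin n) K)) = geom K n k := by
  rw [coe_Epol, Hser, ← Finset.mul_prod_erase Finset.univ _ (Finset.mem_univ k), mul_assoc,
    ← Finset.prod_mul_distrib]
  rw [Finset.prod_congr rfl (fun j _ => geom_mul j), Finset.prod_const_one, mul_one]

theorem ee_eq_zero (k : Fin n) (r : ℕ) (hr : n ≤ r) : ee K n k r = 0 := by
  unfold ee
  apply Polynomial.coeff_eq_zero_of_natDegree_lt
  have h1 : (Epol K n k).natDegree ≤ ∑ j ∈ Finset.univ.erase k, 1 := by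
    unfold Epol
    refine (Polynomial.natDegree_prod_le _ _).trans (Finset.sum_le_sum fun j _ => ?_)
    compute_degree
  rw [Finset.sum_const, Finset.card_erase_of_mem (Finset.mem_univ k), Finset.card_univ,
    Fintype.card_fin, smul_eq_mul, mul_one] at h1
  have := k.pos
  omega

theorem hh_zero : hh K n 0 = 1 := by
  unfold hh Hser
  rw [PowerSeries.coeff_zero_eq_constantCoeff_apply, map_prod]
  refine Finset.prod_eq_one fun k _ => ?_
  rw [← PowerSeries.coeff_zero_eq_constantCoeff_apply]
  simp [geom]

/-- the key identity `∑_r h_{a-r} e_r^{(k)} = y_k^a` -/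
theorem sum_hh_ee (k : Fin n) (a : ℕ) :
    ∑ r : Fin n, (if (r : ℕ) ≤ a then hh K n (a - r) else 0) * ee K n k r =
      (MvPolynomial.X k) ^ a := by
  have h1 : PowerSeries.coeff a (Hser K n * (Epol K n k : PowerSeries (MvPolynomial (Fin n) K))) =
      (MvPolynomial.X k) ^ a := by
    rw [Hser_mul_Epol]
    simp [geom]
  rw [mul_comm, PowerSeries.coeff_mul,
    Finset.Nat.sum_antidiagonal_eq_sum_range_succ
      (fun i j => PowerSeries.coeff i (Epol K n k : PowerSeries (MvPolynomial (Fin n) K)) *
        PowerSeries.coeff j (Hser K n))] at h1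
  rw [← h1, Fin.sum_univ_eq_sum_range
    (fun r => (if r ≤ a then hh K n (a - r) else 0) * ee K n k r) n]
  have hL : ∑ r ∈ Finset.range n, (if r ≤ a then hh K n (a - r) else 0) * ee K n k r =
      ∑ r ∈ Finset.range (a + 1 + n), (if r ≤ a then hh K n (a - r) else 0) * ee K n k r := by
    refine Finset.sum_subset (fun r hr => ?_) (fun r _ hr => ?_)
    · rw [Finset.mem_range] at hr ⊢; omega
    · rw [Finset.mem_range, not_lt] at hr
      rw [ee_eq_zero k r hr, mul_zero]
  have hR : ∑ r ∈ Finset.range (a + 1), PowerSeries.coeff r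
        (Epol K n k : PowerSeries (MvPolynomial (Fin n) K)) * PowerSeries.coeff (a - r) (Hser K n) =
      ∑ r ∈ Finset.range (a + 1 + n), (if r ≤ a then hh K n (a - r) else 0) * ee K n k r := by
    refine Finset.sum_subset_zero_on_sdiff (fun r hr => ?_) (fun r hr => ?_) (fun r hr => ?_)
    · rw [Finset.mem_range] at hr ⊢; omega
    · rw [Finset.mem_sdiff, Finset.mem_range, Finset.mem_range, not_lt] at hr
      rw [if_neg (by omega), zero_mul]
    · rw [Finset.mem_range] at hr
      rw [if_pos (by omega), Polynomial.coeff_coe, mul_comm]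
      rfl
  rw [hL, hR]

end genfun

section matrices

variable (K : Type*) [CommRing K] (n : ℕ)

/-- the Jacobi–Trudi matrix `(h_{lam i - r})` -/
noncomputable def Hm (lam : Fin n → ℕ) : Matrix (Fin n) (Fin n) (MvPolynomial (Fin n) K) :=
  Matrix.of fun i r => if (r : ℕ) ≤ lam i then hh K n (lam i - r) else 0

/-- the matrix of signed elementary symmetric polynomials -/
noncomputable def Mm : Matrix (Fin n) (Fin n) (MvPolynomial (Fin n) K) :=
  Matrix.of fun r k => ee K n k r

/-- the alternant matrix `(y_k ^ lam i)` -/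
noncomputable def Am (lam : Fin n → ℕ) : Matrix (Fin n) (Fin n) (MvPolynomial (Fin n) K) :=
  Matrix.of fun i k => (MvPolynomial.X k) ^ lam i

variable {K n}

theorem Hm_mul_Mm (lam : Fin n → ℕ) : Hm K n lam * Mm K n = Am K n lam := by
  refine Matrix.ext fun i k => ?_
  rw [Matrix.mul_apply]
  exact sum_hh_ee (K := K) k (lam i)

theorem det_Hm_id : (Hm K n (fun i => (i : ℕ))).det = 1 := by
  have h : (Hm K n (fun i => (i : ℕ))).IsLowerTriangular := by
    intro i j hij
    have hij' : i < j := hij
    simp only [Hm, Matrix.of_apply]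
    rw [if_neg]
    rw [not_le]
    exact hij'
  rw [Matrix.det_of_isLowerTriangular _ h]
  refine Finset.prod_eq_one fun i _ => ?_
  simp [Hm, hh_zero]

/-- the Jacobi–Trudi / bialternant identity -/
theorem det_Hm_mul (lam : Fin n → ℕ) :
    (Hm K n lam).det * (Am K n (fun i => (i : ℕ))).det = (Am K n lam).det := by
  rw [← Hm_mul_Mm lam, ← Hm_mul_Mm (fun i => (i : ℕ)), Matrix.det_mul, Matrix.det_mul, det_Hm_id,
    one_mul]

/-- the function `Fin n → ℕ` as an exponent vector -/
noncomputable def toExp (f : Fin n → ℕ) : Fin n →₀ ℕ := Finsupp.equivFunOnFinite.symm f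

@[simp] theorem toExp_apply (f : Fin n → ℕ) (i : Fin n) : toExp f i = f i := rfl

theorem monomial_toExp (f : Fin n → ℕ) :
    (MvPolynomial.monomial (toExp f) (1 : K)) = ∏ i, (MvPolynomial.X i) ^ f i := by
  rw [MvPolynomial.monomial_eq, map_one, one_mul, Finsupp.prod_fintype]
  · rfl
  · intro i; exact pow_zero _

theorem det_Hm (lam : Fin n → ℕ) :
    (Hm K n lam).det = ∑ κ : Equiv.Perm (Fin n),
      ((Equiv.Perm.sign κ : ℤ) : MvPolynomial (Fin n) K) *
        (if ∀ i, ((κ i : Fin n) : ℕ) ≤ lam i then ∏ i, hh K n (lam i - (κ i : ℕ)) else 0) := by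
  rw [← Matrix.det_transpose, Matrix.det_apply']
  refine Finset.sum_congr rfl fun κ _ => ?_
  congr 1
  simp only [Matrix.transpose_apply, Hm, Matrix.of_apply]
  rw [Finset.prod_ite_zero]
  simp

theorem det_Am (mu : Fin n → ℕ) :
    (Am K n mu).det = ∑ κ : Equiv.Perm (Fin n),
      ((Equiv.Perm.sign κ : ℤ) : MvPolynomial (Fin n) K) *
        MvPolynomial.monomial (toExp fun i => mu (κ i)) 1 := by
  rw [Matrix.det_apply']
  refine Finset.sum_congr rfl fun κ _ => ?_
  congr 1
  rw [monomial_toExp]
  rfl

theorem coeff_intCast_mul (z : ℤ) (p : MvPolynomial (Fin n) K) (m : Fin n →₀ ℕ) :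
    MvPolynomial.coeff m ((z : MvPolynomial (Fin n) K) * p) = (z : K) * MvPolynomial.coeff m p := by
  rw [← map_intCast (MvPolynomial.C (σ := Fin n) (R := K)), MvPolynomial.coeff_C_mul]

/-- the coefficient of `y^β` in `∏ h_{α i}` -/
noncomputable def Nco (K : Type*) [CommRing K] {n : ℕ} (α β : Fin n → ℕ) : K :=
  MvPolynomial.coeff (toExp β) (∏ i, hh K n (α i))

theorem coeff_det_Hm (lam β : Fin n → ℕ) :
    MvPolynomial.coeff (toExp β) (Hm K n lam).det = ∑ κ : Equiv.Perm (Fin n),
      ((Equiv.Perm.sign κ : ℤ) : K) *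
        (if ∀ i, ((κ i : Fin n) : ℕ) ≤ lam i then Nco K (fun i => lam i - (κ i : ℕ)) β else 0) := by
  rw [det_Hm, MvPolynomial.coeff_sum]
  refine Finset.sum_congr rfl fun κ _ => ?_
  rw [coeff_intCast_mul]
  congr 1
  split_ifs
  · rfl
  · simp

theorem toExp_le_iff (f g : Fin n → ℕ) : toExp f ≤ toExp g ↔ ∀ i, f i ≤ g i := by
  rw [Finsupp.le_def]
  rfl

theorem toExp_sub (f g : Fin n → ℕ) : toExp g - toExp f = toExp fun i => g i - f i := by
  ext i
  simp

/-- coefficient extraction from the left hand side of the bialternant identity -/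
theorem coeff_lhs (lam lam' : Fin n → ℕ) :
    MvPolynomial.coeff (toExp lam') ((Hm K n lam).det * (Am K n (fun i => (i : ℕ))).det) =
      ∑ κ' : Equiv.Perm (Fin n), ((Equiv.Perm.sign κ' : ℤ) : K) *
        (if ∀ i, ((κ' i : Fin n) : ℕ) ≤ lam' i then
          ∑ κ : Equiv.Perm (Fin n), ((Equiv.Perm.sign κ : ℤ) : K) *
            (if ∀ i, ((κ i : Fin n) : ℕ) ≤ lam i then
              Nco K (fun i => lam i - (κ i : ℕ)) (fun i => lam' i - (κ' i : ℕ)) else 0)
        else 0) := by
  rw [det_Am, Finset.mul_sum, MvPolynomial.coeff_sum]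
  refine Finset.sum_congr rfl fun κ' _ => ?_
  rw [mul_left_comm, coeff_intCast_mul, MvPolynomial.coeff_mul_monomial']
  congr 1
  by_cases hc : ∀ i, ((κ' i : Fin n) : ℕ) ≤ lam' i
  · rw [if_pos ((toExp_le_iff _ _).2 hc), if_pos hc, mul_one, toExp_sub, coeff_det_Hm]
  · rw [if_neg (fun h => hc ((toExp_le_iff _ _).1 h)), if_neg hc]

/-- coefficient extraction from the right hand side of the bialternant identity -/
theorem coeff_rhs (lam lam' : Fin n → ℕ) :
    MvPolynomial.coeff (toExp lam') (Am K n lam).det =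
      ∑ κ : Equiv.Perm (Fin n), ((Equiv.Perm.sign κ : ℤ) : K) *
        (if (fun i => lam (κ i)) = lam' then 1 else 0) := by
  classical
  rw [det_Am, MvPolynomial.coeff_sum]
  refine Finset.sum_congr rfl fun κ _ => ?_
  rw [coeff_intCast_mul, MvPolynomial.coeff_monomial]
  congr 1
  refine if_congr ?_ rfl rfl
  constructor
  · intro h
    funext i
    have := DFunLike.congr_fun h i
    simpa using this
  · intro h
    rw [h]

end matrices

end Cfsg.Agent.Helper42.Unip
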