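import Mathlib
import Cfsg.Agent.Helper42.UnipC
import Cfsg.Agent.Helper42.UnipD

/-!
# Counting tables through complete homogeneous symmetric polynomials (helper42)

* `Nco_eq_card`: the coefficient of `y^β` in `∏ h_{α i}` is the number of tables with margins
  `α`, `β`.
* `master_identity`: for strictly increasing `lam`, `lam'`,
  `∑_{κ', κ} sgn κ' sgn κ #Tables (lam - κ) (lam' - κ') = [lam = lam']`.
-/

set_option autoImplicit false
set_option linter.unusedSectionVars false

namespace Cfsg.Agent.Helper42.Unip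

open Finset Equiv

variable {K : Type*} [CommRing K] {n : ℕ}

theorem hh_eq_sum (a : ℕ) :
    hh K n a = ∑ l ∈ Finset.finsuppAntidiag (Finset.univ : Finset (Fin n)) a,
      MvPolynomial.monomial l (1 : K) := by
  unfold hh Hser
  rw [PowerSeries.coeff_prod]
  refine Finset.sum_congr rfl fun l _ => ?_
  simp only [geom, PowerSeries.coeff_mk]
  rw [MvPolynomial.monomial_eq, map_one, one_mul, Finsupp.prod_fintype]
  intro i; exact pow_zero _

theorem prod_hh_eq_sum (α : Fin n → ℕ) :
    ∏ i, hh K n (α i) =
      ∑ L ∈ Fintype.piFinset fun i => Finset.finsuppAntidiag (Finset.univ : Finset (Fin n)) (α i),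
        MvPolynomial.monomial (∑ i, L i) (1 : K) := by
  rw [Finset.prod_congr rfl (fun i _ => hh_eq_sum (K := K) (α i)), Finset.prod_univ_sum]
  refine Finset.sum_congr rfl fun L _ => ?_
  rw [MvPolynomial.monomial_sum_one]

/-- the finite set of tables, as families of exponent vectors -/
noncomputable def tableSet (α β : Fin n → ℕ) : Finset (Fin n → Fin n →₀ ℕ) :=
  (Fintype.piFinset fun i => Finset.finsuppAntidiag (Finset.univ : Finset (Fin n)) (α i)).filter
    fun L => ∑ i, L i = toExp β

theorem Nco_eq_card_tableSet (α β : Fin n → ℕ) : Nco K α β = ((tableSet α β).card : K) := by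
  classical
  unfold Nco tableSet
  rw [prod_hh_eq_sum, MvPolynomial.coeff_sum]
  simp only [MvPolynomial.coeff_monomial]
  rw [Finset.sum_boole]

theorem mem_tableSet (α β : Fin n → ℕ) (L : Fin n → Fin n →₀ ℕ) :
    L ∈ tableSet α β ↔ (∀ a, ∑ b, L a b = α a) ∧ ∀ b, ∑ a, L a b = β b := by
  unfold tableSet
  rw [Finset.mem_filter, Fintype.mem_piFinset]
  refine and_congr (forall_congr' fun a => ?_) ?_
  · rw [Finset.mem_finsuppAntidiag]
    simp
  · rw [DFunLike.ext_iff]
    refine forall_congr' fun b => ?_
    rw [Finsupp.finsetSum_apply]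
    rfl

/-- tables as families of exponent vectors -/
noncomputable def tablesEquiv (α β : Fin n → ℕ) : Tables α β ≃ ↥(tableSet α β) where
  toFun t := ⟨fun i => toExp (t.1 i), (mem_tableSet α β _).2 ⟨t.2.1, t.2.2⟩⟩
  invFun L := ⟨fun a b => L.1 a b, ((mem_tableSet α β L.1).1 L.2).1,
    ((mem_tableSet α β L.1).1 L.2).2⟩
  left_inv t := Subtype.ext rfl
  right_inv L := by
    apply Subtype.ext
    funext i
    ext b
    rfl

theorem card_tables (α β : Fin n → ℕ) : Nat.card (Tables α β) = (tableSet α β).card := by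
  rw [Nat.card_congr (tablesEquiv α β), Nat.card_eq_fintype_card, Fintype.card_coe]

theorem Nco_eq_card (α β : Fin n → ℕ) : Nco K α β = ((Nat.card (Tables α β) : ℕ) : K) := by
  rw [Nco_eq_card_tableSet, card_tables]

theorem sum_sign_ite (lam lam' : Fin n → ℕ) (h : StrictMono lam) (h' : StrictMono lam') :
    ∑ κ : Perm (Fin n), ((Perm.sign κ : ℤ) : K) * (if (fun i => lam (κ i)) = lam' then 1 else 0) =
      if lam = lam' then 1 else 0 := by
  have key : ∀ κ : Perm (Fin n), (fun i => lam (κ i)) = lam' → κ = 1 := by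
    intro κ hκ
    apply perm_eq_one_of_strictMono
    intro i j hij
    have h1 : lam (κ i) = lam' i := congrFun hκ i
    have h2 : lam (κ j) = lam' j := congrFun hκ j
    have := h' hij
    rw [← h1, ← h2] at this
    exact h.lt_iff_lt.1 this
  rw [Finset.sum_eq_single (1 : Perm (Fin n))]
  · simp only [Perm.sign_one, Units.val_one, Int.cast_one, one_mul, Perm.coe_one, id_eq]
    rfl
  · intro κ _ hκ
    rw [if_neg (fun hc => hκ (key κ hc)), mul_zero]
  · intro h1; exact absurd (Finset.mem_univ _) h1

/-- the orthogonality identity for tables -/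
theorem master_identity (lam lam' : Fin n → ℕ) (h : StrictMono lam) (h' : StrictMono lam') :
    ∑ κ' : Perm (Fin n), ((Perm.sign κ' : ℤ) : K) *
        (if ∀ i, ((κ' i : Fin n) : ℕ) ≤ lam' i then
          ∑ κ : Perm (Fin n), ((Perm.sign κ : ℤ) : K) *
            (if ∀ i, ((κ i : Fin n) : ℕ) ≤ lam i then
              ((Nat.card (Tables (fun i => lam i - (κ i : ℕ)) (fun i => lam' i - (κ' i : ℕ))) : ℕ) : K)
            else 0)
        else 0) = if lam = lam' then 1 else 0 := by
  rw [← sum_sign_ite lam lam' h h', ← coeff_rhs, ← det_Hm_mul, coeff_lhs]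
  simp only [Nco_eq_card]

end Cfsg.Agent.Helper42.Unip
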