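import Mathlib
import Cfsg.Agent.Helper42.UnipE
import Cfsg.Agent.Helper74.CharBasic
import Cfsg.Agent.Helper75.VirtualChar
import Cfsg.Agent.Helper25.GenChar
import Cfsg.Agent.S2424

/-!
# The unipotent characters of `GL_n(q)` are orthonormal (helper42)

* `classInner_unipotent`: `⟨χ_ν, χ_ν'⟩ = [ν = ν']` for partitions `ν`, `ν'` of `n`.
* `unipotent_isGenChar`, `unipotent_one_pos`, `unipotent_isIrr`.
-/

set_option autoImplicit false
set_option linter.unusedSectionVars false

namespace Cfsg.Agent.Helper42.Unip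

open Cfsg Equiv
open scoped MatrixGroups ComplexConjugate

variable {F : Type*} [Field F] {n : ℕ}

/-- one summand of the alternating sum -/
noncomputable def uTerm (F : Type*) [Field F] {n : ℕ} (ν : Fin n → ℕ) (κ : Perm (Fin n)) :
    GL (Fin n) F → ℂ :=
  if ∀ i : Fin n, (κ i).val ≤ ν i + i.val then
    ((Perm.sign κ : ℤ) : ℂ) •
      fixedPointCharacter (parabolicGL n F fun i => ν i + i.val - (κ i).val)
  else 0

theorem unipotent_eq_sum (ν : Fin n → ℕ) :
    unipotentCharacterGL n F ν = ∑ κ : Perm (Fin n), uTerm F ν κ := by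
  funext g
  rw [Finset.sum_apply]
  unfold unipotentCharacterGL
  refine Finset.sum_congr rfl fun κ _ => ?_
  unfold uTerm
  split_ifs <;> simp

theorem sum_sub_perm (ν : Fin n → ℕ) (κ : Perm (Fin n)) (hκ : ∀ i, (κ i).val ≤ ν i + i.val)
    (hν : ∑ i, ν i = n) : ∑ i, (ν i + i.val - (κ i).val) = n := by
  have h1 : ∑ i, (ν i + i.val - (κ i).val) + ∑ i : Fin n, (κ i).val = ∑ i, (ν i + i.val) := by
    rw [← Finset.sum_add_distrib]
    exact Finset.sum_congr rfl fun i _ => Nat.sub_add_cancel (hκ i)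
  have h2 : ∑ i : Fin n, (κ i).val = ∑ i : Fin n, i.val := Equiv.sum_comp κ (fun i => i.val)
  rw [Finset.sum_add_distrib, hν] at h1
  omega

theorem classInner_uTerm [Fintype (GL (Fin n) F)] (ν ν' : Fin n → ℕ) (hν : ∑ i, ν i = n)
    (hν' : ∑ i, ν' i = n) (κ κ' : Perm (Fin n)) :
    classInner (uTerm F ν κ) (uTerm F ν' κ') =
      ((Perm.sign κ' : ℤ) : ℂ) * (if ∀ i, (κ' i).val ≤ ν' i + i.val then
        ((Perm.sign κ : ℤ) : ℂ) * (if ∀ i, (κ i).val ≤ ν i + i.val then
          ((Nat.card (Tables (fun i => ν i + i.val - (κ i).val)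
            (fun i => ν' i + i.val - (κ' i).val)) : ℕ) : ℂ) else 0) else 0) := by
  unfold uTerm
  by_cases hc : ∀ i, (κ i).val ≤ ν i + i.val
  · by_cases hc' : ∀ i, (κ' i).val ≤ ν' i + i.val
    · rw [if_pos hc, if_pos hc', if_pos hc, if_pos hc', Helper74.classInner_smul_left,
        Helper74.classInner_smul_right,
        classInner_parabolic _ _ (sum_sub_perm ν κ hc hν) (sum_sub_perm ν' κ' hc' hν')]
      rw [map_intCast (starRingEnd ℂ)]
      ring
    · rw [if_neg hc', if_neg hc']
      simp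
  · rw [if_neg hc, if_neg hc]
    simp

theorem strictMono_add (ν : Fin n → ℕ) (hν : Monotone ν) :
    StrictMono fun i : Fin n => ν i + i.val := by
  intro i j hij
  have := hν hij.le
  have h2 : i.val < j.val := hij
  simp only
  omega

/-- orthonormality of the unipotent characters -/
theorem classInner_unipotent [Fintype (GL (Fin n) F)] (ν ν' : Fin n → ℕ) (hm : Monotone ν)
    (hν : ∑ i, ν i = n) (hm' : Monotone ν') (hν' : ∑ i, ν' i = n) :
    classInner (unipotentCharacterGL n F ν) (unipotentCharacterGL n F ν') =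
      if ν = ν' then 1 else 0 := by
  rw [unipotent_eq_sum, unipotent_eq_sum, Helper74.classInner_sum_left]
  simp only [Helper74.classInner_sum_right]
  rw [Finset.sum_comm]
  simp only [classInner_uTerm ν ν' hν hν']
  have hmaster := master_identity (K := ℂ) (fun i : Fin n => ν i + i.val) (fun i : Fin n => ν' i + i.val)
    (strictMono_add ν hm) (strictMono_add ν' hm')
  have hiff : ((fun i : Fin n => ν i + i.val) = fun i : Fin n => ν' i + i.val) ↔ ν = ν' := by
    constructor
    · intro h
      funext i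
      have : ν i + i.val = ν' i + i.val := congrFun h i
      omega
    · intro h; rw [h]
  rw [if_congr hiff rfl rfl] at hmaster
  rw [← hmaster]
  refine Finset.sum_congr rfl fun κ' _ => ?_
  rw [← Finset.mul_sum]
  congr 1
  split_ifs
  · rfl
  · simp

section irr

open Cfsg.Agent.Helper12.PermCharBasics

variable [Fintype F]

theorem unipotent_isGenChar (ν : Fin n → ℕ) :
    IsGeneralizedCharacter (GL (Fin n) F) (unipotentCharacterGL n F ν) := by
  classical
  have : Fintype (GL (Fin n) F) := Fintype.ofFinite _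
  rw [unipotent_eq_sum]
  refine Helper25.isGenChar_sum _ fun κ _ => ?_
  unfold uTerm
  split_ifs
  · rw [Int.cast_smul_eq_zsmul]
    refine Helper25.isGenChar_zsmul _ (Helper25.isGenChar_of_isCharacter ?_)
    have : Fintype (GL (Fin n) F ⧸ parabolicGL n F fun i => ν i + i.val - (κ i).val) :=
      Fintype.ofFinite _
    exact (permChar_isCharacter :
      IsCharacter _ (permChar (GL (Fin n) F)
        (GL (Fin n) F ⧸ parabolicGL n F fun i => ν i + i.val - (κ i).val)))
  · exact Helper25.isGenChar_zero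

theorem qsum_strictMono (q : ℕ) (hq : 1 ≤ q) :
    StrictMono fun a => ∑ l ∈ Finset.range a, q ^ l := by
  apply strictMono_nat_of_lt_succ
  intro a
  rw [Finset.sum_range_succ]
  have : 0 < q ^ a := pow_pos hq a
  omega

theorem qsum_pos (q : ℕ) (j : ℕ) : 0 < ∑ l ∈ Finset.range (j + 1), q ^ l := by
  rw [Finset.sum_range_succ']
  simp

/-- the degree of a unipotent character is not the negative of a natural number -/
theorem unipotent_one_ne_neg (ν : Fin n → ℕ) (hmono : Monotone ν) (hsum : ∑ i, ν i = n) (d : ℕ) :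
    unipotentCharacterGL n F ν 1 ≠ -(d : ℂ) := by
  intro h
  have hq : 1 ≤ Fintype.card F := Fintype.card_pos
  set q := Fintype.card F with hqdef
  have key := Cfsg.Agent.S2424.result (F := F) (q := q) rfl ν hmono hsum
  rw [h] at key
  set A : ℕ := q ^ (n * (n - 1) * (n - 2) / 6) *
    ∏ i : Fin n, ∏ j ∈ Finset.range (ν i + i.val), ∑ l ∈ Finset.range (j + 1), q ^ l with hA
  set B : ℕ := (∏ j ∈ Finset.range n, ∑ l ∈ Finset.range (j + 1), q ^ l) *
    ∏ i : Fin n, ∏ j ∈ Finset.univ.filter (fun j : Fin n => i < j),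
      ((∑ l ∈ Finset.range (ν j + j.val), q ^ l) - (∑ l ∈ Finset.range (ν i + i.val), q ^ l)) with hB
  have hlt : ∀ i j : Fin n, i < j →
      (∑ l ∈ Finset.range (ν i + i.val), q ^ l) < (∑ l ∈ Finset.range (ν j + j.val), q ^ l) :=
    fun i j hij => qsum_strictMono q hq (strictMono_add ν hmono hij)
  have hBpos : 0 < B := by
    refine Nat.mul_pos (Finset.prod_pos fun j _ => qsum_pos q j)
      (Finset.prod_pos fun i _ => Finset.prod_pos fun j hj => ?_)
    rw [Finset.mem_filter] at hj
    exact Nat.sub_pos_of_lt (hlt i j hj.2)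
  have hL : -(d : ℂ) * (q : ℂ) ^ (n * (n - 1) * (n - 2) / 6) *
      ∏ i : Fin n, ∏ j ∈ Finset.range (ν i + i.val),
        ((∑ l ∈ Finset.range (j + 1), q ^ l : ℕ) : ℂ) = -(((d * A : ℕ)) : ℂ) := by
    rw [hA]
    push_cast
    ring
  have hR : (∏ j ∈ Finset.range n, ((∑ l ∈ Finset.range (j + 1), q ^ l : ℕ) : ℂ)) *
      ∏ i : Fin n, ∏ j ∈ Finset.univ.filter (fun j : Fin n => i < j),
        (((∑ l ∈ Finset.range (ν j + j.val), q ^ l : ℕ) : ℂ) -
          ((∑ l ∈ Finset.range (ν i + i.val), q ^ l : ℕ) : ℂ)) = ((B : ℕ) : ℂ) := by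
    rw [hB, Nat.cast_mul, Nat.cast_prod, Nat.cast_prod]
    congr 1
    refine Finset.prod_congr rfl fun i _ => ?_
    rw [Nat.cast_prod]
    refine Finset.prod_congr rfl fun j hj => ?_
    rw [Finset.mem_filter] at hj
    rw [Nat.cast_sub (hlt i j hj.2).le]
  rw [hL, hR] at key
  have h0 : (((B + d * A : ℕ)) : ℂ) = 0 := by
    rw [Nat.cast_add, ← key]
    ring
  have := Nat.cast_eq_zero.1 h0
  omega

/-- the unipotent characters of `GL_n(q)` are irreducible -/
theorem unipotent_isIrr (ν : Fin n → ℕ) (hmono : Monotone ν) (hsum : ∑ i, ν i = n) :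
    IsIrrCharacter (GL (Fin n) F) (unipotentCharacterGL n F ν) := by
  classical
  have : Fintype (GL (Fin n) F) := Fintype.ofFinite _
  have h1 : classInner (unipotentCharacterGL n F ν) (unipotentCharacterGL n F ν) = 1 := by
    rw [classInner_unipotent ν ν hmono hsum hmono hsum, if_pos rfl]
  obtain ⟨θ, h | h⟩ := Helper75.vc_pm_irr (unipotent_isGenChar ν) h1
  · rw [h]; exact θ.2
  · exfalso
    obtain ⟨d, hd⟩ := Helper74.isCharacter_apply_one (Helper74.irr_isCharacter θ)
    refine unipotent_one_ne_neg (F := F) ν hmono hsum d ?_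
    rw [h, Pi.neg_apply, hd]

/-- different partitions give different unipotent characters -/
theorem unipotent_injective (ν ν' : Fin n → ℕ) (hmono : Monotone ν) (hsum : ∑ i, ν i = n)
    (hmono' : Monotone ν') (hsum' : ∑ i, ν' i = n)
    (h : unipotentCharacterGL n F ν = unipotentCharacterGL n F ν') : ν = ν' := by
  classical
  have : Fintype (GL (Fin n) F) := Fintype.ofFinite _
  have h1 := classInner_unipotent (F := F) ν ν hmono hsum hmono hsum
  have h2 := classInner_unipotent (F := F) ν ν' hmono hsum hmono' hsum'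
  rw [if_pos rfl] at h1
  rw [← h, h1] at h2
  by_contra hne
  rw [if_neg hne] at h2
  exact one_ne_zero h2

end irr

end Cfsg.Agent.Helper42.Unip
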