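import Mathlib
import Cfsg.Agent.Helper42.UnipF

/-!
# Orbits of `SL_n(F)` on pairs of flags, and the general alternating-sum orthogonality (helper42)

* `card_orbits_quotient_prod_hom`: the orbit count of `card_orbits_quotient_prod` for a group `S`
  acting through a homomorphism `φ : S →* G` with `G = φ(S) D`, `D` inside all the stabilizers.
* `classInner_parabolic_SL`: `⟨π_α|SL, π_β|SL⟩ = #Tables α β`.
* `classInner_altSum`: orthogonality of the alternating sums for any family `Pi α` of class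
  functions with `⟨Pi α, Pi β⟩ = #Tables α β`.
-/

set_option autoImplicit false
set_option linter.unusedSectionVars false

namespace Cfsg.Agent.Helper42.Unip

open Cfsg Equiv Matrix
open scoped MatrixGroups

section abstract

theorem card_orbits_quotient_prod_hom {S G W ι : Type*} [Group S] [Group G] (φ : S →* G)
    (P Q D : Subgroup G) [MulAction S (G ⧸ P)] [MulAction S (G ⧸ Q)]
    (hP : ∀ (s : S) (v : G ⧸ P), s • v = φ s • v) (hQ : ∀ (s : S) (v : G ⧸ Q), s • v = φ s • v)
    (ω : W → G) (T : W → ι) (hT : Function.Surjective T)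
    (ha : ∀ g : G, ∃ p ∈ P, ∃ w, ∃ q ∈ Q, g = p * ω w * q)
    (hb : ∀ w w', T w = T w' → ∃ p ∈ P, ∃ q ∈ Q, ω w' = p * ω w * q)
    (hc : ∀ w w', ∀ p ∈ P, ∀ q ∈ Q, ω w' = p * ω w * q → T w = T w')
    (hDP : D ≤ P) (hDQ : ∀ w, ∀ d ∈ D, (ω w)⁻¹ * d * ω w ∈ Q)
    (hS : ∀ g : G, ∃ s : S, ∃ d ∈ D, φ s = g * d) :
    Nat.card (MulAction.orbitRel.Quotient S ((G ⧸ P) × (G ⧸ Q))) = Nat.card ι := by
  choose s hs using hT
  refine card_orbits_eq_of_reps
    (fun i => (((1 : G) : G ⧸ P), ((ω (s i) : G) : G ⧸ Q))) ?_ ?_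
  · rintro ⟨x, y⟩
    induction x using QuotientGroup.induction_on with | _ x => ?_
    induction y using QuotientGroup.induction_on with | _ y => ?_
    obtain ⟨p, hp, w, q, hq, hxy⟩ := ha (x⁻¹ * y)
    obtain ⟨p', hp', q', hq', hw⟩ := hb (s (T w)) w (hs (T w))
    obtain ⟨t, d, hd, htd⟩ := hS (x * p * p')
    refine ⟨T w, t, ?_⟩
    rw [Prod.smul_mk, hP, hQ, htd, MulAction.Quotient.smul_mk, MulAction.Quotient.smul_mk,
      smul_eq_mul, smul_eq_mul]
    refine Prod.ext ?_ ?_
    · rw [QuotientGroup.eq]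
      have : (x * p * p' * d * 1)⁻¹ * x = (p * p' * d)⁻¹ := by group
      rw [this]
      exact P.inv_mem (P.mul_mem (P.mul_mem hp hp') (hDP hd))
    · rw [QuotientGroup.eq]
      have hy : y = x * (p * ω w * q) := by rw [← hxy]; group
      have : (x * p * p' * d * ω (s (T w)))⁻¹ * y =
          ((ω (s (T w)))⁻¹ * d⁻¹ * ω (s (T w))) * (q' * q) := by
        rw [hy, hw]; group
      rw [this]
      exact Q.mul_mem (hDQ _ _ (D.inv_mem hd)) (Q.mul_mem hq' hq)
  · intro i i' t hg
    rw [Prod.smul_mk, hP, hQ, MulAction.Quotient.smul_mk, MulAction.Quotient.smul_mk, smul_eq_mul,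
      smul_eq_mul] at hg
    have h1 := (Prod.ext_iff.1 hg).1
    have h2 := (Prod.ext_iff.1 hg).2
    rw [QuotientGroup.eq] at h1 h2
    have hgP : φ t ∈ P := by
      have : φ t = ((φ t * 1)⁻¹ * 1)⁻¹ := by group
      rw [this]
      exact P.inv_mem h1
    have := hc (s i) (s i') (φ t) hgP _ h2 (by group)
    rw [hs, hs] at this
    exact this

end abstract

section diag

variable {F : Type*} [Field F] {n : ℕ}

/-- the invertible diagonal matrices -/
def diagSub (F : Type*) [Field F] (n : ℕ) : Subgroup (GL (Fin n) F) where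
  carrier := {g | (g : Matrix (Fin n) (Fin n) F).BlockTriangular id ∧
    (g : Matrix (Fin n) (Fin n) F).BlockTriangular OrderDual.toDual}
  mul_mem' := by
    intro a b ha hb
    refine ⟨?_, ?_⟩
    · show ((a * b : GL (Fin n) F) : Matrix (Fin n) (Fin n) F).BlockTriangular id
      rw [Units.val_mul]
      exact BlockTriangular.mul ha.1 hb.1
    · show ((a * b : GL (Fin n) F) : Matrix (Fin n) (Fin n) F).BlockTriangular OrderDual.toDual
      rw [Units.val_mul]
      exact BlockTriangular.mul ha.2 hb.2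
  one_mem' := by
    refine ⟨?_, ?_⟩
    · show ((1 : GL (Fin n) F) : Matrix (Fin n) (Fin n) F).BlockTriangular id
      rw [Units.val_one]
      exact blockTriangular_one
    · show ((1 : GL (Fin n) F) : Matrix (Fin n) (Fin n) F).BlockTriangular OrderDual.toDual
      rw [Units.val_one]
      exact blockTriangular_one
  inv_mem' := by
    intro a ha
    have : Invertible (a : Matrix (Fin n) (Fin n) F) := a.invertible
    refine ⟨?_, ?_⟩
    · show ((a⁻¹ : GL (Fin n) F) : Matrix (Fin n) (Fin n) F).BlockTriangular id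
      rw [Matrix.coe_units_inv]
      exact blockTriangular_inv_of_blockTriangular ha.1
    · show ((a⁻¹ : GL (Fin n) F) : Matrix (Fin n) (Fin n) F).BlockTriangular OrderDual.toDual
      rw [Matrix.coe_units_inv]
      exact blockTriangular_inv_of_blockTriangular ha.2

theorem mem_diagSub_iff (g : GL (Fin n) F) :
    g ∈ diagSub F n ↔ ∀ i j, i ≠ j → (g : Matrix (Fin n) (Fin n) F) i j = 0 := by
  constructor
  · rintro ⟨h1, h2⟩ i j hij
    rcases lt_or_gt_of_ne hij with h | h
    · exact h2 (show OrderDual.toDual j < OrderDual.toDual i from h)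
    · exact h1 h
  · intro h
    exact ⟨fun i j hij => h i j (ne_of_gt hij), fun i j hij => h i j (ne_of_lt hij)⟩

theorem diagSub_le_parabolic (α : Fin n → ℕ) : diagSub F n ≤ parabolicGL n F α := by
  intro g hg i j hij
  refine (mem_diagSub_iff g).1 hg i j ?_
  rintro rfl
  exact lt_irrefl _ hij

theorem conj_perm_mem_diagSub (w : Perm (Fin n)) (d : GL (Fin n) F) (hd : d ∈ diagSub F n) :
    (permGL F n w)⁻¹ * d * permGL F n w ∈ diagSub F n := by
  rw [mem_diagSub_iff] at hd ⊢
  intro i j hij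
  rw [← map_inv, Units.val_mul, Units.val_mul, permGL_val, permGL_val, mul_pm_apply,
    permGL_mul_apply]
  apply hd
  intro h
  apply hij
  have : w i = w j := h
  exact w.injective this

theorem exists_SL_mul_diag (hn : 0 < n) (g : GL (Fin n) F) :
    ∃ s : Matrix.SpecialLinearGroup (Fin n) F, ∃ d ∈ diagSub F n,
      Matrix.SpecialLinearGroup.toGL s = g * d := by
  classical
  let i0 : Fin n := ⟨0, hn⟩
  have hdet : (g : Matrix (Fin n) (Fin n) F).det ≠ 0 := Matrix.GeneralLinearGroup.det_ne_zero g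
  let dv : Fin n → F := fun i => if i = i0 then ((g : Matrix (Fin n) (Fin n) F).det)⁻¹ else 1
  have hdd : (Matrix.diagonal dv).det = ((g : Matrix (Fin n) (Fin n) F).det)⁻¹ := by
    rw [Matrix.det_diagonal]
    simp [dv]
  let d : GL (Fin n) F := Matrix.GeneralLinearGroup.mkOfDetNeZero (Matrix.diagonal dv) (by
    rw [hdd]; exact inv_ne_zero hdet)
  have hd : d ∈ diagSub F n := by
    rw [mem_diagSub_iff]
    intro i j hij
    exact Matrix.diagonal_apply_ne _ hij
  have hgd : ((g * d : GL (Fin n) F) : Matrix (Fin n) (Fin n) F).det = 1 := by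
    rw [Units.val_mul, Matrix.det_mul]
    show (g : Matrix (Fin n) (Fin n) F).det * (Matrix.diagonal dv).det = 1
    rw [hdd, mul_inv_cancel₀ hdet]
  refine ⟨⟨((g * d : GL (Fin n) F) : Matrix (Fin n) (Fin n) F), hgd⟩, d, hd, ?_⟩
  apply Units.ext
  rfl

end diag

section slorbits

variable {F : Type*} [Field F] {n : ℕ}

open Cfsg.Agent.Helper12.PermCharBasics

/-- orbits of `SL_n` on pairs of flags -/
theorem card_orbits_SL (hn : 0 < n) (α β : Fin n → ℕ) (hα : ∑ i, α i = n) (hβ : ∑ i, β i = n)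
    [MulAction (Matrix.SpecialLinearGroup (Fin n) F) (GL (Fin n) F ⧸ parabolicGL n F α)]
    [MulAction (Matrix.SpecialLinearGroup (Fin n) F) (GL (Fin n) F ⧸ parabolicGL n F β)]
    (hP : ∀ (s : Matrix.SpecialLinearGroup (Fin n) F) (v : GL (Fin n) F ⧸ parabolicGL n F α),
      s • v = Matrix.SpecialLinearGroup.toGL s • v)
    (hQ : ∀ (s : Matrix.SpecialLinearGroup (Fin n) F) (v : GL (Fin n) F ⧸ parabolicGL n F β),
      s • v = Matrix.SpecialLinearGroup.toGL s • v) :
    Nat.card (MulAction.orbitRel.Quotient (Matrix.SpecialLinearGroup (Fin n) F)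
      ((GL (Fin n) F ⧸ parabolicGL n F α) × (GL (Fin n) F ⧸ parabolicGL n F β))) =
      Nat.card (Tables α β) := by
  refine card_orbits_quotient_prod_hom (Matrix.SpecialLinearGroup.toGL)
    (parabolicGL n F α) (parabolicGL n F β) (diagSub F n) hP hQ (permGL F n)
    (tabT α β hα hβ) (tabT_surjective α β hα hβ) ?_ ?_ ?_ (diagSub_le_parabolic α) ?_
    (exists_SL_mul_diag hn)
  · intro g
    obtain ⟨u, hu, σ, b, hb, hg⟩ := bruhat_exists g
    exact ⟨u, borel_le_parabolic α hu, σ, b, borel_le_parabolic β hb, hg⟩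
  · intro w w' h
    obtain ⟨σ, τ, hσ, hτ, hw⟩ := exists_of_tab_eq _ _ w w' (congrArg Subtype.val h)
    refine ⟨permGL F n σ, permGL_mem_parabolic α σ ((mem_young_iff α hα σ).2 hσ),
      permGL F n τ, permGL_mem_parabolic β τ ((mem_young_iff β hβ τ).2 hτ), ?_⟩
    rw [hw, map_mul, map_mul]
  · intro w w' p hp q hq h
    apply Subtype.ext
    change tab _ _ w = tab _ _ w'
    refine tab_eq_of_cum _ _ w w' fun P Q hP hQ => ?_
    rw [← rank_dSet_pm (F := F), ← rank_dSet_pm (F := F)]
    have hval : pm F w' = (p : Matrix (Fin n) (Fin n) F) * pm F w * (q : Matrix (Fin n) (Fin n) F) := by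
      rw [← permGL_val, h]
      rfl
    rw [hval]
    symm
    refine rank_dSet_BT _ _ P Q hP hQ _ _ ((p⁻¹ : GL (Fin n) F) : Matrix (Fin n) (Fin n) F)
      ((q⁻¹ : GL (Fin n) F) : Matrix (Fin n) (Fin n) F) _
      (parabolic_val_BT α hα p hp) (parabolic_val_BT β hβ q hq)
      (parabolic_val_BT α hα _ (Subgroup.inv_mem _ hp))
      (parabolic_val_BT β hβ _ (Subgroup.inv_mem _ hq)) ?_ ?_
    · rw [← Units.val_mul, inv_mul_cancel, Units.val_one]
    · rw [← Units.val_mul, mul_inv_cancel, Units.val_one]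
  · intro w d hd
    exact diagSub_le_parabolic β (conj_perm_mem_diagSub w d hd)

/-- the inner product over `SL_n` of two restricted flag characters -/
theorem classInner_parabolic_SL [Fintype (Matrix.SpecialLinearGroup (Fin n) F)] [Finite F]
    (hn : 0 < n) (α β : Fin n → ℕ) (hα : ∑ i, α i = n) (hβ : ∑ i, β i = n) :
    classInner (fun s : Matrix.SpecialLinearGroup (Fin n) F =>
        fixedPointCharacter (parabolicGL n F α) (Matrix.SpecialLinearGroup.toGL s))
      (fun s : Matrix.SpecialLinearGroup (Fin n) F =>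
        fixedPointCharacter (parabolicGL n F β) (Matrix.SpecialLinearGroup.toGL s)) =
      (Nat.card (Tables α β) : ℂ) := by
  classical
  have : Fintype F := Fintype.ofFinite F
  have : Fintype (GL (Fin n) F ⧸ parabolicGL n F α) := Fintype.ofFinite _
  have : Fintype (GL (Fin n) F ⧸ parabolicGL n F β) := Fintype.ofFinite _
  let iα : MulAction (Matrix.SpecialLinearGroup (Fin n) F) (GL (Fin n) F ⧸ parabolicGL n F α) :=
    MulAction.compHom _ (Matrix.SpecialLinearGroup.toGL)
  let iβ : MulAction (Matrix.SpecialLinearGroup (Fin n) F) (GL (Fin n) F ⧸ parabolicGL n F β) :=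
    MulAction.compHom _ (Matrix.SpecialLinearGroup.toGL)
  have h := Helper76.classInner_permChar_permChar (G := Matrix.SpecialLinearGroup (Fin n) F)
    (GL (Fin n) F ⧸ parabolicGL n F α) (GL (Fin n) F ⧸ parabolicGL n F β)
  rw [card_orbits_SL hn α β hα hβ (fun _ _ => rfl) (fun _ _ => rfl)] at h
  exact h

end slorbits

section altsum

variable {S : Type*} [Group S] [Fintype S] {n : ℕ}

/-- one summand of the general alternating sum -/
noncomputable def altTerm (Pi : (Fin n → ℕ) → S → ℂ) (ν : Fin n → ℕ) (κ : Perm (Fin n)) : S → ℂ :=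
  if ∀ i : Fin n, (κ i).val ≤ ν i + i.val then
    ((Perm.sign κ : ℤ) : ℂ) • Pi (fun i => ν i + i.val - (κ i).val)
  else 0

theorem classInner_altTerm (Pi : (Fin n → ℕ) → S → ℂ)
    (hPi : ∀ α β : Fin n → ℕ, ∑ i, α i = n → ∑ i, β i = n →
      classInner (Pi α) (Pi β) = ((Nat.card (Tables α β) : ℕ) : ℂ))
    (ν ν' : Fin n → ℕ) (hν : ∑ i, ν i = n) (hν' : ∑ i, ν' i = n) (κ κ' : Perm (Fin n)) :
    classInner (altTerm Pi ν κ) (altTerm Pi ν' κ') =
      ((Perm.sign κ' : ℤ) : ℂ) * (if ∀ i, (κ' i).val ≤ ν' i + i.val then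
        ((Perm.sign κ : ℤ) : ℂ) * (if ∀ i, (κ i).val ≤ ν i + i.val then
          ((Nat.card (Tables (fun i => ν i + i.val - (κ i).val)
            (fun i => ν' i + i.val - (κ' i).val)) : ℕ) : ℂ) else 0) else 0) := by
  unfold altTerm
  by_cases hc : ∀ i, (κ i).val ≤ ν i + i.val
  · by_cases hc' : ∀ i, (κ' i).val ≤ ν' i + i.val
    · rw [if_pos hc, if_pos hc', if_pos hc, if_pos hc', Helper74.classInner_smul_left,
        Helper74.classInner_smul_right,
        hPi _ _ (sum_sub_perm ν κ hc hν) (sum_sub_perm ν' κ' hc' hν')]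
      rw [map_intCast (starRingEnd ℂ)]
      ring
    · rw [if_neg hc', if_neg hc']
      simp
  · rw [if_neg hc, if_neg hc]
    simp

/-- orthonormality of the alternating sums -/
theorem classInner_altSum (Pi : (Fin n → ℕ) → S → ℂ)
    (hPi : ∀ α β : Fin n → ℕ, ∑ i, α i = n → ∑ i, β i = n →
      classInner (Pi α) (Pi β) = ((Nat.card (Tables α β) : ℕ) : ℂ))
    (ν ν' : Fin n → ℕ) (hm : Monotone ν) (hν : ∑ i, ν i = n) (hm' : Monotone ν')
    (hν' : ∑ i, ν' i = n) :
    classInner (∑ κ : Perm (Fin n), altTerm Pi ν κ) (∑ κ : Perm (Fin n), altTerm Pi ν' κ) =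
      if ν = ν' then 1 else 0 := by
  rw [Helper74.classInner_sum_left]
  simp only [Helper74.classInner_sum_right]
  rw [Finset.sum_comm]
  simp only [classInner_altTerm Pi hPi ν ν' hν hν']
  have hmaster := master_identity (K := ℂ) (fun i : Fin n => ν i + i.val) (fun i : Fin n => ν' i + i.val)
    (strictMono_add ν hm) (strictMono_add ν' hm')
  have hiff : ((fun i : Fin n => ν i + i.val) = fun i : Fin n => ν' i + i.val) ↔ ν = ν' := by
    constructor
    · intro h
      funext i
      have : ν i + i.val = ν' i + i.val := congrFun h i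
      omega
    · intro h; rw [h]
  rw [if_congr hiff rfl rfl] at hmaster
  rw [← hmaster]
  refine Finset.sum_congr rfl fun κ' _ => ?_
  rw [← Finset.mul_sum]
  congr 1
  split_ifs
  · rfl
  · simp

end altsum

end Cfsg.Agent.Helper42.Unip
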