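import Mathlib
import Cfsg.Agent.Helper42.UnipG
import Cfsg.Agent.Helper80.Pullback

/-!
# Unipotent characters restricted to `SL_n(q)` and deflated to `PSL_n(q)` (helper42)

* `unipotent_SL_isIrr`: the restriction of `χ_ν` to `SL_n(q)` is irreducible.
* `unipotent_PSL_exists`: it is inflated from an irreducible character of `PSL_n(q)`.
-/

set_option autoImplicit false
set_option linter.unusedSectionVars false

namespace Cfsg.Agent.Helper42.Unip

open Cfsg Equiv Matrix
open scoped MatrixGroups

section central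

theorem fixedPointCharacter_central {G : Type*} [Group G] (H : Subgroup G) (c : G)
    (hc : ∀ x : G, c * x = x * c) (hcH : c ∈ H) :
    fixedPointCharacter H c = fixedPointCharacter H 1 := by
  unfold fixedPointCharacter
  have h1 : MulAction.fixedBy (G ⧸ H) c = Set.univ := by
    ext v
    simp only [Set.mem_univ, iff_true, MulAction.mem_fixedBy]
    induction v using QuotientGroup.induction_on with | _ x => ?_
    rw [MulAction.Quotient.smul_mk, smul_eq_mul, QuotientGroup.eq, hc x]
    have : (x * c)⁻¹ * x = c⁻¹ := by group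
    rw [this]
    exact H.inv_mem hcH
  have h2 : MulAction.fixedBy (G ⧸ H) (1 : G) = Set.univ := by
    ext v
    simp
  rw [h1, h2]

variable {F : Type*} [Field F] {n : ℕ}

theorem unipotent_central (ν : Fin n → ℕ) (c : GL (Fin n) F) (hc : ∀ x : GL (Fin n) F, c * x = x * c)
    (hcD : c ∈ diagSub F n) :
    unipotentCharacterGL n F ν c = unipotentCharacterGL n F ν 1 := by
  unfold unipotentCharacterGL
  refine Finset.sum_congr rfl fun κ _ => ?_
  split_ifs
  · rw [fixedPointCharacter_central _ c hc (diagSub_le_parabolic _ hcD)]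
  · rfl

theorem toGL_center (s : Matrix.SpecialLinearGroup (Fin n) F)
    (hs : s ∈ Subgroup.center (Matrix.SpecialLinearGroup (Fin n) F)) :
    (∀ x : GL (Fin n) F, Matrix.SpecialLinearGroup.toGL s * x = x * Matrix.SpecialLinearGroup.toGL s) ∧
      Matrix.SpecialLinearGroup.toGL s ∈ diagSub F n := by
  obtain ⟨r, _, hr⟩ := Matrix.SpecialLinearGroup.mem_center_iff.1 hs
  constructor
  · intro x
    apply Units.ext
    rw [Units.val_mul, Units.val_mul]
    show (s : Matrix (Fin n) (Fin n) F) * (x : Matrix (Fin n) (Fin n) F) =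
      (x : Matrix (Fin n) (Fin n) F) * (s : Matrix (Fin n) (Fin n) F)
    rw [← hr]
    exact (Matrix.scalar_commute r (fun r' => Commute.all r r') _).eq
  · rw [mem_diagSub_iff]
    intro i j hij
    show (s : Matrix (Fin n) (Fin n) F) i j = 0
    rw [← hr]
    simp [Matrix.scalar_apply, Matrix.diagonal_apply_ne _ hij]

end central

section sl

variable {F : Type*} [Field F] [Fintype F] {n : ℕ}

/-- the restriction of a unipotent character to `SL_n` -/
noncomputable def unipotentSL (n : ℕ) (F : Type*) [Field F] (ν : Fin n → ℕ) :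
    Matrix.SpecialLinearGroup (Fin n) F → ℂ :=
  fun s => unipotentCharacterGL n F ν (Matrix.SpecialLinearGroup.toGL s)

theorem unipotentSL_eq_sum (ν : Fin n → ℕ) :
    unipotentSL n F ν = ∑ κ : Perm (Fin n),
      altTerm (fun (α : Fin n → ℕ) (s : Matrix.SpecialLinearGroup (Fin n) F) =>
        fixedPointCharacter (parabolicGL n F α) (Matrix.SpecialLinearGroup.toGL s)) ν κ := by
  funext s
  rw [Finset.sum_apply]
  unfold unipotentSL unipotentCharacterGL
  refine Finset.sum_congr rfl fun κ _ => ?_
  unfold altTerm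
  split_ifs <;> simp

theorem unipotentSL_isGenChar (ν : Fin n → ℕ) :
    IsGeneralizedCharacter (Matrix.SpecialLinearGroup (Fin n) F) (unipotentSL n F ν) := by
  obtain ⟨χ, ψ, hχ, hψ, h⟩ := unipotent_isGenChar (F := F) ν
  refine ⟨fun s => χ (Matrix.SpecialLinearGroup.toGL s), fun s => ψ (Matrix.SpecialLinearGroup.toGL s),
    Helper80.IsCharacter.comp_hom hχ _, Helper80.IsCharacter.comp_hom hψ _, ?_⟩
  funext s
  unfold unipotentSL
  rw [h]
  rfl

theorem unipotent_SL_isIrr (hn : 0 < n) (ν : Fin n → ℕ) (hmono : Monotone ν) (hsum : ∑ i, ν i = n) :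
    IsIrrCharacter (Matrix.SpecialLinearGroup (Fin n) F) (unipotentSL n F ν) := by
  classical
  have : Fintype (Matrix.SpecialLinearGroup (Fin n) F) := Fintype.ofFinite _
  have h1 : classInner (unipotentSL n F ν) (unipotentSL n F ν) = 1 := by
    rw [unipotentSL_eq_sum, classInner_altSum _ (fun α β hα hβ =>
      classInner_parabolic_SL hn α β hα hβ) ν ν hmono hsum hmono hsum, if_pos rfl]
  obtain ⟨θ, h | h⟩ := Helper75.vc_pm_irr (unipotentSL_isGenChar ν) h1
  · rw [h]; exact θ.2
  · exfalso
    obtain ⟨d, hd⟩ := Helper74.isCharacter_apply_one (Helper74.irr_isCharacter θ)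
    refine unipotent_one_ne_neg (F := F) ν hmono hsum d ?_
    have h2 : unipotentSL n F ν 1 = -(d : ℂ) := by rw [h, Pi.neg_apply, hd]
    rw [← h2]
    unfold unipotentSL
    rw [map_one]

/-- the unipotent characters are inflated from irreducible characters of `PSL_n` -/
theorem unipotent_PSL_exists (hn : 0 < n) (ν : Fin n → ℕ) (hmono : Monotone ν)
    (hsum : ∑ i, ν i = n) :
    ∃ ψ : Matrix.ProjectiveSpecialLinearGroup (Fin n) F → ℂ,
      IsIrrCharacter (Matrix.ProjectiveSpecialLinearGroup (Fin n) F) ψ ∧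
        ∀ s : Matrix.SpecialLinearGroup (Fin n) F,
          ψ (QuotientGroup.mk s) = unipotentCharacterGL n F ν (Matrix.SpecialLinearGroup.toGL s) := by
  obtain ⟨ψ, hψ, h⟩ := Helper80.IsIrrCharacter.exists_descend (unipotent_SL_isIrr hn ν hmono hsum)
    (QuotientGroup.mk' (Subgroup.center (Matrix.SpecialLinearGroup (Fin n) F)))
    (QuotientGroup.mk'_surjective _) (fun g hg => by
      have hgc : g ∈ Subgroup.center (Matrix.SpecialLinearGroup (Fin n) F) := by
        rwa [QuotientGroup.mk'_apply, QuotientGroup.eq_one_iff] at hg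
      obtain ⟨h1, h2⟩ := toGL_center g hgc
      unfold unipotentSL
      rw [unipotent_central ν _ h1 h2, map_one])
  exact ⟨ψ, hψ, fun s => (h s).symm⟩

end sl

end Cfsg.Agent.Helper42.Unip
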