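import Mathlib
import Cfsg.Prelude.Def_LinearParabolics
import Cfsg.Agent.Helper42.StDefs

set_option autoImplicit false

/-! # Parabolic subgroups of `GL_n` as stabilisers of standard flags (helper42, for S2425) -/

namespace Cfsg.Agent.Helper42.StVal

open Cfsg Finset Matrix
open scoped MatrixGroups

variable {n : ℕ} {F : Type*} [Field F]

/-- partial sums of a composition -/
def psum (μ : Fin n → ℕ) (j : Fin n) : ℕ := ∑ k ∈ univ.filter (fun k : Fin n => k ≤ j), μ k

theorem compLabel_eq (μ : Fin n → ℕ) (i : Fin n) :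
    compLabel μ i = (univ.filter fun j : Fin n => psum μ j ≤ i.val).card := rfl

theorem mem_cutSet {μ : Fin n → ℕ} {s : ℕ} :
    s ∈ cutSet μ ↔ (∃ j, psum μ j = s) ∧ 0 < s ∧ s < n := by
  unfold cutSet
  simp only [mem_filter, mem_image, mem_univ, true_and]
  rfl

theorem compLabel_lt_iff (μ : Fin n → ℕ) (i j : Fin n) :
    compLabel μ j < compLabel μ i ↔ ∃ k, j.val < psum μ k ∧ psum μ k ≤ i.val := by
  constructor
  · intro h
    by_contra hcon
    push Not at hcon
    have : compLabel μ i ≤ compLabel μ j := by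
      rw [compLabel_eq, compLabel_eq]
      refine card_le_card fun k hk => ?_
      simp only [mem_filter, mem_univ, true_and] at hk ⊢
      by_contra hk2
      push Not at hk2
      exact absurd (hcon k hk2) (not_lt.2 hk)
    omega
  · rintro ⟨k, hk1, hk2⟩
    rw [compLabel_eq, compLabel_eq]
    refine card_lt_card ?_
    rw [ssubset_iff_of_subset]
    · refine ⟨k, ?_, ?_⟩
      · simp only [mem_filter, mem_univ, true_and]; exact hk2
      · simp only [mem_filter, mem_univ, true_and]; omega
    · intro k' hk'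
      simp only [mem_filter, mem_univ, true_and] at hk' ⊢
      omega

/-- the standard subspace spanned by the first `s` basis vectors -/
def stdSub (n : ℕ) (F : Type*) [Field F] (s : ℕ) : Submodule F (Fin n → F) where
  carrier := {v | ∀ i : Fin n, s ≤ i.val → v i = 0}
  add_mem' := by
    intro a b ha hb i hi
    simp [ha i hi, hb i hi]
  zero_mem' := by intro i _; rfl
  smul_mem' := by
    intro c a ha i hi
    simp [ha i hi]

theorem mem_stdSub {s : ℕ} {v : Fin n → F} :
    v ∈ stdSub n F s ↔ ∀ i : Fin n, s ≤ i.val → v i = 0 := Iff.rfl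

/-- membership in the parabolic subgroup = stabilising the standard flag -/
theorem mem_parabolicGL_iff (μ : Fin n → ℕ) (g : GL (Fin n) F) :
    g ∈ parabolicGL n F μ ↔
      ∀ s ∈ cutSet μ, ∀ v ∈ stdSub n F s, (g : Matrix (Fin n) (Fin n) F) *ᵥ v ∈ stdSub n F s := by
  constructor
  · intro hg s hs v hv i hi
    obtain ⟨⟨k, rfl⟩, -, -⟩ := mem_cutSet.1 hs
    rw [Matrix.mulVec, dotProduct]
    refine sum_eq_zero fun j _ => ?_
    by_cases hj : psum μ k ≤ j.val
    · rw [hv j hj, mul_zero]
    · have : compLabel μ j < compLabel μ i := (compLabel_lt_iff μ i j).2 ⟨k, by omega, hi⟩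
      rw [hg this, zero_mul]
  · intro h i j hij
    obtain ⟨k, hk1, hk2⟩ := (compLabel_lt_iff μ i j).1 hij
    have hs : psum μ k ∈ cutSet μ := mem_cutSet.2 ⟨⟨k, rfl⟩, by omega, by have := i.2; omega⟩
    have hv : (Pi.single j 1 : Fin n → F) ∈ stdSub n F (psum μ k) := by
      intro i' hi'
      rw [Pi.single_apply, if_neg]
      rintro rfl
      omega
    have := h _ hs _ hv i hk2
    simpa using this

end Cfsg.Agent.Helper42.StVal
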