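import Mathlib
import Cfsg.Agent.Helper42.DZDefs
import Cfsg.Agent.Helper42.UnipH
import Cfsg.Agent.Helper81.DZISO
import Cfsg.Agent.Helper81.DZGGd
import Cfsg.Agent.Helper79.DZGGa
import Cfsg.Agent.Helper79.DZGGc
import Cfsg.Agent.Helper80.DZGGb
import Cfsg.Agent.Helper65.DZBTU
import Cfsg.Agent.Helper12.DZR1
import Cfsg.Agent.Helper33.DZW3
import Cfsg.Agent.Helper14.DZW2
import Cfsg.Agent.Helper57.DZA
import Cfsg.Agent.Helper45.DZST

set_option autoImplicit false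
set_option linter.unusedSectionVars false

/-! the pieces of the SL_n(q) defining-characteristic block theorem, proved by helper12, helper14,
helper33, helper45, helper57, helper65, helper79, helper80, helper81 (see the imports), restated here under
the names used by `DZMain` -/

namespace Cfsg.Agent.Helper42.DZ

open Matrix Cfsg

variable {n : ℕ} {F : Type*} [Field F]

/-- (ISO) dimension of an eigenspace of a subgroup -/
theorem finrank_isoSub {G W : Type*} [Group G] [AddCommGroup W] [Module ℂ W]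
    [FiniteDimensional ℂ W] (ρ : Representation ℂ G W) (H : Subgroup G) [Fintype H] (μ : G → ℂ)
    (hμ1 : μ 1 = 1) (hμ : ∀ a ∈ H, ∀ b ∈ H, μ (a * b) = μ a * μ b) :
    (Module.finrank ℂ (isoSub ρ H μ) : ℂ) =
      (Fintype.card H : ℂ)⁻¹ * ∑ h : H, ρ.character (h : G) * (μ (h : G))⁻¹ :=
  Cfsg.Agent.Helper81.DZ.finrank_isoSub ρ H μ hμ1 hμ

/-- (PSI) `psiU ψ₀` is multiplicative on the unitriangular group -/
theorem psiU_mul (ψ₀ : AddChar F ℂ) (a b : SLn n F) (ha : a ∈ US n F) (hb : b ∈ US n F) :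
    psiU ψ₀ (a * b) = psiU ψ₀ a * psiU ψ₀ b :=
  Cfsg.Agent.Helper65.DZ.psiU_mul ψ₀ a b ha hb

/-- (GG-c) the anti-involution -/
theorem iota_mul (a b : SLn n F) : iota (a * b) = iota b * iota a :=
  Cfsg.Agent.Helper79.DZ.iota_mul a b

theorem iota_involutive : Function.Involutive (iota : SLn n F → SLn n F) :=
  Cfsg.Agent.Helper79.DZ.iota_involutive

theorem iota_mem_US (u : SLn n F) (hu : u ∈ US n F) : iota u ∈ US n F :=
  Cfsg.Agent.Helper79.DZ.iota_mem_US u hu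

theorem psiU_iota (ψ₀ : AddChar F ℂ) (u : SLn n F) : psiU ψ₀ (iota u) = psiU ψ₀ u :=
  Cfsg.Agent.Helper79.DZ.psiU_iota ψ₀ u

/-- (GG-a) Bruhat decomposition of `SL_n(F)` with respect to the unitriangular group -/
theorem bruhat_SL (g : SLn n F) :
    ∃ u ∈ US n F, ∃ m : SLn n F, IsMono m ∧ ∃ u' ∈ US n F, g = u * m * u' :=
  Cfsg.Agent.Helper79.DZ.bruhat_SL g

/-- (GG-b) a monomial matrix whose double coset supports a `(ψ, ψ)`-equivariant function is fixed
by the anti-involution -/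
theorem mono_admissible (ψ₀ : AddChar F ℂ) (hψ : ∃ a : F, ψ₀ a ≠ 1) (m : SLn n F) (hm : IsMono m)
    (hadm : ∀ y ∈ US n F, m * y * m⁻¹ ∈ US n F → psiU ψ₀ (m * y * m⁻¹) = psiU ψ₀ y) :
    iota m = m :=
  Cfsg.Agent.Helper80.DZ.mono_admissible ψ₀ hψ m hm hadm

/-- (GG-d) Gelfand's trick -/
theorem gelfand_trick {G W : Type*} [Group G] [Fintype G] [AddCommGroup W] [Module ℂ W]
    [FiniteDimensional ℂ W] (ρ : Representation ℂ G W) (hρ : ρ.IsIrreducible)
    (U : Subgroup G) (ψ : G → ℂ) (hψ1 : ψ 1 = 1)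
    (hψmul : ∀ a ∈ U, ∀ b ∈ U, ψ (a * b) = ψ a * ψ b)
    (ι : G → G) (hι : ∀ a b, ι (a * b) = ι b * ι a) (hιinv : Function.Involutive ι)
    (hιU : ∀ u ∈ U, ι u ∈ U) (hιψ : ∀ u ∈ U, ψ (ι u) = ψ u)
    (hcov : ∀ g : G, ∃ u ∈ U, ∃ m : G, ∃ u' ∈ U, g = u * m * u' ∧
      (ι m = m ∨ ∃ y ∈ U, m * y * m⁻¹ ∈ U ∧ ψ (m * y * m⁻¹) ≠ ψ y)) :
    Module.finrank ℂ (isoSub ρ U ψ) ≤ 1 :=
  Cfsg.Agent.Helper81.DZ.gelfand_trick ρ hρ U ψ hψ1 hψmul ι hι hιinv hιU hιψ hcov

/-- (GG) Gelfand–Graev: multiplicity one -/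
theorem gg_mult_le_one [Fintype F] (hn : 0 < n) (ψ₀ : AddChar F ℂ) (hψ : ∃ a : F, ψ₀ a ≠ 1)
    {W : Type*} [AddCommGroup W] [Module ℂ W] [FiniteDimensional ℂ W]
    (ρ : Representation ℂ (SLn n F) W) (hρ : ρ.IsIrreducible) :
    Module.finrank ℂ (isoSub ρ (US n F) (psiU ψ₀)) ≤ 1 := by
  classical
  have hpsi1 : psiU ψ₀ (1 : SLn n F) = 1 := by
    unfold psiU
    have : (∑ i : Fin n, if h : i.val + 1 < n then
        (1 : SLn n F).1 i ⟨i.val + 1, h⟩ else 0) = (0 : F) := by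
      apply Finset.sum_eq_zero
      intro i _
      split_ifs with h
      · rw [Matrix.SpecialLinearGroup.coe_one, Matrix.one_apply_ne]
        intro h2
        have := congrArg Fin.val h2
        simp at this
      · rfl
    rw [this, AddChar.map_zero_eq_one]
  refine gelfand_trick ρ hρ (US n F) (psiU ψ₀) hpsi1 (fun a ha b hb => psiU_mul ψ₀ a b ha hb)
    iota iota_mul iota_involutive iota_mem_US (fun u _ => psiU_iota ψ₀ u) ?_
  intro g
  obtain ⟨u, hu, m, hm, u', hu', hg⟩ := bruhat_SL g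
  refine ⟨u, hu, m, u', hu', hg, ?_⟩
  by_cases hadm : ∀ y ∈ US n F, m * y * m⁻¹ ∈ US n F → psiU ψ₀ (m * y * m⁻¹) = psiU ψ₀ y
  · exact Or.inl (mono_admissible ψ₀ hψ m hm hadm)
  · right
    push Not at hadm
    obtain ⟨y, hy, hy2, hy3⟩ := hadm
    exact ⟨y, hy, hy2, hy3⟩

/-- (R1) rank-one argument: the weight of the unique `U`-fixed line is invariant under the
adjacent transpositions -/
theorem weight_conj_invariant [Fintype F] {W : Type*} [AddCommGroup W] [Module ℂ W]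
    (ρ : Representation ℂ (SLn n F) W) (v : W) (hv : v ≠ 0)
    (hvU : ∀ u ∈ US n F, ρ u v = v)
    (hU : ∀ w : W, (∀ u ∈ US n F, ρ u w = w) → ∃ c : ℂ, w = c • v)
    (lam : SLn n F → ℂ) (hlam : ∀ t ∈ TD n F, ρ t v = lam t • v)
    (i j : Fin n) (hij : j.val = i.val + 1) (hne : i ≠ j) (t : SLn n F) (ht : t ∈ TD n F) :
    lam ((sd i j hne)⁻¹ * t * sd i j hne) = lam t :=
  Cfsg.Agent.Helper12.DZ.weight_conj_invariant ρ v hv hvU hU lam hlam i j hij hne t ht

/-- (W3) for `n ≥ 3` a character of the diagonal torus invariant under the adjacent transpositions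
is trivial -/
theorem torus_char_trivial (hn : 3 ≤ n) (lam : SLn n F → ℂ)
    (h1 : lam 1 = 1) (hmul : ∀ s ∈ TD n F, ∀ t ∈ TD n F, lam (s * t) = lam s * lam t)
    (hinv : ∀ (i j : Fin n) (hij : j.val = i.val + 1) (hne : i ≠ j), ∀ t ∈ TD n F,
      lam ((sd i j hne)⁻¹ * t * sd i j hne) = lam t)
    (t : SLn n F) (ht : t ∈ TD n F) : lam t = 1 :=
  Cfsg.Agent.Helper33.DZ.torus_char_trivial hn lam h1 hmul hinv t ht

/-- (W2) the case `n = 2` -/
theorem torus_char_trivial_two [Fintype F] {W : Type*} [AddCommGroup W] [Module ℂ W]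
    [FiniteDimensional ℂ W]
    (ρ : Representation ℂ (SLn 2 F) W) (hρ : ρ.IsIrreducible)
    (hdim : Module.finrank ℂ W = Fintype.card F) (v : W) (hv : v ≠ 0)
    (hvU : ∀ u ∈ US 2 F, ρ u v = v)
    (lam : SLn 2 F → ℂ) (hlam : ∀ t ∈ TD 2 F, ρ t v = lam t • v)
    (t : SLn 2 F) (ht : t ∈ TD 2 F) : lam t = 1 :=
  Cfsg.Agent.Helper14.DZ.torus_char_trivial_two ρ hρ hdim v hv hvU lam hlam t ht

/-- (BTU) structure of the Borel subgroup -/
theorem BS_eq_TD_mul_US (g : SLn n F) (hg : g ∈ BS n F) :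
    ∃ t ∈ TD n F, ∃ u ∈ US n F, g = t * u :=
  Cfsg.Agent.Helper65.DZ.BS_eq_TD_mul_US g hg

theorem US_le_BS : US n F ≤ BS n F :=
  Cfsg.Agent.Helper65.DZ.US_le_BS

theorem TD_le_BS : TD n F ≤ BS n F :=
  Cfsg.Agent.Helper65.DZ.TD_le_BS

theorem TD_normalizes_US (t : SLn n F) (ht : t ∈ TD n F) (u : SLn n F) (hu : u ∈ US n F) :
    t⁻¹ * u * t ∈ US n F :=
  Cfsg.Agent.Helper65.DZ.TD_normalizes_US t ht u hu

/-- (ST) an irreducible character occurring exactly once in the flag permutation character of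
`SL_n(F)` is trivial or the Steinberg character -/
theorem irr_eq_one_or_steinberg [Fintype F] (hn : 0 < n) (χ : SLn n F → ℂ)
    (hχ : IsIrrCharacter (SLn n F) χ) [Fintype (BS n F)]
    (h : ∑ b : BS n F, χ (b : SLn n F) = (Fintype.card (BS n F) : ℂ)) :
    χ = (fun _ => 1) ∨ χ = Cfsg.Agent.Helper42.Unip.unipotentSL n F (fun _ => 1) :=
  Cfsg.Agent.Helper45.DZ.irr_eq_one_or_steinberg hn χ hχ h

/-- (A) a `p`-regular element centralizing a nontrivial radical `p`-subgroup of `SL_n(F)` is central -/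
theorem central_of_centralizes_radical [Fintype F] (p : ℕ) [Fact p.Prime] [CharP F p]
    (D : Subgroup (SLn n F)) (hD : IsPGroup p D) (hD1 : D ≠ ⊥)
    (hrad : (Cfsg.pCore p (Subgroup.normalizer (D : Set (SLn n F)))).map
      (Subgroup.normalizer (D : Set (SLn n F))).subtype = D)
    (x : SLn n F) (hx : ¬ p ∣ orderOf x) (hxD : x ∈ Subgroup.centralizer (D : Set (SLn n F))) :
    x ∈ Subgroup.center (SLn n F) :=
  Cfsg.Agent.Helper57.DZA.central_of_centralizes_radical p D hD hD1 hrad x hx hxD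

end Cfsg.Agent.Helper42.DZ
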