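import Mathlib
import Cfsg.Agent.Helper42.UnipH

/-!
# The degree of the Steinberg character of `GL_n(q)` (helper42)

`steinberg_one`: `unipotentCharacterGL n F (fun _ => 1) 1 = q ^ (n (n-1) / 2)`, from the degree
formula S2424.
-/

set_option autoImplicit false
set_option linter.unusedSectionVars false

namespace Cfsg.Agent.Helper42.Unip

open Cfsg Finset

section arith

variable (q : ℕ)

/-- the `q`-integer as a complex number -/
noncomputable def Qc (a : ℕ) : ℂ := ((∑ l ∈ Finset.range a, q ^ l : ℕ) : ℂ)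

theorem Qc_succ_ne_zero (a : ℕ) : Qc q (a + 1) ≠ 0 := by
  unfold Qc
  have : 0 < ∑ l ∈ Finset.range (a + 1), q ^ l := by
    rw [Finset.sum_range_succ']
    simp
  exact_mod_cast this.ne'

theorem Qc_diff (i j : ℕ) (hij : i ≤ j) :
    Qc q (j + 1) - Qc q (i + 1) = (q : ℂ) ^ (i + 1) * Qc q (j - i) := by
  unfold Qc
  have h : j + 1 = (i + 1) + (j - i) := by omega
  rw [h, Finset.sum_range_add]
  push_cast
  rw [add_sub_cancel_left, Finset.mul_sum]
  refine Finset.sum_congr rfl fun l _ => ?_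
  rw [pow_add]

theorem prod_Qc_new (n : ℕ) :
    ∏ i ∈ Finset.range n, (Qc q (n + 1) - Qc q (i + 1)) =
      (q : ℂ) ^ (∑ i ∈ Finset.range n, (i + 1)) * ∏ k ∈ Finset.range n, Qc q (k + 1) := by
  have h1 : ∀ i ∈ Finset.range n, Qc q (n + 1) - Qc q (i + 1) = (q : ℂ) ^ (i + 1) * Qc q (n - i) :=
    fun i hi => Qc_diff q i n (Finset.mem_range.1 hi).le
  rw [Finset.prod_congr rfl h1, Finset.prod_mul_distrib, Finset.prod_pow_eq_pow_sum]
  congr 1
  rw [← Finset.prod_range_reflect (fun k => Qc q (k + 1)) n]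
  refine Finset.prod_congr rfl fun i hi => ?_
  have := Finset.mem_range.1 hi
  congr 1
  omega

theorem pairs_succ {M : Type*} [CommMonoid M] (h : ℕ → ℕ → M) (n : ℕ) :
    ∏ i ∈ Finset.range (n + 1), ∏ j ∈ (Finset.range (n + 1)).filter (fun j => i < j), h i j =
      (∏ i ∈ Finset.range n, ∏ j ∈ (Finset.range n).filter (fun j => i < j), h i j) *
        ∏ i ∈ Finset.range n, h i n := by
  rw [Finset.prod_range_succ]
  have hlast : (Finset.range (n + 1)).filter (fun j => n < j) = ∅ := by
    ext j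
    simp only [Finset.mem_filter, Finset.mem_range, Finset.notMem_empty, iff_false, not_and]
    omega
  rw [hlast, Finset.prod_empty, mul_one, ← Finset.prod_mul_distrib]
  refine Finset.prod_congr rfl fun i hi => ?_
  have hi' := Finset.mem_range.1 hi
  have : (Finset.range (n + 1)).filter (fun j => i < j) =
      insert n ((Finset.range n).filter (fun j => i < j)) := by
    ext j
    simp only [Finset.mem_filter, Finset.mem_range, Finset.mem_insert]
    omega
  rw [this, Finset.prod_insert (by simp), mul_comm]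

/-- the main product identity -/
theorem main_prod_identity (n : ℕ) :
    (∏ j ∈ Finset.range n, Qc q (j + 1)) *
      ∏ i ∈ Finset.range n, ∏ j ∈ (Finset.range n).filter (fun j => i < j),
        (Qc q (1 + j) - Qc q (1 + i)) =
    (q : ℂ) ^ ((n + 1).choose 3) *
      ∏ i ∈ Finset.range n, ∏ j ∈ Finset.range (1 + i), Qc q (j + 1) := by
  induction n with
  | zero => simp [Nat.choose]
  | succ n ih =>
    rw [pairs_succ (fun i j => Qc q (1 + j) - Qc q (1 + i)) n]
    have h1 : ∏ i ∈ Finset.range n, (Qc q (1 + n) - Qc q (1 + i)) =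
        (q : ℂ) ^ (∑ i ∈ Finset.range n, (i + 1)) * ∏ k ∈ Finset.range n, Qc q (k + 1) := by
      rw [← prod_Qc_new]
      refine Finset.prod_congr rfl fun i _ => ?_
      rw [add_comm 1 n, add_comm 1 i]
    rw [h1, Finset.prod_range_succ (fun i => ∏ j ∈ Finset.range (1 + i), Qc q (j + 1)) n]
    have hT : ∑ i ∈ Finset.range n, (i + 1) = (n + 1).choose 2 := by
      have h2 := Finset.sum_range_succ' (fun i => i) n
      simp only [add_zero] at h2
      rw [← h2, Finset.sum_range_id, Nat.choose_two_right]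
    have hC : (n + 1 + 1).choose 3 = (n + 1).choose 2 + (n + 1).choose 3 := by
      rw [Nat.choose_succ_succ (n + 1) 2]
    rw [hT, hC, pow_add, add_comm 1 n]
    linear_combination ((∏ j ∈ Finset.range (n + 1), Qc q (j + 1)) *
      (q : ℂ) ^ ((n + 1).choose 2)) * ih

theorem choose_three (n : ℕ) : n * (n - 1) * (n - 2) / 6 = n.choose 3 := by
  have h := Nat.descFactorial_eq_factorial_mul_choose n 3
  have h2 : n.descFactorial 3 = (n - 2) * ((n - 1) * n) := by
    simp [Nat.descFactorial]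
  rw [h2] at h
  apply Nat.div_eq_of_eq_mul_right (by norm_num)
  have h3 : (3 : ℕ).factorial = 6 := rfl
  rw [h3] at h
  rw [← h]
  ring

theorem fin_pairs (g : ℕ → ℕ → ℂ) (n : ℕ) :
    ∏ i : Fin n, ∏ j ∈ Finset.univ.filter (fun j : Fin n => i < j), g i.val j.val =
      ∏ i ∈ Finset.range n, ∏ j ∈ (Finset.range n).filter (fun j => i < j), g i j := by
  rw [← Fin.prod_univ_eq_prod_range
    (fun i => ∏ j ∈ (Finset.range n).filter (fun j => i < j), g i j) n]
  refine Finset.prod_congr rfl fun i _ => ?_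
  rw [Finset.prod_filter, Finset.prod_filter,
    ← Fin.prod_univ_eq_prod_range (fun j => if i.val < j then g i.val j else 1) n]
  rfl

end arith

section degree

open scoped MatrixGroups

variable {F : Type*} [Field F] [Fintype F]

/-- the degree of the Steinberg character -/
theorem steinberg_one (n : ℕ) :
    unipotentCharacterGL n F (fun _ => 1) 1 = (Fintype.card F : ℂ) ^ (n * (n - 1) / 2) := by
  set q := Fintype.card F with hq
  have key := Cfsg.Agent.S2424.result (F := F) (q := q) rfl (fun _ : Fin n => 1) monotone_const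
    (by simp)
  have hL : ∏ i : Fin n, ∏ j ∈ Finset.range (1 + i.val),
      ((∑ l ∈ Finset.range (j + 1), q ^ l : ℕ) : ℂ) =
      ∏ i ∈ Finset.range n, ∏ j ∈ Finset.range (1 + i), Qc q (j + 1) :=
    Fin.prod_univ_eq_prod_range (fun i => ∏ j ∈ Finset.range (1 + i), Qc q (j + 1)) n
  have hR : ∏ i : Fin n, ∏ j ∈ Finset.univ.filter (fun j : Fin n => i < j),
      (((∑ l ∈ Finset.range (1 + j.val), q ^ l : ℕ) : ℂ) -
        ((∑ l ∈ Finset.range (1 + i.val), q ^ l : ℕ) : ℂ)) =
      ∏ i ∈ Finset.range n, ∏ j ∈ (Finset.range n).filter (fun j => i < j),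
        (Qc q (1 + j) - Qc q (1 + i)) :=
    fin_pairs (fun i j => Qc q (1 + j) - Qc q (1 + i)) n
  have hQ : ∏ j ∈ Finset.range n, ((∑ l ∈ Finset.range (j + 1), q ^ l : ℕ) : ℂ) =
      ∏ j ∈ Finset.range n, Qc q (j + 1) := rfl
  rw [hL, hR, hQ, main_prod_identity, choose_three] at key
  have hC : (n + 1).choose 3 = n.choose 2 + n.choose 3 := Nat.choose_succ_succ n 2
  rw [hC, pow_add, Nat.choose_two_right] at key
  have hq0 : (q : ℂ) ≠ 0 := by
    have : 0 < q := Fintype.card_pos
    exact_mod_cast this.ne'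
  have hA : ∏ i ∈ Finset.range n, ∏ j ∈ Finset.range (1 + i), Qc q (j + 1) ≠ 0 :=
    Finset.prod_ne_zero_iff.2 fun i _ => Finset.prod_ne_zero_iff.2 fun j _ => Qc_succ_ne_zero q j
  have hc : (q : ℂ) ^ n.choose 3 ≠ 0 := pow_ne_zero _ hq0
  have := mul_right_cancel₀ hA (by linear_combination key :
    unipotentCharacterGL n F (fun _ => 1) 1 * (q : ℂ) ^ n.choose 3 *
      (∏ i ∈ Finset.range n, ∏ j ∈ Finset.range (1 + i), Qc q (j + 1)) =
    (q : ℂ) ^ (n * (n - 1) / 2) * (q : ℂ) ^ n.choose 3 *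
      ∏ i ∈ Finset.range n, ∏ j ∈ Finset.range (1 + i), Qc q (j + 1))
  exact mul_right_cancel₀ hc this

end degree

end Cfsg.Agent.Helper42.Unip
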