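import Mathlib
import Cfsg.Agent.Helper42.DZPieces
import Cfsg.Agent.Helper42.UnipI
import Cfsg.Agent.Helper74.DefectZero
import Cfsg.Agent.Helper79.DefectZeroBlock

set_option autoImplicit false
set_option linter.unusedSectionVars false

namespace Cfsg.Agent.Helper42.DZ

open Matrix Cfsg

variable {n : ℕ} {F : Type*} [Field F] [Fintype F]

/-- a nontrivial element of a `p`-group has order divisible by `p` -/
theorem dvd_orderOf_of_mem_pgroup {G : Type*} [Group G] {p : ℕ} [Fact p.Prime] {H : Subgroup G}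
    (hH : IsPGroup p H) {u : G} (hu : u ∈ H) (h1 : u ≠ 1) : p ∣ orderOf u := by
  obtain ⟨k, hk⟩ := hH ⟨u, hu⟩
  have hk' : u ^ p ^ k = 1 := by
    have := congrArg Subtype.val hk
    simpa using this
  have hdvd : orderOf u ∣ p ^ k := orderOf_dvd_of_pow_eq_one hk'
  obtain ⟨j, -, hj⟩ := (Nat.dvd_prime_pow (Fact.out : p.Prime)).mp hdvd
  rw [hj]
  rcases Nat.eq_zero_or_pos j with h0 | h0
  · exfalso
    rw [h0, pow_zero, orderOf_eq_one_iff] at hj
    exact h1 hj
  · exact dvd_pow_self p h0.ne'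

theorem isPGroup_US (p : ℕ) [hp : Fact p.Prime] [CharP F p] (hn : 1 ≤ n) : IsPGroup p (US n F) := by
  obtain ⟨f, hf0, hf⟩ := FiniteField.card F p
  have hc := Cfsg.Agent.Helper14.AutPSL.card_UT_eq (F := F) (p := p) (f := f) hf f.2 n hn
  exact IsPGroup.of_card hc


theorem card_US_ge_two (hn : 2 ≤ n) : 2 ≤ Nat.card (US n F) := by
  rw [Cfsg.Agent.Helper14.AutPSL.card_UT]
  have hq : 2 ≤ Fintype.card F := Fintype.one_lt_card
  have hs : 1 ≤ ∑ i : Fin n, (i : ℕ) := by
    have : ((⟨1, by omega⟩ : Fin n) : ℕ) ≤ ∑ i : Fin n, (i : ℕ) :=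
      Finset.single_le_sum (f := fun i : Fin n => (i : ℕ)) (fun _ _ => Nat.zero_le _)
        (Finset.mem_univ _)
    simpa using this
  calc 2 ≤ Fintype.card F ^ 1 := by rw [pow_one]; exact hq
    _ ≤ Fintype.card F ^ (∑ i : Fin n, (i : ℕ)) := Nat.pow_le_pow_right (by omega) hs

/-- the key theorem: an irreducible character of `p`-defect zero of `SL_n(F)` is the Steinberg
character -/
theorem defect_zero_eq_steinberg (p : ℕ) [hp : Fact p.Prime] [CharP F p] (hn : 2 ≤ n)
    (χ : IrrCharacter (SLn n F))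
    (hdef : (charDegree (χ : SLn n F → ℂ)).factorization p =
      (Nat.card (SLn n F)).factorization p) :
    (χ : SLn n F → ℂ) = Cfsg.Agent.Helper42.Unip.unipotentSL n F (fun _ => 1) := by
  classical
  obtain ⟨d, ρ, hρ, hχ⟩ := χ.2
  have hvan : ∀ y : SLn n F, p ∣ orderOf y → (χ : SLn n F → ℂ) y = 0 := fun y hy =>
    Cfsg.Agent.Helper74.irr_eq_zero_of_defect_zero χ hp.out
      (by rw [← hdef]; exact Nat.ordProj_dvd _ _) y hy
  have hUp := isPGroup_US (F := F) p (by omega : 1 ≤ n)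
  have hd0 : (d : ℂ) ≠ 0 := Cfsg.Agent.Helper74.finrank_pos_of_irr hρ
  have hχ1 : ρ.character 1 = d := by
    rw [Representation.char_one, Module.finrank_fin_fun]
  -- the sum over `U`
  have hsum : ∀ μ : SLn n F → ℂ, μ 1 = 1 →
      ∑ u : US n F, ρ.character (u : SLn n F) * (μ (u : SLn n F))⁻¹ = d := by
    intro μ hμ
    rw [Finset.sum_eq_single (1 : US n F)]
    · rw [Subgroup.coe_one, hμ, inv_one, mul_one, hχ1]
    · intro u _ hu
      have hu1 : (u : SLn n F) ≠ 1 := fun h => hu (Subtype.ext h)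
      rw [hχ, hvan _ (dvd_orderOf_of_mem_pgroup hUp u.2 hu1), zero_mul]
    · intro h; exact absurd (Finset.mem_univ _) h
  obtain ⟨ψ₀, hψ₀⟩ := (AddChar.exists_apply_ne_zero (α := F) (a := 1)).mpr one_ne_zero
  have hcardU : (Fintype.card (US n F) : ℂ) ≠ 0 := by
    have : 0 < Fintype.card (US n F) := Fintype.card_pos
    exact_mod_cast this.ne'
  have hpsi1 : psiU ψ₀ (1 : SLn n F) = 1 := by
    unfold psiU
    have : (∑ i : Fin n, if h : i.val + 1 < n then
        (1 : SLn n F).1 i ⟨i.val + 1, h⟩ else 0) = (0 : F) := by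
      apply Finset.sum_eq_zero
      intro i _
      split_ifs with h
      · rw [Matrix.SpecialLinearGroup.coe_one, Matrix.one_apply_ne]
        intro h2
        have := congrArg Fin.val h2
        simp at this
      · rfl
    rw [this, AddChar.map_zero_eq_one]
  have h1 := finrank_isoSub ρ (US n F) (psiU ψ₀) hpsi1
    (fun a ha b hb => psiU_mul ψ₀ a b ha hb)
  have h2 := finrank_isoSub ρ (US n F) (fun _ => (1 : ℂ)) rfl (fun _ _ _ _ => (one_mul 1).symm)
  rw [hsum _ hpsi1] at h1
  rw [hsum (fun _ => (1 : ℂ)) rfl] at h2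
  have hgg := gg_mult_le_one (by omega : 0 < n) ψ₀ ⟨1, hψ₀⟩ ρ hρ
  -- so both dimensions are one and `d = |U|`
  have hm0 : Module.finrank ℂ (isoSub ρ (US n F) (psiU ψ₀)) ≠ 0 := by
    intro h0
    rw [h0, Nat.cast_zero] at h1
    exact (mul_ne_zero (inv_ne_zero hcardU) hd0) h1.symm
  have hm1 : Module.finrank ℂ (isoSub ρ (US n F) (psiU ψ₀)) = 1 := by omega
  rw [hm1, Nat.cast_one] at h1
  have hU1 : Module.finrank ℂ (isoSub ρ (US n F) (fun _ => (1 : ℂ))) = 1 := by
    have : (Module.finrank ℂ (isoSub ρ (US n F) (fun _ => (1 : ℂ))) : ℂ) = 1 := by rw [h2, ← h1]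
    exact_mod_cast this
  have hdU : (d : ℂ) = Fintype.card (US n F) := by
    field_simp at h1
    exact h1.symm
  have hdU' : d = Fintype.card (US n F) := by exact_mod_cast hdU
  -- the fixed vector
  obtain ⟨v0, hv0, hspan0⟩ := finrank_eq_one_iff'.mp hU1
  set v : Fin d → ℂ := (v0 : Fin d → ℂ) with hvdef
  have hv : v ≠ 0 := fun h => hv0 (Subtype.ext h)
  have hvU : ∀ u ∈ US n F, ρ u v = v := by
    intro u hu
    have := v0.2 u hu
    simpa using this
  have hU : ∀ w : Fin d → ℂ, (∀ u ∈ US n F, ρ u w = w) → ∃ c : ℂ, w = c • v := by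
    intro w hw
    have hwmem : w ∈ isoSub ρ (US n F) (fun _ => (1 : ℂ)) := by
      intro u hu
      rw [hw u hu, one_smul]
    obtain ⟨c, hc⟩ := hspan0 ⟨w, hwmem⟩
    refine ⟨c, ?_⟩
    have := congrArg Subtype.val hc
    simpa using this.symm
  -- the weight
  have hTv : ∀ t : SLn n F, ∃ c : ℂ, t ∈ TD n F → ρ t v = c • v := by
    intro t
    by_cases ht : t ∈ TD n F
    · have : ∀ u ∈ US n F, ρ u (ρ t v) = ρ t v := by
        intro u hu
        have h3 : u * t = t * (t⁻¹ * u * t) := by group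
        rw [← Module.End.mul_apply, ← map_mul, h3, map_mul, Module.End.mul_apply,
          hvU _ (TD_normalizes_US t ht u hu)]
      obtain ⟨c, hc⟩ := hU _ this
      exact ⟨c, fun _ => hc⟩
    · exact ⟨1, fun h => absurd h ht⟩
  choose lam hlam using hTv
  have hlam1 : ∀ t ∈ TD n F, lam t = 1 := by
    have hlam_one : lam 1 = 1 := by
      have := hlam 1 (TD n F).one_mem
      rw [map_one, Module.End.one_apply] at this
      have h4 : (1 : ℂ) • v = lam 1 • v := by rw [one_smul]; exact this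
      exact (smul_left_injective ℂ hv h4).symm
    have hlam_mul : ∀ s ∈ TD n F, ∀ t ∈ TD n F, lam (s * t) = lam s * lam t := by
      intro s hs t ht
      have h4 := hlam (s * t) ((TD n F).mul_mem hs ht)
      rw [map_mul, Module.End.mul_apply, hlam t ht, map_smul, hlam s hs, smul_smul] at h4
      have h5 : (lam t * lam s) • v = lam (s * t) • v := h4
      rw [← smul_left_injective ℂ hv h5, mul_comm]
    have hinv : ∀ (i j : Fin n) (hij : j.val = i.val + 1) (hne : i ≠ j), ∀ t ∈ TD n F,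
        lam ((sd i j hne)⁻¹ * t * sd i j hne) = lam t := fun i j hij hne t ht =>
      weight_conj_invariant ρ v hv hvU hU lam hlam i j hij hne t ht
    rcases Nat.lt_or_ge n 3 with h3 | h3
    · have hn2 : n = 2 := by omega
      subst hn2
      intro t ht
      refine torus_char_trivial_two ρ hρ ?_ v hv hvU lam hlam t ht
      rw [Module.finrank_fin_fun, hdU', ← Nat.card_eq_fintype_card,
        Cfsg.Agent.Helper14.AutPSL.card_UT]
      simp [Fin.sum_univ_two]
    · exact fun t ht => torus_char_trivial h3 lam hlam_one hlam_mul hinv t ht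
  -- `v` is fixed by the Borel subgroup
  have hvB : ∀ b ∈ BS n F, ρ b v = v := by
    intro b hb
    obtain ⟨t, ht, u, hu, rfl⟩ := BS_eq_TD_mul_US b hb
    rw [map_mul, Module.End.mul_apply, hvU u hu, hlam t ht, hlam1 t ht, one_smul]
  have hB1 : Module.finrank ℂ (isoSub ρ (BS n F) (fun _ => (1 : ℂ))) = 1 := by
    have hle : isoSub ρ (BS n F) (fun _ => (1 : ℂ)) ≤ isoSub ρ (US n F) (fun _ => (1 : ℂ)) :=
      fun w hw u hu => hw u (US_le_BS hu)
    have h5 := Submodule.finrank_mono hle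
    have h6 : 0 < Module.finrank ℂ (isoSub ρ (BS n F) (fun _ => (1 : ℂ))) := by
      rw [Module.finrank_pos_iff_exists_ne_zero]
      refine ⟨⟨v, fun b hb => by rw [hvB b hb, one_smul]⟩, fun h => hv ?_⟩
      exact congrArg Subtype.val h
    omega
  have h7 := finrank_isoSub ρ (BS n F) (fun _ => (1 : ℂ)) rfl (fun _ _ _ _ => (one_mul 1).symm)
  rw [hB1, Nat.cast_one] at h7
  have hcardB : (Fintype.card (BS n F) : ℂ) ≠ 0 := by
    have : 0 < Fintype.card (BS n F) := Fintype.card_pos
    exact_mod_cast this.ne'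
  have h8 : ∑ b : BS n F, (χ : SLn n F → ℂ) (b : SLn n F) = (Fintype.card (BS n F) : ℂ) := by
    have h9 : ∑ b : BS n F, ρ.character (b : SLn n F) * ((1 : ℂ))⁻¹ =
        ∑ b : BS n F, (χ : SLn n F → ℂ) (b : SLn n F) := by
      refine Finset.sum_congr rfl fun b _ => ?_
      rw [inv_one, mul_one, hχ]
    rw [h9] at h7
    field_simp at h7
    exact h7.symm
  rcases irr_eq_one_or_steinberg (by omega : 0 < n) (χ : SLn n F → ℂ) χ.2 h8 with h | h
  · exfalso
    have h10 : (χ : SLn n F → ℂ) 1 = 1 := by rw [h]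
    rw [← hχ, hχ1] at h10
    have h11 : d = 1 := by exact_mod_cast h10
    have := card_US_ge_two (F := F) hn
    rw [Nat.card_eq_fintype_card] at this
    omega
  · exact h

end Cfsg.Agent.Helper42.DZ
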