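import Mathlib
import Cfsg.Agent.Helper42.DZMain
import Cfsg.Agent.Helper16.Defect
import Cfsg.Agent.Helper16.DefectClasses
import Cfsg.Agent.S0908
import Cfsg.Agent.S0955
import Cfsg.Agent.S0956

set_option autoImplicit false
set_option linter.unusedSectionVars false

/-! block-level assembly for S4538 -/

namespace Cfsg.Agent.Helper42.DZ

open Matrix Cfsg

variable {n : ℕ} {F : Type*} [Field F] [Fintype F]

/-- every block of `SL_n(F)` in the defining characteristic has defect zero or full defect -/
theorem blockDefect_zero_or_full (p : ℕ) [hp : Fact p.Prime] [CharP F p]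
    (M : Ideal AlgInt) (hM : IsPModular p M) (B : Set (IrrCharacter (SLn n F))) (hB : IsPBlock M B) :
    blockDefect p B = 0 ∨ blockDefect p B = (Nat.card (SLn n F)).factorization p := by
  classical
  have hMp : M.IsPrime := Cfsg.Agent.Helper16.IsPModular.isPrime hM
  obtain ⟨χ₀, rfl⟩ := hB
  have hB : IsPBlock M (blockOf M (χ₀ : SLn n F → ℂ)) := ⟨χ₀, rfl⟩
  obtain ⟨D, hD⟩ := Cfsg.Agent.Helper16.exists_defectGroup (M := M) p χ₀
  have hcard := Cfsg.Agent.S0908.result p M hM _ hB D hD
  have hDp : IsPGroup p D := IsPGroup.of_card hcard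
  by_cases hD1 : D = ⊥
  · left
    rw [hD1, Subgroup.card_bot] at hcard
    by_contra h0
    have : 1 < p ^ blockDefect p (blockOf M (χ₀ : SLn n F → ℂ)) :=
      Nat.one_lt_pow h0 hp.out.one_lt
    omega
  · right
    have hrad := Cfsg.Agent.S0955.result p M hM _ hB D hD
    obtain ⟨P, hDP⟩ := hDp.exists_le_sylow
    obtain ⟨x, hx, ⟨S, hS⟩, -⟩ := Cfsg.Agent.S0956.result p M hM _ hB D hD P hDP
    have hxD : x ∈ Subgroup.centralizer (D : Set (SLn n F)) := by
      rw [Subgroup.mem_centralizer_iff]
      intro d hd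
      rw [← hS] at hd
      obtain ⟨c, -, rfl⟩ := hd
      have := c.2
      rw [Subgroup.mem_centralizer_iff] at this
      exact (this x (Set.mem_singleton x)).symm
    have hxc := central_of_centralizes_radical p D hDp hD1 hrad x hx hxD
    have htop : Subgroup.centralizer ({x} : Set (SLn n F)) = ⊤ := by
      rw [eq_top_iff]
      intro g _
      rw [Subgroup.mem_centralizer_iff]
      intro y hy
      rw [Set.mem_singleton_iff] at hy
      subst hy
      exact (Subgroup.mem_center_iff.mp hxc g).symm
    have hScard : Nat.card (S : Subgroup (Subgroup.centralizer ({x} : Set (SLn n F)))) =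
        p ^ (Nat.card (Subgroup.centralizer ({x} : Set (SLn n F)))).factorization p :=
      S.card_eq_multiplicity
    have hDS : Nat.card D = Nat.card (S : Subgroup (Subgroup.centralizer ({x} : Set (SLn n F)))) := by
      rw [← hS]
      exact Nat.card_congr
        ((S : Subgroup (Subgroup.centralizer ({x} : Set (SLn n F)))).equivMapOfInjective _
          (Subgroup.subtype_injective _)).symm.toEquiv
    have hC : Nat.card (Subgroup.centralizer ({x} : Set (SLn n F))) = Nat.card (SLn n F) := by
      rw [htop, Subgroup.card_top]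
    rw [hDS, hScard, hC] at hcard
    exact (Nat.pow_right_injective hp.out.two_le hcard).symm


/-- the Steinberg character of `SL_n(F)` as an irreducible character -/
noncomputable def stSL (n : ℕ) (F : Type*) [Field F] [Fintype F] (hn : 0 < n) : IrrCharacter (SLn n F) :=
  ⟨Cfsg.Agent.Helper42.Unip.unipotentSL n F (fun _ => 1),
    Cfsg.Agent.Helper42.Unip.unipotent_SL_isIrr hn (fun _ => 1) monotone_const (by simp)⟩

theorem stSL_one (hn : 0 < n) :
    (stSL n F hn : SLn n F → ℂ) 1 = (Fintype.card F : ℂ) ^ (n * (n - 1) / 2) := by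
  show Cfsg.Agent.Helper42.Unip.unipotentSL n F (fun _ => 1) 1 = _
  unfold Cfsg.Agent.Helper42.Unip.unipotentSL
  rw [map_one]
  exact Cfsg.Agent.Helper42.Unip.steinberg_one n

theorem stSL_defect_zero (p : ℕ) [hp : Fact p.Prime] [CharP F p] (hn : 0 < n) :
    (charDegree (stSL n F hn : SLn n F → ℂ)).factorization p =
      (Nat.card (SLn n F)).factorization p := by
  obtain ⟨f, hf⟩ := FiniteField.card F p
  have hdeg : charDegree (stSL n F hn : SLn n F → ℂ) = Fintype.card F ^ (n * (n - 1) / 2) := by
    unfold charDegree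
    rw [stSL_one hn]
    have : ((Fintype.card F : ℂ) ^ (n * (n - 1) / 2)).re =
        ((Fintype.card F ^ (n * (n - 1) / 2) : ℕ) : ℝ) := by
      rw [← Complex.natCast_re]
      push_cast
      rfl
    rw [this, Nat.floor_natCast]
  rw [hdeg, Cfsg.Agent.Helper14.AutPSL.factorization_card_SL (F := F) (p := p) (f := f) hf.2 f.2 n hn,
    hf.2, ← pow_mul, hp.out.factorization_pow, Finsupp.single_eq_same,
    Fin.sum_univ_eq_sum_range (fun i => i) n, Finset.sum_range_id]

/-- exactly one block of defect zero -/
theorem card_defect_zero_blocks (p : ℕ) [hp : Fact p.Prime] [CharP F p] (hn : 2 ≤ n)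
    (M : Ideal AlgInt) (hM : IsPModular p M) :
    Nat.card {B : Set (IrrCharacter (SLn n F)) // IsPBlock M B ∧ blockDefect p B = 0} = 1 := by
  classical
  have hMp : M.IsPrime := Cfsg.Agent.Helper16.IsPModular.isPrime hM
  have hn0 : 0 < n := by omega
  set St := stSL n F hn0 with hSt
  have hStdef := stSL_defect_zero (F := F) p hn0
  have hblock : blockOf M (St : SLn n F → ℂ) = {St} :=
    Cfsg.Agent.Helper79.blockOf_eq_singleton_of_defect_zero hM St hStdef
  rw [Nat.card_eq_one_iff_unique]
  constructor
  · constructor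
    -- uniqueness
    have key : ∀ B : {B : Set (IrrCharacter (SLn n F)) // IsPBlock M B ∧ blockDefect p B = 0},
        B.1 = {St} := by
      rintro ⟨B, ⟨χ₀, rfl⟩, hdef⟩
      show blockOf M (χ₀ : SLn n F → ℂ) = {St}
      have hmem : χ₀ ∈ blockOf M (χ₀ : SLn n F → ℂ) := Cfsg.Agent.Helper16.sameBlock_refl _
      have hle := Cfsg.Agent.Helper16.factorization_charDegree_le p χ₀
      have hinf : sInf ((fun χ : IrrCharacter (SLn n F) =>
          (charDegree (χ : SLn n F → ℂ)).factorization p) '' blockOf M (χ₀ : SLn n F → ℂ)) ≤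
          (charDegree (χ₀ : SLn n F → ℂ)).factorization p :=
        Nat.sInf_le ⟨χ₀, hmem, rfl⟩
      unfold blockDefect at hdef
      have hχ₀ : (charDegree (χ₀ : SLn n F → ℂ)).factorization p =
          (Nat.card (SLn n F)).factorization p := by omega
      have h1 := defect_zero_eq_steinberg p hn χ₀ hχ₀
      have h2 : χ₀ = St := Subtype.ext h1
      rw [h2, hblock]
    intro B B'
    exact Subtype.ext ((key B).trans (key B').symm)
  · refine ⟨⟨{St}, ⟨St, hblock.symm⟩, ?_⟩⟩
    unfold blockDefect
    rw [Set.image_singleton, csInf_singleton, hStdef, Nat.sub_self]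

end Cfsg.Agent.Helper42.DZ
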