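import Mathlib
import Cfsg.Agent.Helper42.DZBlocks
import Cfsg.Agent.Helper78.FirstMain
import Cfsg.Agent.Helper79.CharBasic
import Cfsg.Agent.S0953
import Cfsg.Agent.Helper50.DZFDZ1
import Cfsg.Agent.Helper48.DZFDC
import Cfsg.Agent.Helper48.DZFDZ2

set_option autoImplicit false
set_option linter.unusedSectionVars false

/-! the number of `p`-blocks of `SL_n(F)` in the defining characteristic (for S2440) -/

namespace Cfsg.Agent.Helper42.DZ

open Matrix Cfsg

variable {n : ℕ} {F : Type*} [Field F] [Fintype F]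

/-- (FD-Z1) a `p`-regular element centralizing the unitriangular group is central -/
theorem central_of_centralizes_US (p : ℕ) [hp : Fact p.Prime] [CharP F p] (hn : 2 ≤ n)
    (x : SLn n F) (hx : ¬ p ∣ orderOf x)
    (hxU : x ∈ Subgroup.centralizer ((US n F : Subgroup (SLn n F)) : Set (SLn n F))) :
    x ∈ Subgroup.center (SLn n F) :=
  Cfsg.Agent.Helper50.DZ.central_of_centralizes_US p hn x hx hxU

/-- (FD-Z2) central elements of `SL_n(F)` are `p`-regular -/
theorem not_dvd_orderOf_of_mem_center (p : ℕ) [hp : Fact p.Prime] [CharP F p] (z : SLn n F)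
    (hz : z ∈ Subgroup.center (SLn n F)) : ¬ p ∣ orderOf z :=
  Cfsg.Agent.Helper48.DZ.not_dvd_orderOf_of_mem_center p z hz

/-- (FD-Z) the classes of `N_G(U)` consisting of `p`-regular elements centralizing `U` correspond to
the centre of `SL_n(F)` -/
theorem card_classes_centralizing_US (p : ℕ) [hp : Fact p.Prime] [CharP F p] (hn : 2 ≤ n)
    (P : Sylow p (SLn n F)) (hP : (P : Subgroup (SLn n F)) = US n F) :
    Nat.card {C : ConjClasses (Subgroup.normalizer ((P : Subgroup (SLn n F)) : Set (SLn n F))) //
      ∀ m : Subgroup.normalizer ((P : Subgroup (SLn n F)) : Set (SLn n F)), ConjClasses.mk m = C →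
        ¬ p ∣ orderOf m ∧ (m : SLn n F) ∈
          Subgroup.centralizer ((P : Subgroup (SLn n F)) : Set (SLn n F))} =
      Nat.card (Subgroup.center (SLn n F)) := by
  classical
  set N := Subgroup.normalizer ((P : Subgroup (SLn n F)) : Set (SLn n F)) with hN
  have hZN : Subgroup.center (SLn n F) ≤ N := Subgroup.center_le_normalizer _
  -- a conjugate (in `N`) of a central element is that element
  have hconj : ∀ (z : SLn n F) (hz : z ∈ Subgroup.center (SLn n F)) (m : N),
      ConjClasses.mk m = ConjClasses.mk (⟨z, hZN hz⟩ : N) → (m : SLn n F) = z := by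
    intro z hz m hm
    rw [ConjClasses.mk_eq_mk_iff_isConj, isConj_iff] at hm
    obtain ⟨c, hc⟩ := hm
    have h1 : (c : SLn n F) * (m : SLn n F) * (c : SLn n F)⁻¹ = z := by
      have := congrArg (Subtype.val) hc
      simpa using this
    have h2 : (m : SLn n F) = (c : SLn n F)⁻¹ * z * (c : SLn n F) := by
      rw [← h1]; group
    rw [h2, (Subgroup.mem_center_iff.mp hz) ((c : SLn n F)⁻¹), inv_mul_cancel_right]
  let f : Subgroup.center (SLn n F) → {C : ConjClasses N //
      ∀ m : N, ConjClasses.mk m = C → ¬ p ∣ orderOf m ∧ (m : SLn n F) ∈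
          Subgroup.centralizer ((P : Subgroup (SLn n F)) : Set (SLn n F))} := fun z =>
    ⟨ConjClasses.mk (⟨z.1, hZN z.2⟩ : N), by
      intro m hm
      have hmz : (m : SLn n F) = z.1 := hconj z.1 z.2 m hm
      refine ⟨?_, ?_⟩
      · rw [← Subgroup.orderOf_coe, hmz]
        exact not_dvd_orderOf_of_mem_center p z.1 z.2
      · rw [hmz]
        exact Subgroup.center_le_centralizer _ z.2⟩
  have hf : Function.Bijective f := by
    constructor
    · intro z z' hzz
      have h1 : ConjClasses.mk (⟨z.1, hZN z.2⟩ : N) = ConjClasses.mk (⟨z'.1, hZN z'.2⟩ : N) :=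
        congrArg Subtype.val hzz
      have := hconj z'.1 z'.2 ⟨z.1, hZN z.2⟩ h1
      exact Subtype.ext this
    · rintro ⟨C, hC⟩
      obtain ⟨m, rfl⟩ := ConjClasses.mk_surjective C
      obtain ⟨hm1, hm2⟩ := hC m rfl
      have hmc : (m : SLn n F) ∈ Subgroup.center (SLn n F) := by
        apply central_of_centralizes_US p hn
        · rw [Subgroup.orderOf_coe]; exact hm1
        · rw [← hP]; exact hm2
      refine ⟨⟨(m : SLn n F), hmc⟩, ?_⟩
      apply Subtype.ext
      rfl
  exact (Nat.card_congr (Equiv.ofBijective f hf)).symm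

/-- (FD-C) the order of the centre of `SL_n(𝔽_p)` -/
theorem card_center_SL_zmod (p : ℕ) [hp : Fact p.Prime] (hn : 0 < n) :
    Nat.card (Subgroup.center (SLn n (ZMod p))) = Nat.gcd n (p - 1) :=
  Cfsg.Agent.Helper48.DZ.card_center_SL_zmod p hn

/-- the number of blocks of `SL_n(F)` in the defining characteristic -/
theorem card_blocks (p : ℕ) [hp : Fact p.Prime] [CharP F p] (hn : 2 ≤ n)
    (M : Ideal AlgInt) (hM : IsPModular p M) :
    Nat.card {B : Set (IrrCharacter (SLn n F)) // IsPBlock M B} =
      Nat.card (Subgroup.center (SLn n F)) + 1 := by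
  classical
  have hMp : M.IsPrime := Cfsg.Agent.Helper16.IsPModular.isPrime hM
  have hn1 : 1 ≤ n := by omega
  haveI : Finite (IrrCharacter (SLn n F)) := Cfsg.Agent.Helper79.irr_finite'
  set a := (Nat.card (SLn n F)).factorization p with ha
  -- the Sylow subgroup
  obtain ⟨f, hf⟩ := FiniteField.card F p
  have hcU : Nat.card (US n F) = p ^ a :=
    Cfsg.Agent.Helper14.AutPSL.card_UT_eq (F := F) (p := p) (f := f) hf.2 f.2 n hn1
  let P : Sylow p (SLn n F) := Sylow.ofCard (US n F) hcU
  have hP : (P : Subgroup (SLn n F)) = US n F := rfl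
  have ha0 : a ≠ 0 := by
    intro h0
    rw [h0, pow_zero] at hcU
    have := card_US_ge_two (F := F) hn
    omega
  -- split the blocks
  let α := {B : Set (IrrCharacter (SLn n F)) // IsPBlock M B}
  have e1 : {x : α // blockDefect p x.1 = 0} ≃
      {B : Set (IrrCharacter (SLn n F)) // IsPBlock M B ∧ blockDefect p B = 0} :=
    Equiv.subtypeSubtypeEquivSubtypeInter (fun B : Set (IrrCharacter (SLn n F)) => IsPBlock M B)
      (fun B => blockDefect p B = 0)
  have e2 : {x : α // ¬ blockDefect p x.1 = 0} ≃
      {B : Set (IrrCharacter (SLn n F)) // IsPBlock M B ∧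
        IsDefectGroup p M B (P : Subgroup (SLn n F))} := by
    refine (Equiv.subtypeSubtypeEquivSubtypeInter
      (fun B : Set (IrrCharacter (SLn n F)) => IsPBlock M B)
      (fun B => ¬ blockDefect p B = 0)).trans (Equiv.subtypeEquivRight ?_)
    intro B
    constructor
    · rintro ⟨hB, hd⟩
      refine ⟨hB, ?_⟩
      have hfull : blockDefect p B = a :=
        (blockDefect_zero_or_full p M hM B hB).resolve_left hd
      obtain ⟨χ₀, rfl⟩ := hB
      obtain ⟨D, hD⟩ := Cfsg.Agent.Helper16.exists_defectGroup (M := M) p χ₀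
      have hcard := Cfsg.Agent.S0908.result p M hM _ ⟨χ₀, rfl⟩ D hD
      rw [hfull] at hcard
      let Q : Sylow p (SLn n F) := Sylow.ofCard D hcard
      obtain ⟨x, hx⟩ := MulAction.exists_smul_eq (SLn n F) Q P
      have h3 := Cfsg.Agent.Helper78.isDefectGroup_map_conj χ₀ hD x
      have h4 : D.map (MulAut.conj x).toMonoidHom = (P : Subgroup (SLn n F)) := by
        rw [← hx, Sylow.coe_subgroup_smul]
        rfl
      rw [h4] at h3
      exact h3
    · rintro ⟨hB, hD⟩
      refine ⟨hB, ?_⟩
      have hcard := Cfsg.Agent.S0908.result p M hM B hB _ hD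
      rw [hP, hcU] at hcard
      have := Nat.pow_right_injective hp.out.two_le hcard
      omega
  have hsum : Nat.card α = Nat.card {x : α // blockDefect p x.1 = 0} +
      Nat.card {x : α // ¬ blockDefect p x.1 = 0} := by
    rw [← Nat.card_sum]
    exact Nat.card_congr (Equiv.sumCompl _).symm
  rw [hsum, Nat.card_congr e1, Nat.card_congr e2, card_defect_zero_blocks p hn M hM,
    Cfsg.Agent.S0953.result p M hM P, card_classes_centralizing_US p hn P hP, add_comm]

end Cfsg.Agent.Helper42.DZ
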