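import Mathlib
import Cfsg.Agent.Helper42.MonA

set_option autoImplicit false
set_option linter.unusedSectionVars false

/-!
# Monomial matrices over a (noncommutative) ring
-/

namespace Cfsg.Agent.Helper42

open Matrix Equiv

section pmR
variable {R : Type*} [Ring R] {n : ℕ}

/-- permutation matrix over a ring, multiplicative in `σ` -/
def pmR (R : Type*) [Ring R] {n : ℕ} (σ : Perm (Fin n)) : Matrix (Fin n) (Fin n) R :=
  Matrix.of fun i j => if i = σ j then 1 else 0

theorem pmR_apply (σ : Perm (Fin n)) (i j : Fin n) :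
    pmR R σ i j = if i = σ j then 1 else 0 := rfl

theorem pmR_one : pmR R (1 : Perm (Fin n)) = 1 := by
  ext i j
  rw [pmR_apply, Matrix.one_apply, Perm.one_apply]

theorem pmR_mul (σ τ : Perm (Fin n)) : pmR R (σ * τ) = pmR R σ * pmR R τ := by
  ext i j
  rw [Matrix.mul_apply, Finset.sum_eq_single (τ j)]
  · rw [pmR_apply, pmR_apply, pmR_apply, if_pos rfl, mul_one, Perm.mul_apply]
  · intro b _ hb
    rw [pmR_apply _ b, if_neg hb, mul_zero]
  · simp

theorem pmR_mul_diagonal (σ : Perm (Fin n)) (d : Fin n → R) :
    pmR R σ * diagonal d = diagonal (d ∘ σ.symm) * pmR R σ := by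
  ext i j
  simp only [mul_diagonal, diagonal_mul, pmR_apply, Function.comp_apply]
  by_cases h : i = σ j
  · rw [if_pos h, h]; simp
  · rw [if_neg h]; simp

/-- diagonal matrices -/
def dMatHomR (R : Type*) [Ring R] (n : ℕ) : (Fin n → Rˣ) →* Matrix (Fin n) (Fin n) R where
  toFun d := diagonal fun i => (d i : R)
  map_one' := by simp
  map_mul' d d' := by
    rw [diagonal_mul_diagonal]
    rfl

/-- permutation matrices -/
def pMatHomR (R : Type*) [Ring R] (n : ℕ) : Perm (Fin n) →* Matrix (Fin n) (Fin n) R where
  toFun σ := pmR R σ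
  map_one' := pmR_one
  map_mul' := pmR_mul

/-- the monomial group inside `GL_n(R)` -/
def monGLR (R : Type*) [Ring R] (n : ℕ) : Mon Rˣ (Fin n) →* (Matrix (Fin n) (Fin n) R)ˣ :=
  SemidirectProduct.lift (dMatHomR R n).toHomUnits (pMatHomR R n).toHomUnits (by
    intro σ
    ext d : 1
    simp only [MonoidHom.comp_apply, MulEquiv.coe_toMonoidHom, MulAut.conj_apply]
    rw [eq_mul_inv_iff_mul_eq]
    apply Units.ext
    simp only [Units.val_mul, MonoidHom.coe_toHomUnits]
    show diagonal (fun i => ((permAut Rˣ (Fin n) σ d) i : R)) * pmR R σ =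
      pmR R σ * diagonal (fun i => (d i : R))
    rw [pmR_mul_diagonal]
    rfl)

theorem monGLR_val (x : Mon Rˣ (Fin n)) :
    (monGLR R n x).1 = diagonal (fun i => (x.left i : R)) * pmR R x.right := rfl

theorem monGLR_val_apply (x : Mon Rˣ (Fin n)) (i j : Fin n) :
    (monGLR R n x).1 i j = if i = x.right j then (x.left i : R) else 0 := by
  rw [monGLR_val, diagonal_mul, pmR_apply, mul_ite, mul_one, mul_zero]

theorem monGLR_injective [Nontrivial R] : Function.Injective (monGLR R n) := by
  intro x y h
  have h1 : ∀ i j, (if i = x.right j then (x.left i : R) else 0) =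
      if i = y.right j then (y.left i : R) else 0 := by
    intro i j
    rw [← monGLR_val_apply, ← monGLR_val_apply, h]
  have hr : x.right = y.right := by
    ext j
    have := h1 (x.right j) j
    rw [if_pos rfl] at this
    by_contra hne
    rw [if_neg (fun h' => hne (by rw [h']))] at this
    exact (x.left (x.right j)).ne_zero this
  have hl : x.left = y.left := by
    funext i
    have := h1 i (x.right.symm i)
    rw [if_pos (by simp), if_pos (by rw [← hr]; simp)] at this
    exact Units.ext this
  exact SemidirectProduct.ext hl hr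

end pmR

section block
variable {F : Type*} [Field F] {m : ℕ}

/-- the block-monomial group `GL_2(F) ≀ S_m` inside `GL_{2m}(F)` -/
def monGL2 (F : Type*) [Field F] (m : ℕ) :
    Mon (GL (Fin 2) F) (Fin m) →* GL (Fin m × Fin 2) F :=
  (Units.map (Matrix.compRingEquiv (Fin m) (Fin 2) F).toRingHom.toMonoidHom).comp
    (monGLR (Matrix (Fin 2) (Fin 2) F) m)

theorem monGL2_injective : Function.Injective (monGL2 F m) := by
  have h1 : Function.Injective
      (Units.map (Matrix.compRingEquiv (Fin m) (Fin 2) F).toRingHom.toMonoidHom) :=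
    Units.map_injective (f := (Matrix.compRingEquiv (Fin m) (Fin 2) F).toRingHom.toMonoidHom)
      (Matrix.compRingEquiv (Fin m) (Fin 2) F).injective
  have h2 : Function.Injective (monGLR (Matrix (Fin 2) (Fin 2) F) m) := monGLR_injective
  exact h1.comp h2

end block

end Cfsg.Agent.Helper42
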