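import Mathlib
import Cfsg.Agent.Helper42.MonGLR

set_option autoImplicit false
set_option linter.unusedSectionVars false

/-!
# Determinants of block-monomial matrices
-/

namespace Cfsg.Agent.Helper42

open Matrix Equiv

section block
variable (F : Type*) [Field F] (κ : Type*) [Fintype κ] [DecidableEq κ] (m : ℕ)

/-- the block-monomial group `GL_κ(F) ≀ S_m` inside `GL_{m × κ}(F)` -/
def monGLκ : Mon (GL κ F) (Fin m) →* GL (Fin m × κ) F :=
  (Units.map (Matrix.compRingEquiv (Fin m) κ F).toRingHom.toMonoidHom).comp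
    (monGLR (Matrix κ κ F) m)

variable {F κ m}

theorem monGLκ_injective [Nonempty κ] : Function.Injective (monGLκ F κ m) := by
  have h1 : Function.Injective
      (Units.map (Matrix.compRingEquiv (Fin m) κ F).toRingHom.toMonoidHom) :=
    Units.map_injective (f := (Matrix.compRingEquiv (Fin m) κ F).toRingHom.toMonoidHom)
      (Matrix.compRingEquiv (Fin m) κ F).injective
  have h2 : Function.Injective (monGLR (Matrix κ κ F) m) := monGLR_injective
  exact h1.comp h2

theorem monGLκ_val_apply (x : Mon (GL κ F) (Fin m)) (i j : Fin m) (k l : κ) :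
    (monGLκ F κ m x).1 (i, k) (j, l) =
      if i = x.right j then ((x.left i : GL κ F) : Matrix κ κ F) k l else 0 := by
  show ((monGLR (Matrix κ κ F) m x).1 i j) k l = _
  rw [monGLR_val_apply]
  split_ifs <;> rfl

theorem det_monGLκ_inl (f : Fin m → GL κ F) :
    ((monGLκ F κ m (SemidirectProduct.inl f)).1).det =
      ∏ i, ((f i : GL κ F) : Matrix κ κ F).det := by
  have h : (monGLκ F κ m (SemidirectProduct.inl f)).1 =
      (blockDiagonal (fun i => ((f i : GL κ F) : Matrix κ κ F))).submatrix
        (Equiv.prodComm (Fin m) κ) (Equiv.prodComm (Fin m) κ) := by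
    ext ⟨i, k⟩ ⟨j, l⟩
    rw [monGLκ_val_apply, submatrix_apply]
    show _ = blockDiagonal (fun i => ((f i : GL κ F) : Matrix κ κ F)) (k, i) (l, j)
    rw [blockDiagonal_apply']
    rfl
  rw [h, det_submatrix_equiv_self, det_blockDiagonal]

theorem det_monGLκ_inr (σ : Perm (Fin m)) :
    ((monGLκ F κ m (SemidirectProduct.inr σ)).1).det =
      (((Equiv.Perm.sign σ) ^ Fintype.card κ : ℤˣ) : ℤ) := by
  have h : (monGLκ F κ m (SemidirectProduct.inr σ)).1 =
      (1 : Matrix (Fin m × κ) (Fin m × κ) F).submatrix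
        (Equiv.prodCongrLeft (fun _ : κ => σ⁻¹)) id := by
    ext ⟨i, k⟩ ⟨j, l⟩
    rw [monGLκ_val_apply, submatrix_apply]
    show (if i = σ j then (1 : Matrix κ κ F) k l else 0) =
      (1 : Matrix (Fin m × κ) (Fin m × κ) F) (σ⁻¹ i, k) (j, l)
    rw [Matrix.one_apply, Matrix.one_apply]
    by_cases h1 : i = σ j
    · subst h1
      simp
    · have h3 : σ⁻¹ i ≠ j := by
        intro h2
        apply h1
        rw [← h2]
        simp
      rw [if_neg h1, if_neg]
      intro h4
      exact h3 (congrArg Prod.fst h4)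
  rw [h, det_permute, det_one, mul_one, Equiv.Perm.sign_prodCongrLeft, Finset.prod_const,
    Finset.card_univ, Equiv.Perm.sign_inv]

theorem det_monGLκ_inr_of_even (hκ : Even (Fintype.card κ)) (σ : Perm (Fin m)) :
    ((monGLκ F κ m (SemidirectProduct.inr σ)).1).det = 1 := by
  rw [det_monGLκ_inr]
  obtain ⟨c, hc⟩ := hκ
  rw [hc, ← two_mul, pow_mul, Int.units_sq, one_pow]
  simp

end block

end Cfsg.Agent.Helper42
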