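import Mathlib
import Cfsg.Agent.Helper42.MonA
import Cfsg.Agent.Helper42.SpSylB

set_option autoImplicit false
set_option linter.unusedSectionVars false

/-!
# `P / P'` elementary abelian: monomial groups, products, quasi-dihedral groups
-/

namespace Cfsg.Agent.Helper42

open Equiv

section monSub
variable {A : Type*} [Group A] {ι : Type*}

/-- the base group `Q ^ ι` inside `Q ≀ T` -/
def monSubInl (Q : Subgroup A) (T : Subgroup (Perm ι)) : (ι → ↥Q) →* ↥(monSub Q T) where
  toFun f := ⟨SemidirectProduct.inl (fun i => (f i).1), fun i => (f i).2, T.one_mem⟩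
  map_one' := by
    apply Subtype.ext
    exact map_one SemidirectProduct.inl
  map_mul' a b := by
    apply Subtype.ext
    exact map_mul SemidirectProduct.inl (fun i => (a i).1) (fun i => (b i).1)

/-- the top group `T` inside `Q ≀ T` -/
def monSubInr (Q : Subgroup A) (T : Subgroup (Perm ι)) : ↥T →* ↥(monSub Q T) where
  toFun σ := ⟨SemidirectProduct.inr σ.1, fun _ => Q.one_mem, σ.2⟩
  map_one' := by
    apply Subtype.ext
    exact map_one SemidirectProduct.inr
  map_mul' a b := by
    apply Subtype.ext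
    exact map_mul SemidirectProduct.inr a.1 b.1

theorem monSub_eq_inl_mul_inr (Q : Subgroup A) (T : Subgroup (Perm ι)) (x : ↥(monSub Q T)) :
    x = monSubInl Q T (fun i => ⟨x.1.left i, x.2.1 i⟩) * monSubInr Q T ⟨x.1.right, x.2.2⟩ := by
  apply Subtype.ext
  exact (SemidirectProduct.inl_left_mul_inr_right x.1).symm

/-- `EA` passes from `Q` and `T` to `Q ≀ T` -/
theorem EA_monSub [Finite ι] {p : ℕ} (Q : Subgroup A) (T : Subgroup (Perm ι))
    (hQ : EA p Q) (hT : EA p T) : EA p (monSub Q T) := by
  classical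
  intro x
  rw [monSub_eq_inl_mul_inr Q T x]
  apply pow_mem_commutator_of_mul
  · have h1 := (EA.pi (fun _ : ι => hQ)) (fun i => ⟨x.1.left i, x.2.1 i⟩)
    have h2 := map_commutator_le (monSubInl Q T) ⟨_, h1, rfl⟩
    rwa [map_pow] at h2
  · have h1 := hT ⟨x.1.right, x.2.2⟩
    have h2 := map_commutator_le (monSubInr Q T) ⟨_, h1, rfl⟩
    rwa [map_pow] at h2

end monSub

section prod

/-- `EA` passes to direct products -/
theorem EA_prod {p : ℕ} {H C : Type*} [Group H] [Group C] (hH : EA p H) (hC : EA p C) :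
    EA p (H × C) := by
  intro x
  have hx : x = MonoidHom.inl H C x.1 * MonoidHom.inr H C x.2 := by
    ext <;> simp
  rw [hx]
  apply pow_mem_commutator_of_mul
  · have h2 := map_commutator_le (MonoidHom.inl H C) ⟨_, hH x.1, rfl⟩
    rwa [map_pow] at h2
  · have h2 := map_commutator_le (MonoidHom.inr H C) ⟨_, hC x.2, rfl⟩
    rwa [map_pow] at h2

/-- a group of exponent `p` is `EA` -/
theorem EA_of_pow_eq_one {p : ℕ} {C : Type*} [Group C] (h : ∀ c : C, c ^ p = 1) : EA p C := by
  intro c
  rw [h c]
  exact Subgroup.one_mem _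

end prod

end Cfsg.Agent.Helper42
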