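import Mathlib
import Cfsg.Agent.Helper42.SpSylB
import Cfsg.Prelude.Def_CaseTheorems

set_option autoImplicit false
set_option linter.unusedSectionVars false

/-!
# Quasi-dihedral groups have elementary abelian abelianization
-/

namespace Cfsg.Agent.Helper42

open scoped commutatorElement

theorem EA_quasiDihedral {S : Type*} [Group S] (hS : Cfsg.IsQuasiDihedral S) : EA 2 S := by
  obtain ⟨n, hn, hcard, x, y, hx, hy, hxy⟩ := hS
  obtain ⟨k, rfl⟩ : ∃ k, n = k + 3 := ⟨n - 3, by omega⟩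
  have hfin : Finite S := Nat.finite_of_card_ne_zero (by rw [hcard]; positivity)
  have e1 : (2 : ℕ) ^ (k + 3 - 1) = 4 * 2 ^ k := by
    have : k + 3 - 1 = k + 2 := by omega
    rw [this, pow_add]; ring
  have e0 : (2 : ℕ) ^ (k + 3) = 8 * 2 ^ k := by rw [pow_add]; ring
  have hk1 : 1 ≤ 2 ^ k := Nat.one_le_two_pow
  rw [e1] at hxy
  rw [e0] at hx
  -- the cyclic subgroup has index two
  have hidx : (Subgroup.zpowers x).index = 2 := by
    have h1 := Subgroup.card_mul_index (Subgroup.zpowers x)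
    rw [Nat.card_zpowers, hx, hcard, pow_succ, e0] at h1
    exact Nat.eq_of_mul_eq_mul_left (by positivity) h1
  have hynot : y ∉ Subgroup.zpowers x := by
    intro hy'
    obtain ⟨j, hj⟩ := Subgroup.mem_zpowers_iff.1 hy'
    have hcomm : y * x = x * y := by rw [← hj]; exact (Commute.zpow_self x j)
    have h1 : x = x ^ (4 * 2 ^ k - 1) := by
      rw [← hxy, hcomm, mul_inv_cancel_right]
    have h3 : x ^ (4 * 2 ^ k - 2) = 1 := by
      have e2 : 4 * 2 ^ k - 1 = (4 * 2 ^ k - 2) + 1 := by omega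
      rw [e2, pow_succ] at h1
      exact (mul_eq_right.1 h1.symm)
    have h4 := orderOf_dvd_of_pow_eq_one h3
    rw [hx] at h4
    have h6 : 8 * 2 ^ k ≤ 4 * 2 ^ k - 2 := Nat.le_of_dvd (by omega) h4
    omega
  rw [EA_iff_eaSub, Subgroup.eq_top_iff']
  -- `x` lies in `eaSub`
  have hxE : x ∈ eaSub 2 S := by
    rw [mem_eaSub]
    have hc : x ^ (4 * 2 ^ k - 2) ∈ commutator S := by
      have : ⁅y, x⁆ = x ^ (4 * 2 ^ k - 2) := by
        rw [commutatorElement_def, hxy]
        have e2 : 4 * 2 ^ k - 1 = (4 * 2 ^ k - 2) + 1 := by omega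
        rw [e2, pow_succ, mul_inv_cancel_right]
      rw [← this]
      exact Subgroup.commutator_mem_commutator (Subgroup.mem_top y) (Subgroup.mem_top x)
    have h1 : (x ^ (4 * 2 ^ k - 2)) ^ (2 * 2 ^ k + 1) * x ^ 2 = 1 := by
      rw [← pow_mul, ← pow_add]
      have e3 : (4 * 2 ^ k - 2) * (2 * 2 ^ k + 1) + 2 = 8 * 2 ^ k * 2 ^ k := by
        obtain ⟨b, hb⟩ : ∃ b, 4 * 2 ^ k = b + 2 := ⟨4 * 2 ^ k - 2, by omega⟩
        have hb' : 4 * 2 ^ k - 2 = b := by omega
        rw [hb']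
        have : 8 * 2 ^ k * 2 ^ k = 2 * 2 ^ k * (4 * 2 ^ k) := by ring
        rw [this, hb]
        have h2 : 2 * 2 ^ k * (b + 2) = b * (2 * 2 ^ k) + 4 * 2 ^ k := by ring
        rw [h2, hb]
        ring
      rw [e3, pow_mul, ← hx, pow_orderOf_eq_one, one_pow]
    have h2 : x ^ 2 = ((x ^ (4 * 2 ^ k - 2)) ^ (2 * 2 ^ k + 1))⁻¹ :=
      (eq_inv_of_mul_eq_one_right h1)
    rw [h2]
    exact Subgroup.inv_mem _ (Subgroup.pow_mem _ hc _)
  have hyE : y ∈ eaSub 2 S := by
    rw [mem_eaSub, ← hy, pow_orderOf_eq_one]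
    exact Subgroup.one_mem _
  intro t
  by_cases ht : t ∈ Subgroup.zpowers x
  · exact (Subgroup.zpowers_le.2 hxE) ht
  · have h1 : t * y⁻¹ ∈ Subgroup.zpowers x := by
      rw [Subgroup.mul_mem_iff_of_index_two hidx]
      constructor
      · intro h; exact absurd h ht
      · intro h; exact absurd ((Subgroup.inv_mem_iff _).1 h) hynot
    have h2 : t = t * y⁻¹ * y := by group
    rw [h2]
    exact Subgroup.mul_mem _ ((Subgroup.zpowers_le.2 hxE) h1) hyE

end Cfsg.Agent.Helper42
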