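import Cfsg.Agent.Helper25.FSwan.Defs
import Cfsg.Agent.Helper24.DT_AC
import Cfsg.Agent.Helper30.FS_K2c
import Cfsg.Agent.Helper52.FS_K2a
import Cfsg.Agent.Helper53.DT_EQI

/-!
# Fong–Swan farm (helper25, S4440, #15059), piece (K2b) (helper42)

`bfull (a • B) = teich a * bfull B`: induction on the size of `B` through the triangular step.
-/

set_option autoImplicit false
set_option linter.unusedSectionVars false
set_option linter.unusedVariables false

namespace Cfsg.Agent.Helper42.FS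

open Cfsg Cfsg.Agent.Helper16 Cfsg.Agent.Helper16.DT Cfsg.Agent.Helper25.FS

universe u

variable {p : ℕ} [Fact p.Prime] {M : Ideal AlgInt} [M.IsMaximal] {G : Type u} [Group G]

/-! ### local copies of the four (K2g) facts (so that this file does not wait for (K2g)) -/

theorem K2b_bfull_fromBlocks {α β : Type*} [Fintype α] [DecidableEq α] [Fintype β] [DecidableEq β]
    (A : Matrix α α (AlgInt ⧸ M)) (X : Matrix α β (AlgInt ⧸ M)) (D : Matrix β β (AlgInt ⧸ M)) :
    bfull p M (Matrix.fromBlocks A X 0 D) = bfull p M A + bfull p M D := by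
  unfold bfull
  rw [Matrix.charpoly_fromBlocks_zero₂₁,
    Polynomial.roots_mul (mul_ne_zero (Matrix.charpoly_monic A).ne_zero (Matrix.charpoly_monic D).ne_zero),
    Multiset.map_add, Multiset.sum_add]

theorem K2b_bfull_conj {α β : Type*} [Fintype α] [DecidableEq α] [Fintype β] [DecidableEq β]
    (A : Matrix α α (AlgInt ⧸ M)) (P : Matrix α β (AlgInt ⧸ M)) (Q : Matrix β α (AlgInt ⧸ M))
    (hPQ : P * Q = 1) (hQP : Q * P = 1) : bfull p M (Q * A * P) = bfull p M A := by
  unfold bfull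
  have hcard := Cfsg.Agent.Helper53.DT.EQI_card_eq hPQ hQP
  have h1 := Matrix.charpoly_mul_comm' P (Q * A)
  have h2 : P * (Q * A) = A := by rw [← Matrix.mul_assoc, hPQ, Matrix.one_mul]
  rw [h2, hcard] at h1
  have h3 : (Q * A * P).charpoly = A.charpoly :=
    (mul_left_cancel₀ (pow_ne_zero _ Polynomial.X_ne_zero) h1).symm
  rw [h3]

theorem K2b_bfull_unit (a : AlgInt ⧸ M) :
    bfull p M (a • (1 : Matrix Unit Unit (AlgInt ⧸ M))) = teich p M a := by
  unfold bfull
  have h : (a • (1 : Matrix Unit Unit (AlgInt ⧸ M))).charpoly = Polynomial.X - Polynomial.C a := by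
    rw [Matrix.charpoly, Matrix.det_unique]
    simp
  rw [h, Polynomial.roots_X_sub_C]
  simp

theorem K2b_bfull_of_isEmpty {α : Type*} [Fintype α] [DecidableEq α] [IsEmpty α]
    (A : Matrix α α (AlgInt ⧸ M)) : bfull p M A = 0 := by
  unfold bfull
  rw [Matrix.charpoly, Matrix.det_isEmpty, Polynomial.roots_one]
  simp


/-- the triangular step behind (K2b) -/
theorem K2b_step (hpM : (p : AlgInt) ∈ M) (a : AlgInt ⧸ M) (n : ℕ)
    (ih : ∀ B' : Matrix (Fin n) (Fin n) (AlgInt ⧸ M),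
      bfull p M (a • B') = teich p M a * bfull p M B')
    {κ : Type*} [Fintype κ] [DecidableEq κ] (hκ : Fintype.card κ = n + 1)
    (B : Matrix κ κ (AlgInt ⧸ M)) : bfull p M (a • B) = teich p M a * bfull p M B := by
  have hAC : IsAlgClosed (AlgInt ⧸ M) := Cfsg.Agent.Helper24.DT.isAlgClosed_res M
  obtain ⟨b, Y, B', P, Q, hPQ, hQP, hQBP⟩ := Cfsg.Agent.Helper30.FS.exists_triangular hκ B
  have h1 : Q * (a • B) * P =
      Matrix.fromBlocks ((a * b) • (1 : Matrix Unit Unit (AlgInt ⧸ M))) (a • Y) 0 (a • B') := by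
    rw [Matrix.mul_smul, Matrix.smul_mul, hQBP, Matrix.fromBlocks_smul, smul_zero, smul_smul]
  have h2 : bfull p M (a • B) = teich p M (a * b) + teich p M a * bfull p M B' := by
    rw [← K2b_bfull_conj (a • B) P Q hPQ hQP, h1, K2b_bfull_fromBlocks, K2b_bfull_unit, ih B']
  have h3 : bfull p M B = teich p M b + bfull p M B' := by
    rw [← K2b_bfull_conj B P Q hPQ hQP, hQBP, K2b_bfull_fromBlocks, K2b_bfull_unit]
  rw [h2, h3, Cfsg.Agent.Helper52.FS.teich_mul hpM, mul_add]

/-- (K2b) on `Fin n` -/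
theorem K2b_fin (hpM : (p : AlgInt) ∈ M) (a : AlgInt ⧸ M) :
    ∀ (n : ℕ) (B : Matrix (Fin n) (Fin n) (AlgInt ⧸ M)),
      bfull p M (a • B) = teich p M a * bfull p M B := by
  intro n
  induction n with
  | zero =>
    intro B
    rw  [K2b_bfull_of_isEmpty, K2b_bfull_of_isEmpty, mul_zero]
  | succ n ih =>
    intro B
    exact K2b_step hpM a n ih (Fintype.card_fin (n + 1)) B

/-- (K2b) ASSEMBLY: induction on the size of `B` (generalize `κ`): empty: (K2g) `bfull_of_isEmpty`;
step: (K2c) for `B`: `Q * (a • B) * P = fromBlocks ((a * b) • 1) (a • Y) 0 (a • B')`, (K2g), (K2a). -/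
theorem bfull_smul (hpM : (p : AlgInt) ∈ M) {κ : Type*} [Fintype κ] [DecidableEq κ]
    (a : AlgInt ⧸ M) (B : Matrix κ κ (AlgInt ⧸ M)) :
    bfull p M (a • B) = teich p M a * bfull p M B := by
  rcases Nat.eq_zero_or_pos (Fintype.card κ) with h0 | hpos
  · have hE : IsEmpty κ := Fintype.card_eq_zero_iff.mp h0
    rw  [K2b_bfull_of_isEmpty, K2b_bfull_of_isEmpty, mul_zero]
  · obtain ⟨n, hn⟩ : ∃ n, Fintype.card κ = n + 1 := ⟨Fintype.card κ - 1, by omega⟩
    exact K2b_step hpM a n (K2b_fin hpM a n) hn B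

end Cfsg.Agent.Helper42.FS
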