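import Mathlib

set_option autoImplicit false

/-!
# Generalized dihedral groups

`GDih A` is the generalized dihedral group `A ⋊ C₂` of an additive commutative group `A`,
modelled as Mathlib's `DihedralGroup`.
-/

namespace Cfsg.Agent.Helper42

/-- the generalized dihedral group of an additive commutative group -/
inductive GDih (A : Type) : Type
  | r : A → GDih A
  | sr : A → GDih A

namespace GDih

variable {A : Type} [AddCommGroup A]

/-- multiplication -/
def mul' : GDih A → GDih A → GDih A
  | r a, r b => r (a + b)
  | r a, sr b => sr (b - a)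
  | sr a, r b => sr (a + b)
  | sr a, sr b => r (b - a)

/-- inverse -/
def inv' : GDih A → GDih A
  | r a => r (-a)
  | sr a => sr a

instance : Group (GDih A) where
  mul := mul'
  one := r 0
  inv := inv'
  mul_assoc := by
    rintro (a | a) (b | b) (c | c) <;> show mul' (mul' _ _) _ = mul' _ (mul' _ _) <;>
      simp only [mul'] <;> congr 1 <;> abel
  one_mul := by
    rintro (a | a) <;> show mul' (r 0) _ = _ <;> simp only [mul'] <;> congr 1 <;> abel
  mul_one := by
    rintro (a | a) <;> show mul' _ (r 0) = _ <;> simp only [mul'] <;> congr 1 <;> abel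
  inv_mul_cancel := by
    rintro (a | a) <;> show mul' (inv' _) _ = r 0 <;> simp only [mul', inv'] <;> congr 1 <;> abel

theorem r_mul_r (a b : A) : (r a * r b : GDih A) = r (a + b) := rfl
theorem r_mul_sr (a b : A) : (r a * sr b : GDih A) = sr (b - a) := rfl
theorem sr_mul_r (a b : A) : (sr a * r b : GDih A) = sr (a + b) := rfl
theorem sr_mul_sr (a b : A) : (sr a * sr b : GDih A) = r (b - a) := rfl
theorem one_def : (1 : GDih A) = r 0 := rfl

/-- the underlying type is a sum of two copies of `A` -/
def equivSum : GDih A ≃ A ⊕ A where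
  toFun
    | r a => Sum.inl a
    | sr a => Sum.inr a
  invFun
    | Sum.inl a => r a
    | Sum.inr a => sr a
  left_inv := by rintro (a | a) <;> rfl
  right_inv := by rintro (a | a) <;> rfl

instance [Finite A] : Finite (GDih A) := Finite.of_equiv _ equivSum.symm

theorem card [Finite A] : Nat.card (GDih A) = 2 * Nat.card A := by
  rw [Nat.card_congr equivSum, Nat.card_sum, two_mul]

/-- homomorphisms out of a generalized dihedral group -/
def lift {K : Type*} [Group K] (f : A → K) (t : K) (hadd : ∀ a b, f (a + b) = f a * f b)
    (ht : t * t = 1) (hconj : ∀ a, t * f a * t = f (-a)) : GDih A →* K where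
  toFun
    | r a => f a
    | sr a => t * f a
  map_one' := by
    show f 0 = 1
    have := hadd 0 0
    rw [add_zero] at this
    exact (mul_eq_left.mp this.symm)
  map_mul' := by
    have hinv : ∀ a, f a * t = t * f (-a) := by
      intro a
      rw [← hconj a, ← mul_assoc, ← mul_assoc, ht, one_mul]
    have hneg : ∀ a b, f (b - a) = f (-a) * f b := by
      intro a b
      rw [← hadd]; congr 1; abel
    rintro (a | a) (b | b)
    · exact hadd a b
    · show t * f (b - a) = f a * (t * f b)
      rw [← mul_assoc, hinv, mul_assoc, ← hneg]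
    · show t * f (a + b) = t * f a * f b
      rw [hadd, mul_assoc]
    · show f (b - a) = t * f a * (t * f b)
      rw [← mul_assoc, hconj, ← hneg]

theorem lift_r {K : Type*} [Group K] (f : A → K) (t : K) (hadd : ∀ a b, f (a + b) = f a * f b)
    (ht : t * t = 1) (hconj : ∀ a, t * f a * t = f (-a)) (a : A) :
    lift f t hadd ht hconj (r a) = f a := rfl

theorem lift_sr {K : Type*} [Group K] (f : A → K) (t : K) (hadd : ∀ a b, f (a + b) = f a * f b)
    (ht : t * t = 1) (hconj : ∀ a, t * f a * t = f (-a)) (a : A) :
    lift f t hadd ht hconj (sr a) = t * f a := rfl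

theorem lift_injective {K : Type*} [Group K] (f : A → K) (t : K) (hadd : ∀ a b, f (a + b) = f a * f b)
    (ht : t * t = 1) (hconj : ∀ a, t * f a * t = f (-a))
    (h1 : ∀ a, f a = 1 → a = 0) (h2 : ∀ a, t * f a ≠ 1) :
    Function.Injective (lift f t hadd ht hconj) := by
  rw [injective_iff_map_eq_one]
  rintro (a | a) h
  · rw [lift_r] at h
    rw [h1 a h]; rfl
  · rw [lift_sr] at h
    exact absurd h (h2 a)

end GDih

end Cfsg.Agent.Helper42
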