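import Mathlib

set_option autoImplicit false

/-! # Involutions of `2 × 2` matrices over a field of characteristic not two (helper42) -/

namespace Cfsg.Agent.Helper42

open Matrix

theorem mat2_ext_iff {F : Type*} (a b : Matrix (Fin 2) (Fin 2) F) :
    a = b ↔ a 0 0 = b 0 0 ∧ a 0 1 = b 0 1 ∧ a 1 0 = b 1 0 ∧ a 1 1 = b 1 1 := by
  constructor
  · rintro rfl; exact ⟨rfl, rfl, rfl, rfl⟩
  · rintro ⟨h1, h2, h3, h4⟩
    ext i j
    fin_cases i <;> fin_cases j <;> assumption

variable {F : Type*} [Field F]

theorem mat2_mul_entries (a b : Matrix (Fin 2) (Fin 2) F) :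
    (a * b) 0 0 = a 0 0 * b 0 0 + a 0 1 * b 1 0 ∧ (a * b) 0 1 = a 0 0 * b 0 1 + a 0 1 * b 1 1 ∧
    (a * b) 1 0 = a 1 0 * b 0 0 + a 1 1 * b 1 0 ∧ (a * b) 1 1 = a 1 0 * b 0 1 + a 1 1 * b 1 1 := by
  simp [Matrix.mul_apply, Fin.sum_univ_two]

/-- An involution of `GL₂` is `1`, `-1` or has trace zero. -/
theorem mat2_inv_cases (a : Matrix (Fin 2) (Fin 2) F) (ha : a * a = 1) :
    a = 1 ∨ a = -1 ∨ a 0 0 + a 1 1 = 0 := by
  obtain ⟨m00, m01, m10, m11⟩ := mat2_mul_entries a a
  have e00 : a 0 0 * a 0 0 + a 0 1 * a 1 0 = 1 := by rw [← m00, ha]; simp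
  have e01 : a 0 0 * a 0 1 + a 0 1 * a 1 1 = 0 := by rw [← m01, ha]; simp
  have e10 : a 1 0 * a 0 0 + a 1 1 * a 1 0 = 0 := by rw [← m10, ha]; simp
  have e11 : a 1 0 * a 0 1 + a 1 1 * a 1 1 = 1 := by rw [← m11, ha]; simp
  by_cases htr : a 0 0 + a 1 1 = 0
  · exact Or.inr (Or.inr htr)
  · have hq : a 0 1 = 0 := by
      have : a 0 1 * (a 0 0 + a 1 1) = 0 := by linear_combination e01
      rcases mul_eq_zero.1 this with h | h
      · exact h
      · exact absurd h htr
    have hr : a 1 0 = 0 := by
      have : a 1 0 * (a 0 0 + a 1 1) = 0 := by linear_combination e10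
      rcases mul_eq_zero.1 this with h | h
      · exact h
      · exact absurd h htr
    rw [hq, hr] at e00 e11
    have hp : a 0 0 = 1 ∨ a 0 0 = -1 := by
      have : (a 0 0 - 1) * (a 0 0 + 1) = 0 := by linear_combination e00
      rcases mul_eq_zero.1 this with h | h
      · left; linear_combination h
      · right; linear_combination h
    have hw : a 1 1 = 1 ∨ a 1 1 = -1 := by
      have : (a 1 1 - 1) * (a 1 1 + 1) = 0 := by linear_combination e11
      rcases mul_eq_zero.1 this with h | h
      · left; linear_combination h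
      · right; linear_combination h
    rcases hp with hp | hp <;> rcases hw with hw | hw
    · left
      rw [mat2_ext_iff]
      simp [hp, hw, hq, hr]
    · exfalso; apply htr; rw [hp, hw]; ring
    · exfalso; apply htr; rw [hp, hw]; ring
    · right; left
      rw [mat2_ext_iff]
      simp [hp, hw, hq, hr]

/-- The commutant of a trace-zero involution `a` is `F + F a`. -/
theorem mat2_commutant_form (h2 : (2 : F) ≠ 0) (a m : Matrix (Fin 2) (Fin 2) F) (ha : a * a = 1)
    (htr : a 0 0 + a 1 1 = 0) (hc : a * m = m * a) : ∃ s t : F, m = s • (1 : Matrix (Fin 2) (Fin 2) F) + t • a := by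
  obtain ⟨m00, m01, m10, m11⟩ := mat2_mul_entries a a
  have e00 : a 0 0 * a 0 0 + a 0 1 * a 1 0 = 1 := by rw [← m00, ha]; simp
  have hw : a 1 1 = - a 0 0 := by linear_combination htr
  obtain ⟨c00, c01, c10, c11⟩ := mat2_mul_entries a m
  obtain ⟨d00, d01, d10, d11⟩ := mat2_mul_entries m a
  have k00 : a 0 1 * m 1 0 = m 0 1 * a 1 0 := by
    have : (a * m) 0 0 = (m * a) 0 0 := by rw [hc]
    rw [c00, d00] at this
    linear_combination this
  have k01 : 2 * a 0 0 * m 0 1 = a 0 1 * (m 0 0 - m 1 1) := by
    have : (a * m) 0 1 = (m * a) 0 1 := by rw [hc]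
    rw [c01, d01, hw] at this
    linear_combination this
  have k10 : a 1 0 * (m 0 0 - m 1 1) = 2 * a 0 0 * m 1 0 := by
    have : (a * m) 1 0 = (m * a) 1 0 := by rw [hc]
    rw [c10, d10, hw] at this
    linear_combination this
  by_cases hp : a 0 0 = 0
  · rw [hp] at e00 k01 k10
    have hqr : a 0 1 * a 1 0 = 1 := by linear_combination e00
    have hq : a 0 1 ≠ 0 := by
      intro h; rw [h, zero_mul] at hqr; exact zero_ne_one hqr
    have hxw : m 0 0 = m 1 1 := by
      have : a 0 1 * (m 0 0 - m 1 1) = 0 := by linear_combination -k01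
      rcases mul_eq_zero.1 this with h | h
      · exact absurd h hq
      · linear_combination h
    refine ⟨m 0 0, m 0 1 / a 0 1, ?_⟩
    rw [mat2_ext_iff]
    simp only [Matrix.add_apply, Matrix.smul_apply, Matrix.one_apply_eq, smul_eq_mul, hp, hw]
    refine ⟨by simp, ?_, ?_, ?_⟩
    · simp; field_simp
    · simp
      field_simp
      linear_combination k00
    · simp [hxw]
  · have h2p : 2 * a 0 0 ≠ 0 := mul_ne_zero h2 hp
    refine ⟨(m 0 0 + m 1 1) / 2, (m 0 0 - m 1 1) / (2 * a 0 0), ?_⟩
    rw [mat2_ext_iff]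
    simp only [Matrix.add_apply, Matrix.smul_apply, Matrix.one_apply_eq, smul_eq_mul, hw]
    refine ⟨?_, ?_, ?_, ?_⟩
    · field_simp; ring
    · simp
      field_simp
      linear_combination k01
    · simp
      field_simp
      linear_combination -k10
    · field_simp; ring

/-- Matrices commuting with a trace-zero involution commute with each other. -/
theorem mat2_commute_of_commutant (h2 : (2 : F) ≠ 0) (a m m' : Matrix (Fin 2) (Fin 2) F)
    (ha : a * a = 1) (htr : a 0 0 + a 1 1 = 0) (hc : a * m = m * a) (hc' : a * m' = m' * a) :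
    m * m' = m' * m := by
  obtain ⟨s, t, rfl⟩ := mat2_commutant_form h2 a m ha htr hc
  obtain ⟨s', t', rfl⟩ := mat2_commutant_form h2 a m' ha htr hc'
  simp only [add_mul, mul_add, smul_mul_assoc, mul_smul_comm, one_mul, mul_one, smul_add, smul_smul]
  rw [mul_comm s s', mul_comm t t', mul_comm s t', mul_comm t s']
  abel

/-- An involution commuting with a non-scalar involution `a` is one of `1, -1, a, -a`. -/
theorem mat2_comm_inv_cases (h2 : (2 : F) ≠ 0) (a b : Matrix (Fin 2) (Fin 2) F) (ha : a * a = 1)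
    (hb : b * b = 1) (hab : a * b = b * a) (ha1 : a ≠ 1) (ha2 : a ≠ -1) :
    b = 1 ∨ b = -1 ∨ b = a ∨ b = -a := by
  have htr : a 0 0 + a 1 1 = 0 := by
    rcases mat2_inv_cases a ha with h | h | h
    · exact absurd h ha1
    · exact absurd h ha2
    · exact h
  obtain ⟨s, t, rfl⟩ := mat2_commutant_form h2 a b ha htr hab
  obtain ⟨m00, m01, m10, m11⟩ := mat2_mul_entries a a
  have e00 : a 0 0 * a 0 0 + a 0 1 * a 1 0 = 1 := by rw [← m00, ha]; simp
  have hw : a 1 1 = - a 0 0 := by linear_combination htr
  have hsq : (s • (1 : Matrix (Fin 2) (Fin 2) F) + t • a) * (s • (1 : Matrix (Fin 2) (Fin 2) F) + t • a) =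
      (s * s + t * t) • (1 : Matrix (Fin 2) (Fin 2) F) + (2 * s * t) • a := by
    simp only [add_mul, mul_add, smul_mul_assoc, mul_smul_comm, one_mul, mul_one, smul_add,
      smul_smul, ha]
    rw [add_smul, show 2 * s * t = s * t + s * t by ring, add_smul, mul_comm t s]
    abel
  rw [hsq] at hb
  have b00 := congrFun (congrFun hb 0) 0
  have b01 := congrFun (congrFun hb 0) 1
  have b10 := congrFun (congrFun hb 1) 0
  have b11 := congrFun (congrFun hb 1) 1
  simp only [Matrix.add_apply, Matrix.smul_apply, Matrix.one_apply_eq, smul_eq_mul, hw,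
    Matrix.one_apply_ne (show (0 : Fin 2) ≠ 1 by decide),
    Matrix.one_apply_ne (show (1 : Fin 2) ≠ 0 by decide)] at b00 b01 b10 b11
  have hst : s * t = 0 := by
    by_contra hst
    have h2st : 2 * s * t ≠ 0 := by
      rw [mul_assoc]; exact mul_ne_zero h2 hst
    have hq : a 0 1 = 0 := by
      have : 2 * s * t * a 0 1 = 0 := by linear_combination b01
      rcases mul_eq_zero.1 this with h | h
      · exact absurd h h2st
      · exact h
    have hp : a 0 0 = 0 := by
      have : 2 * (2 * s * t) * a 0 0 = 0 := by linear_combination b00 - b11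
      rcases mul_eq_zero.1 this with h | h
      · exact absurd h (mul_ne_zero h2 h2st)
      · exact h
    rw [hq, hp] at e00
    simp at e00
  rcases mul_eq_zero.1 hst with hs | ht
  · rw [hs] at b00 ⊢
    have ht2 : (t - 1) * (t + 1) = 0 := by linear_combination b00
    rcases mul_eq_zero.1 ht2 with h | h
    · right; right; left
      have : t = 1 := by linear_combination h
      rw [this]; simp
    · right; right; right
      have : t = -1 := by linear_combination h
      rw [this]; simp
  · rw [ht] at b00 ⊢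
    have hs2 : (s - 1) * (s + 1) = 0 := by linear_combination b00
    rcases mul_eq_zero.1 hs2 with h | h
    · left
      have : s = 1 := by linear_combination h
      rw [this]; simp
    · right; left
      have : s = -1 := by linear_combination h
      rw [this]; simp

end Cfsg.Agent.Helper42
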