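import Mathlib

set_option autoImplicit false

/-! # Block decomposition of a `2`-subgroup of `GL₃(F)`, `|F|` odd (helper42) -/

namespace Cfsg.Agent.Helper42

open scoped LinearAlgebra.Projectivization
open Matrix

/-- A `2`-group acting linearly on `F³`, `|F|` odd, has a common eigenvector. -/
theorem exists_common_eigenvector_three {F : Type*} [Field F] [Fintype F]
    (hF : Odd (Fintype.card F)) {P : Type*} [Group P] [Finite P] (hP : IsPGroup 2 P)
    (ρ : P →* GL (Fin 3) F) :
    ∃ v₀ : Fin 3 → F, v₀ ≠ 0 ∧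
      ∀ x : P, ∃ a : F, ((ρ x : GL (Fin 3) F) : Matrix (Fin 3) (Fin 3) F) *ᵥ v₀ = a • v₀ := by
  classical
  let _ : MulAction P (ℙ F (Fin 3 → F)) := MulAction.compHom _ ρ
  have hcard : Nat.card (ℙ F (Fin 3 → F)) = 1 + Fintype.card F + Fintype.card F ^ 2 := by
    rw [Projectivization.card_of_finrank F (Fin 3 → F) (n := 3) (by simp)]
    simp [Finset.sum_range_succ]
  have hnd : ¬ 2 ∣ Nat.card (ℙ F (Fin 3 → F)) := by
    rw [hcard]
    obtain ⟨m, hm⟩ := hF
    rw [hm]
    intro h
    have : (1 + (2 * m + 1) + (2 * m + 1) ^ 2) % 2 = 1 := by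
      ring_nf
      omega
    omega
  obtain ⟨p, hp⟩ := hP.nonempty_fixed_point_of_prime_not_dvd_card (ℙ F (Fin 3 → F)) hnd
  refine ⟨p.rep, p.rep_nonzero, fun x => ?_⟩
  have h1 : x • p = p := hp x
  have h2 : x • p = (ρ x) • p := rfl
  rw [h2] at h1
  conv at h1 => rw [← p.mk_rep]
  rw [Projectivization.smul_mk, Projectivization.mk_eq_mk_iff] at h1
  obtain ⟨a, ha⟩ := h1
  refine ⟨(a : F), ?_⟩
  have h3 : (ρ x) • p.rep = ((ρ x : GL (Fin 3) F) : Matrix (Fin 3) (Fin 3) F) *ᵥ p.rep := rfl
  rw [← h3, ← ha]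
  rfl

/-- Maschke by hand: a finite group of order prime to the characteristic with a common
eigenvector `v₀` is conjugate to a group in block form (the line of `v₀` and a complement). -/
theorem exists_conj_block {F : Type*} [Field F] {ι : Type*} [Fintype ι] [DecidableEq ι]
    {P : Type*} [Group P] [Fintype P] (hn : (Fintype.card P : F) ≠ 0)
    (ρ : P →* GL ι F) (v₀ : ι → F) (k : ι) (hv₀ : v₀ k = 1)
    (heig : ∀ x : P, ∃ a : F, ((ρ x : GL ι F) : Matrix ι ι F) *ᵥ v₀ = a • v₀) :
    ∃ g : GL ι F,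
      (∀ x i, i ≠ k → ((g⁻¹ * ρ x * g : GL ι F) : Matrix ι ι F) i k = 0) ∧
      (∀ x j, j ≠ k → ((g⁻¹ * ρ x * g : GL ι F) : Matrix ι ι F) k j = 0) := by
  classical
  set M : P → Matrix ι ι F := fun x => ((ρ x : GL ι F) : Matrix ι ι F) with hM
  set c : P → F := fun x => (M x *ᵥ v₀) k with hcdef
  have hc : ∀ x, M x *ᵥ v₀ = c x • v₀ := by
    intro x
    obtain ⟨a, ha⟩ := heig x
    have : c x = a := by
      show (M x *ᵥ v₀) k = a
      rw [show M x *ᵥ v₀ = a • v₀ from ha]
      simp [hv₀]
    rw [this]; exact ha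
  have hM1 : M 1 = 1 := by simp [hM]
  have hMmul : ∀ x y, M (x * y) = M x * M y := by
    intro x y; simp [hM]
  have hc1 : c 1 = 1 := by
    show (M 1 *ᵥ v₀) k = 1
    rw [hM1, Matrix.one_mulVec, hv₀]
  have hcmul : ∀ x y, c (x * y) = c x * c y := by
    intro x y
    show (M (x * y) *ᵥ v₀) k = _
    rw [hMmul, ← Matrix.mulVec_mulVec, hc y, Matrix.mulVec_smul, hc x]
    simp [hv₀, mul_comm]
  have hcne : ∀ x, c x ≠ 0 := by
    intro x h0
    have := hcmul x x⁻¹
    rw [mul_inv_cancel, hc1, h0, zero_mul] at this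
    exact one_ne_zero this
  set ℓ : ι → F := fun j => (Fintype.card P : F)⁻¹ * ∑ x, (c x)⁻¹ * M x k j with hℓ
  have hℓv : ∑ i, ℓ i * v₀ i = 1 := by
    have h1 : ∀ x : P, ∑ i, M x k i * v₀ i = c x := by
      intro x
      have := congrFun (hc x) k
      simp only [Matrix.mulVec, dotProduct, Pi.smul_apply, smul_eq_mul, hv₀, mul_one] at this
      exact this
    calc ∑ i, ℓ i * v₀ i
        = (Fintype.card P : F)⁻¹ * ∑ x : P, (c x)⁻¹ * ∑ i, M x k i * v₀ i := by
          simp only [hℓ, Finset.mul_sum, Finset.sum_mul]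
          rw [Finset.sum_comm]
          refine Finset.sum_congr rfl fun x _ => Finset.sum_congr rfl fun i _ => ?_
          ring
      _ = (Fintype.card P : F)⁻¹ * ∑ x : P, (1 : F) := by
          congr 1
          refine Finset.sum_congr rfl fun x _ => ?_
          rw [h1, inv_mul_cancel₀ (hcne x)]
      _ = 1 := by
          rw [Finset.sum_const, Finset.card_univ, nsmul_eq_mul, mul_one, inv_mul_cancel₀ hn]
  have hℓM : ∀ (y : P) (j : ι), ∑ i, ℓ i * M y i j = c y * ℓ j := by
    intro y j
    have h1 : ∀ x : P, ∑ i, M x k i * M y i j = M (x * y) k j := by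
      intro x
      rw [hMmul, Matrix.mul_apply]
    calc ∑ i, ℓ i * M y i j
        = (Fintype.card P : F)⁻¹ * ∑ x : P, (c x)⁻¹ * ∑ i, M x k i * M y i j := by
          simp only [hℓ, Finset.mul_sum, Finset.sum_mul]
          rw [Finset.sum_comm]
          refine Finset.sum_congr rfl fun x _ => Finset.sum_congr rfl fun i _ => ?_
          ring
      _ = (Fintype.card P : F)⁻¹ * ∑ x : P, c y * ((c (x * y))⁻¹ * M (x * y) k j) := by
          congr 1
          refine Finset.sum_congr rfl fun x _ => ?_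
          rw [h1, hcmul, mul_inv]
          have := hcne y
          field_simp
      _ = (Fintype.card P : F)⁻¹ * ∑ x : P, c y * ((c x)⁻¹ * M x k j) := by
          congr 1
          exact Fintype.sum_equiv (Equiv.mulRight y) _ _ (fun x => rfl)
      _ = c y * ℓ j := by
          simp only [hℓ, Finset.mul_sum]
          refine Finset.sum_congr rfl fun x _ => ?_
          ring
  set g : Matrix ι ι F := fun i j =>
    if j = k then v₀ i else (if i = j then 1 else 0) - ℓ j * v₀ i with hg
  set h : Matrix ι ι F := fun i j =>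
    if i = k then ℓ j else (if i = j then 1 else 0) - (if j = k then v₀ i else 0) with hh
  have hℓg : ∀ j, ∑ i, ℓ i * g i j = if j = k then 1 else 0 := by
    intro j
    by_cases hj : j = k
    · simp only [hg, hj, if_true]
      exact hℓv
    · simp only [hg, hj, if_false]
      have : ∀ i, ℓ i * ((if i = j then 1 else 0) - ℓ j * v₀ i) =
          (if i = j then ℓ i else 0) - ℓ j * (ℓ i * v₀ i) := by
        intro i
        split_ifs <;> ring
      simp only [this, Finset.sum_sub_distrib, ← Finset.mul_sum, hℓv]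
      simp
  have hhg : h * g = 1 := by
    ext i j
    rw [Matrix.mul_apply, Matrix.one_apply]
    by_cases hi : i = k
    · have : ∀ m, h i m * g m j = ℓ m * g m j := by
        intro m; simp only [hh, hi, if_true]
      rw [Finset.sum_congr rfl (fun m _ => this m), hℓg j, hi]
      by_cases hj : j = k
      · simp [hj]
      · simp [hj, Ne.symm hj]
    · have h1 : ∀ m, h i m * g m j = (if i = m then g m j else 0) - (if m = k then v₀ i * g m j else 0) := by
        intro m
        simp only [hh, hi, if_false]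
        split_ifs <;> ring
      simp only [h1, Finset.sum_sub_distrib, Finset.sum_ite_eq, Finset.sum_ite_eq', Finset.mem_univ,
        if_true]
      by_cases hj : j = k
      · simp only [hg, hj, if_true, hv₀, mul_one, sub_self, if_neg hi]
      · simp only [hg, hj, if_false, hv₀]
        have hkj : ¬ k = j := fun e => hj e.symm
        simp only [hkj, if_false]
        ring
  have hgh : g * h = 1 := mul_eq_one_comm.mp hhg
  let gU : GL ι F := ⟨g, h, hgh, hhg⟩
  have hval : ∀ x, ((gU⁻¹ * ρ x * gU : GL ι F) : Matrix ι ι F) = h * M x * g := fun x => rfl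
  have hhv : ∀ i, ∑ m, h i m * v₀ m = if i = k then 1 else 0 := by
    intro i
    have := congrFun (congrFun hhg i) k
    rw [Matrix.mul_apply, Matrix.one_apply] at this
    simpa [hg] using this
  refine ⟨gU, fun x i hi => ?_, fun x j hj => ?_⟩
  · rw [hval, Matrix.mul_apply]
    have h1 : ∀ m, (h * M x) i m * g m k = (h * M x) i m * v₀ m := by
      intro m; simp [hg]
    simp only [h1]
    have h2 : ∑ m, (h * M x) i m * v₀ m = ((h * M x) *ᵥ v₀) i := rfl
    rw [h2, ← Matrix.mulVec_mulVec, hc x, Matrix.mulVec_smul]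
    show c x • (h *ᵥ v₀) i = 0
    have h3 : (h *ᵥ v₀) i = ∑ m, h i m * v₀ m := rfl
    rw [h3, hhv i, if_neg hi, smul_zero]
  · rw [hval, Matrix.mul_apply]
    have h1 : ∀ m, (h * M x) k m = c x * ℓ m := by
      intro m
      rw [Matrix.mul_apply]
      have : ∀ l, h k l * M x l m = ℓ l * M x l m := by
        intro l; simp [hh]
      simp only [this]
      exact hℓM x m
    simp only [h1, mul_assoc, ← Finset.mul_sum, hℓg j, if_neg hj, mul_zero]

/-- A representation in block form (line `k` and the complementary coordinates) gives two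
homomorphisms which are jointly injective when the representation is. -/
theorem exists_block_homs {F : Type*} [Field F] {n : ℕ}
    {P : Type*} [Group P] (ρ : P →* GL (Fin (n + 1)) F) (k : Fin (n + 1))
    (hcol : ∀ x i, i ≠ k → ((ρ x : GL (Fin (n + 1)) F) : Matrix (Fin (n + 1)) (Fin (n + 1)) F) i k = 0)
    (hrow : ∀ x j, j ≠ k → ((ρ x : GL (Fin (n + 1)) F) : Matrix (Fin (n + 1)) (Fin (n + 1)) F) k j = 0) :
    ∃ (α : P →* GL (Fin n) F) (γ : P →* Fˣ), ∀ x, α x = 1 → γ x = 1 → ρ x = 1 := by
  classical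
  set M : P → Matrix (Fin (n + 1)) (Fin (n + 1)) F := fun x => ((ρ x : GL (Fin (n + 1)) F) :
    Matrix (Fin (n + 1)) (Fin (n + 1)) F) with hM
  have hM1 : M 1 = 1 := by simp [hM]
  have hMmul : ∀ x y, M (x * y) = M x * M y := by
    intro x y; simp [hM]
  replace hcol : ∀ x i, i ≠ k → M x i k = 0 := hcol
  replace hrow : ∀ x j, j ≠ k → M x k j = 0 := hrow
  let α₀ : P →* Matrix (Fin n) (Fin n) F :=
    { toFun := fun x => (M x).submatrix k.succAbove k.succAbove
      map_one' := by
        rw [hM1]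
        exact Matrix.submatrix_one _ Fin.succAbove_right_injective
      map_mul' := by
        intro x y
        ext i j
        rw [hMmul, Matrix.submatrix_apply, Matrix.mul_apply, Matrix.mul_apply,
          Fin.sum_univ_succAbove _ k, hcol x _ (Fin.succAbove_ne k i), zero_mul, zero_add]
        rfl }
  let γ₀ : P →* F :=
    { toFun := fun x => M x k k
      map_one' := by
        rw [hM1, Matrix.one_apply_eq]
      map_mul' := by
        intro x y
        rw [hMmul, Matrix.mul_apply, Fin.sum_univ_succAbove _ k]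
        have : ∀ m : Fin n, M x k (k.succAbove m) * M y (k.succAbove m) k = 0 := by
          intro m
          rw [hcol y _ (Fin.succAbove_ne k m), mul_zero]
        simp only [this, Finset.sum_const_zero, add_zero] }
  refine ⟨α₀.toHomUnits, γ₀.toHomUnits, fun x hα hγ => ?_⟩
  have h1 : (M x).submatrix k.succAbove k.succAbove = 1 := by
    have := congrArg Units.val hα
    rw [MonoidHom.coe_toHomUnits] at this
    exact this
  have h2 : M x k k = 1 := by
    have := congrArg Units.val hγ
    rw [MonoidHom.coe_toHomUnits] at this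
    exact this
  apply Units.ext
  show M x = 1
  ext i j
  rcases Fin.eq_self_or_eq_succAbove k i with rfl | ⟨i', rfl⟩
  · rcases Fin.eq_self_or_eq_succAbove i j with rfl | ⟨j', rfl⟩
    · rw [h2, Matrix.one_apply_eq]
    · rw [hrow x _ (Fin.succAbove_ne i j'), Matrix.one_apply_ne (Fin.succAbove_ne i j').symm]
  · rcases Fin.eq_self_or_eq_succAbove k j with rfl | ⟨j', rfl⟩
    · rw [hcol x _ (Fin.succAbove_ne j i'), Matrix.one_apply_ne (Fin.succAbove_ne j i')]
    · have := congrFun (congrFun h1 i') j'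
      rw [Matrix.submatrix_apply] at this
      rw [this, Matrix.one_apply, Matrix.one_apply]
      simp

/-- A finite `2`-group embedded in `GL₃(F)`, `|F|` odd, embeds in `GL₂(F) × Fˣ`. -/
theorem exists_gl_two_times_units {F : Type*} [Field F] [Fintype F]
    (hF : Odd (Fintype.card F)) {P : Type*} [Group P] [Finite P] (hP : IsPGroup 2 P)
    (ρ : P →* GL (Fin 3) F) (hρ : Function.Injective ρ) :
    ∃ (α : P →* GL (Fin 2) F) (γ : P →* Fˣ), ∀ x, α x = 1 → γ x = 1 → x = 1 := by
  classical
  have : Fintype P := Fintype.ofFinite P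
  have h2F : (2 : F) ≠ 0 := by
    intro h
    have h4 : ringChar F = 2 :=
      CharP.ringChar_of_prime_eq_zero Nat.prime_two (by exact_mod_cast h)
    have h5 := FiniteField.even_card_iff_char_two.1 h4
    have h6 := Nat.odd_iff.1 hF
    omega
  have hn : (Fintype.card P : F) ≠ 0 := by
    obtain ⟨m, hm⟩ := (IsPGroup.iff_card).1 hP
    rw [Nat.card_eq_fintype_card] at hm
    rw [hm]
    push_cast
    exact pow_ne_zero _ h2F
  obtain ⟨v₀, hv₀, heig⟩ := exists_common_eigenvector_three hF hP ρ
  obtain ⟨k, hk⟩ : ∃ k, v₀ k ≠ 0 := by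
    by_contra h
    push Not at h
    exact hv₀ (funext h)
  have heig' : ∀ x : P, ∃ a : F, ((ρ x : GL (Fin 3) F) : Matrix (Fin 3) (Fin 3) F) *ᵥ
      ((v₀ k)⁻¹ • v₀) = a • ((v₀ k)⁻¹ • v₀) := by
    intro x
    obtain ⟨a, ha⟩ := heig x
    exact ⟨a, by rw [Matrix.mulVec_smul, ha, smul_comm]⟩
  obtain ⟨g, hcol, hrow⟩ := exists_conj_block hn ρ ((v₀ k)⁻¹ • v₀) k
    (by simp [inv_mul_cancel₀ hk]) heig'
  let ρ' : P →* GL (Fin 3) F := (MulAut.conj g⁻¹).toMonoidHom.comp ρ
  have hρ' : ∀ x, ρ' x = g⁻¹ * ρ x * g := by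
    intro x
    show g⁻¹ * ρ x * (g⁻¹)⁻¹ = _
    rw [inv_inv]
  obtain ⟨α, γ, hαγ⟩ := exists_block_homs (n := 2) ρ' k
    (fun x i hi => by rw [hρ']; exact hcol x i hi)
    (fun x j hj => by rw [hρ']; exact hrow x j hj)
  refine ⟨α, γ, fun x hα hγ => ?_⟩
  have h1 := hαγ x hα hγ
  rw [hρ'] at h1
  apply hρ
  rw [map_one]
  calc ρ x = g * (g⁻¹ * ρ x * g) * g⁻¹ := by group
    _ = 1 := by rw [h1]; group

end Cfsg.Agent.Helper42
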