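import Cfsg.Prelude.Def_Transfer
import Cfsg.Agent.Helper42.CycTransfer
import Cfsg.Agent.Helper42.GL2Inv
import Cfsg.Agent.Helper42.GL3Block
import Cfsg.Agent.Helper25.PGroupBasic
import Cfsg.Agent.Helper33.IndexP

set_option autoImplicit false

/-! # A Sylow `2`-subgroup inside `GL₂(F) × Fˣ` containing `2³`, in a group without subgroups of
index two, is abelian (helper42) -/

namespace Cfsg.Agent.Helper42

open Matrix Subgroup

theorem sylow_two_abelian_of_gl_two_times_units {G : Type*} [Group G] [Finite G]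
    (hG : ∀ H : Subgroup G, H.index ≠ 2) (X : Sylow 2 G)
    {F : Type*} [Field F] (h2F : (2 : F) ≠ 0)
    (α : ↥(X : Subgroup G) →* GL (Fin 2) F) (γ : ↥(X : Subgroup G) →* Fˣ)
    (hinj : ∀ x, α x = 1 → γ x = 1 → x = 1)
    (E : Subgroup G) (hE : E ≤ (X : Subgroup G)) (hEa : Cfsg.IsElementaryAbelian 2 E)
    (hE8 : Nat.card E = 8) :
    ∀ x y : ↥(X : Subgroup G), x * y = y * x := by
  classical
  by_contra hnc
  push Not at hnc
  obtain ⟨x₀, y₀, hxy₀⟩ := hnc
  have hX2 : IsPGroup 2 ↥(X : Subgroup G) := X.isPGroup'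
  have : Fintype ↥(X : Subgroup G) := Fintype.ofFinite _
  have h1ne : (1 : F) ≠ -1 := by
    intro h
    apply h2F
    linear_combination h
  -- matrix and scalar parts
  set A : ↥(X : Subgroup G) → Matrix (Fin 2) (Fin 2) F :=
    fun x => ((α x : GL (Fin 2) F) : Matrix (Fin 2) (Fin 2) F) with hA
  set c : ↥(X : Subgroup G) → F := fun x => ((γ x : Fˣ) : F) with hc
  have hA1 : A 1 = 1 := by simp [hA]
  have hAmul : ∀ x y, A (x * y) = A x * A y := by intro x y; simp [hA]
  have hc1 : c 1 = 1 := by simp [hc]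
  have hcmul : ∀ x y, c (x * y) = c x * c y := by intro x y; simp [hc]
  have hinj' : ∀ x y, A x = A y → c x = c y → x = y := by
    intro x y h1 h2
    have hα : α x = α y := Units.ext h1
    have hγ : γ x = γ y := Units.ext h2
    have := hinj (x * y⁻¹) (by rw [map_mul, map_inv, hα, mul_inv_cancel])
      (by rw [map_mul, map_inv, hγ, mul_inv_cancel])
    exact mul_inv_eq_one.1 this
  have hsq_c : ∀ v : ↥(X : Subgroup G), v * v = 1 → c v = 1 ∨ c v = -1 := by
    intro v hv
    have h1 : c v * c v = 1 := by rw [← hcmul, hv, hc1]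
    have h2 : (c v - 1) * (c v + 1) = 0 := by linear_combination h1
    rcases mul_eq_zero.1 h2 with h | h
    · left; linear_combination h
    · right; linear_combination h
  -- Step D: central involutions are scalar in the `GL₂` part
  have stepD : ∀ v : ↥(X : Subgroup G), (∀ x, x * v = v * x) → v * v = 1 → A v = 1 ∨ A v = -1 := by
    intro v hvc hv2
    have hAv2 : A v * A v = 1 := by rw [← hAmul, hv2, hA1]
    rcases mat2_inv_cases (A v) hAv2 with h | h | htr
    · exact Or.inl h
    · exact Or.inr h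
    · exfalso
      have hcomm : ∀ x, A v * A x = A x * A v := by
        intro x
        rw [← hAmul, ← hAmul, hvc x]
      apply hxy₀
      apply hinj'
      · rw [hAmul, hAmul]
        exact mat2_commute_of_commutant h2F (A v) (A x₀) (A y₀) hAv2 htr (hcomm x₀) (hcomm y₀)
      · rw [hcmul, hcmul, mul_comm]
  -- Step C: counting in `E`
  set Es : Finset ↥(X : Subgroup G) := Finset.univ.filter (fun x => (x : G) ∈ E) with hEs
  have hEs_card : Es.card = 8 := by
    rw [← hE8]
    have e : {x : ↥(X : Subgroup G) // (x : G) ∈ E} ≃ ↥E :=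
      { toFun := fun x => ⟨(x.1 : G), x.2⟩
        invFun := fun e => ⟨⟨(e : G), hE e.2⟩, e.2⟩
        left_inv := fun x => rfl
        right_inv := fun e => rfl }
    rw [← Nat.card_congr e, Nat.card_eq_fintype_card, Fintype.card_subtype]
  have hEs_mem : ∀ e, e ∈ Es ↔ (e : G) ∈ E := by
    intro e; simp [hEs]
  have hEs_sq : ∀ e ∈ Es, e * e = 1 := by
    intro e he
    have := hEa.2 (e : G) ((hEs_mem e).1 he)
    apply Subtype.ext
    rw [pow_two] at this
    exact this
  have hEs_comm : ∀ e ∈ Es, ∀ e' ∈ Es, e * e' = e' * e := by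
    intro e he e' he'
    have := hEa.1.is_comm.comm (⟨(e : G), (hEs_mem e).1 he⟩ : ↥E) ⟨(e' : G), (hEs_mem e').1 he'⟩
    apply Subtype.ext
    have h2 := congrArg Subtype.val this
    exact h2
  set a₀ : Matrix (Fin 2) (Fin 2) F :=
    if h : ∃ e ∈ Es, A e ≠ 1 ∧ A e ≠ -1 then A h.choose else 1 with ha₀
  let S : Finset (Matrix (Fin 2) (Fin 2) F) := {1, -1, a₀, -a₀}
  let T : Finset F := {1, -1}
  have hmemST : ∀ e ∈ Es, (A e, c e) ∈ S ×ˢ T := by
    intro e he
    rw [Finset.mem_product]
    constructor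
    · show A e ∈ ({1, -1, a₀, -a₀} : Finset (Matrix (Fin 2) (Fin 2) F))
      simp only [Finset.mem_insert, Finset.mem_singleton]
      by_cases h : ∃ e ∈ Es, A e ≠ 1 ∧ A e ≠ -1
      · have ha : a₀ = A h.choose := by rw [ha₀, dif_pos h]
        obtain ⟨he₀, h1, h2⟩ := h.choose_spec
        rw [ha]
        refine mat2_comm_inv_cases h2F (A h.choose) (A e) ?_ ?_ ?_ h1 h2
        · rw [← hAmul, hEs_sq _ he₀, hA1]
        · rw [← hAmul, hEs_sq _ he, hA1]
        · rw [← hAmul, ← hAmul, hEs_comm _ he₀ _ he]
      · push Not at h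
        by_cases h1 : A e = 1
        · exact Or.inl h1
        · exact Or.inr (Or.inl (h e he h1))
    · show c e ∈ ({1, -1} : Finset F)
      simp only [Finset.mem_insert, Finset.mem_singleton]
      exact hsq_c e (hEs_sq e he)
  have himage : Es.image (fun e => (A e, c e)) = S ×ˢ T := by
    apply Finset.eq_of_subset_of_card_le
    · intro p hp
      rw [Finset.mem_image] at hp
      obtain ⟨e, he, rfl⟩ := hp
      exact hmemST e he
    · rw [Finset.card_image_of_injOn, hEs_card, Finset.card_product]
      · calc S.card * T.card ≤ 4 * 2 := Nat.mul_le_mul Finset.card_le_four Finset.card_le_two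
          _ = 8 := by norm_num
      · intro e _ e' _ hee'
        simp only [Prod.mk.injEq] at hee'
        exact hinj' e e' hee'.1 hee'.2
  obtain ⟨z₀, hz₀E, hz₀A, hz₀c⟩ : ∃ z₀ ∈ Es, A z₀ = -1 ∧ c z₀ = 1 := by
    have hmem : ((-1 : Matrix (Fin 2) (Fin 2) F), (1 : F)) ∈ S ×ˢ T := by
      rw [Finset.mem_product]
      constructor
      · show (-1 : Matrix (Fin 2) (Fin 2) F) ∈ ({1, -1, a₀, -a₀} : Finset (Matrix (Fin 2) (Fin 2) F))
        simp
      · show (1 : F) ∈ ({1, -1} : Finset F)
        simp
    rw [← himage, Finset.mem_image] at hmem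
    obtain ⟨e, he, heq⟩ := hmem
    simp only [Prod.mk.injEq] at heq
    exact ⟨e, he, heq.1, heq.2⟩
  obtain ⟨z, hzE, hzA, hzc⟩ : ∃ z ∈ Es, A z = 1 ∧ c z = -1 := by
    have hmem : ((1 : Matrix (Fin 2) (Fin 2) F), (-1 : F)) ∈ S ×ˢ T := by
      rw [Finset.mem_product]
      constructor
      · show (1 : Matrix (Fin 2) (Fin 2) F) ∈ ({1, -1, a₀, -a₀} : Finset (Matrix (Fin 2) (Fin 2) F))
        simp
      · show (-1 : F) ∈ ({1, -1} : Finset F)
        simp
    rw [← himage, Finset.mem_image] at hmem
    obtain ⟨e, he, heq⟩ := hmem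
    simp only [Prod.mk.injEq] at heq
    exact ⟨e, he, heq.1, heq.2⟩
  have hz2 : z * z = 1 := hEs_sq z hzE
  have hzcen : ∀ x, x * z = z * x := by
    intro x
    apply hinj'
    · rw [hAmul, hAmul, hzA, mul_one, one_mul]
    · rw [hcmul, hcmul, mul_comm]
  -- the commutator subgroup meets the centre: `z₀` is a commutator
  have hz₀comm : z₀ ∈ commutator ↥(X : Subgroup G) := by
    have hne : commutator ↥(X : Subgroup G) ≠ ⊥ := by
      intro h
      have h1 : x₀ * y₀ * x₀⁻¹ * y₀⁻¹ ∈ commutator ↥(X : Subgroup G) :=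
        Subgroup.commutator_mem_commutator (Subgroup.mem_top x₀) (Subgroup.mem_top y₀)
      rw [h, Subgroup.mem_bot] at h1
      apply hxy₀
      calc x₀ * y₀ = (x₀ * y₀ * x₀⁻¹ * y₀⁻¹) * (y₀ * x₀) := by group
        _ = y₀ * x₀ := by rw [h1, one_mul]
    obtain ⟨c₁, hc₁m, hc₁ne, hc₁cen⟩ :=
      Cfsg.Agent.Helper25.exists_mem_center_of_normal_ne_bot hX2 (commutator ↥(X : Subgroup G)) hne
    obtain ⟨k, hk⟩ := (IsPGroup.iff_orderOf.1 hX2) c₁
    have hk0 : k ≠ 0 := by
      intro h
      rw [h, pow_zero, orderOf_eq_one_iff] at hk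
      exact hc₁ne hk
    set v := c₁ ^ (2 ^ (k - 1)) with hv
    have hvm : v ∈ commutator ↥(X : Subgroup G) := Subgroup.pow_mem _ hc₁m _
    have hvcen : ∀ x, x * v = v * x := by
      intro x
      have : v ∈ Subgroup.center ↥(X : Subgroup G) := Subgroup.pow_mem _ hc₁cen _
      exact (Subgroup.mem_center_iff.1 this x)
    have hv2 : v * v = 1 := by
      rw [hv, ← pow_two, ← pow_mul, ← pow_succ]
      have : k - 1 + 1 = k := by omega
      rw [this, ← hk, pow_orderOf_eq_one]
    have hvne : v ≠ 1 := by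
      apply pow_ne_one_of_lt_orderOf (by positivity)
      rw [hk]
      apply Nat.pow_lt_pow_right (by norm_num)
      omega
    have hγv : c v = 1 := by
      have h1 : v ∈ γ.ker := Abelianization.commutator_subset_ker γ hvm
      rw [MonoidHom.mem_ker] at h1
      show ((γ v : Fˣ) : F) = 1
      rw [h1]; rfl
    have hvz₀ : v = z₀ := by
      apply hinj'
      · rcases stepD v hvcen hv2 with h | h
        · exfalso
          apply hvne
          apply hinj' v 1
          · rw [h, hA1]
          · rw [hγv, hc1]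
        · rw [h, hz₀A]
      · rw [hγv, hz₀c]
    rw [← hvz₀]; exact hvm
  -- the transfer of `γ` at `z`
  have hγz : γ z ≠ 1 := by
    intro h
    have : c z = 1 := by
      show ((γ z : Fˣ) : F) = 1
      rw [h]; rfl
    rw [hzc] at this
    exact h1ne this.symm
  have htr : MonoidHom.transfer γ (z : G) = γ ⟨(z : G), z.2⟩ := by
    apply transfer_central_involution X γ (z : G) z.2
    · exact congrArg Subtype.val hz2
    · intro x hx
      exact congrArg Subtype.val (hzcen ⟨x, hx⟩)
    · intro n hn hmem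
      set w : ↥(X : Subgroup G) := ⟨n⁻¹ * (z : G) * n, hmem⟩ with hw
      -- conjugation by `n` as an endomorphism of `X`
      let θ : ↥(X : Subgroup G) →* ↥(X : Subgroup G) :=
        { toFun := fun x => ⟨n * (x : G) * n⁻¹, (Subgroup.mem_normalizer_iff.1 hn x).1 x.2⟩
          map_one' := by
            apply Subtype.ext
            show n * ((1 : ↥(X : Subgroup G)) : G) * n⁻¹ = 1
            simp
          map_mul' := by
            intro x y
            apply Subtype.ext
            show n * ((x * y : ↥(X : Subgroup G)) : G) * n⁻¹ = (n * (x : G) * n⁻¹) * (n * (y : G) * n⁻¹)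
            rw [Subgroup.coe_mul]
            group }
      have hθw : θ w = z := by
        apply Subtype.ext
        show n * (n⁻¹ * (z : G) * n) * n⁻¹ = (z : G)
        group
      have hwcen : ∀ x, x * w = w * x := by
        intro x
        have h1 := congrArg Subtype.val (hzcen (θ x))
        have h2 : n * (x : G) * n⁻¹ * (z : G) = (z : G) * (n * (x : G) * n⁻¹) := h1
        apply Subtype.ext
        show (x : G) * (n⁻¹ * (z : G) * n) = n⁻¹ * (z : G) * n * (x : G)
        calc (x : G) * (n⁻¹ * (z : G) * n) = n⁻¹ * (n * (x : G) * n⁻¹ * (z : G)) * n := by group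
          _ = n⁻¹ * ((z : G) * (n * (x : G) * n⁻¹)) * n := by rw [h2]
          _ = n⁻¹ * (z : G) * n * (x : G) := by group
      have hw2 : w * w = 1 := by
        apply Subtype.ext
        show n⁻¹ * (z : G) * n * (n⁻¹ * (z : G) * n) = 1
        have h1 : (z : G) * (z : G) = 1 := congrArg Subtype.val hz2
        calc n⁻¹ * (z : G) * n * (n⁻¹ * (z : G) * n) = n⁻¹ * ((z : G) * (z : G)) * n := by group
          _ = 1 := by rw [h1]; group
      have hcw : c w = -1 := by
        rcases hsq_c w hw2 with h | h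
        · exfalso
          rcases stepD w hwcen hw2 with hA' | hA'
          · have hw1 : w = 1 := by
              apply hinj' w 1
              · rw [hA', hA1]
              · rw [h, hc1]
            have : z = 1 := by rw [← hθw, hw1, map_one]
            rw [this, hc1] at hzc
            exact h1ne hzc
          · have hwz₀ : w = z₀ := by
              apply hinj' w z₀
              · rw [hA', hz₀A]
              · rw [h, hz₀c]
            have h3 : z₀ ∈ (γ.comp θ).ker := Abelianization.commutator_subset_ker (γ.comp θ) hz₀comm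
            rw [MonoidHom.mem_ker, MonoidHom.comp_apply, ← hwz₀, hθw] at h3
            exact hγz h3
        · exact h
      apply Units.ext
      show c w = c z
      rw [hcw, hzc]
  -- a subgroup of index two
  have hznot : (z : G) ∉ commutator G := by
    intro h
    have h1 := Abelianization.commutator_subset_ker (MonoidHom.transfer γ) h
    rw [MonoidHom.mem_ker, htr] at h1
    exact hγz h1
  have hT : IsPGroup 2 ↥(Subgroup.zpowers (z : G)) := by
    rintro ⟨g, hg⟩
    obtain ⟨i, rfl⟩ := Subgroup.mem_zpowers_iff.1 hg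
    refine ⟨1, Subtype.ext ?_⟩
    show ((z : G) ^ i) ^ 2 ^ 1 = 1
    have h1 : (z : G) * (z : G) = 1 := congrArg Subtype.val hz2
    rw [pow_one, ← zpow_natCast, ← _root_.zpow_mul, mul_comm, _root_.zpow_mul, zpow_natCast, pow_two,
      h1, _root_.one_zpow]
  obtain ⟨N, -, hN⟩ := Cfsg.Agent.Helper33.exists_normal_index_prime_of_not_le_commutator
    (Subgroup.zpowers (z : G)) hT (fun h => hznot (h (Subgroup.mem_zpowers _)))
  exact hG N hN

end Cfsg.Agent.Helper42
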