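import Mathlib
import Cfsg.Agent.Helper42.SylowEA

set_option autoImplicit false
set_option linter.unusedSectionVars false

/-!
# The `2`-part of `|GL_n(q)|`, `q` odd
-/

namespace Cfsg.Agent.Helper42

open Matrix

/-- `v_p |GL_n(F)| = ∑_{k=1}^{n} v_p(q^k - 1)` when `p ∤ q` -/
theorem padicValNat_card_GL_eq_sum (p : ℕ) [hp : Fact p.Prime] (F : Type*) [Field F] [Fintype F]
    (hpq : ¬ p ∣ Fintype.card F) (n : ℕ) :
    padicValNat p (Nat.card (GL (Fin n) F)) =
      ∑ k ∈ Finset.range n, padicValNat p (Fintype.card F ^ (k + 1) - 1) := by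
  have hq : 2 ≤ Fintype.card F := Fintype.one_lt_card
  set q := Fintype.card F with hq_def
  rw [Matrix.card_GL_field, ← hq_def]
  have hterm : ∀ i : Fin n, q ^ n - q ^ (i : ℕ) = q ^ (i : ℕ) * (q ^ (n - i) - 1) := by
    intro i
    have h1 : q ^ n = q ^ (i : ℕ) * q ^ (n - (i : ℕ)) := by
      rw [← pow_add]
      congr 1
      omega
    rw [h1, Nat.mul_sub, mul_one]
  have hne : ∀ k : ℕ, k ≠ 0 → q ^ k - 1 ≠ 0 := by
    intro k hk
    have : 1 < q ^ k := Nat.one_lt_pow hk hq
    omega
  have hqv : ∀ k : ℕ, padicValNat p (q ^ k) = 0 := by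
    intro k
    apply padicValNat.eq_zero_of_not_dvd
    intro h
    exact hpq (hp.out.dvd_of_dvd_pow h)
  have hprod : ∀ (s : Finset (Fin n)), padicValNat p (∏ i ∈ s, (q ^ n - q ^ (i : ℕ))) =
      ∑ i ∈ s, padicValNat p (q ^ (n - (i : ℕ)) - 1) := by
    intro s
    induction s using Finset.induction_on with
    | empty => simp
    | insert a s ha ih =>
      rw [Finset.prod_insert ha, Finset.sum_insert ha, padicValNat.mul, ih, hterm,
        padicValNat.mul (pow_ne_zero _ (by omega)) (hne _ (by omega)), hqv, zero_add]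
      · rw [hterm]
        exact mul_ne_zero (pow_ne_zero _ (by omega)) (hne _ (by omega))
      · apply Finset.prod_ne_zero_iff.2
        intro i _
        rw [hterm]
        exact mul_ne_zero (pow_ne_zero _ (by omega)) (hne _ (by omega))
  rw [hprod, Fin.sum_univ_eq_sum_range (fun i => padicValNat p (q ^ (n - i) - 1)) n,
    ← Finset.sum_range_reflect]
  apply Finset.sum_congr rfl
  intro k hk
  rw [Finset.mem_range] at hk
  congr 3
  omega

section two
variable (q : ℕ)

theorem padicValNat_two_of_mod_four {n : ℕ} (h : n % 4 = 2) : padicValNat 2 n = 1 := by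
  obtain ⟨k, rfl⟩ : ∃ k, n = 2 * (2 * k + 1) := ⟨n / 4, by omega⟩
  rw [padicValNat.mul (by norm_num) (by omega), padicValNat_self,
    padicValNat.eq_zero_of_not_dvd (by omega)]

theorem padicValNat_two_pow_sub_one_odd (hq : 1 < q) (hq2 : ¬ 2 ∣ q) {k : ℕ} (hk : Odd k) :
    padicValNat 2 (q ^ k - 1) = padicValNat 2 (q - 1) := by
  have hk0 : k ≠ 0 := by
    rintro rfl
    simp at hk
  have h1 : 1 < q ^ k := Nat.one_lt_pow hk0 hq
  have key := emultiplicity_pow_sub_pow_of_prime (R := ℤ) (p := 2) Int.prime_two (x := (q : ℤ))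
    (y := 1) (by
      have : ¬ 2 ∣ q := hq2
      omega) (by
      intro h
      apply hq2
      exact_mod_cast h) (n := k) (by
      intro h
      apply Nat.not_even_iff_odd.2 hk
      rw [even_iff_two_dvd]
      exact_mod_cast h)
  rw [one_pow] at key
  have e1 : ((q : ℤ) ^ k - 1) = ((q ^ k - 1 : ℕ) : ℤ) := by
    rw [Nat.cast_sub h1.le]; push_cast; ring
  have e2 : ((q : ℤ) - 1) = ((q - 1 : ℕ) : ℤ) := by
    rw [Nat.cast_sub hq.le]; push_cast; ring
  rw [e1, e2] at key
  have h2 : emultiplicity (2 : ℕ) (q ^ k - 1) = emultiplicity (2 : ℕ) (q - 1) := by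
    rw [← Int.natCast_emultiplicity, ← Int.natCast_emultiplicity]
    exact_mod_cast key
  rw [← padicValNat_eq_emultiplicity (by omega), ← padicValNat_eq_emultiplicity (by omega)] at h2
  exact_mod_cast h2

theorem padicValNat_two_pow_sub_one_even (hq : 1 < q) (hq2 : ¬ 2 ∣ q) {j : ℕ} (hj : j ≠ 0) :
    padicValNat 2 (q ^ (2 * j) - 1) = padicValNat 2 (q ^ 2 - 1) + padicValNat 2 j := by
  have h1 := padicValNat.pow_two_sub_one hq hq2 (n := 2 * j) (by omega) (even_two_mul _)
  have h2 := padicValNat.pow_two_sub_one hq hq2 (n := 2) (by norm_num) even_two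
  rw [padicValNat.mul (by norm_num) hj] at h1
  have h3 : padicValNat 2 2 = 1 := by simp
  rw [h3] at h1 h2
  omega

/-- `∑_{k=1}^{n} v_2(q^k - 1)` -/
theorem sum_padicValNat_two (hq : 1 < q) (hq2 : ¬ 2 ∣ q) (n : ℕ) :
    ∑ k ∈ Finset.range n, padicValNat 2 (q ^ (k + 1) - 1) =
      ((n + 1) / 2) * padicValNat 2 (q - 1) + (n / 2) * padicValNat 2 (q ^ 2 - 1) +
        padicValNat 2 (n / 2).factorial := by
  induction n with
  | zero => simp
  | succ n ih =>
    rw [Finset.sum_range_succ, ih]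
    rcases Nat.even_or_odd (n + 1) with he | ho
    · obtain ⟨j, hj⟩ := he
      have hj0 : j ≠ 0 := by omega
      have e1 : n + 1 = 2 * j := by omega
      have e2 : (n + 1 + 1) / 2 = j := by omega
      have e3 : (n + 1) / 2 = j := by omega
      have e4 : n / 2 = j - 1 := by omega
      rw [e1, padicValNat_two_pow_sub_one_even q hq hq2 hj0, ← e1, e2, e3, e4]
      obtain ⟨i, rfl⟩ : ∃ i, j = i + 1 := ⟨j - 1, by omega⟩
      rw [Nat.add_sub_cancel, Nat.factorial_succ,
        padicValNat.mul (by omega) (Nat.factorial_ne_zero _)]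
      ring
    · rw [padicValNat_two_pow_sub_one_odd q hq hq2 ho]
      obtain ⟨j, hj⟩ := ho
      have e2 : (n + 1 + 1) / 2 = j + 1 := by omega
      have e3 : (n + 1) / 2 = j := by omega
      have e4 : n / 2 = j := by omega
      rw [e2, e3, e4]
      ring

end two

variable (F : Type*) [Field F] [Fintype F]

/-- `v_2 |GL_n(F)|` for `|F| ≡ 1 (mod 4)` -/
theorem padicValNat_two_card_GL_one (h1 : Fintype.card F % 4 = 1) (n : ℕ) :
    padicValNat 2 (Nat.card (GL (Fin n) F)) =
      n * padicValNat 2 (Fintype.card F - 1) + padicValNat 2 n.factorial := by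
  have hq : 1 < Fintype.card F := Fintype.one_lt_card
  have hq2 : ¬ 2 ∣ Fintype.card F := by omega
  rw [padicValNat_card_GL_eq_sum 2 F hq2 n, sum_padicValNat_two _ hq hq2 n]
  set q := Fintype.card F with hq_def
  have hsq : q ^ 2 - 1 = (q - 1) * (q + 1) := by
    obtain ⟨k, hk⟩ : ∃ k, q = k + 1 := ⟨q - 1, by omega⟩
    rw [hk]
    simp only [Nat.add_sub_cancel]
    have : (k + 1) ^ 2 = k * (k + 1 + 1) + 1 := by ring
    rw [this, Nat.add_sub_cancel]
  have hv : padicValNat 2 (q ^ 2 - 1) = padicValNat 2 (q - 1) + 1 := by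
    rw [hsq, padicValNat.mul (by omega) (by omega),
      padicValNat_two_of_mod_four (n := q + 1) (by omega)]
  have hfac : padicValNat 2 n.factorial = n / 2 + padicValNat 2 (n / 2).factorial := by
    have := factorization_card_perm 2 n
    rw [Nat.card_perm, Nat.card_perm, Nat.card_fin, Nat.card_fin,
      Nat.factorization_def _ Nat.prime_two, Nat.factorization_def _ Nat.prime_two] at this
    exact this
  rw [hv, hfac]
  have h4 : (n + 1) / 2 + n / 2 = n := by omega
  have h5 : (n + 1) / 2 * padicValNat 2 (q - 1) + n / 2 * padicValNat 2 (q - 1) =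
      n * padicValNat 2 (q - 1) := by rw [← Nat.add_mul, h4]
  rw [Nat.mul_add, mul_one]
  linarith

/-- `v_2 |GL_n(F)|` for `|F| ≡ 3 (mod 4)` -/
theorem padicValNat_two_card_GL_three (h3 : Fintype.card F % 4 = 3) (n : ℕ) :
    padicValNat 2 (Nat.card (GL (Fin n) F)) =
      (n / 2) * padicValNat 2 (Nat.card (GL (Fin 2) F)) + padicValNat 2 (n / 2).factorial +
        n % 2 := by
  have hq : 1 < Fintype.card F := Fintype.one_lt_card
  have hq2 : ¬ 2 ∣ Fintype.card F := by omega
  rw [padicValNat_card_GL_eq_sum 2 F hq2 n, padicValNat_card_GL_eq_sum 2 F hq2 2,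
    sum_padicValNat_two _ hq hq2 n, sum_padicValNat_two _ hq hq2 2]
  have hv : padicValNat 2 (Fintype.card F - 1) = 1 := padicValNat_two_of_mod_four (by omega)
  rw [hv]
  have h3' : (n + 1) / 2 = n / 2 + n % 2 := by omega
  rw [h3']
  have h5 : padicValNat 2 (Nat.factorial (2 / 2)) = 0 := by norm_num
  rw [h5]
  ring

end Cfsg.Agent.Helper42
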