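import Mathlib

set_option autoImplicit false
set_option linter.unusedSectionVars false

/-!
# The `p`-part of `|GL_n(q)|`, `p` odd, `p ∤ q`
-/

namespace Cfsg.Agent.Helper42

open Matrix

section nt
variable (p : ℕ) [hp : Fact p.Prime] (q : ℕ)

theorem dvd_pow_sub_one_iff (hq : 1 ≤ q) (k : ℕ) :
    p ∣ q ^ k - 1 ↔ orderOf (q : ZMod p) ∣ k := by
  rw [orderOf_dvd_iff_pow_eq_one, ← ZMod.natCast_eq_zero_iff, Nat.cast_sub (Nat.one_le_pow _ _ hq),
    sub_eq_zero]
  push_cast
  rfl

theorem orderOf_pos_of_not_dvd (hpq : ¬ p ∣ q) : 0 < orderOf (q : ZMod p) := by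
  have hu : IsUnit (q : ZMod p) := by
    rw [isUnit_iff_ne_zero]
    intro h
    exact hpq ((ZMod.natCast_eq_zero_iff q p).1 h)
  obtain ⟨u, hu⟩ := hu
  rw [← hu, orderOf_units]
  exact orderOf_pos u

/-- `∑_{k=1}^{n} v_p(q^k - 1)` -/
theorem sum_padicValNat_pow_sub_one (hp2 : p ≠ 2) (hq : 2 ≤ q) (hpq : ¬ p ∣ q) (n : ℕ) :
    ∑ k ∈ Finset.range n, padicValNat p (q ^ (k + 1) - 1) =
      (n / orderOf (q : ZMod p)) * padicValNat p (q ^ orderOf (q : ZMod p) - 1) +
        padicValNat p (n / orderOf (q : ZMod p)).factorial := by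
  have hodd : Odd p := hp.out.odd_of_ne_two hp2
  have he := orderOf_pos_of_not_dvd p q hpq
  set e := orderOf (q : ZMod p) with he_def
  induction n with
  | zero => simp
  | succ n ih =>
    rw [Finset.sum_range_succ, ih, Nat.succ_div]
    by_cases hdvd : e ∣ n + 1
    · rw [if_pos hdvd]
      obtain ⟨j, hj⟩ := hdvd
      have hj0 : j ≠ 0 := by
        rintro rfl
        simp at hj
      have hje : n / e + 1 = j := by
        have : (n + 1) / e = j := by rw [hj]; exact Nat.mul_div_cancel_left j he
        rw [Nat.succ_div, if_pos ⟨j, hj⟩] at this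
        exact this
      have h1 : padicValNat p (q ^ (n + 1) - 1) =
          padicValNat p (q ^ e - 1) + padicValNat p j := by
        rw [hj, pow_mul]
        have := padicValNat.pow_sub_pow (p := p) hodd (x := q ^ e) (y := 1)
          (Nat.one_lt_pow he.ne' hq) (by
            rw [dvd_pow_sub_one_iff p q (by omega)]) (by
            intro h
            exact hpq (hp.out.dvd_of_dvd_pow h)) hj0
        rw [one_pow] at this
        exact this
      rw [h1, hje, ← hje, Nat.factorial_succ, padicValNat.mul (by omega) (Nat.factorial_ne_zero _)]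
      ring
    · rw [if_neg hdvd, add_zero]
      have h1 : padicValNat p (q ^ (n + 1) - 1) = 0 := by
        apply padicValNat.eq_zero_of_not_dvd
        rw [dvd_pow_sub_one_iff p q (by omega)]
        exact hdvd
      rw [h1, add_zero]

end nt

variable (p : ℕ) [hp : Fact p.Prime] (F : Type*) [Field F] [Fintype F]

/-- the `p`-part of `|GL_n(F)|` -/
theorem padicValNat_card_GL (hp2 : p ≠ 2) (hpq : ¬ p ∣ Fintype.card F) (n : ℕ) :
    padicValNat p (Nat.card (GL (Fin n) F)) =
      (n / orderOf ((Fintype.card F : ℕ) : ZMod p)) *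
          padicValNat p (Fintype.card F ^ orderOf ((Fintype.card F : ℕ) : ZMod p) - 1) +
        padicValNat p (n / orderOf ((Fintype.card F : ℕ) : ZMod p)).factorial := by
  have hq : 2 ≤ Fintype.card F := Fintype.one_lt_card
  set q := Fintype.card F with hq_def
  rw [← sum_padicValNat_pow_sub_one p q hp2 hq hpq n, Matrix.card_GL_field, ← hq_def]
  have hterm : ∀ i : Fin n, q ^ n - q ^ (i : ℕ) = q ^ (i : ℕ) * (q ^ (n - i) - 1) := by
    intro i
    have h1 : q ^ n = q ^ (i : ℕ) * q ^ (n - (i : ℕ)) := by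
      rw [← pow_add]
      congr 1
      omega
    rw [h1, Nat.mul_sub, mul_one]
  have hne : ∀ k : ℕ, k ≠ 0 → q ^ k - 1 ≠ 0 := by
    intro k hk
    have : 1 < q ^ k := Nat.one_lt_pow hk hq
    omega
  have hqv : ∀ k : ℕ, padicValNat p (q ^ k) = 0 := by
    intro k
    apply padicValNat.eq_zero_of_not_dvd
    intro h
    exact hpq (hp.out.dvd_of_dvd_pow h)
  have hprod : ∀ (s : Finset (Fin n)), padicValNat p (∏ i ∈ s, (q ^ n - q ^ (i : ℕ))) =
      ∑ i ∈ s, padicValNat p (q ^ (n - (i : ℕ)) - 1) := by
    intro s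
    induction s using Finset.induction_on with
    | empty => simp
    | insert a s ha ih =>
      rw [Finset.prod_insert ha, Finset.sum_insert ha, padicValNat.mul, ih, hterm,
        padicValNat.mul (pow_ne_zero _ (by omega)) (hne _ (by omega)), hqv, zero_add]
      · rw [hterm]
        exact mul_ne_zero (pow_ne_zero _ (by omega)) (hne _ (by omega))
      · apply Finset.prod_ne_zero_iff.2
        intro i _
        rw [hterm]
        exact mul_ne_zero (pow_ne_zero _ (by omega)) (hne _ (by omega))
  rw [hprod, Fin.sum_univ_eq_sum_range (fun i => padicValNat p (q ^ (n - i) - 1)) n,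
    ← Finset.sum_range_reflect]
  apply Finset.sum_congr rfl
  intro k hk
  rw [Finset.mem_range] at hk
  congr 3
  omega

end Cfsg.Agent.Helper42
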