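import Mathlib
import Cfsg.Agent.Helper42.MonA

set_option autoImplicit false
set_option linter.unusedSectionVars false

/-!
# Lower bound for the derived length of `Q ≀ T`, `Q` abelian
-/

namespace Cfsg.Agent.Helper42

open Equiv
open scoped commutatorElement

section
variable {A : Type*} [CommGroup A] {ι : Type*}

theorem comm_inl_inr (u : ι → A) (t : Perm ι) :
    ⁅(SemidirectProduct.inl u : Mon A ι), (SemidirectProduct.inr t : Mon A ι)⁆ =
      SemidirectProduct.inl (u * permAut A ι t u⁻¹) := by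
  rw [commutatorElement_def, map_mul, SemidirectProduct.inl_aut, map_inv, map_inv]
  simp only [mul_assoc]

/-- a nontrivial element in the next derived subgroup -/
theorem derivedSeries_monSub_ne_bot [DecidableEq ι] (Q : Subgroup A) (T : Subgroup (Perm ι))
    (a : A) (ha : a ∈ Q) (ha1 : a ≠ 1) (ha2 : a * a ≠ 1) (d : ℕ)
    (hT : derivedSeries ↥T d ≠ ⊥) : derivedSeries ↥(monSub Q T) (d + 1) ≠ ⊥ := by
  obtain ⟨⟨t, htmem⟩, ht1⟩ := (Subgroup.ne_bot_iff_exists_ne_one).1 hT
  have ht1' : (t : Perm ι) ≠ 1 := by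
    intro h
    apply ht1
    apply Subtype.ext
    apply Subtype.ext
    exact h
  obtain ⟨ω, hω⟩ : ∃ ω, (t : Perm ι) ω ≠ ω := by
    by_contra hcon
    push Not at hcon
    exact ht1' (Equiv.ext hcon)
  have hω' : (t : Perm ι).symm ω ≠ ω := by
    intro h
    apply hω
    conv_lhs => rw [← h]
    simp
  let ψ : ↥T →* ↥(monSub Q T) :=
    { toFun := fun τ => ⟨SemidirectProduct.inr τ.1, ⟨fun _ => Q.one_mem, τ.2⟩⟩
      map_one' := rfl
      map_mul' := fun _ _ => Subtype.ext (map_mul _ _ _) }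
  have hs : ψ t ∈ derivedSeries ↥(monSub Q T) d :=
    map_derivedSeries_le_derivedSeries ψ d (Subgroup.mem_map_of_mem ψ htmem)
  let u₀ : ι → A := Pi.mulSingle ω a
  have hu₀ : ∀ i, u₀ i ∈ Q := by
    intro i
    by_cases h : i = ω
    · rw [h]; simp only [u₀, Pi.mulSingle_eq_same]; exact ha
    · simp only [u₀, Pi.mulSingle_eq_of_ne h]; exact Q.one_mem
  let f : ↥(monSub Q T) := ⟨SemidirectProduct.inl u₀, ⟨hu₀, T.one_mem⟩⟩
  have hN : (derivedSeries ↥(monSub Q T) d).Normal := derivedSeries_normal _ d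
  have hh : ⁅f, ψ t⁆ ∈ derivedSeries ↥(monSub Q T) d := by
    rw [commutatorElement_def]
    exact Subgroup.mul_mem _ (hN.conj_mem _ hs f) (Subgroup.inv_mem _ hs)
  have hc : ⁅⁅f, ψ t⁆, ψ t⁆ ∈ derivedSeries ↥(monSub Q T) (d + 1) := by
    rw [derivedSeries_succ]
    exact Subgroup.commutator_mem_commutator hh hs
  intro hbot
  rw [hbot, Subgroup.mem_bot] at hc
  have hc' := congrArg Subtype.val hc
  have h1 : (⁅⁅f, ψ t⁆, ψ t⁆ : ↥(monSub Q T)).1 =
      ⁅⁅(SemidirectProduct.inl u₀ : Mon A ι), (SemidirectProduct.inr t.1 : Mon A ι)⁆,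
        (SemidirectProduct.inr t.1 : Mon A ι)⁆ := by
    simp only [commutatorElement_def, Subgroup.coe_mul, Subgroup.coe_inv]
    rfl
  rw [h1, comm_inl_inr, comm_inl_inr] at hc'
  have h2 : (SemidirectProduct.inl (u₀ * (permAut A ι) t.1 u₀⁻¹ *
      (permAut A ι) t.1 (u₀ * (permAut A ι) t.1 u₀⁻¹)⁻¹) : Mon A ι).left ω = 1 :=
    congrFun (congrArg SemidirectProduct.left hc') ω
  simp only [SemidirectProduct.left_inl, Pi.mul_apply, permAut_apply, Pi.inv_apply,
    mul_inv_rev, inv_inv] at h2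
  have e1 : u₀ ω = a := by simp [u₀]
  have e2 : u₀ ((t : Perm ι).symm ω) = 1 := by
    simp only [u₀]
    exact Pi.mulSingle_eq_of_ne hω' _
  rw [e1, e2] at h2
  by_cases h3 : (t : Perm ι).symm ((t : Perm ι).symm ω) = ω
  · rw [h3, e1] at h2
    apply ha2
    simpa using h2
  · have e3 : u₀ ((t : Perm ι).symm ((t : Perm ι).symm ω)) = 1 := by
      simp only [u₀]
      exact Pi.mulSingle_eq_of_ne h3 _
    rw [e3] at h2
    apply ha1
    simpa using h2

end

end Cfsg.Agent.Helper42
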