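import Mathlib
import Cfsg.Agent.Helper42.MonC
import Cfsg.Agent.Helper42.GLMon
import Cfsg.Agent.Helper42.GLCardP

set_option autoImplicit false
set_option linter.unusedSectionVars false

/-!
# Sylow `p`-subgroups of `GL_n(q)`, `p` odd, `p ∤ q`: derived length
-/

namespace Cfsg.Agent.Helper42

open Matrix Equiv

section general

theorem derivedSeries_one_eq_bot_of_comm {G : Type*} [Group G] (h : ∀ a b : G, a * b = b * a) :
    derivedSeries G 1 = ⊥ := by
  rw [derivedSeries_succ, derivedSeries_zero, eq_bot_iff, Subgroup.commutator_le]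
  intro a _ b _
  rw [Subgroup.mem_bot, commutatorElement_eq_one_iff_mul_comm]
  exact h a b

theorem card_monSub {A : Type*} [Group A] {ι : Type*} [Finite ι] (Q : Subgroup A)
    (T : Subgroup (Perm ι)) : Nat.card (monSub Q T) = Nat.card Q ^ Nat.card ι * Nat.card T := by
  have h1 : Nat.card ((ι → Q) × T) = Nat.card Q ^ Nat.card ι * Nat.card T := by
    rw [Nat.card_prod, Nat.card_fun]
  rw [← h1]
  apply Nat.card_congr
  exact
    { toFun := fun x => (fun i => ⟨x.1.left i, x.2.1 i⟩, ⟨x.1.right, x.2.2⟩)
      invFun := fun y => ⟨⟨fun i => (y.1 i).1, y.2.1⟩, ⟨fun i => (y.1 i).2, y.2.2⟩⟩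
      left_inv := fun x => rfl
      right_inv := fun y => rfl }

end general

end Cfsg.Agent.Helper42

namespace Cfsg.Agent.Helper42

open Matrix Equiv

/-- The derived length of a Sylow `p`-subgroup of `GL_n(F)`, `p` odd, `p ∤ |F|`. -/
theorem sylow_GL_derived (p : ℕ) [hp : Fact p.Prime] (hp2 : p ≠ 2) (F : Type*) [Field F] [Fintype F]
    (hpq : ¬ p ∣ Fintype.card F) (n : ℕ)
    (hn : orderOf ((Fintype.card F : ℕ) : ZMod p) ≤ n) (P : Sylow p (GL (Fin n) F)) :
    derivedSeries ↥(P : Subgroup (GL (Fin n) F))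
        (Nat.log p (n / orderOf ((Fintype.card F : ℕ) : ZMod p)) + 1) = ⊥ ∧
      derivedSeries ↥(P : Subgroup (GL (Fin n) F))
        (Nat.log p (n / orderOf ((Fintype.card F : ℕ) : ZMod p))) ≠ ⊥ := by
  classical
  have hq2 : 2 ≤ Fintype.card F := Fintype.one_lt_card
  set q := Fintype.card F with hq
  have he := orderOf_pos_of_not_dvd p q hpq
  set e := orderOf (q : ZMod p) with he_def
  set m := n / e with hm
  have hm1 : 1 ≤ m := Nat.div_pos hn he
  -- the field extension
  haveI hcp : CharP F (ringChar F) := ringChar.charP F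
  haveI hpp : Fact (ringChar F).Prime := ⟨CharP.char_is_prime F (ringChar F)⟩
  haveI : NeZero e := ⟨he.ne'⟩
  let K := FiniteField.Extension F (ringChar F) e
  have hK : Module.finrank F K = e := FiniteField.finrank_extension F (ringChar F) e
  let b : Module.Basis (Fin e) F K := Module.finBasisOfFinrankEq F K hK
  have hcardK : Nat.card K = q ^ e := by
    rw [FiniteField.natCard_extension, Nat.card_eq_fintype_card]
  have hcardKu : Nat.card Kˣ = q ^ e - 1 := by rw [Nat.card_units, hcardK]
  have hqe : q ^ e - 1 ≠ 0 := by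
    have : 1 < q ^ e := Nat.one_lt_pow he.ne' hq2
    omega
  -- the embedding
  have hr : m * e + (n - m * e) = n := by
    have : m * e ≤ n := Nat.div_mul_le_self n e
    omega
  let eqv : (Fin m × Fin e) ⊕ Fin (n - m * e) ≃ Fin n :=
    (Equiv.sumCongr finProdFinEquiv (Equiv.refl _)).trans (finSumFinEquiv.trans (finCongr hr))
  let Φ : Mon Kˣ (Fin m) →* GL (Fin n) F := (extGL eqv).comp ((resGL b m).comp (monGL K m))
  have hΦ : Function.Injective Φ :=
    (extGL_injective eqv).comp ((resGL_injective b m).comp monGL_injective)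
  let A : Sylow p Kˣ := default
  let T : Sylow p (Perm (Fin m)) := default
  let H : Subgroup (Mon Kˣ (Fin m)) := monSub (A : Subgroup Kˣ) (T : Subgroup (Perm (Fin m)))
  have hcardA : Nat.card (A : Subgroup Kˣ) = p ^ padicValNat p (q ^ e - 1) := by
    rw [A.card_eq_multiplicity, hcardKu, Nat.factorization_def _ hp.out]
  have hcardH : Nat.card (H.map Φ) = p ^ (Nat.card (GL (Fin n) F)).factorization p := by
    rw [Subgroup.card_map_of_injective hΦ, card_monSub, hcardA, T.card_eq_multiplicity,
      Nat.card_fin, Nat.card_perm, Nat.card_fin, Nat.factorization_def _ hp.out,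
      Nat.factorization_def _ hp.out, padicValNat_card_GL p F hp2 hpq n, ← pow_mul, ← pow_add]
    congr 1
    ring
  let W : Sylow p (GL (Fin n) F) := Sylow.ofCard _ hcardH
  let ε : ↥H ≃* ↥(W : Subgroup (GL (Fin n) F)) := H.equivMapOfInjective Φ hΦ
  -- commutativity of `A`
  have hAcomm : derivedSeries ↥(A : Subgroup Kˣ) 1 = ⊥ :=
    derivedSeries_one_eq_bot_of_comm (fun a b => mul_comm a b)
  set k := Nat.log p m with hk
  constructor
  · have hT : derivedSeries ↥(T : Subgroup (Perm (Fin m))) k = ⊥ :=
      (sylow_perm_derivedSeries p m hm1 T).1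
    have h1 : derivedSeries ↥H (k + 1) = ⊥ :=
      derivedSeries_monSub_eq_bot (A : Subgroup Kˣ) (T : Subgroup (Perm (Fin m))) k 1 hT hAcomm
    have h2 : derivedSeries ↥(W : Subgroup (GL (Fin n) F)) (k + 1) = ⊥ :=
      derivedSeries_eq_bot_of_injective ε.symm.toMonoidHom ε.symm.injective _ h1
    exact derivedSeries_eq_bot_of_injective (W.equiv P).symm.toMonoidHom
      (W.equiv P).symm.injective _ h2
  · -- an element of order `p` in `A`
    have hpA : p ∣ Nat.card (A : Subgroup Kˣ) := by
      rw [hcardA]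
      apply dvd_pow_self
      intro h0
      have hdvd : p ∣ q ^ e - 1 := (dvd_pow_sub_one_iff p q (by omega) e).2 dvd_rfl
      rcases padicValNat.eq_zero_iff.1 h0 with h | h | h
      · exact hp.out.one_lt.ne' h
      · exact hqe h
      · exact h hdvd
    obtain ⟨x, hx⟩ := exists_prime_orderOf_dvd_card' p hpA
    have hx1 : (x : Kˣ) ≠ 1 := by
      intro h
      have : x = 1 := Subtype.ext h
      rw [this, orderOf_one] at hx
      exact hp.out.one_lt.ne hx
    have hx2 : (x : Kˣ) * (x : Kˣ) ≠ 1 := by
      intro h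
      have h' : x ^ 2 = 1 := by
        apply Subtype.ext
        rw [Subgroup.coe_pow, pow_two]
        exact h
      have := orderOf_dvd_of_pow_eq_one h'
      rw [hx] at this
      exact hp2 ((Nat.prime_dvd_prime_iff_eq hp.out Nat.prime_two).1 this)
    have hH : derivedSeries ↥H k ≠ ⊥ := by
      rcases Nat.eq_zero_or_pos k with hk0 | hkpos
      · rw [hk0, derivedSeries_zero]
        intro hbot
        have hmem : (⟨SemidirectProduct.inl (fun _ => (x : Kˣ)),
            ⟨fun _ => x.2, Subgroup.one_mem _⟩⟩ : ↥H) ∈ (⊤ : Subgroup ↥H) := Subgroup.mem_top _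
        rw [hbot, Subgroup.mem_bot] at hmem
        have h1 := congrArg (fun y : ↥H => y.1.left ⟨0, hm1⟩) hmem
        exact hx1 h1
      · have hT := (sylow_perm_derivedSeries p m hm1 T).2 hkpos
        have := derivedSeries_monSub_ne_bot (A : Subgroup Kˣ) (T : Subgroup (Perm (Fin m)))
          (x : Kˣ) x.2 hx1 hx2 (k - 1) hT
        have e1 : k - 1 + 1 = k := by omega
        rw [e1] at this
        exact this
    intro hP
    apply hH
    apply derivedSeries_eq_bot_of_injective ε.toMonoidHom ε.injective
    exact derivedSeries_eq_bot_of_injective (W.equiv P).toMonoidHom (W.equiv P).injective _ hP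

end Cfsg.Agent.Helper42
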