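import Mathlib
import Cfsg.Prelude.Def_CaseTheorems
import Cfsg.Agent.Helper37.TwoRankSL
import Cfsg.Agent.Helper42.GLMon

set_option autoImplicit false
set_option linter.unusedSectionVars false

/-!
# Auxiliary lemmas for Sylow 2-subgroups of `GL_n(q)`
-/

namespace Cfsg.Agent.Helper42

open Matrix Equiv

/-- the `2`-rank of `GL_n(F)` is at most `n` -/
theorem GL_upper {F : Type*} [Field F] (h2 : (2 : F) ≠ 0) (n : ℕ) :
    Cfsg.PRankLE 2 n (GL (Fin n) F) := by
  classical
  intro A hA hA2
  obtain ⟨b, c, hbc, hc, -, hinj⟩ := Cfsg.Agent.Helper37.exists_eigenbasis_matrices h2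
    (fun a : A => ((a : GL (Fin n) F) : Matrix (Fin n) (Fin n) F))
    (fun a a' => by
      have := hA.is_comm.comm a a'
      have := congrArg (fun x : A => ((x : GL (Fin n) F) : Matrix (Fin n) (Fin n) F)) this
      simpa using this)
    (fun a => by
      have := hA2 a.1 a.2
      have := congrArg (fun x : GL (Fin n) F => (x : Matrix (Fin n) (Fin n) F)) this
      simpa [pow_two] using this)
  have hinj' : Function.Injective (fun (a : A) (k : Fin n) => decide (c a k = 1)) := by
    intro a a' h
    have h1 : ∀ k, c a k = c a' k := by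
      intro k
      have hk := congrFun h k
      simp only [decide_eq_decide] at hk
      rcases hc a k with h1 | h1
      · rw [h1, hk.1 h1]
      · rcases hc a' k with h1' | h1'
        · rw [hk.2 h1', h1']
        · rw [h1, h1']
    have := hinj a a' h1
    exact Subtype.ext (Units.ext this)
  have := Nat.card_le_card_of_injective _ hinj'
  rw [Nat.card_eq_fintype_card (α := Fin n → Bool), Fintype.card_fun, Fintype.card_bool,
    Fintype.card_fin] at this
  exact this

section negOne
variable {R : Type*} [Ring R]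

/-- the subgroup `{1, -1}` of the units -/
def negOneSub (R : Type*) [Ring R] : Subgroup Rˣ := Subgroup.zpowers (-1)

theorem mem_negOneSub {z : Rˣ} (hz : z ∈ negOneSub R) : z = 1 ∨ z = -1 := by
  obtain ⟨k, rfl⟩ := Subgroup.mem_zpowers_iff.1 hz
  rcases Int.even_or_odd k with h | h
  · left; exact Even.neg_one_zpow h
  · right; exact Odd.neg_one_zpow h

theorem negOneSub_comm {z : Rˣ} (hz : z ∈ negOneSub R) (a : Rˣ) : a * z = z * a := by
  rcases mem_negOneSub hz with rfl | rfl
  · simp
  · apply Units.ext
    simp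

theorem negOneSub_sq {z : Rˣ} (hz : z ∈ negOneSub R) : z * z = 1 := by
  rcases mem_negOneSub hz with rfl | rfl
  · simp
  · simp

theorem card_negOneSub (h : (-1 : R) ≠ 1) : Nat.card (negOneSub R) = 2 := by
  rw [negOneSub, Nat.card_zpowers]
  apply orderOf_eq_prime
  · simp
  · intro h'
    apply h
    have := congrArg Units.val h'
    simpa using this

theorem isPGroup_negOneSub : IsPGroup 2 (negOneSub R) := by
  intro z
  refine ⟨1, ?_⟩
  apply Subtype.ext
  rw [pow_one, Subgroup.coe_pow, pow_two]
  exact negOneSub_sq z.2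

theorem negOneSub_normal : (negOneSub R).Normal := by
  constructor
  intro z hz g
  rw [negOneSub_comm hz g, mul_inv_cancel_right]
  exact hz

end negOne

section ext2
variable {F : Type*} [Field F] {ι ρ κ : Type*} [Fintype ι] [DecidableEq ι] [Fintype ρ]
  [DecidableEq ρ] [Fintype κ] [DecidableEq κ]

/-- block diagonal embedding `(M, N) ↦ diag(M, N)` -/
def blockTwo (F : Type*) [Field F] (ι ρ : Type*) [Fintype ι] [DecidableEq ι] [Fintype ρ]
    [DecidableEq ρ] : Matrix ι ι F × Matrix ρ ρ F →* Matrix (ι ⊕ ρ) (ι ⊕ ρ) F where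
  toFun M := fromBlocks M.1 0 0 M.2
  map_one' := fromBlocks_one
  map_mul' M N := by
    rw [fromBlocks_multiply]
    simp

theorem blockTwo_injective : Function.Injective (blockTwo F ι ρ) := by
  intro M N h
  have := fromBlocks_inj.1 h
  exact Prod.ext this.1 this.2.2.2

/-- `GL ι F × GL ρ F → GL κ F` along `ι ⊕ ρ ≃ κ` -/
def extGL2 (eqv : ι ⊕ ρ ≃ κ) : GL ι F × GL ρ F →* GL κ F :=
  (Units.map ((Matrix.reindexRingEquiv F eqv).toRingHom.toMonoidHom.comp (blockTwo F ι ρ))).comp
    (MulEquiv.prodUnits (M := Matrix ι ι F) (N := Matrix ρ ρ F)).symm.toMonoidHom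

theorem extGL2_injective (eqv : ι ⊕ ρ ≃ κ) : Function.Injective (extGL2 (F := F) eqv) := by
  have h1 : Function.Injective
      (Units.map ((Matrix.reindexRingEquiv F eqv).toRingHom.toMonoidHom.comp (blockTwo F ι ρ))) :=
    Units.map_injective ((Matrix.reindexRingEquiv F eqv).injective.comp blockTwo_injective)
  exact h1.comp (MulEquiv.prodUnits (M := Matrix ι ι F) (N := Matrix ρ ρ F)).symm.injective

end ext2

end Cfsg.Agent.Helper42
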