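import Mathlib
import Cfsg.Prelude.Def_Transfer
import Cfsg.Agent.Helper42.MonA
import Cfsg.Agent.Helper42.GLSyl

set_option autoImplicit false
set_option linter.unusedSectionVars false

/-!
# Normal elementary abelian subgroups of `Q ≀ T`
-/

namespace Cfsg.Agent.Helper42

open Equiv

section
variable {A : Type*} [Group A] {ι : Type*}

theorem permAut_symm_apply (σ : Perm ι) (g : ι → A) (j : ι) :
    (permAut A ι σ).symm g j = g (σ j) := rfl

theorem conj_inl (x : Mon A ι) (f : ι → A) :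
    x * SemidirectProduct.inl f * x⁻¹ =
      SemidirectProduct.inl (x.left * permAut A ι x.right f * x.left⁻¹) := by
  ext i
  · simp only [SemidirectProduct.mul_left, SemidirectProduct.mul_right, SemidirectProduct.inv_left,
      SemidirectProduct.left_inl, SemidirectProduct.right_inl, mul_one, Pi.mul_apply,
      permAut_apply, Pi.inv_apply, map_inv]
    simp [permAut_symm_apply]
  · simp

/-- the normal elementary abelian subgroup `Z ^ ι` of `Q ≀ T` -/
theorem exists_normal_EA_monSub [Finite ι] (Q : Subgroup A) (T : Subgroup (Perm ι))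
    (Z : Subgroup A) (hZQ : Z ≤ Q) (hZc : ∀ z ∈ Z, ∀ a ∈ Q, a * z = z * a)
    (hZ2 : ∀ z ∈ Z, z * z = 1) :
    ∃ E : Subgroup ↥(monSub Q T), E.Normal ∧ Cfsg.IsElementaryAbelian 2 E ∧
      Nat.card E = Nat.card Z ^ Nat.card ι := by
  have hle : monSub Z (⊥ : Subgroup (Perm ι)) ≤ monSub Q T := by
    rintro x ⟨hx1, hx2⟩
    rw [Subgroup.mem_bot] at hx2
    exact ⟨fun i => hZQ (hx1 i), by rw [hx2]; exact T.one_mem⟩
  have hmem : ∀ x : Mon A ι, x ∈ monSub Z (⊥ : Subgroup (Perm ι)) ↔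
      ∃ f : ι → A, (∀ i, f i ∈ Z) ∧ x = SemidirectProduct.inl f := by
    intro x
    constructor
    · rintro ⟨hx1, hx2⟩
      rw [Subgroup.mem_bot] at hx2
      refine ⟨x.left, hx1, ?_⟩
      ext i
      · rfl
      · rw [hx2]; rfl
    · rintro ⟨f, hf, rfl⟩
      exact ⟨hf, Subgroup.one_mem _⟩
  refine ⟨(monSub Z (⊥ : Subgroup (Perm ι))).subgroupOf (monSub Q T), ?_, ⟨?_, ?_⟩, ?_⟩
  · constructor
    rintro ⟨e, he'⟩ he ⟨w, hw⟩
    rw [Subgroup.mem_subgroupOf] at he ⊢
    obtain ⟨f, hf, rfl⟩ := (hmem _).1 he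
    show w * SemidirectProduct.inl f * w⁻¹ ∈ _
    rw [conj_inl]
    refine (hmem _).2 ⟨_, fun i => ?_, rfl⟩
    simp only [Pi.mul_apply, permAut_apply, Pi.inv_apply]
    rw [hZc _ (hf _) _ (hw.1 i), mul_assoc, mul_inv_cancel, mul_one]
    exact hf _
  · constructor
    constructor
    rintro ⟨⟨a, ha'⟩, ha⟩ ⟨⟨b, hb'⟩, hb⟩
    rw [Subgroup.mem_subgroupOf] at ha hb
    obtain ⟨f, hf, rfl⟩ := (hmem _).1 ha
    obtain ⟨f', hf', rfl⟩ := (hmem _).1 hb
    apply Subtype.ext
    apply Subtype.ext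
    show (SemidirectProduct.inl f * SemidirectProduct.inl f' : Mon A ι) =
      SemidirectProduct.inl f' * SemidirectProduct.inl f
    rw [← map_mul, ← map_mul]
    congr 1
    funext i
    exact hZc _ (hf' i) _ (hZQ (hf i))
  · rintro ⟨a, ha'⟩ ha
    rw [Subgroup.mem_subgroupOf] at ha
    obtain ⟨f, hf, rfl⟩ := (hmem _).1 ha
    apply Subtype.ext
    show (SemidirectProduct.inl f : Mon A ι) ^ 2 = 1
    rw [← map_pow]
    have : f ^ 2 = 1 := by
      funext i
      rw [Pi.pow_apply, pow_two]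
      exact hZ2 _ (hf i)
    rw [this, map_one]
  · rw [Nat.card_congr (Subgroup.subgroupOfEquivOfLe hle).toEquiv, card_monSub, Subgroup.card_bot,
      mul_one]

end

end Cfsg.Agent.Helper42
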