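import Mathlib
import Cfsg.Agent.Helper42.MonD

set_option autoImplicit false
set_option linter.unusedSectionVars false

/-!
# Upper bound for normal elementary abelian subgroups of `Q ≀ T`
-/

namespace Cfsg.Agent.Helper42

open Equiv

section
variable {A : Type*} [Group A] {ι : Type*} [DecidableEq ι]

theorem single_mem_monSub (Q : Subgroup A) (T : Subgroup (Perm ι)) (j : ι) {u : A} (hu : u ∈ Q) :
    (SemidirectProduct.inl (Pi.mulSingle j u) : Mon A ι) ∈ monSub Q T := by
  refine ⟨fun i => ?_, T.one_mem⟩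
  by_cases h : i = j
  · rw [h]; simp only [SemidirectProduct.left_inl, Pi.mulSingle_eq_same]; exact hu
  · simp only [SemidirectProduct.left_inl, Pi.mulSingle_eq_of_ne h]; exact Q.one_mem

/-- elements of a normal elementary abelian subgroup have trivial permutation part -/
theorem right_eq_one_of_normal_EA (Q : Subgroup A) (T : Subgroup (Perm ι))
    (hQ1 : ∃ u ∈ Q, u * u ≠ 1) (E : Subgroup ↥(monSub Q T)) (hE : E.Normal)
    (hEA : Cfsg.IsElementaryAbelian 2 E) (x : ↥(monSub Q T)) (hx : x ∈ E) : x.1.right = 1 := by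
  by_contra hne
  obtain ⟨u, hu, hu2⟩ := hQ1
  obtain ⟨j, hj⟩ : ∃ j, x.1.right.symm j ≠ j := by
    by_contra hcon
    push Not at hcon
    apply hne
    ext i
    have := hcon (x.1.right i)
    rw [Equiv.symm_apply_apply] at this
    rw [Perm.one_apply]
    exact this.symm
  let h : ↥(monSub Q T) := ⟨SemidirectProduct.inl (Pi.mulSingle j u), single_mem_monSub Q T j hu⟩
  have hw : h * x * h⁻¹ * x⁻¹ ∈ E := E.mul_mem (hE.conj_mem x hx h) (E.inv_mem hx)
  have hsq := hEA.2 _ hw
  have hval : (h * x * h⁻¹ * x⁻¹).1 = SemidirectProduct.inl (Pi.mulSingle j u *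
      (x.1.left * permAut A ι x.1.right (Pi.mulSingle j u)⁻¹ * x.1.left⁻¹)) := by
    have h1 : (h * x * h⁻¹ * x⁻¹).1 =
        SemidirectProduct.inl (Pi.mulSingle j u) * (x.1 * (SemidirectProduct.inl (Pi.mulSingle j u))⁻¹ *
          x.1⁻¹) := by
      simp only [Subgroup.coe_mul, Subgroup.coe_inv, h, mul_assoc]
    rw [h1, ← map_inv, conj_inl, ← map_mul]
  have h2 := congrArg Subtype.val hsq
  rw [Subgroup.coe_pow, hval, ← map_pow] at h2
  have h3 := congrFun (SemidirectProduct.inl_injective (h2.trans (map_one _).symm)) j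
  simp only [Pi.pow_apply, Pi.mul_apply, permAut_apply, Pi.inv_apply, Pi.one_apply,
    Pi.mulSingle_eq_same, Pi.mulSingle_eq_of_ne hj, inv_one, mul_one, mul_inv_cancel] at h3
  apply hu2
  rw [← pow_two]
  exact h3

/-- a normal elementary abelian subgroup of `Q ≀ T` has order at most `c ^ |ι|`, where `c` bounds
the normal elementary abelian subgroups of `Q` -/
theorem card_le_of_normal_EA_monSub [Fintype ι] (Q : Subgroup A) [Finite Q] (T : Subgroup (Perm ι))
    (c : ℕ) (hQ1 : ∃ u ∈ Q, u * u ≠ 1)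
    (hQ2 : ∀ N : Subgroup ↥Q, N.Normal → Cfsg.IsElementaryAbelian 2 N → Nat.card N ≤ c)
    (E : Subgroup ↥(monSub Q T)) (hE : E.Normal) (hEA : Cfsg.IsElementaryAbelian 2 E) :
    Nat.card E ≤ c ^ Fintype.card ι := by
  have hr : ∀ x : ↥(monSub Q T), x ∈ E → x.1.right = 1 :=
    right_eq_one_of_normal_EA Q T hQ1 E hE hEA
  let ev : ι → (↥E →* ↥Q) := fun i =>
    { toFun := fun x => ⟨x.1.1.left i, x.1.2.1 i⟩
      map_one' := rfl
      map_mul' := fun x y => by
        apply Subtype.ext
        show (x.1.1 * y.1.1).left i = x.1.1.left i * y.1.1.left i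
        rw [SemidirectProduct.mul_left, Pi.mul_apply, permAut_apply, hr x.1 x.2]
        rfl }
  let N : ι → Subgroup ↥Q := fun i => (ev i).range
  have hN : ∀ i, Nat.card (N i) ≤ c := by
    intro i
    apply hQ2
    · constructor
      rintro _ ⟨x, rfl⟩ a
      let h : ↥(monSub Q T) :=
        ⟨SemidirectProduct.inl (Pi.mulSingle i a.1), single_mem_monSub Q T i a.2⟩
      refine ⟨⟨h * x.1 * h⁻¹, hE.conj_mem x.1 x.2 h⟩, ?_⟩
      apply Subtype.ext
      show (h.1 * x.1.1 * h.1⁻¹).left i = a.1 * x.1.1.left i * a.1⁻¹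
      have hx : x.1.1 = SemidirectProduct.inl x.1.1.left := by
        ext k
        · rfl
        · rw [hr x.1 x.2]; rfl
      rw [hx]
      show (SemidirectProduct.inl (Pi.mulSingle i a.1) * SemidirectProduct.inl x.1.1.left *
        (SemidirectProduct.inl (Pi.mulSingle i a.1))⁻¹ : Mon A ι).left i = _
      rw [← map_inv, ← map_mul, ← map_mul]
      simp
    · constructor
      · constructor
        constructor
        rintro ⟨_, x, rfl⟩ ⟨_, y, rfl⟩
        apply Subtype.ext
        show ev i x * ev i y = ev i y * ev i x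
        rw [← map_mul, ← map_mul, hEA.1.is_comm.comm x y]
      · rintro _ ⟨x, rfl⟩
        rw [← map_pow]
        have : x ^ 2 = 1 := by
          apply Subtype.ext
          rw [Subgroup.coe_pow]
          exact hEA.2 x.1 x.2
        rw [this, map_one]
  have hinj : Function.Injective (fun (x : ↥E) (i : ι) => (⟨ev i x, ⟨x, rfl⟩⟩ : ↥(N i))) := by
    intro x y hxy
    apply Subtype.ext
    apply Subtype.ext
    ext k
    · have := congrArg (fun z : ↥(N k) => (z.1 : A)) (congrFun hxy k)
      exact this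
    · rw [hr x.1 x.2, hr y.1 y.2]
  calc Nat.card E ≤ Nat.card (∀ i, ↥(N i)) := Nat.card_le_card_of_injective _ hinj
    _ = ∏ i, Nat.card (N i) := Nat.card_pi
    _ ≤ c ^ (Finset.univ : Finset ι).card := Finset.prod_le_pow_card _ _ _ (fun i _ => hN i)
    _ = c ^ Fintype.card ι := by rw [Finset.card_univ]

end

end Cfsg.Agent.Helper42
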