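import Mathlib
import Cfsg.Prelude.Def_Transfer
import Cfsg.Prelude.Def_CaseTheorems

set_option autoImplicit false
set_option linter.unusedSectionVars false

/-!
# Normal elementary abelian subgroups: products, transport, quasi-dihedral groups
-/

namespace Cfsg.Agent.Helper42

section prod
variable {H C : Type*} [Group H] [Group C]

theorem exists_normal_EA_prod (hC : ∀ a b : C, a * b = b * a) (hC2 : ∀ c : C, c ^ 2 = 1) {k : ℕ}
    (h : ∃ E : Subgroup H, E.Normal ∧ Cfsg.IsElementaryAbelian 2 E ∧ Nat.card E = k) :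
    ∃ E : Subgroup (H × C), E.Normal ∧ Cfsg.IsElementaryAbelian 2 E ∧
      Nat.card E = k * Nat.card C := by
  obtain ⟨E, hN, ⟨hc, h2⟩, hcard⟩ := h
  refine ⟨E.prod ⊤, ?_, ⟨?_, ?_⟩, ?_⟩
  · exact Subgroup.prod_normal E ⊤
  · constructor
    constructor
    rintro ⟨⟨a, a'⟩, ha⟩ ⟨⟨b, b'⟩, hb⟩
    apply Subtype.ext
    have ha1 : a ∈ E := (Subgroup.mem_prod.1 ha).1
    have hb1 : b ∈ E := (Subgroup.mem_prod.1 hb).1
    have := congrArg Subtype.val (hc.is_comm.comm ⟨a, ha1⟩ ⟨b, hb1⟩)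
    show (a * b, a' * b') = (b * a, b' * a')
    rw [hC a' b']
    exact congrArg (fun t => (t, b' * a')) this
  · rintro ⟨a, a'⟩ ha
    have ha1 : a ∈ E := (Subgroup.mem_prod.1 ha).1
    show (a ^ 2, a' ^ 2) = 1
    rw [h2 a ha1, hC2 a']
    rfl
  · rw [Nat.card_congr (Subgroup.prodEquiv E ⊤).toEquiv, Nat.card_prod, hcard]
    congr 1
    exact Nat.card_congr (Subgroup.topEquiv (G := C)).toEquiv

theorem card_le_of_normal_EA_prod [Finite H] [Finite C] {k : ℕ}
    (hU : ∀ E : Subgroup H, E.Normal → Cfsg.IsElementaryAbelian 2 E → Nat.card E ≤ k)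
    (E : Subgroup (H × C)) (hE : E.Normal) (hEA : Cfsg.IsElementaryAbelian 2 E) :
    Nat.card E ≤ k * Nat.card C := by
  obtain ⟨hc, h2⟩ := hEA
  have h1 : Nat.card (E.map (MonoidHom.fst H C)) ≤ k := by
    apply hU
    · exact hE.map _ (fun a => ⟨(a, 1), rfl⟩)
    · constructor
      · constructor
        constructor
        rintro ⟨_, x, hx, rfl⟩ ⟨_, y, hy, rfl⟩
        apply Subtype.ext
        have := congrArg Subtype.val (hc.is_comm.comm ⟨x, hx⟩ ⟨y, hy⟩)
        exact congrArg Prod.fst this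
      · rintro _ ⟨x, hx, rfl⟩
        rw [← map_pow, h2 x hx, map_one]
  have hle : E ≤ (E.map (MonoidHom.fst H C)).prod ⊤ := by
    intro x hx
    exact Subgroup.mem_prod.2 ⟨⟨x, hx, rfl⟩, Subgroup.mem_top _⟩
  calc Nat.card E ≤ Nat.card ((E.map (MonoidHom.fst H C)).prod ⊤ : Subgroup (H × C)) :=
        Subgroup.card_le_of_le hle
    _ = Nat.card (E.map (MonoidHom.fst H C)) * Nat.card C := by
        rw [Nat.card_congr (Subgroup.prodEquiv _ ⊤).toEquiv, Nat.card_prod]
        congr 1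
        exact Nat.card_congr (Subgroup.topEquiv (G := C)).toEquiv
    _ ≤ k * Nat.card C := Nat.mul_le_mul_right _ h1

end prod

section transport

theorem forall_normal_EA_of_mulEquiv {G G' : Type*} [Group G] [Group G'] (e : G ≃* G') {p k : ℕ}
    (h : ∀ E : Subgroup G, E.Normal → Cfsg.IsElementaryAbelian p E → Nat.card E ≤ k)
    (E : Subgroup G') (hE : E.Normal) (hEA : Cfsg.IsElementaryAbelian p E) : Nat.card E ≤ k := by
  obtain ⟨hc, hp⟩ := hEA
  have h1 := h (E.map e.symm.toMonoidHom) (hE.map _ e.symm.surjective) ⟨?_, ?_⟩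
  · rwa [Subgroup.card_map_of_injective (f := e.symm.toMonoidHom) e.symm.injective] at h1
  · constructor
    constructor
    rintro ⟨_, x, hx, rfl⟩ ⟨_, y, hy, rfl⟩
    apply Subtype.ext
    show e.symm.toMonoidHom x * e.symm.toMonoidHom y = e.symm.toMonoidHom y * e.symm.toMonoidHom x
    have := congrArg Subtype.val (hc.is_comm.comm ⟨x, hx⟩ ⟨y, hy⟩)
    rw [← map_mul, ← map_mul]
    exact congrArg _ this
  · rintro _ ⟨x, hx, rfl⟩
    rw [← map_pow, hp x hx, map_one]

end transport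

section qd

/-- a normal elementary abelian subgroup of a quasi-dihedral group has order at most `2` -/
theorem card_le_two_of_normal_EA_quasiDihedral {S : Type*} [Group S] (hS : Cfsg.IsQuasiDihedral S)
    (N : Subgroup S) (hN : N.Normal) (hEA : Cfsg.IsElementaryAbelian 2 N) : Nat.card N ≤ 2 := by
  obtain ⟨n, hn, hcard, x, y, hx, hy, hxy⟩ := hS
  obtain ⟨-, h2⟩ := hEA
  have hfin : Finite S := Nat.finite_of_card_ne_zero (by rw [hcard]; positivity)
  have hpow : (2 : ℕ) ^ n = 2 ^ (n - 1) * 2 := by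
    rw [← pow_succ]; congr 1; omega
  -- the cyclic subgroup has index two
  have hidx : (Subgroup.zpowers x).index = 2 := by
    have h1 := Subgroup.card_mul_index (Subgroup.zpowers x)
    rw [Nat.card_zpowers, hx, hcard, pow_succ] at h1
    exact Nat.eq_of_mul_eq_mul_left (by positivity) h1
  have hynot : y ∉ Subgroup.zpowers x := by
    intro hy'
    obtain ⟨k, hk⟩ := Subgroup.mem_zpowers_iff.1 hy'
    have hcomm : y * x = x * y := by rw [← hk]; exact (Commute.zpow_self x k)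
    have h1 : x = x ^ (2 ^ (n - 1) - 1) := by
      rw [← hxy, hcomm, mul_inv_cancel_right]
    have h3 : x ^ (2 ^ (n - 1) - 2) = 1 := by
      have e1 : 2 ^ (n - 1) - 1 = (2 ^ (n - 1) - 2) + 1 := by
        have : 2 ^ 2 ≤ 2 ^ (n - 1) := Nat.pow_le_pow_right (by norm_num) (by omega)
        omega
      rw [e1, pow_succ] at h1
      exact (mul_eq_right.1 h1.symm)
    have h4 := orderOf_dvd_of_pow_eq_one h3
    rw [hx] at h4
    have h5 : 2 ^ 2 ≤ 2 ^ (n - 1) := Nat.pow_le_pow_right (by norm_num) (by omega)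
    have h6 : 2 ^ n ≤ 2 ^ (n - 1) - 2 := Nat.le_of_dvd (by omega) h4
    omega
  -- conjugation of `x` by an element outside `⟨x⟩`
  have hconj : ∀ t : S, t ∉ Subgroup.zpowers x → t * x * t⁻¹ = x ^ (2 ^ (n - 1) - 1) := by
    intro t ht
    have h1 : t * y⁻¹ ∈ Subgroup.zpowers x := by
      rw [Subgroup.mul_mem_iff_of_index_two hidx]
      constructor
      · intro h; exact absurd h ht
      · intro h; exact absurd ((Subgroup.inv_mem_iff _).1 h) hynot
    obtain ⟨k, hk⟩ := Subgroup.mem_zpowers_iff.1 h1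
    have ht' : t = x ^ k * y := by rw [hk]; group
    rw [ht']
    have : x ^ k * y * x * (x ^ k * y)⁻¹ = x ^ k * (y * x * y⁻¹) * (x ^ k)⁻¹ := by group
    rw [this, hxy]
    have hc : Commute (x ^ k) (x ^ (2 ^ (n - 1) - 1)) := (Commute.zpow_self x k).pow_right _
    rw [hc.eq, mul_inv_cancel_right]
  -- `N` lies in `⟨x⟩`
  have hsub : ∀ t ∈ N, t ∈ Subgroup.zpowers x := by
    intro t ht
    by_contra hnot
    have h1 : x * t * x⁻¹ ∈ N := hN.conj_mem t ht x
    have h3 : x * t * x⁻¹ * t⁻¹ ∈ N := N.mul_mem h1 (N.inv_mem ht)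
    have h4 : x * t * x⁻¹ * t⁻¹ = x * (x ^ (2 ^ (n - 1) - 1))⁻¹ := by
      have : x * t * x⁻¹ * t⁻¹ = x * (t * x * t⁻¹)⁻¹ := by group
      rw [this, hconj t hnot]
    have h5 := h2 _ h3
    rw [h4] at h5
    have hc : Commute x ((x ^ (2 ^ (n - 1) - 1))⁻¹) := (Commute.self_pow x _).inv_right
    rw [hc.mul_pow, inv_pow, ← pow_mul, mul_inv_eq_one] at h5
    -- x^2 = x^((2^(n-1)-1)*2) = x^(2^n - 2)
    have h6 : x ^ (2 ^ n - 2 - 2) = 1 := by
      have e1 : (2 ^ (n - 1) - 1) * 2 = (2 ^ n - 2 - 2) + 2 := by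
        have : 2 ^ 2 ≤ 2 ^ (n - 1) := Nat.pow_le_pow_right (by norm_num) (by omega)
        rw [hpow]
        omega
      rw [e1, pow_add] at h5
      exact (mul_eq_right.1 h5.symm)
    have h7 := orderOf_dvd_of_pow_eq_one h6
    rw [hx] at h7
    have h8 : 2 ^ 3 ≤ 2 ^ n := Nat.pow_le_pow_right (by norm_num) hn
    have h9 : 2 ^ n ≤ 2 ^ n - 2 - 2 := Nat.le_of_dvd (by omega) h7
    omega
  -- elements of `N` are `1` or `x ^ 2^(n-1)`
  have hle : N ≤ Subgroup.zpowers (x ^ 2 ^ (n - 1)) := by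
    intro t ht
    obtain ⟨k, rfl⟩ := Subgroup.mem_zpowers_iff.1 (hsub t ht)
    have h1 := h2 _ ht
    rw [← zpow_natCast, ← zpow_mul] at h1
    have h3 := (orderOf_dvd_iff_zpow_eq_one).2 h1
    rw [hx] at h3
    obtain ⟨j, hj⟩ : ((2 ^ (n - 1) : ℕ) : ℤ) ∣ k := by
      have : ((2 ^ n : ℕ) : ℤ) = ((2 ^ (n - 1) : ℕ) : ℤ) * 2 := by
        rw [hpow]; push_cast; ring
      rw [this] at h3
      exact (mul_dvd_mul_iff_right (by norm_num : (2 : ℤ) ≠ 0)).1 (by simpa [mul_comm] using h3)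
    rw [Subgroup.mem_zpowers_iff]
    refine ⟨j, ?_⟩
    rw [hj, zpow_mul, zpow_natCast]
  calc Nat.card N ≤ Nat.card (Subgroup.zpowers (x ^ 2 ^ (n - 1))) := Subgroup.card_le_of_le hle
    _ = orderOf (x ^ 2 ^ (n - 1)) := Nat.card_zpowers _
    _ ≤ 2 := by
      apply Nat.le_of_dvd (by norm_num)
      apply orderOf_dvd_of_pow_eq_one
      rw [← pow_mul, ← hpow, ← hx, pow_orderOf_eq_one]

end qd

end Cfsg.Agent.Helper42
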