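import Mathlib
import Cfsg.Agent.Helper42.SpSylE

set_option autoImplicit false
set_option linter.unusedSectionVars false

/-!
# Normal 2-rank of Sylow 2-subgroups of `Sp_{2n}(F)`: final assembly
-/

namespace Cfsg.Agent.Helper42

open Matrix Equiv

theorem exists_normal_EA_of_mulEquiv {G G' : Type*} [Group G] [Group G'] (e : G ≃* G') {p m : ℕ}
    (h : ∃ E : Subgroup G, E.Normal ∧ Cfsg.IsElementaryAbelian p E ∧ m ≤ Nat.card E) :
    ∃ E : Subgroup G', E.Normal ∧ Cfsg.IsElementaryAbelian p E ∧ m ≤ Nat.card E := by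
  obtain ⟨E, hN, ⟨hc, hp⟩, hcard⟩ := h
  refine ⟨E.map e.toMonoidHom, hN.map _ e.surjective, ⟨?_, ?_⟩, ?_⟩
  · constructor
    constructor
    rintro ⟨_, x, hx, rfl⟩ ⟨_, y, hy, rfl⟩
    apply Subtype.ext
    show e.toMonoidHom x * e.toMonoidHom y = e.toMonoidHom y * e.toMonoidHom x
    have := congrArg Subtype.val (hc.is_comm.comm ⟨x, hx⟩ ⟨y, hy⟩)
    rw [← map_mul, ← map_mul]
    exact congrArg _ this
  · rintro _ ⟨x, hx, rfl⟩
    rw [← map_pow, hp x hx, map_one]
  · rw [Subgroup.card_map_of_injective (f := e.toMonoidHom) e.injective]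
    exact hcard

theorem card_le_of_PRankLE {G : Type*} [Group G] {p k : ℕ} (h : Cfsg.PRankLE p k G)
    (S : Subgroup G) (E : Subgroup ↥S) (hE : Cfsg.IsElementaryAbelian p E) : Nat.card E ≤ p ^ k := by
  obtain ⟨hc, hp⟩ := hE
  have h1 := h (E.map S.subtype) ?_ ?_
  · rwa [Subgroup.card_map_of_injective S.subtype_injective] at h1
  · constructor
    constructor
    rintro ⟨_, x, hx, rfl⟩ ⟨_, y, hy, rfl⟩
    apply Subtype.ext
    show S.subtype x * S.subtype y = S.subtype y * S.subtype x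
    have := congrArg Subtype.val (hc.is_comm.comm ⟨x, hx⟩ ⟨y, hy⟩)
    rw [← map_mul, ← map_mul]
    exact congrArg _ this
  · rintro _ ⟨x, hx, rfl⟩
    rw [← map_pow, hp x hx, map_one]

variable {F : Type*} [Field F] [Fintype F]

theorem isPGroup_center_SL2 : IsPGroup 2 (Subgroup.center (SpecialLinearGroup (Fin 2) F)) := by
  intro z
  refine ⟨1, ?_⟩
  apply Subtype.ext
  rw [pow_one, Subgroup.coe_pow]
  exact Cfsg.Agent.Helper37.SL2Q.sq_eq_one_of_mem_center z.1 z.2

/-- the normal 2-rank of a Sylow 2-subgroup of `Sp_{2n}(F)` is `n` -/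
theorem sylow_sp_normal_rank (hF : Odd (Fintype.card F)) (n : ℕ)
    (S : Sylow 2 (symplecticGroup (Fin n) F)) :
    (∃ E : Subgroup ↥(S : Subgroup (symplecticGroup (Fin n) F)), E.Normal ∧
        Cfsg.IsElementaryAbelian 2 E ∧ 2 ^ n ≤ Nat.card E) ∧
      ∀ E : Subgroup ↥(S : Subgroup (symplecticGroup (Fin n) F)), E.Normal →
        Cfsg.IsElementaryAbelian 2 E → Nat.card E ≤ 2 ^ n := by
  have h2 : (2 : F) ≠ 0 := Cfsg.Agent.Helper37.two_ne_zero_of_odd_card hF
  constructor
  · let Q : Sylow 2 (SpecialLinearGroup (Fin 2) F) := default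
    let T : Sylow 2 (Perm (Fin n)) := default
    have hZ : Subgroup.center (SpecialLinearGroup (Fin 2) F) ≤ (Q : Subgroup _) :=
      isPGroup_center_SL2.le_sylow_of_normal Q
    have h := exists_normal_EA (n := n) h2 (Q : Subgroup (SpecialLinearGroup (Fin 2) F))
      (T : Subgroup (Perm (Fin n))) hZ
    rw [← coe_spSylow hF n Q T] at h
    exact exists_normal_EA_of_mulEquiv ((spSylow hF n Q T).equiv S) h
  · intro E _ hE
    exact card_le_of_PRankLE (Cfsg.Agent.Helper37.Sp_upper h2 n) _ E hE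

end Cfsg.Agent.Helper42
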