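import Mathlib
import Cfsg.Agent.Helper42.GLSyl2Aux
import Cfsg.Agent.Helper42.GLCard2
import Cfsg.Agent.Helper42.MonE
import Cfsg.Agent.Helper42.NormalEA
import Cfsg.Agent.Helper42.SpSylF

set_option autoImplicit false
set_option linter.unusedSectionVars false

/-!
# Normal 2-rank of Sylow 2-subgroups of `GL_n(q)`, `q ≡ 1 (mod 4)`
-/

namespace Cfsg.Agent.Helper42

open Matrix Equiv

variable {F : Type*} [Field F] [Fintype F]

theorem two_ne_zero_of_odd' (hF : Fintype.card F % 2 = 1) : (2 : F) ≠ 0 :=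
  Cfsg.Agent.Helper37.two_ne_zero_of_odd_card (Nat.odd_iff.2 hF)

theorem neg_one_ne_one_of_two_ne_zero (h2 : (2 : F) ≠ 0) : (-1 : F) ≠ 1 := by
  intro h
  apply h2
  linear_combination -h

theorem sylow_GL_normal_rank_one (h1 : Fintype.card F % 4 = 1) (n : ℕ)
    (S : Sylow 2 (GL (Fin n) F)) :
    (∃ E : Subgroup ↥(S : Subgroup (GL (Fin n) F)), E.Normal ∧ Cfsg.IsElementaryAbelian 2 E ∧
        2 ^ n ≤ Nat.card E) ∧
      ∀ E : Subgroup ↥(S : Subgroup (GL (Fin n) F)), E.Normal → Cfsg.IsElementaryAbelian 2 E →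
        Nat.card E ≤ 2 ^ n := by
  classical
  have h2 : (2 : F) ≠ 0 := two_ne_zero_of_odd' (by omega)
  constructor
  · let A : Sylow 2 Fˣ := default
    let T : Sylow 2 (Perm (Fin n)) := default
    let H : Subgroup (Mon Fˣ (Fin n)) := monSub (A : Subgroup Fˣ) (T : Subgroup (Perm (Fin n)))
    have hcardA : Nat.card (A : Subgroup Fˣ) = 2 ^ padicValNat 2 (Fintype.card F - 1) := by
      rw [A.card_eq_multiplicity, Nat.card_units, Nat.card_eq_fintype_card,
        Nat.factorization_def _ Nat.prime_two]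
    have hcardH : Nat.card (H.map (monGL F n)) = 2 ^ (Nat.card (GL (Fin n) F)).factorization 2 := by
      rw [Subgroup.card_map_of_injective monGL_injective, card_monSub, hcardA,
        T.card_eq_multiplicity, Nat.card_fin, Nat.card_perm, Nat.card_fin,
        Nat.factorization_def _ Nat.prime_two, Nat.factorization_def _ Nat.prime_two,
        padicValNat_two_card_GL_one F h1 n, ← pow_mul, ← pow_add]
      congr 1
      ring
    let W : Sylow 2 (GL (Fin n) F) := Sylow.ofCard _ hcardH
    let ε : ↥H ≃* ↥(W : Subgroup (GL (Fin n) F)) := H.equivMapOfInjective (monGL F n) monGL_injective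
    have hZA : negOneSub F ≤ (A : Subgroup Fˣ) := by
      haveI := negOneSub_normal (R := F)
      exact (isPGroup_negOneSub (R := F)).le_sylow_of_normal A
    obtain ⟨E, hE1, hE2, hE3⟩ := exists_normal_EA_monSub (A : Subgroup Fˣ)
      (T : Subgroup (Perm (Fin n))) (negOneSub F) hZA
      (fun z hz a _ => negOneSub_comm hz a) (fun z hz => negOneSub_sq hz)
    have hE : ∃ E : Subgroup ↥H, E.Normal ∧ Cfsg.IsElementaryAbelian 2 E ∧ 2 ^ n ≤ Nat.card E := by
      refine ⟨E, hE1, hE2, ?_⟩
      rw [hE3, card_negOneSub (neg_one_ne_one_of_two_ne_zero h2), Nat.card_fin]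
    exact exists_normal_EA_of_mulEquiv (ε.trans (W.equiv S)) hE
  · intro E _ hE
    exact card_le_of_PRankLE (GL_upper h2 n) _ E hE

end Cfsg.Agent.Helper42
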