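import Mathlib
import Cfsg.Agent.Helper42.GLSyl2A
import Cfsg.Agent.Helper42.MonGLR
import Cfsg.Agent.Helper37.GL2Sylow2

set_option autoImplicit false
set_option linter.unusedSectionVars false

/-!
# Normal 2-rank of Sylow 2-subgroups of `GL_n(q)`, `q ≡ 3 (mod 4)`
-/

namespace Cfsg.Agent.Helper42

open Matrix Equiv

variable {F : Type*} [Field F] [Fintype F]

/-- coordinatewise coercion -/
def piCoe {G : Type*} [Group G] (Z : Subgroup G) (r : ℕ) : (Fin r → ↥Z) →* (Fin r → G) where
  toFun f := fun i => (f i).1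
  map_one' := rfl
  map_mul' _ _ := rfl

theorem piCoe_injective {G : Type*} [Group G] (Z : Subgroup G) (r : ℕ) :
    Function.Injective (piCoe Z r) := by
  intro f g h
  funext i
  exact Subtype.ext (congrFun h i)

theorem sylow_GL_normal_rank_three (h3 : Fintype.card F % 4 = 3) (n : ℕ)
    (S : Sylow 2 (GL (Fin n) F)) :
    (∃ E : Subgroup ↥(S : Subgroup (GL (Fin n) F)), E.Normal ∧ Cfsg.IsElementaryAbelian 2 E ∧
        2 ^ ((n + 1) / 2) ≤ Nat.card E) ∧
      ∀ E : Subgroup ↥(S : Subgroup (GL (Fin n) F)), E.Normal → Cfsg.IsElementaryAbelian 2 E →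
        Nat.card E ≤ 2 ^ ((n + 1) / 2) := by
  classical
  have h2 : (2 : F) ≠ 0 := two_ne_zero_of_odd' (by omega)
  have hneg : (-1 : F) ≠ 1 := neg_one_ne_one_of_two_ne_zero h2
  set m := n / 2 with hm
  set r := n % 2 with hr
  have hn : m * 2 + r = n := by omega
  have hmr : (n + 1) / 2 = m + r := by omega
  let eqv : (Fin m × Fin 2) ⊕ Fin r ≃ Fin n :=
    (Equiv.sumCongr finProdFinEquiv (Equiv.refl _)).trans (finSumFinEquiv.trans (finCongr hn))
  let SD : Sylow 2 (GL (Fin 2) F) := default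
  let T : Sylow 2 (Perm (Fin m)) := default
  let H : Subgroup (Mon (GL (Fin 2) F) (Fin m)) :=
    monSub (SD : Subgroup (GL (Fin 2) F)) (T : Subgroup (Perm (Fin m)))
  let Z : Subgroup Fˣ := negOneSub F
  have hcardZ : Nat.card Z = 2 := card_negOneSub hneg
  -- the embedding
  let ψ₁ : ↥H →* GL (Fin m × Fin 2) F := (monGL2 F m).comp H.subtype
  let ψ₂ : (Fin r → ↥Z) →* GL (Fin r) F :=
    (monGL F r).comp ((SemidirectProduct.inl).comp (piCoe Z r))
  have hψ₁ : Function.Injective ψ₁ := monGL2_injective.comp H.subtype_injective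
  have hψ₂ : Function.Injective ψ₂ :=
    monGL_injective.comp (SemidirectProduct.inl_injective.comp (piCoe_injective Z r))
  let ψ : ↥H × (Fin r → ↥Z) →* GL (Fin n) F := (extGL2 eqv).comp (MonoidHom.prodMap ψ₁ ψ₂)
  have hψ : Function.Injective ψ := (extGL2_injective eqv).comp (Prod.map_injective.2 ⟨hψ₁, hψ₂⟩)
  have hcardS : Nat.card ψ.range = 2 ^ (Nat.card (GL (Fin n) F)).factorization 2 := by
    rw [← Nat.card_congr (MonoidHom.ofInjective hψ).toEquiv, Nat.card_prod, card_monSub,
      SD.card_eq_multiplicity, T.card_eq_multiplicity, Nat.card_fun, hcardZ, Nat.card_fin,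
      Nat.card_fin, Nat.card_perm, Nat.card_fin, Nat.factorization_def _ Nat.prime_two,
      Nat.factorization_def _ Nat.prime_two, Nat.factorization_def _ Nat.prime_two,
      padicValNat_two_card_GL_three F h3 n, ← pow_mul, ← pow_add, ← pow_add]
    congr 1
    rw [← hm, ← hr]
    ring
  let W : Sylow 2 (GL (Fin n) F) := Sylow.ofCard _ hcardS
  let ε : (↥H × (Fin r → ↥Z)) ≃* ↥(W : Subgroup (GL (Fin n) F)) := MonoidHom.ofInjective hψ
  -- properties of `C`
  have hC : ∀ a b : Fin r → ↥Z, a * b = b * a := by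
    intro a b
    funext i
    apply Subtype.ext
    show (a i).1 * (b i).1 = (b i).1 * (a i).1
    exact mul_comm _ _
  have hC2 : ∀ c : Fin r → ↥Z, c ^ 2 = 1 := by
    intro c
    funext i
    apply Subtype.ext
    show ((c i) ^ 2).1 = 1
    rw [Subgroup.coe_pow, pow_two]
    exact negOneSub_sq (c i).2
  have hcardC : Nat.card (Fin r → ↥Z) = 2 ^ r := by
    rw [Nat.card_fun, hcardZ, Nat.card_fin]
  -- the quasi-dihedral group
  have hQD : Cfsg.IsQuasiDihedral ↥(SD : Subgroup (GL (Fin 2) F)) :=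
    (Cfsg.Agent.Helper37.GL2S2.sylow_two_type SD).1 h3
  have hneg2 : (-1 : Matrix (Fin 2) (Fin 2) F) ≠ 1 := by
    intro h
    have := congrFun (congrFun h 0) 0
    simp only [Matrix.neg_apply, Matrix.one_apply_eq] at this
    exact hneg this
  constructor
  · have hZ2 : negOneSub (Matrix (Fin 2) (Fin 2) F) ≤ (SD : Subgroup (GL (Fin 2) F)) := by
      haveI := negOneSub_normal (R := Matrix (Fin 2) (Fin 2) F)
      exact (isPGroup_negOneSub (R := Matrix (Fin 2) (Fin 2) F)).le_sylow_of_normal SD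
    obtain ⟨E, hE1, hE2, hE3⟩ := exists_normal_EA_monSub (SD : Subgroup (GL (Fin 2) F))
      (T : Subgroup (Perm (Fin m))) (negOneSub (Matrix (Fin 2) (Fin 2) F)) hZ2
      (fun z hz a _ => negOneSub_comm hz a) (fun z hz => negOneSub_sq hz)
    rw [card_negOneSub hneg2, Nat.card_fin] at hE3
    obtain ⟨E', hE1', hE2', hE3'⟩ := exists_normal_EA_prod hC hC2 ⟨E, hE1, hE2, hE3⟩
    have hE : ∃ E : Subgroup (↥H × (Fin r → ↥Z)), E.Normal ∧ Cfsg.IsElementaryAbelian 2 E ∧
        2 ^ ((n + 1) / 2) ≤ Nat.card E := by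
      refine ⟨E', hE1', hE2', ?_⟩
      rw [hE3', hcardC, hmr, pow_add]
    exact exists_normal_EA_of_mulEquiv (ε.trans (W.equiv S)) hE
  · have hQ1 : ∃ u ∈ (SD : Subgroup (GL (Fin 2) F)), u * u ≠ 1 := by
      obtain ⟨k, hk, -, x, -, hx, -, -⟩ := hQD
      refine ⟨x.1, x.2, ?_⟩
      intro h
      have h' : x ^ 2 = 1 := by
        apply Subtype.ext
        rw [Subgroup.coe_pow, pow_two]
        exact h
      have hd := orderOf_dvd_of_pow_eq_one h'
      rw [hx] at hd
      have h8 : 2 ^ 3 ≤ 2 ^ k := Nat.pow_le_pow_right (by norm_num) hk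
      have := Nat.le_of_dvd (by norm_num) hd
      omega
    have hU : ∀ E : Subgroup ↥H, E.Normal → Cfsg.IsElementaryAbelian 2 E → Nat.card E ≤ 2 ^ m := by
      intro E hE hEA
      have := card_le_of_normal_EA_monSub (SD : Subgroup (GL (Fin 2) F))
        (T : Subgroup (Perm (Fin m))) 2 hQ1
        (fun N hN hNE => card_le_two_of_normal_EA_quasiDihedral hQD N hN hNE) E hE hEA
      rwa [Fintype.card_fin] at this
    have hU' : ∀ E : Subgroup (↥H × (Fin r → ↥Z)), E.Normal → Cfsg.IsElementaryAbelian 2 E →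
        Nat.card E ≤ 2 ^ ((n + 1) / 2) := by
      intro E hE hEA
      haveI : Finite ↥H := by
        apply Nat.finite_of_card_ne_zero
        rw [card_monSub, Nat.card_fin]
        exact mul_ne_zero (pow_ne_zero _ Nat.card_pos.ne') Nat.card_pos.ne'
      have := card_le_of_normal_EA_prod hU E hE hEA
      rwa [hcardC, ← pow_add, ← hmr] at this
    exact forall_normal_EA_of_mulEquiv (ε.trans (W.equiv S)) hU'

end Cfsg.Agent.Helper42
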