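import Mathlib
import Cfsg.Agent.Helper42.GLSyl2B
import Cfsg.Agent.Helper42.EAMon
import Cfsg.Agent.Helper42.EAQD
import Cfsg.Agent.Helper42.SylowEA

set_option autoImplicit false
set_option linter.unusedSectionVars false

/-!
# Sylow 2-subgroups of `GL_n(q)`, `q ≡ 3 (mod 4)`: explicit model, `P / P'` elementary abelian
-/

namespace Cfsg.Agent.Helper42

open Matrix Equiv

variable (F : Type*) [Field F] [Fintype F]

/-- the index equivalence `(Fin (n/2) × Fin 2) ⊕ Fin (n%2) ≃ Fin n` -/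
def idxEquiv (n : ℕ) : (Fin (n / 2) × Fin 2) ⊕ Fin (n % 2) ≃ Fin n :=
  (Equiv.sumCongr finProdFinEquiv (Equiv.refl _)).trans
    (finSumFinEquiv.trans (finCongr (Nat.div_add_mod' n 2)))

/-- the abstract Sylow `2`-subgroup `(SD ≀ T) × C` of `GL_n(q)`, `q ≡ 3 (mod 4)` -/
abbrev SylGL3 (n : ℕ) : Type _ :=
  ↥(monSub (((default : Sylow 2 (GL (Fin 2) F))) : Subgroup (GL (Fin 2) F))
    (((default : Sylow 2 (Perm (Fin (n / 2))))) : Subgroup (Perm (Fin (n / 2))))) ×
    (Fin (n % 2) → ↥(negOneSub F))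

/-- first component of the embedding -/
noncomputable def sylGL3Left (n : ℕ) :
    ↥(monSub (((default : Sylow 2 (GL (Fin 2) F))) : Subgroup (GL (Fin 2) F))
      (((default : Sylow 2 (Perm (Fin (n / 2))))) : Subgroup (Perm (Fin (n / 2))))) →*
      GL (Fin (n / 2) × Fin 2) F :=
  (monGL2 F (n / 2)).comp (Subgroup.subtype _)

/-- second component of the embedding -/
def sylGL3Right (n : ℕ) : (Fin (n % 2) → ↥(negOneSub F)) →* GL (Fin (n % 2)) F :=
  (monGL F (n % 2)).comp ((SemidirectProduct.inl).comp (piCoe (negOneSub F) (n % 2)))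

/-- the embedding of `(SD ≀ T) × C` into `GL_n(q)` -/
noncomputable def sylGL3 (n : ℕ) : SylGL3 F n →* GL (Fin n) F :=
  (extGL2 (idxEquiv n)).comp (MonoidHom.prodMap (sylGL3Left F n) (sylGL3Right F n))

theorem sylGL3_injective (n : ℕ) : Function.Injective (sylGL3 F n) := by
  have h1 : Function.Injective (sylGL3Left F n) :=
    monGL2_injective.comp (Subgroup.subtype_injective _)
  have h2 : Function.Injective (sylGL3Right F n) :=
    monGL_injective.comp (SemidirectProduct.inl_injective.comp (piCoe_injective _ _))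
  exact (extGL2_injective (idxEquiv n)).comp (Prod.map_injective.2 ⟨h1, h2⟩)

variable {F}

theorem card_range_sylGL3 (h3 : Fintype.card F % 4 = 3) (n : ℕ) :
    Nat.card (sylGL3 F n).range = 2 ^ (Nat.card (GL (Fin n) F)).factorization 2 := by
  classical
  have h2 : (2 : F) ≠ 0 := two_ne_zero_of_odd' (by omega)
  have hneg : (-1 : F) ≠ 1 := neg_one_ne_one_of_two_ne_zero h2
  have hcardZ : Nat.card (negOneSub F) = 2 := card_negOneSub hneg
  have hn : n / 2 * 2 + n % 2 = n := Nat.div_add_mod' n 2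
  rw [← Nat.card_congr (MonoidHom.ofInjective (sylGL3_injective F n)).toEquiv, Nat.card_prod,
    card_monSub, Sylow.card_eq_multiplicity, Sylow.card_eq_multiplicity, Nat.card_fun, hcardZ,
    Nat.card_fin, Nat.card_fin, Nat.card_perm, Nat.card_fin, Nat.factorization_def _ Nat.prime_two,
    Nat.factorization_def _ Nat.prime_two, Nat.factorization_def _ Nat.prime_two,
    padicValNat_two_card_GL_three F h3 n, ← pow_mul, ← pow_add, ← pow_add]
  congr 1
  ring

/-- every Sylow `2`-subgroup of `GL_n(q)`, `q ≡ 3 (mod 4)`, is isomorphic to `(SD ≀ T) × C` -/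
noncomputable def sylGL3Equiv (h3 : Fintype.card F % 4 = 3) (n : ℕ) (S : Sylow 2 (GL (Fin n) F)) :
    SylGL3 F n ≃* ↥(S : Subgroup (GL (Fin n) F)) :=
  (MonoidHom.ofInjective (sylGL3_injective F n)).trans
    ((Sylow.ofCard _ (card_range_sylGL3 h3 n)).equiv S)

/-- `P / P'` is elementary abelian for a Sylow `2`-subgroup `P` of `GL_n(q)`, `q ≡ 3 (mod 4)` -/
theorem EA_sylow_GL_three (h3 : Fintype.card F % 4 = 3) (n : ℕ) (S : Sylow 2 (GL (Fin n) F)) :
    EA 2 ↥(S : Subgroup (GL (Fin n) F)) := by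
  classical
  apply EA.of_mulEquiv (sylGL3Equiv h3 n S)
  apply EA_prod
  · apply EA_monSub
    · exact EA_quasiDihedral ((Cfsg.Agent.Helper37.GL2S2.sylow_two_type _).1 h3)
    · exact sylow_perm_EA 2 (n / 2) _
  · apply EA_of_pow_eq_one
    intro c
    funext i
    apply Subtype.ext
    show ((c i) ^ 2).1 = 1
    rw [Subgroup.coe_pow, pow_two]
    exact negOneSub_sq (c i).2

end Cfsg.Agent.Helper42
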