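import Mathlib
import Cfsg.Prelude.Def_Classical
import Cfsg.Agent.Helper99.Is8.Defs
import Cfsg.Agent.Helper94.Sg.P_SUM
import Cfsg.Agent.Helper45.OmegaParity
import Cfsg.Agent.Helper49.Is8GEO
import Cfsg.Agent.Helper49.Is8GEOM

/-!
helper42 for helper99 (S3590, #12233): piece (SUMA) `hr8_of_sum` — a unipotent piece plus an odd-order
piece gives a refined realisation in dimension 8.  Uses helper49's landed (GEO), (GEOM); the (ODD)
statement is proved here as `SUMA_mem_Omega_of_odd`; the rank of a block diagonal matrix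
(`SUMA_rank_fromBlocks_diag`) follows helper43's `OrthInv.rank_fromBlocks_diag`.
-/

set_option autoImplicit false
set_option linter.unusedSectionVars false
set_option linter.unusedVariables false

universe u

namespace Cfsg.Agent.Helper42.Is8

open Matrix Polynomial QuadraticMap Cfsg.Agent.Helper99.Is8 Cfsg.Agent.Helper94.Sg
  Cfsg.Agent.Helper44 Cfsg.Agent.Helper44.QType

section rk

variable {F : Type u} [Field F] {l n : Type} [Fintype l] [Fintype n] [DecidableEq l] [DecidableEq n]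

/-- the rank of a block diagonal matrix -/
theorem SUMA_rank_fromBlocks_diag (A : Matrix l l F) (D : Matrix n n F) :
    (fromBlocks A (0 : Matrix l n F) (0 : Matrix n l F) D).rank = A.rank + D.rank := by
  let Φ : (LinearMap.range A.mulVecLin × LinearMap.range D.mulVecLin) →ₗ[F] (l ⊕ n → F) :=
    { toFun := fun p => Sum.elim (p.1 : l → F) (p.2 : n → F)
      map_add' := by
        intro x y
        funext i
        cases i <;> simp
      map_smul' := by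
        intro c x
        funext i
        cases i <;> simp }
  have hΦ : Function.Injective Φ := by
    intro x y hxy
    apply Prod.ext
    · apply Subtype.ext
      funext i
      exact congrFun hxy (Sum.inl i)
    · apply Subtype.ext
      funext i
      exact congrFun hxy (Sum.inr i)
  have hrange : LinearMap.range
      (fromBlocks A (0 : Matrix l n F) (0 : Matrix n l F) D).mulVecLin = LinearMap.range Φ := by
    ext v
    constructor
    · rintro ⟨x, rfl⟩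
      refine ⟨(⟨A *ᵥ (x ∘ Sum.inl), ⟨x ∘ Sum.inl, rfl⟩⟩, ⟨D *ᵥ (x ∘ Sum.inr), ⟨x ∘ Sum.inr, rfl⟩⟩), ?_⟩
      show Sum.elim (A *ᵥ (x ∘ Sum.inl)) (D *ᵥ (x ∘ Sum.inr))
        = (fromBlocks A (0 : Matrix l n F) (0 : Matrix n l F) D) *ᵥ x
      rw [fromBlocks_mulVec]
      funext i
      cases i <;> simp
    · rintro ⟨⟨⟨u, ⟨x, rfl⟩⟩, ⟨w, ⟨y, rfl⟩⟩⟩, rfl⟩
      refine ⟨Sum.elim x y, ?_⟩
      show (fromBlocks A (0 : Matrix l n F) (0 : Matrix n l F) D) *ᵥ (Sum.elim x y)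
        = Sum.elim (A *ᵥ x) (D *ᵥ y)
      rw [fromBlocks_mulVec]
      funext i
      cases i <;> simp
  unfold Matrix.rank
  rw [hrange, LinearMap.finrank_range_of_inj hΦ, Module.finrank_prod]

/-- powers of a block diagonal matrix -/
theorem SUMA_fromBlocks_pow (A : Matrix l l F) (D : Matrix n n F) (i : ℕ) :
    (fromBlocks A (0 : Matrix l n F) (0 : Matrix n l F) D) ^ i
      = fromBlocks (A ^ i) 0 0 (D ^ i) := by
  induction i with
  | zero => rw [pow_zero, pow_zero, pow_zero, fromBlocks_one]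
  | succ i ih =>
    rw [pow_succ, ih, fromBlocks_multiply, pow_succ, pow_succ]
    simp

/-- a block diagonal matrix applied to a vector supported on the first block -/
theorem SUMA_fromBlocks_mulVec_elim (A : Matrix l l F) (D : Matrix n n F) (w : l → F) :
    (fromBlocks A (0 : Matrix l n F) (0 : Matrix n l F) D) *ᵥ (Sum.elim w 0)
      = Sum.elim (A *ᵥ w) 0 := by
  rw [fromBlocks_mulVec]
  funext i
  cases i <;> simp

end rk

section orth

variable {F : Type u} [Field F] [Fintype F]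

/-- elements of odd order lie in `Ω` (characteristic 2) — the statement of piece (ODD) -/
theorem SUMA_mem_Omega_of_odd [CharP F 2] {ι : Type} [Fintype ι] [DecidableEq ι]
    (Q : QuadraticForm F (ι → F)) (hQ : (QuadraticMap.polarBilin Q).Nondegenerate)
    (h : Fintype.card F ≠ 2 ∨ Fintype.card ι ≠ 4) (g : ↥(Cfsg.isometryGroup F ⇑Q))
    (hodd : Odd (orderOf g)) : g ∈ Cfsg.Omega F ⇑Q := by
  rw [Cfsg.Agent.Helper45.OmegaParity.mem_Omega_iff_even_rank Q hQ h g]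
  obtain ⟨t, ht⟩ := hodd
  have hg : (g ^ (t + 1)) ^ 2 = g := by
    rw [← pow_mul, show (t + 1) * 2 = orderOf g + 1 by omega, pow_succ, pow_orderOf_eq_one, one_mul]
  have h1 : Cfsg.Agent.Helper45.OmegaParity.parityHom Q hQ h g = 1 := by
    rw [← hg, map_pow]
    have hsq : ∀ z : Multiplicative (ZMod 2), z ^ 2 = 1 := by decide
    exact hsq _
  have hrk := Cfsg.Agent.Helper45.OmegaParity.rank_sub_one_add_fixD Q g
  have key : ∀ a b : ℕ, ((a : ℕ) : ZMod 2) + (b : ZMod 2) = 0 ↔ Even (a + b) := by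
    intro a b
    rw [← Nat.cast_add, ZMod.natCast_eq_zero_iff_even]
  have h2 : (Cfsg.Agent.Helper45.OmegaParity.fixD Q g : ZMod 2) + (Fintype.card ι : ZMod 2) = 0 := by
    have := congrArg Multiplicative.toAdd h1
    exact this
  rw [key] at h2
  rw [← hrk] at h2
  have h3 : Even (((g.1 : Matrix ι ι F) - 1).rank
      + 2 * Cfsg.Agent.Helper45.OmegaParity.fixD Q g) := by
    have : Cfsg.Agent.Helper45.OmegaParity.fixD Q g
        + (((g.1 : Matrix ι ι F) - 1).rank + Cfsg.Agent.Helper45.OmegaParity.fixD Q g)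
        = ((g.1 : Matrix ι ι F) - 1).rank + 2 * Cfsg.Agent.Helper45.OmegaParity.fixD Q g := by ring
    rw [← this]
    exact h2
  rw [Nat.even_add] at h3
  exact h3.2 (even_two_mul _)

/-- (SUMA) a unipotent piece plus an odd-order piece. -/
theorem hr8_of_sum [CharP F 2] {m₁ m₂ n₁ j : ℕ} {ε₁ ε₂ : ℤ} (h₁ : Real F m₁ ε₁ n₁) (hodd : Odd n₁)
    (h₂ : UR F m₂ ε₂ j) (hm : m₂ + m₁ = 4) (hε : ε₂ * ε₁ = -1) : HR8 F (2 ^ (j + 1) * n₁) := by
  classical
  obtain ⟨ι₁, i1, d1, Q₁, hc₁, hnd₁, ht₁, g₁, hg₁⟩ := h₁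
  obtain ⟨ι₂, i2, d2, Q₂, hc₂, hnd₂, ht₂, u, w, hu, hev, hw⟩ := h₂
  obtain ⟨hc, hnd, ht, -, -⟩ := sum_step Q₂ Q₁ hc₂ hc₁ hnd₂ hnd₁ ht₂ ht₁ 0 1 (pow_zero _)
  rw [hm] at hc ht
  rw [hε] at ht
  refine ⟨ι₂ ⊕ ι₁, inferInstance, inferInstance, orthSumForm Q₂ Q₁, hc, hnd, ht, ?_⟩
  have hQ : (QuadraticMap.polarBilin (orthSumForm Q₂ Q₁)).Nondegenerate := (nondeg_iff _).mpr hnd
  have h8 : Fintype.card F ≠ 2 ∨ Fintype.card (ι₂ ⊕ ι₁) ≠ 4 := Or.inr (by rw [hc]; norm_num)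
  have hinj := SUM_blockDiagIso_injective (F := F) ⇑Q₂ ⇑Q₁
  obtain ⟨U, hU⟩ : ∃ U : Matrix ι₂ ι₂ F, U = ((u : GL ι₂ F) : Matrix ι₂ ι₂ F) := ⟨_, rfl⟩
  obtain ⟨G₁, hG₁⟩ : ∃ G : Matrix ι₁ ι₁ F, G = ((g₁ : GL ι₁ F) : Matrix ι₁ ι₁ F) := ⟨_, rfl⟩
  rw [← hU] at hev hw
  -- the three isometries
  obtain ⟨g, hgdef⟩ : ∃ g : ↥(Cfsg.isometryGroup F ⇑(orthSumForm Q₂ Q₁)),
      g = blockDiagIso ⇑Q₂ ⇑Q₁ (u, g₁) := ⟨_, rfl⟩
  obtain ⟨ga, hgadef⟩ : ∃ g : ↥(Cfsg.isometryGroup F ⇑(orthSumForm Q₂ Q₁)),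
      g = blockDiagIso ⇑Q₂ ⇑Q₁ (u, 1) := ⟨_, rfl⟩
  obtain ⟨gb, hgbdef⟩ : ∃ g : ↥(Cfsg.isometryGroup F ⇑(orthSumForm Q₂ Q₁)),
      g = blockDiagIso ⇑Q₂ ⇑Q₁ (1, g₁) := ⟨_, rfl⟩
  have hgab : g = ga * gb := by
    rw [hgdef, hgadef, hgbdef]
    have e : ((u, g₁) : ↥(Cfsg.isometryGroup F ⇑Q₂) × ↥(Cfsg.isometryGroup F ⇑Q₁))
        = (u, 1) * (1, g₁) := by simp
    rw [e, map_mul]
    rfl
  have hgmat : ((g : GL (ι₂ ⊕ ι₁) F) : Matrix (ι₂ ⊕ ι₁) (ι₂ ⊕ ι₁) F)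
      = fromBlocks U 0 0 G₁ := by
    rw [hgdef, hU, hG₁]; rfl
  have hgamat : ((ga : GL (ι₂ ⊕ ι₁) F) : Matrix (ι₂ ⊕ ι₁) (ι₂ ⊕ ι₁) F)
      = fromBlocks U 0 0 1 := by
    rw [hgadef, hU]; rfl
  -- orders
  have hn₁pos : 0 < n₁ := hodd.pos
  have hcop : Nat.Coprime (2 ^ j) n₁ := Nat.Coprime.pow_left j (Nat.coprime_two_left.mpr hodd)
  have hordg : orderOf g = 2 ^ j * n₁ := by
    have h := orderOf_injective (blockDiagIso ⇑Q₂ ⇑Q₁) hinj (u, g₁)
    rw [Prod.orderOf, hu, hg₁, hcop.lcm_eq_mul] at h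
    rw [hgdef]
    exact h
  have hordgb : orderOf gb = n₁ := by
    have h := orderOf_injective (blockDiagIso ⇑Q₂ ⇑Q₁) hinj (1, g₁)
    rw [Prod.orderOf, orderOf_one, hg₁, Nat.lcm_one_left] at h
    rw [hgbdef]
    exact h
  -- membership in Ω
  have hgbΩ : gb ∈ Cfsg.Omega F ⇑(orthSumForm Q₂ Q₁) :=
    SUMA_mem_Omega_of_odd (orthSumForm Q₂ Q₁) hQ h8 gb (by rw [hordgb]; exact hodd)
  have hgaΩ : ga ∈ Cfsg.Omega F ⇑(orthSumForm Q₂ Q₁) := by
    rw [Cfsg.Agent.Helper45.OmegaParity.mem_Omega_iff_even_rank (orthSumForm Q₂ Q₁) hQ h8 ga]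
    have hsub : ((ga.1 : Matrix (ι₂ ⊕ ι₁) (ι₂ ⊕ ι₁) F) - 1)
        = fromBlocks (U - 1) 0 0 0 := by
      rw [show ((ga.1 : Matrix (ι₂ ⊕ ι₁) (ι₂ ⊕ ι₁) F)) = fromBlocks U 0 0 1 from hgamat]
      ext a b
      rcases a with a | a <;> rcases b with b | b <;> simp [Matrix.one_apply]
    rw [hsub, SUMA_rank_fromBlocks_diag, Matrix.rank_zero, add_zero]
    exact hev
  have hgΩ : g ∈ Cfsg.Omega F ⇑(orthSumForm Q₂ Q₁) := by
    rw [hgab]
    exact Subgroup.mul_mem _ hgaΩ hgbΩ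
  -- the norm
  have hU1 : U ^ (2 ^ j) = 1 := by
    have h1 : u ^ (2 ^ j) = 1 := by rw [← hu]; exact pow_orderOf_eq_one u
    have h2 := congrArg (fun x : ↥(Cfsg.isometryGroup F ⇑Q₂) => ((x : GL ι₂ F) : Matrix ι₂ ι₂ F)) h1
    simp only [SubmonoidClass.coe_pow, Units.val_pow_eq_pow_val, OneMemClass.coe_one,
      Units.val_one] at h2
    rw [hU]
    exact h2
  have hsumU : ∑ i ∈ Finset.range (2 ^ j * n₁), U ^ i = (U + 1) ^ (2 ^ j - 1) := by
    rw [Cfsg.Agent.Helper49.Is8.geom_sum_mul U (2 ^ j) n₁ hU1,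
      Cfsg.Agent.Helper49.Is8.geom_sum_two_pow U j]
    obtain ⟨t, ht⟩ := hodd
    ext a b
    rw [Matrix.smul_apply, nsmul_eq_mul, ht]
    have h2 : (2 : F) = 0 := CharTwo.two_eq_zero
    push_cast
    rw [h2, zero_mul, zero_add, one_mul]
  have hnorm : (∑ i ∈ Finset.range (orderOf g),
      ((g : GL (ι₂ ⊕ ι₁) F) : Matrix (ι₂ ⊕ ι₁) (ι₂ ⊕ ι₁) F) ^ i) *ᵥ (Sum.elim w 0)
        = Sum.elim (((U + 1) ^ (2 ^ j - 1)) *ᵥ w) 0 := by
    rw [hordg, hgmat, Matrix.sum_mulVec]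
    have h1 : ∀ i ∈ Finset.range (2 ^ j * n₁),
        ((fromBlocks U (0 : Matrix ι₂ ι₁ F) (0 : Matrix ι₁ ι₂ F) G₁) ^ i) *ᵥ (Sum.elim w 0)
          = Sum.elim ((U ^ i) *ᵥ w) 0 := by
      intro i _
      rw [SUMA_fromBlocks_pow, SUMA_fromBlocks_mulVec_elim]
    rw [Finset.sum_congr rfl h1, ← hsumU, Matrix.sum_mulVec]
    funext a
    rcases a with a | a
    · simp [Finset.sum_apply]
    · simp [Finset.sum_apply]
  refine ⟨g, Sum.elim w 0, hgΩ, ?_, Or.inr ⟨?_, ?_⟩⟩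
  · rw [hordg]
    exact Nat.mul_pos (pow_pos (by norm_num) j) hn₁pos
  · rw [hnorm]
    intro h0
    apply hw
    funext a
    have := congrFun h0 (Sum.inl a)
    simpa using this
  · rw [hordg, pow_succ]
    ring

end orth

end Cfsg.Agent.Helper42.Is8
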