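import Mathlib
import Cfsg.Prelude.Def_Classical
import Cfsg.Agent.Helper99.Is8.Defs
import Cfsg.Agent.Helper94.Sg.P_FIN
import Cfsg.Agent.Helper44.OrthSumForm
import Cfsg.Agent.Helper44.IsoTransport
import Cfsg.Agent.Helper44.QTypeAniso
import Cfsg.Agent.Helper44.StdForms
import Cfsg.Agent.Helper44.StdNondeg
import Cfsg.Agent.Helper44.OrthRealizeC

/-!
helper42 for helper99 (S3590, #12233): piece (SUMB) `hm_of_hr8` — transport of a refined realisation to
`H = V^κ ⋊ Ω⁻_8(F)`.  Self-contained: the affine power/order lemmas are proved here (`SUMB_aff_pow`,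
`SUMB_aff_orderOf`).
-/

set_option autoImplicit false
set_option linter.unusedSectionVars false
set_option linter.unusedVariables false

universe u

namespace Cfsg.Agent.Helper42.Is8

open Matrix Polynomial QuadraticMap Cfsg.Agent.Helper99.Is8 Cfsg.Agent.Helper94.Sg
  Cfsg.Agent.Helper44 Cfsg.Agent.Helper44.QType

section aff

variable {G : Type u} [Group G] {ι : Type} [Fintype ι] [DecidableEq ι] {R : Type u} [CommRing R]
  {ρ : G →* Matrix ι ι R} {κ : Type}

/-- powers in the affine group -/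
theorem SUMB_aff_pow (x : Aff ρ κ) (n : ℕ) :
    x ^ n = ⟨(∑ i ∈ Finset.range n, ρ x.k ^ i) * x.w, x.k ^ n⟩ := by
  induction n with
  | zero =>
    apply Aff.ext
    · simp
    · simp
  | succ n ih =>
    rw [pow_succ]
    apply Aff.ext
    · rw [Aff.mul_w, ih]
      show (∑ i ∈ Finset.range n, ρ x.k ^ i) * x.w + ρ (x.k ^ n) * x.w = _
      rw [Finset.sum_range_succ, Matrix.add_mul, map_pow]
    · rw [Aff.mul_k, ih, pow_succ]

/-- the order of an affine element in characteristic 2 -/
theorem SUMB_aff_orderOf [CharP R 2] (x : Aff ρ κ) (ho : 0 < orderOf x.k) :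
    ((∑ i ∈ Finset.range (orderOf x.k), ρ x.k ^ i) * x.w = 0 ∧ orderOf x = orderOf x.k) ∨
      ((∑ i ∈ Finset.range (orderOf x.k), ρ x.k ^ i) * x.w ≠ 0 ∧
        orderOf x = 2 * orderOf x.k) := by
  have hdvd : orderOf x.k ∣ orderOf x := by
    apply orderOf_dvd_of_pow_eq_one
    have h := congrArg Aff.k (pow_orderOf_eq_one x)
    rw [SUMB_aff_pow] at h
    exact h
  have hxo : x ^ orderOf x.k
      = ⟨(∑ i ∈ Finset.range (orderOf x.k), ρ x.k ^ i) * x.w, 1⟩ := by
    rw [SUMB_aff_pow, pow_orderOf_eq_one]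
  by_cases hS : (∑ i ∈ Finset.range (orderOf x.k), ρ x.k ^ i) * x.w = 0
  · left
    refine ⟨hS, ?_⟩
    apply Nat.dvd_antisymm _ hdvd
    apply orderOf_dvd_of_pow_eq_one
    rw [hxo, hS]
    rfl
  · right
    refine ⟨hS, ?_⟩
    have h2 : x ^ (2 * orderOf x.k) = 1 := by
      rw [mul_comm, pow_mul, hxo, pow_two]
      apply Aff.ext
      · rw [Aff.mul_w]
        show (∑ i ∈ Finset.range (orderOf x.k), ρ x.k ^ i) * x.w
          + ρ 1 * ((∑ i ∈ Finset.range (orderOf x.k), ρ x.k ^ i) * x.w) = 0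
        rw [map_one, Matrix.one_mul]
        ext a b
        rw [Matrix.add_apply, Matrix.zero_apply]
        exact CharTwo.add_self_eq_zero _
      · rw [Aff.mul_k]
        show (1 : G) * 1 = 1
        rw [mul_one]
    have hdvd2 : orderOf x ∣ 2 * orderOf x.k := orderOf_dvd_of_pow_eq_one h2
    obtain ⟨c, hc⟩ := hdvd
    rw [hc] at hdvd2 ⊢
    have hc2 : c ∣ 2 := by
      rw [mul_comm 2] at hdvd2
      exact (Nat.mul_dvd_mul_iff_left ho).mp hdvd2
    have hc1 : c ≠ 1 := by
      rintro rfl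
      apply hS
      have h3 : x ^ orderOf x.k = 1 := by
        have := pow_orderOf_eq_one x
        rw [hc, mul_one] at this
        exact this
      rw [hxo] at h3
      exact congrArg Aff.w h3
    rcases (Nat.dvd_prime Nat.prime_two).mp hc2 with rfl | rfl
    · exact absurd rfl hc1
    · rw [mul_comm]

end aff

section real

variable {F : Type u} [Field F] [Fintype F]

/-- (SUMB) transport of a refined realisation to `H`. -/
theorem hm_of_hr8 [CharP F 2] (a b : F)
    (hab : ∀ z₁ z₂ : F, z₁ ^ 2 + a * z₁ * z₂ + b * z₂ ^ 2 = 0 → z₁ = 0 ∧ z₂ = 0) {N : ℕ}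
    (h : HR8 F N) (κ : Type) [Nonempty κ] : ∃ x : Hm F a b κ, orderOf x = N := by
  classical
  obtain ⟨ι, hFi, hDe, Q, hcard, hnd, hT, g, w, hgΩ, hpos, hcases⟩ := h
  have hT' : HasType (⇑(minusForm 3 F a b)) 4 (-1) := by
    rw [minusForm_coe]
    exact hasType_minus 3 a b hab
  have hD : a ^ 2 - 4 * b ≠ 0 := by
    have h1 := Cfsg.Agent.Helper94.Eo.binary_disc_ne_zero a b hab
    intro h2
    apply h1
    linear_combination -h2
  have hnd' : ∀ x, (∀ y, QuadraticMap.polar (minusForm 3 F a b) x y = 0) → x = 0 :=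
    (nondeg_iff _).mp (nondegenerate_minusForm 3 a b hD)
  have hV : Module.finrank F (ι → F) = 2 * 4 := by
    rw [Module.finrank_fintype_fun_eq_card, hcard]
  have hV' : Module.finrank F ((Fin 3 ⊕ Fin 3) ⊕ Fin 2 → F) = 2 * 4 := by
    rw [finrank_minus_idx]
  obtain ⟨C, hC⟩ := exists_isometry_of_hasType Q (minusForm 3 F a b) hV hV' hnd hnd' hT hT'
  have hC' : ∀ v, Cfsg.quadFormMinus 3 F a b (C v) = Q v := hC
  -- the transported isometry
  let T := isoTransport (⇑Q) (Cfsg.quadFormMinus 3 F a b) C hC'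
  have hTinj : Function.Injective T := isoTransport_injective _ _ C hC'
  have hTΩ : T g ∈ Cfsg.Omega F (Cfsg.quadFormMinus 3 F a b) := map_mem_commutator T hgΩ
  let k : ↥(Cfsg.Omega F (Cfsg.quadFormMinus 3 F a b)) := ⟨T g, hTΩ⟩
  have hordk : orderOf k = orderOf g := by
    rw [← orderOf_injective T hTinj g]
    exact Subgroup.orderOf_mk _ _
  -- the affine element
  let x : Hm F a b κ := ⟨Matrix.of fun i _ => C w i, k⟩
  have hxk : x.k = k := rfl
  have hrho : ∀ i : ℕ, (rho F a b k) ^ i = (((T g : Matrix.GeneralLinearGroup I8 F)) : Matrix I8 I8 F) ^ i :=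
    fun i => rfl
  -- powers of the transported matrix
  have hpowvec : ∀ (i : ℕ) (v : ι → F),
      ((((T g : Matrix.GeneralLinearGroup I8 F)) : Matrix I8 I8 F) ^ i) *ᵥ (C v)
        = C ((((g : Matrix.GeneralLinearGroup ι F) : Matrix ι ι F) ^ i) *ᵥ v) := by
    intro i
    induction i with
    | zero => intro v; simp
    | succ i ih =>
      intro v
      rw [pow_succ, ← Matrix.mulVec_mulVec, pow_succ, ← Matrix.mulVec_mulVec]
      have h1 : (((T g : Matrix.GeneralLinearGroup I8 F)) : Matrix I8 I8 F) *ᵥ (C v)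
          = C (((g : Matrix.GeneralLinearGroup ι F) : Matrix ι ι F) *ᵥ v) := by
        have := isoTransport_mulVec (⇑Q) (Cfsg.quadFormMinus 3 F a b) C hC' g (C v)
        rw [LinearEquiv.symm_apply_apply] at this
        exact this
      rw [h1, ih]
  have hsumvec : ∀ n : ℕ,
      (∑ i ∈ Finset.range n, (((T g : Matrix.GeneralLinearGroup I8 F)) : Matrix I8 I8 F) ^ i) *ᵥ (C w)
        = C ((∑ i ∈ Finset.range n, ((g : Matrix.GeneralLinearGroup ι F) : Matrix ι ι F) ^ i) *ᵥ w) := by
    intro n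
    rw [Matrix.sum_mulVec, Matrix.sum_mulVec, map_sum]
    apply Finset.sum_congr rfl
    intro i _
    exact hpowvec i w
  -- the norm condition
  have hnorm : ((∑ i ∈ Finset.range (orderOf x.k), rho F a b x.k ^ i) * x.w = 0)
      ↔ ((∑ i ∈ Finset.range (orderOf g), ((g : Matrix.GeneralLinearGroup ι F) : Matrix ι ι F) ^ i)
          *ᵥ w = 0) := by
    rw [hxk, hordk]
    have hcol : ∀ (M : Matrix I8 I8 F) (i : I8) (j : κ),
        (M * x.w) i j = (M *ᵥ (C w)) i := by
      intro M i j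
      rfl
    constructor
    · intro h0
      obtain ⟨j⟩ := ‹Nonempty κ›
      have h1 : (∑ i ∈ Finset.range (orderOf g),
          (((T g : Matrix.GeneralLinearGroup I8 F)) : Matrix I8 I8 F) ^ i) *ᵥ (C w) = 0 := by
        funext i
        rw [← hcol _ i j]
        have := congrFun (congrFun h0 i) j
        exact this
      rw [hsumvec] at h1
      exact C.map_eq_zero_iff.mp h1
    · intro h0
      ext i j
      rw [hcol]
      have h1 := hsumvec (orderOf g)
      rw [h0, map_zero] at h1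
      have := congrFun h1 i
      exact this
  have hposk : 0 < orderOf x.k := by rw [hxk, hordk]; exact hpos
  refine ⟨x, ?_⟩
  rcases SUMB_aff_orderOf x hposk with ⟨h0, hox⟩ | ⟨h0, hox⟩
  · rcases hcases with ⟨h1, hN⟩ | ⟨h1, hN⟩
    · rw [hox, hxk, hordk, hN]
    · exact absurd (hnorm.mp h0) h1
  · rcases hcases with ⟨h1, hN⟩ | ⟨h1, hN⟩
    · exact absurd (hnorm.mpr h1) h0
    · rw [hox, hxk, hordk, hN]

end real

end Cfsg.Agent.Helper42.Is8
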