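import Cfsg.Agent.Helper42.KWC2a
import Cfsg.Agent.Helper14.KWL3c

/-!
# S4588 farm (helper77), piece (C2): the total norm of the test functions
-/

set_option autoImplicit false

namespace Cfsg.Agent.Helper42.KW

open Cfsg
open scoped ComplexConjugate
open Cfsg.Agent.S4426 (cut)
open Cfsg.Agent.Helper77.KW

universe u

section L

variable {H : Type u} [Group H] [Fintype H] {p : ℕ} [Fact p.Prime] {M : Ideal AlgInt}
  (z : H) [(Subgroup.zpowers z).Normal] (n : ℕ) (D : PimData p M (H ⧸ Subgroup.zpowers z))

/-- (C2) the total norm of the test functions -/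
theorem sum_test_norm (hM : IsPModular p M) (hz : z ∈ Subgroup.center H)
    (hzn : orderOf z = p ^ n) :
    ∑ j : Fin (D.e + 1), classInner (cut p 1 (test z n D j)) (test z n D j) =
      ((2 * (p ^ n * (D.e + D.t)) : ℕ) : ℂ) :=
  sum_test_norm_of_gram z n D (D.e_pos hM.2.1.isPrime)
    (fun i j => Cfsg.Agent.Helper14.KW.classInner_cut_lift_lift z n D hz hzn i j)

end L

end Cfsg.Agent.Helper42.KW
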