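import Cfsg.Agent.Helper77.KW.Own

/-!
# S4588 farm (helper77), piece (C2), part a: the total norm of the test functions from the
Gram matrix of the lifted functions (taken as a hypothesis here).
-/

set_option autoImplicit false

namespace Cfsg.Agent.Helper42.KW

open Cfsg
open scoped ComplexConjugate
open Cfsg.Agent.S4426 (cut)
open Cfsg.Agent.Helper77.KW

universe u

section L

variable {H : Type u} [Group H] [Fintype H] {p : ℕ} {M : Ideal AlgInt}
  (z : H) [(Subgroup.zpowers z).Normal] (n : ℕ) (D : PimData p M (H ⧸ Subgroup.zpowers z))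

theorem classInner_cut_sub_sub (a a' b b' : H → ℂ) :
    classInner (cut p 1 (a - a')) (b - b') =
      classInner (cut p 1 a) b - classInner (cut p 1 a) b' - classInner (cut p 1 a') b +
        classInner (cut p 1 a') b' := by
  unfold classInner cut
  rw [← mul_sub, ← mul_sub, ← mul_add, ← Finset.sum_sub_distrib, ← Finset.sum_sub_distrib,
    ← Finset.sum_add_distrib]
  congr 1
  refine Finset.sum_congr rfl fun x _ => ?_
  simp only [Pi.sub_apply, map_sub]
  split_ifs <;> ring

theorem classInner_cut_zero_left (b : H → ℂ) : classInner (cut p 1 (0 : H → ℂ)) b = 0 := by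
  unfold classInner cut
  simp

theorem classInner_cut_zero_right (a : H → ℂ) : classInner (cut p 1 a) (0 : H → ℂ) = 0 := by
  unfold classInner
  simp

/-- the Gram matrix of the padded sequence, inside the range -/
theorem classInner_cut_pad_pad_pos
    (hG : ∀ i j : Fin D.e, classInner (cut p 1 (lift z n D i)) (lift z n D j) =
      (p : ℂ) ^ n * ((if i = j then (1 : ℂ) else 0) + (D.t : ℂ))) (a b : ℕ)
    (ha : 0 < a ∧ a - 1 < D.e) (hb : 0 < b ∧ b - 1 < D.e) :
    classInner (cut p 1 (pad z n D a)) (pad z n D b) =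
      (p : ℂ) ^ n * ((if a = b then (1 : ℂ) else 0) + (D.t : ℂ)) := by
  unfold pad
  rw [dif_pos ha, dif_pos hb, hG]
  have : ((⟨a - 1, ha.2⟩ : Fin D.e) = ⟨b - 1, hb.2⟩) ↔ a = b := by
    rw [Fin.mk.injEq]
    omega
  simp only [this]

theorem classInner_cut_pad_pad_left (a b : ℕ) (ha : ¬ (0 < a ∧ a - 1 < D.e)) :
    classInner (cut p 1 (pad z n D a)) (pad z n D b) = 0 := by
  unfold pad
  rw [dif_neg ha]
  exact classInner_cut_zero_left _

theorem classInner_cut_pad_pad_right (a b : ℕ) (hb : ¬ (0 < b ∧ b - 1 < D.e)) :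
    classInner (cut p 1 (pad z n D a)) (pad z n D b) = 0 := by
  have : pad z n D b = 0 := by
    unfold pad
    rw [dif_neg hb]
  rw [this]
  exact classInner_cut_zero_right _

/-- (C2), from the Gram matrix -/
theorem sum_test_norm_of_gram (he : 1 ≤ D.e)
    (hG : ∀ i j : Fin D.e, classInner (cut p 1 (lift z n D i)) (lift z n D j) =
      (p : ℂ) ^ n * ((if i = j then (1 : ℂ) else 0) + (D.t : ℂ))) :
    ∑ j : Fin (D.e + 1), classInner (cut p 1 (test z n D j)) (test z n D j) =
      ((2 * (p ^ n * (D.e + D.t)) : ℕ) : ℂ) := by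
  obtain ⟨e', he'⟩ : ∃ e', D.e = e' + 1 := ⟨D.e - 1, by omega⟩
  have h0 : ∀ j : Fin (D.e + 1), classInner (cut p 1 (test z n D j)) (test z n D j) =
      (fun m : ℕ => classInner (cut p 1 (pad z n D (m + 1) - pad z n D m))
        (pad z n D (m + 1) - pad z n D m)) (j : ℕ) := fun j => rfl
  rw [Finset.sum_congr rfl fun j _ => h0 j, Fin.sum_univ_eq_sum_range
    (fun m : ℕ => classInner (cut p 1 (pad z n D (m + 1) - pad z n D m))
        (pad z n D (m + 1) - pad z n D m)) (D.e + 1)]
  simp only [classInner_cut_sub_sub]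
  rw [Finset.sum_add_distrib, Finset.sum_sub_distrib, Finset.sum_sub_distrib]
  -- the four sums
  have s1 : ∑ j ∈ Finset.range (D.e + 1),
      classInner (cut p 1 (pad z n D (j + 1))) (pad z n D (j + 1)) =
        (D.e : ℂ) * ((p : ℂ) ^ n * (1 + (D.t : ℂ))) := by
    rw [Finset.sum_range_succ, classInner_cut_pad_pad_left z n D _ _ (by omega), add_zero]
    rw [Finset.sum_congr rfl (g := fun _ => (p : ℂ) ^ n * (1 + (D.t : ℂ)))]
    · rw [Finset.sum_const, Finset.card_range, nsmul_eq_mul]
    · intro j hj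
      have := Finset.mem_range.mp hj
      rw [classInner_cut_pad_pad_pos z n D hG _ _ ⟨by omega, by omega⟩ ⟨by omega, by omega⟩,
        if_pos rfl]
  have s4 : ∑ j ∈ Finset.range (D.e + 1),
      classInner (cut p 1 (pad z n D j)) (pad z n D j) =
        (D.e : ℂ) * ((p : ℂ) ^ n * (1 + (D.t : ℂ))) := by
    rw [Finset.sum_range_succ', classInner_cut_pad_pad_left z n D _ _ (by omega), add_zero]
    rw [Finset.sum_congr rfl (g := fun _ => (p : ℂ) ^ n * (1 + (D.t : ℂ)))]
    · rw [Finset.sum_const, Finset.card_range, nsmul_eq_mul]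
    · intro j hj
      have := Finset.mem_range.mp hj
      rw [classInner_cut_pad_pad_pos z n D hG _ _ ⟨by omega, by omega⟩ ⟨by omega, by omega⟩,
        if_pos rfl]
  have s2 : ∑ j ∈ Finset.range (D.e + 1),
      classInner (cut p 1 (pad z n D (j + 1))) (pad z n D j) =
        (e' : ℂ) * ((p : ℂ) ^ n * (D.t : ℂ)) := by
    rw [Finset.sum_range_succ, classInner_cut_pad_pad_left z n D _ _ (by omega), add_zero, he']
    rw [Finset.sum_range_succ', classInner_cut_pad_pad_right z n D _ _ (by omega), add_zero]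
    rw [Finset.sum_congr rfl (g := fun _ => (p : ℂ) ^ n * (D.t : ℂ))]
    · rw [Finset.sum_const, Finset.card_range, nsmul_eq_mul]
    · intro j hj
      have := Finset.mem_range.mp hj
      rw [classInner_cut_pad_pad_pos z n D hG _ _ ⟨by omega, by omega⟩ ⟨by omega, by omega⟩,
        if_neg (by omega), zero_add]
  have s3 : ∑ j ∈ Finset.range (D.e + 1),
      classInner (cut p 1 (pad z n D j)) (pad z n D (j + 1)) =
        (e' : ℂ) * ((p : ℂ) ^ n * (D.t : ℂ)) := by
    rw [Finset.sum_range_succ, classInner_cut_pad_pad_right z n D _ _ (by omega), add_zero, he']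
    rw [Finset.sum_range_succ', classInner_cut_pad_pad_left z n D _ _ (by omega), add_zero]
    rw [Finset.sum_congr rfl (g := fun _ => (p : ℂ) ^ n * (D.t : ℂ))]
    · rw [Finset.sum_const, Finset.card_range, nsmul_eq_mul]
    · intro j hj
      have := Finset.mem_range.mp hj
      rw [classInner_cut_pad_pad_pos z n D hG _ _ ⟨by omega, by omega⟩ ⟨by omega, by omega⟩,
        if_neg (by omega), zero_add]
  rw [s1, s2, s3, s4, he']
  push_cast
  ring

end L

end Cfsg.Agent.Helper42.KW
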