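import Cfsg.Agent.Helper42.KWR3
import Cfsg.Agent.Helper77.KW.Own
import Cfsg.Agent.Helper70.DefOneXG
import Cfsg.Agent.S4652

/-!
# S4588 farm (helper77), piece (E2): PIM data for `p = 2`, Sylow subgroup of order `2`
-/

set_option autoImplicit false

namespace Cfsg.Agent.Helper42.KW

open Cfsg
open scoped ComplexConjugate
open Cfsg.Agent.S4426 (cut)
open Cfsg.Agent.Helper77.KW

universe u

section E

variable {K : Type u} [Group K] [Fintype K]

/-- a Sylow 2-subgroup of order 2 is generated by an involution -/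
theorem exists_involution_sylow (hK : (Nat.card K).factorization 2 = 1) (P : Sylow 2 K) :
    ∃ x : K, orderOf x = 2 ∧ (P : Subgroup K) = Subgroup.zpowers x := by
  haveI : Fact (Nat.Prime 2) := ⟨Nat.prime_two⟩
  have hPcard : Nat.card (P : Subgroup K) = 2 := by
    rw [Sylow.card_eq_multiplicity, hK, pow_one]
  have hnt : Nontrivial (P : Subgroup K) := by
    rw [← Finite.one_lt_card_iff_nontrivial, hPcard]
    norm_num
  obtain ⟨a, ha⟩ := exists_ne (1 : (P : Subgroup K))
  have h1 : orderOf a ∣ 2 := by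
    have := orderOf_dvd_natCard a
    rwa [hPcard] at this
  have h2 : orderOf a = 2 := by
    rcases (Nat.dvd_prime Nat.prime_two).mp h1 with h | h
    · exact absurd (orderOf_eq_one_iff.mp h) ha
    · exact h
  refine ⟨(a : K), by rw [Subgroup.orderOf_coe, h2], ?_⟩
  symm
  apply Subgroup.eq_of_le_of_card_ge
  · rw [Subgroup.zpowers_le]
    exact a.2
  · rw [hPcard, Nat.card_zpowers, Subgroup.orderOf_coe, h2]

/-- every `2`-singular element is conjugate to `x * y`, `y ∈ C(x)` of odd order -/
theorem exists_conj_mul_of_two_dvd (P : Sylow 2 K) (x : K) (hx : orderOf x = 2)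
    (hP : (P : Subgroup K) = Subgroup.zpowers x) (g : K) (hg : 2 ∣ orderOf g) :
    ∃ (h : K) (y : Subgroup.centralizer ({x} : Set K)), ¬ 2 ∣ orderOf y ∧
      g = h * (x * (y : K)) * h⁻¹ := by
  haveI : Fact (Nat.Prime 2) := ⟨Nat.prime_two⟩
  obtain ⟨u, y, hu, hy, huy, ⟨k, hk⟩, hyreg⟩ :=
    Helper70.DefOneXG.exists_pPart_decomp (p := 2) g
  have hcomm : Commute u y := by
    obtain ⟨a, rfl⟩ := Subgroup.mem_zpowers_iff.mp hu
    obtain ⟨b, rfl⟩ := Subgroup.mem_zpowers_iff.mp hy
    exact (Commute.refl g).zpow_zpow a b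
  have hu1 : u ≠ 1 := by
    rintro rfl
    rw [one_mul] at huy
    rw [huy] at hyreg
    exact hyreg hg
  -- u lies in a conjugate of P
  have hup : IsPGroup 2 (Subgroup.zpowers u) := by
    apply IsPGroup.of_card (n := (orderOf u).factorization 2)
    rw [Nat.card_zpowers]
    have hd : orderOf u ∣ 2 ^ k := orderOf_dvd_of_pow_eq_one hk
    obtain ⟨j, -, hj⟩ := (Nat.dvd_prime_pow Nat.prime_two).mp hd
    rw [hj, Nat.Prime.factorization_pow Nat.prime_two]
    simp
  obtain ⟨Q, hQ⟩ := hup.exists_le_sylow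
  obtain ⟨c, hc⟩ := MulAction.exists_smul_eq K Q P
  have hcu : c * u * c⁻¹ ∈ (P : Subgroup K) := by
    rw [← hc, Sylow.coe_subgroup_smul]
    exact ⟨u, hQ (Subgroup.mem_zpowers u), rfl⟩
  rw [hP] at hcu
  have hcux : c * u * c⁻¹ = x := by
    obtain ⟨j, hj⟩ := Subgroup.mem_zpowers_iff.mp hcu
    have hx2 : x ^ (2 : ℤ) = 1 := by
      have := pow_orderOf_eq_one x
      rw [hx] at this
      exact_mod_cast this
    rcases Int.emod_two_eq_zero_or_one j with h0 | h1
    · exfalso
      have : x ^ j = 1 := by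
        rw [← Int.emod_add_mul_ediv j 2, h0, zero_add, zpow_mul, hx2, one_zpow]
      rw [this] at hj
      apply hu1
      have := hj.symm
      rw [mul_inv_eq_one] at this
      exact mul_left_cancel (this.trans (mul_one c).symm)
    · have : x ^ j = x := by
        rw [← Int.emod_add_mul_ediv j 2, h1, zpow_add, zpow_one, zpow_mul, hx2, one_zpow, mul_one]
      rw [← hj, this]
  -- the conjugate of y
  have hyc : c * y * c⁻¹ ∈ Subgroup.centralizer ({x} : Set K) := by
    rw [Subgroup.mem_centralizer_iff]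
    intro t ht
    rw [Set.mem_singleton_iff] at ht
    rw [ht, ← hcux]
    have := hcomm.eq
    calc c * u * c⁻¹ * (c * y * c⁻¹) = c * (u * y) * c⁻¹ := by group
      _ = c * (y * u) * c⁻¹ := by rw [this]
      _ = c * y * c⁻¹ * (c * u * c⁻¹) := by group
  refine ⟨c⁻¹, ⟨c * y * c⁻¹, hyc⟩, ?_, ?_⟩
  · rw [Subgroup.orderOf_mk]
    have : orderOf (c * y * c⁻¹) = orderOf y := by
      rw [orderOf_eq_orderOf_iff]
      intro n
      rw [conj_pow, mul_inv_eq_one, mul_eq_left (a := c)] 
    rw [this]
    exact hyreg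
  · simp only
    rw [← hcux, ← huy]
    group

/-- (E2) PIM data, `p = 2`, Sylow subgroup of order `2` -/
theorem exists_pimData_two (M : Ideal AlgInt) (hM : IsPModular 2 M)
    (hK : (Nat.card K).factorization 2 = 1) :
    ∃ D : PimData 2 M K, D.e + D.t ≤ 2 := by
  classical
  haveI : Fact (Nat.Prime 2) := ⟨Nat.prime_two⟩
  have hMp : M.IsPrime := Helper16.IsPModular.isPrime hM
  let P : Sylow 2 K := default
  obtain ⟨x, hx2, hPx⟩ := exists_involution_sylow hK P
  have hB : IsPBlock M (principalBlock M K) := Helper78.isPBlock_principalBlock M K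
  have hBD : IsDefectGroup 2 M (principalBlock M K) (Subgroup.zpowers x) :=
    (Cfsg.Agent.S4652.result 2 M hM _).mpr ⟨P, hPx⟩
  have hb := isInducedBlock_principal_centralizer 2 M hM x ⟨1, by rw [hx2, pow_one]⟩
  have hθ : Helper79.principalIrr (Subgroup.centralizer ({x} : Set K)) ∈
      principalBlock M (Subgroup.centralizer ({x} : Set K)) :=
    Helper78.principalIrr_mem_principalBlock M hMp _
  obtain ⟨hcard, hagree, χ₁, hχ₁, χ₂, hχ₂, hne, ε₁, ε₂, hε₁, hε₂, hprod, hval⟩ :=
    Cfsg.Agent.S4513.result M hM x hx2 (principalBlock M K) hB hBD _ hb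
      (Helper79.principalIrr (Subgroup.centralizer ({x} : Set K))) hθ (fun z _ => rfl)
  have h1B : Helper79.principalIrr K ∈ principalBlock M K :=
    Helper78.principalIrr_mem_principalBlock M hMp K
  -- B = {χ₁, χ₂}
  have hBeq : principalBlock M K = {χ₁, χ₂} := by
    symm
    apply Set.eq_of_subset_of_ncard_le
    · intro ψ hψ
      rcases hψ with rfl | rfl
      · exact hχ₁
      · exact hχ₂
    · rw [Set.ncard_pair hne, ← Nat.card_coe_set_eq, hcard]
    · exact Set.toFinite _
  have hval' : ∀ y : Subgroup.centralizer ({x} : Set K), ¬ 2 ∣ orderOf y →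
      (χ₁ : K → ℂ) (x * y) = (ε₁ : ℂ) ∧ (χ₂ : K → ℂ) (x * y) = (ε₂ : ℂ) := by
    intro y hy
    obtain ⟨h1, h2⟩ := hval y hy
    have : ((Helper79.principalIrr (Subgroup.centralizer ({x} : Set K)) :
        IrrCharacter (Subgroup.centralizer ({x} : Set K))) :
          Subgroup.centralizer ({x} : Set K) → ℂ) y = 1 := rfl
    rw [this, mul_one] at h1 h2
    exact ⟨h1, h2⟩
  -- the non-principal member
  obtain ⟨ψ, hψB, hψne, hψall, hψval⟩ : ∃ ψ : IrrCharacter K, ψ ∈ principalBlock M K ∧
      ψ ≠ Helper79.principalIrr K ∧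
      (∀ φ ∈ principalBlock M K, φ = Helper79.principalIrr K ∨ φ = ψ) ∧
      ∀ y : Subgroup.centralizer ({x} : Set K), ¬ 2 ∣ orderOf y →
        (ψ : K → ℂ) (x * y) = -1 := by
    have h1y : ¬ 2 ∣ orderOf (1 : Subgroup.centralizer ({x} : Set K)) := by
      rw [orderOf_one]
      norm_num
    have h1B' := h1B
    rw [hBeq] at h1B'
    rcases h1B' with h | h
    · have he1 : (ε₁ : ℂ) = 1 := by
        have := (hval' 1 h1y).1
        rw [← h] at this
        exact this.symm
      have he1' : ε₁ = 1 := by exact_mod_cast he1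
      have he2 : ε₂ = -1 := by
        rw [he1', one_mul] at hprod
        exact hprod
      refine ⟨χ₂, hχ₂, ?_, ?_, ?_⟩
      · rw [h]
        exact hne.symm
      · intro φ hφ
        rw [hBeq] at hφ
        rcases hφ with rfl | hφ
        · left
          exact h.symm
        · right
          exact hφ
      · intro y hy
        rw [(hval' y hy).2, he2]
        push_cast
        rfl
    · have h' : Helper79.principalIrr K = χ₂ := h
      have he2 : (ε₂ : ℂ) = 1 := by
        have := (hval' 1 h1y).2
        rw [← h'] at this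
        exact this.symm
      have he2' : ε₂ = 1 := by exact_mod_cast he2
      have he1 : ε₁ = -1 := by
        rw [he2', mul_one] at hprod
        exact hprod
      refine ⟨χ₁, hχ₁, ?_, ?_, ?_⟩
      · rw [h']
        exact hne
      · intro φ hφ
        rw [hBeq] at hφ
        rcases hφ with hφ | hφ
        · right
          exact hφ
        · left
          exact hφ.trans h'.symm
      · intro y hy
        rw [(hval' y hy).1, he1]
        push_cast
        rfl
  -- values of ψ
  have hψreg : ∀ g : K, ¬ 2 ∣ orderOf g → (ψ : K → ℂ) g = 1 := by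
    intro g hg
    exact hagree ψ hψB _ h1B g hg
  have hψsing : ∀ g : K, 2 ∣ orderOf g → (ψ : K → ℂ) g = -1 := by
    intro g hg
    obtain ⟨h, y, hy, rfl⟩ := exists_conj_mul_of_two_dvd P x hx2 hPx g hg
    rw [Helper16.irr_isClassFunction ψ (x * (y : K)) h]
    exact hψval y hy
  refine ⟨{ e := 1, θ := fun _ => Helper79.principalIrr K, ε := fun _ => 1, δ := 1, Y := {ψ},
            hθ := fun i j _ => Subsingleton.elim i j,
            hε := fun _ => Or.inl rfl, hδ := Or.inl rfl,
            hdisj := fun _ h => hψne (Finset.mem_singleton.mp h).symm,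
            hblock := ?_, hrel := ?_, hvan := ?_ }, ?_⟩
  · intro φ
    constructor
    · intro hφ
      rcases hψall φ hφ with h | h
      · exact Or.inl ⟨0, h⟩
      · exact Or.inr (Finset.mem_singleton.mpr h)
    · rintro (⟨_, h⟩ | h)
      · rw [h]
        exact h1B
      · rw [Finset.mem_singleton.mp h]
        exact hψB
  · intro φ hφ g hg
    rw [Finset.mem_singleton.mp hφ, hψreg g hg]
    simp only [Finset.univ_unique, Finset.sum_singleton]
    rfl
  · intro i g hg
    rw [Finset.sum_singleton, hψsing g hg]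
    have : ((Helper79.principalIrr K : IrrCharacter K) : K → ℂ) g = 1 := rfl
    rw [this]
    push_cast
    ring
  · show 1 + ({ψ} : Finset (IrrCharacter K)).card ≤ 2
    rw [Finset.card_singleton]

end E

end Cfsg.Agent.Helper42.KW
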