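import Cfsg.Agent.Helper77.KW.Defs
import Cfsg.Agent.Helper16.PrincipalNorm
import Cfsg.Agent.Helper16.Height
import Cfsg.Agent.S4441
import Cfsg.Agent.S4513
import Cfsg.Agent.S4428
import Cfsg.Agent.S0936
import Cfsg.Agent.S4431

/-!
# S4588 farm (helper77), piece (R3): third main theorem for the centralizer of a `p`-element
-/

set_option autoImplicit false

namespace Cfsg.Agent.Helper42.KW

open Cfsg
open scoped ComplexConjugate
open Cfsg.Agent.S4426 (cut)

universe u

section R

variable {G : Type u} [Group G] [Fintype G]

/-- (R3) third main theorem for the centralizer of a `p`-element -/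
theorem isInducedBlock_principal_centralizer (p : ℕ) [Fact p.Prime] (M : Ideal AlgInt)
    (hM : IsPModular p M) (y : G) (hy : ∃ k : ℕ, orderOf y = p ^ k) :
    IsInducedBlock M (Subgroup.centralizer ({y} : Set G))
      (principalBlock M (Subgroup.centralizer ({y} : Set G))) (principalBlock M G) := by
  classical
  have hb₀b : IsPBlock M (principalBlock M (Subgroup.centralizer ({y} : Set G))) :=
    Helper78.isPBlock_principalBlock M _
  have hdef := Helper16.inducedBlockDefined_centralizer hM y hy _ hb₀b
  exact (Cfsg.Agent.S0936.result p M hM _ _ hdef).mpr rfl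

end R

end Cfsg.Agent.Helper42.KW
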