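import Mathlib
import Cfsg.Agent.Helper42.EAMon

set_option autoImplicit false
set_option linter.unusedSectionVars false

/-!
# `P / P'` elementary abelian for determinant-type kernels in monomial groups
-/

namespace Cfsg.Agent.Helper42

open Equiv
open scoped commutatorElement

section kerEA
variable {A : Type*} [Group A] {ι : Type*} [Fintype ι] [DecidableEq ι] {D : Type*} [CommGroup D]

theorem prod_mulSingle {Q : Type*} [Group Q] (χ : Q →* D) (i : ι) (a : Q) :
    ∏ l, χ ((Pi.mulSingle i a : ι → Q) l) = χ a := by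
  rw [Finset.prod_eq_single i]
  · rw [Pi.mulSingle_eq_same]
  · intro l _ hl
    rw [Pi.mulSingle_eq_of_ne hl, map_one]
  · intro h
    exact absurd (Finset.mem_univ i) h

theorem commutator_mulSingle_pair {Q : Type*} [Group Q] {i j : ι} (hij : i ≠ j) (a b w : Q)
    (ka kb : ℤ) :
    ⁅(Pi.mulSingle i a * Pi.mulSingle j (w ^ ka) : ι → Q),
      (Pi.mulSingle i b * Pi.mulSingle j (w ^ kb) : ι → Q)⁆ = Pi.mulSingle i ⁅a, b⁆ := by
  funext l
  rw [commutatorElement_def]
  simp only [Pi.mul_apply, Pi.inv_apply]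
  by_cases h1 : l = i
  · subst h1
    rw [Pi.mulSingle_eq_same, Pi.mulSingle_eq_same, Pi.mulSingle_eq_same,
      Pi.mulSingle_eq_of_ne hij, Pi.mulSingle_eq_of_ne hij, mul_one, mul_one,
      commutatorElement_def]
  · by_cases h2 : l = j
    · subst h2
      rw [Pi.mulSingle_eq_same, Pi.mulSingle_eq_same, Pi.mulSingle_eq_of_ne h1,
        Pi.mulSingle_eq_of_ne h1, Pi.mulSingle_eq_of_ne h1, one_mul, one_mul]
      have hc : Commute (w ^ ka) (w ^ kb) := (Commute.refl w).zpow_zpow ka kb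
      rw [hc.eq, mul_inv_cancel_right, mul_inv_cancel]
    · rw [Pi.mulSingle_eq_of_ne h1, Pi.mulSingle_eq_of_ne h1, Pi.mulSingle_eq_of_ne h1,
        Pi.mulSingle_eq_of_ne h2, Pi.mulSingle_eq_of_ne h2]
      simp

/-- `K / K'` is elementary abelian for the kernel `K` of a product-of-characters map on
`Q ≀ T` (at least two points, `χ(Q)` cyclic) -/
theorem EA_ker_monSub {p : ℕ} (Q : Subgroup A) (T : Subgroup (Perm ι)) (hQ : EA p Q) (hT : EA p T)
    (χ : ↥Q →* D) (δ : ↥(monSub Q T) →* D)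
    (hinl : ∀ f : ι → ↥Q, δ (monSubInl Q T f) = ∏ i, χ (f i))
    (hinr : ∀ σ : ↥T, δ (monSubInr Q T σ) = 1)
    (w : ↥Q) (hw : ∀ a : ↥Q, ∃ k : ℤ, χ a = χ w ^ k)
    (i₀ j₀ : ι) (hij : i₀ ≠ j₀) : EA p ↥δ.ker := by
  set K := δ.ker with hK
  -- the subgroup of base elements landing in `K'`
  let N : Subgroup (ι → ↥Q) := ((commutator ↥K).map K.subtype).comap (monSubInl Q T)
  have hinlK : ∀ f : ι → ↥Q, (∏ i, χ (f i)) = 1 → monSubInl Q T f ∈ K := by
    intro f hf
    rw [hK, MonoidHom.mem_ker, hinl, hf]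
  have step1 : ∀ i : ι, commutator ↥Q ≤ N.comap (MonoidHom.mulSingle (fun _ : ι => ↥Q) i) := by
    intro i
    rw [commutator_def, Subgroup.commutator_le]
    intro a _ b _
    obtain ⟨j, hj⟩ : ∃ j, i ≠ j := by
      by_cases h : i = i₀
      · exact ⟨j₀, by rw [h]; exact hij⟩
      · exact ⟨i₀, h⟩
    obtain ⟨ka, hka⟩ := hw a
    obtain ⟨kb, hkb⟩ := hw b
    set Fa : ι → ↥Q := Pi.mulSingle i a * Pi.mulSingle j (w ^ (-ka)) with hFa
    set Fb : ι → ↥Q := Pi.mulSingle i b * Pi.mulSingle j (w ^ (-kb)) with hFb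
    have hFa1 : (∏ l, χ (Fa l)) = 1 := by
      rw [hFa]
      simp only [Pi.mul_apply, map_mul]
      rw [Finset.prod_mul_distrib, prod_mulSingle, prod_mulSingle, map_zpow, hka, ← zpow_add,
        add_neg_cancel, zpow_zero]
    have hFb1 : (∏ l, χ (Fb l)) = 1 := by
      rw [hFb]
      simp only [Pi.mul_apply, map_mul]
      rw [Finset.prod_mul_distrib, prod_mulSingle, prod_mulSingle, map_zpow, hkb, ← zpow_add,
        add_neg_cancel, zpow_zero]
    have hcomm : ⁅Fa, Fb⁆ = Pi.mulSingle i ⁅a, b⁆ := commutator_mulSingle_pair hj a b w _ _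
    rw [Subgroup.mem_comap, Subgroup.mem_comap]
    show monSubInl Q T (Pi.mulSingle i ⁅a, b⁆) ∈ (commutator ↥K).map K.subtype
    rw [← hcomm, map_commutatorElement]
    refine ⟨⁅(⟨monSubInl Q T Fa, hinlK Fa hFa1⟩ : ↥K),
      (⟨monSubInl Q T Fb, hinlK Fb hFb1⟩ : ↥K)⁆, ?_, rfl⟩
    exact Subgroup.commutator_mem_commutator (Subgroup.mem_top _) (Subgroup.mem_top _)
  have step2 : ∀ g : ι → ↥Q, (∀ i, g i ∈ commutator ↥Q) → g ∈ N := by
    intro g hg
    apply Subgroup.pi_mem_of_mulSingle_mem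
    intro i
    exact step1 i (hg i)
  -- the top group inside `K`
  let inrK : ↥T →* ↥K := (monSubInr Q T).codRestrict K (fun σ => by
    rw [hK, MonoidHom.mem_ker]; exact hinr σ)
  intro x
  have hx := monSub_eq_inl_mul_inr Q T x.1
  set f : ι → ↥Q := fun i => ⟨x.1.1.left i, x.1.2.1 i⟩ with hf
  set σ : ↥T := ⟨x.1.1.right, x.1.2.2⟩ with hσ
  have hfK : monSubInl Q T f ∈ K := by
    have h1 : monSubInl Q T f = x.1 * (monSubInr Q T σ)⁻¹ := by
      rw [eq_mul_inv_iff_mul_eq]; exact hx.symm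
    rw [h1]
    exact K.mul_mem x.2 (K.inv_mem (inrK σ).2)
  have hsplit : x = ⟨monSubInl Q T f, hfK⟩ * inrK σ := Subtype.ext hx
  rw [hsplit]
  apply pow_mem_commutator_of_mul
  · have h1 : f ^ p ∈ N := by
      apply step2
      intro i
      rw [Pi.pow_apply]
      exact hQ (f i)
    obtain ⟨y, hy, hy'⟩ := h1
    have : (⟨monSubInl Q T f, hfK⟩ : ↥K) ^ p = y := by
      apply Subtype.ext
      rw [Subgroup.coe_pow]
      show (monSubInl Q T f) ^ p = y.1
      rw [← map_pow]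
      exact hy'.symm
    rw [this]
    exact hy
  · have h2 := map_commutator_le inrK ⟨_, hT σ, rfl⟩
    rwa [map_pow] at h2

end kerEA

end Cfsg.Agent.Helper42
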