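import Mathlib

set_option autoImplicit false

/-!
# The Kronecker module and its endomorphisms

`kX, kY : Matrix (Fin (m+1)) (Fin m) R` are the two shift matrices. A pair `(s, t)` with
`s * kX = kX * t` and `s * kY = kY * t` is a pair of equal scalar matrices.
-/

namespace Cfsg.Agent.Helper42

open Matrix

variable {R : Type*} [CommRing R]

/-- the inclusion shift -/
def kX (R : Type*) [CommRing R] (m : ℕ) : Matrix (Fin (m + 1)) (Fin m) R :=
  fun i j => if i = j.castSucc then 1 else 0

/-- the successor shift -/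
def kY (R : Type*) [CommRing R] (m : ℕ) : Matrix (Fin (m + 1)) (Fin m) R :=
  fun i j => if i = j.succ then 1 else 0

theorem mul_kX_apply {m : ℕ} (s : Matrix (Fin (m + 1)) (Fin (m + 1)) R) (i : Fin (m + 1)) (j : Fin m) :
    (s * kX R m) i j = s i j.castSucc := by
  rw [Matrix.mul_apply]
  simp only [kX, mul_ite, mul_one, mul_zero]
  rw [Finset.sum_ite_eq']
  simp

theorem mul_kY_apply {m : ℕ} (s : Matrix (Fin (m + 1)) (Fin (m + 1)) R) (i : Fin (m + 1)) (j : Fin m) :
    (s * kY R m) i j = s i j.succ := by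
  rw [Matrix.mul_apply]
  simp only [kY, mul_ite, mul_one, mul_zero]
  rw [Finset.sum_ite_eq']
  simp

theorem kX_mul_apply_castSucc {m : ℕ} (t : Matrix (Fin m) (Fin m) R) (k j : Fin m) :
    (kX R m * t) k.castSucc j = t k j := by
  rw [Matrix.mul_apply]
  simp only [kX, Fin.castSucc_inj, ite_mul, one_mul, zero_mul]
  rw [Finset.sum_ite_eq]
  simp

theorem kX_mul_apply_last {m : ℕ} (t : Matrix (Fin m) (Fin m) R) (j : Fin m) :
    (kX R m * t) (Fin.last m) j = 0 := by
  rw [Matrix.mul_apply]
  apply Finset.sum_eq_zero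
  intro k _
  simp only [kX]
  rw [if_neg (Fin.castSucc_lt_last k).ne', zero_mul]

theorem kY_mul_apply_succ {m : ℕ} (t : Matrix (Fin m) (Fin m) R) (k j : Fin m) :
    (kY R m * t) k.succ j = t k j := by
  rw [Matrix.mul_apply]
  simp only [kY, Fin.succ_inj, ite_mul, one_mul, zero_mul]
  rw [Finset.sum_ite_eq]
  simp

theorem kY_mul_apply_zero {m : ℕ} (t : Matrix (Fin m) (Fin m) R) (j : Fin m) :
    (kY R m * t) 0 j = 0 := by
  rw [Matrix.mul_apply]
  apply Finset.sum_eq_zero
  intro k _
  simp only [kY]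
  rw [if_neg (Fin.succ_ne_zero k).symm, zero_mul]

/-- endomorphisms of the Kronecker module are scalars -/
theorem kronecker_end {m : ℕ} (s : Matrix (Fin (m + 1)) (Fin (m + 1)) R) (t : Matrix (Fin m) (Fin m) R)
    (hX : s * kX R m = kX R m * t) (hY : s * kY R m = kY R m * t) :
    s = (s 0 0) • (1 : Matrix (Fin (m + 1)) (Fin (m + 1)) R) ∧
      t = (s 0 0) • (1 : Matrix (Fin m) (Fin m) R) := by
  -- the four basic relations
  have ha : ∀ k j : Fin m, s k.castSucc j.castSucc = t k j := by
    intro k j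
    rw [← mul_kX_apply s k.castSucc j, hX, kX_mul_apply_castSucc]
  have hb : ∀ j : Fin m, s (Fin.last m) j.castSucc = 0 := by
    intro j
    rw [← mul_kX_apply s (Fin.last m) j, hX, kX_mul_apply_last]
  have hc : ∀ k j : Fin m, s k.succ j.succ = t k j := by
    intro k j
    rw [← mul_kY_apply s k.succ j, hY, kY_mul_apply_succ]
  have hd : ∀ j : Fin m, s 0 j.succ = 0 := by
    intro j
    rw [← mul_kY_apply s 0 j, hY, kY_mul_apply_zero]
  -- in terms of natural numbers
  have hstep : ∀ (a b : ℕ) (ha' : a < m) (hb' : b < m),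
      s ⟨a + 1, by omega⟩ ⟨b + 1, by omega⟩ = s ⟨a, by omega⟩ ⟨b, by omega⟩ := by
    intro a b ha' hb'
    have h1 := hc ⟨a, ha'⟩ ⟨b, hb'⟩
    have h2 := ha ⟨a, ha'⟩ ⟨b, hb'⟩
    rw [← h2] at h1
    exact h1
  have hlast : ∀ (b : ℕ) (hb' : b < m), s ⟨m, by omega⟩ ⟨b, by omega⟩ = 0 := by
    intro b hb'
    exact hb ⟨b, hb'⟩
  have hzero : ∀ (b : ℕ) (hb' : b < m), s ⟨0, by omega⟩ ⟨b + 1, by omega⟩ = 0 := by
    intro b hb'
    exact hd ⟨b, hb'⟩
  -- lower triangle
  have hlow : ∀ (n a b : ℕ) (ha' : a < m + 1) (hb' : b < m + 1), m - a = n → b < a →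
      s ⟨a, ha'⟩ ⟨b, hb'⟩ = 0 := by
    intro n
    induction n with
    | zero =>
      intro a b ha' hb' hn hba
      have : a = m := by omega
      subst this
      exact hlast b (by omega)
    | succ n ih =>
      intro a b ha' hb' hn hba
      rw [← hstep a b (by omega) (by omega)]
      exact ih (a + 1) (b + 1) (by omega) (by omega) (by omega) (by omega)
  -- upper triangle and diagonal
  have hup : ∀ (a b : ℕ) (ha' : a < m + 1) (hb' : b < m + 1), a ≤ b →
      s ⟨a, ha'⟩ ⟨b, hb'⟩ = if a = b then s 0 0 else 0 := by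
    intro a
    induction a with
    | zero =>
      intro b ha' hb' _
      rcases Nat.eq_zero_or_pos b with rfl | hbpos
      · rw [if_pos rfl]; rfl
      · rw [if_neg (by omega)]
        obtain ⟨b', rfl⟩ : ∃ b', b = b' + 1 := ⟨b - 1, by omega⟩
        exact hzero b' (by omega)
    | succ a ih =>
      intro b ha' hb' hab
      obtain ⟨b', rfl⟩ : ∃ b', b = b' + 1 := ⟨b - 1, by omega⟩
      rw [hstep a b' (by omega) (by omega), ih b' (by omega) (by omega) (by omega)]
      simp only [Nat.add_right_cancel_iff]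
  have hall : ∀ i j : Fin (m + 1), s i j = if i = j then s 0 0 else 0 := by
    rintro ⟨a, ha'⟩ ⟨b, hb'⟩
    rcases Nat.lt_or_ge b a with hba | hab
    · rw [hlow (m - a) a b ha' hb' rfl hba, if_neg]
      intro h
      have := congrArg Fin.val h
      simp at this
      omega
    · rw [hup a b ha' hb' hab]
      simp only [Fin.mk.injEq]
  constructor
  · ext i j
    rw [hall i j, Matrix.smul_apply, Matrix.one_apply, smul_eq_mul, mul_ite, mul_one, mul_zero]
  · ext k j
    rw [← ha k j, hall, Matrix.smul_apply, Matrix.one_apply, smul_eq_mul, mul_ite, mul_one, mul_zero]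
    simp only [Fin.castSucc_inj]

end Cfsg.Agent.Helper42
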