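import Mathlib
import Cfsg.Prelude.Def_Blocks
import Cfsg.Agent.Helper80.Degree
import Cfsg.Agent.Helper80.OneChar
import Cfsg.Agent.Helper80.Induced

/-!
# (A4) of helper80's S2332 farm: multiplicity of the trivial character of a normal subgroup

`A4_fixed_mult` : for `N` normal in `G` and a character `ψ` of `G`,
`⟨ψ|_N, 1_N⟩ = Σ_θ mult(ψ, θ) · [N ≤ ker θ] · θ(1)`.
-/

set_option autoImplicit false
set_option linter.unusedSectionVars false
set_option linter.unusedVariables false

namespace Cfsg.Agent.Helper42.LS

open Cfsg Cfsg.Agent.Helper80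
open scoped ComplexConjugate

universe u

variable {G : Type u} [Group G] [Fintype G]

/-- For an irreducible character `θ` of `G` and a normal subgroup `N` not contained in the kernel
of `θ`, the trivial character of `N` is not a constituent of `θ|_N`. -/
theorem irr_fixed_zero (N : Subgroup G) [N.Normal] [Fintype N] {θ : G → ℂ}
    (hθ : IsIrrCharacter G θ) (hnk : ¬ ∀ x ∈ N, θ x = θ 1) :
    classInner (fun x : N => θ x) (fun _ => 1) = 0 := by
  obtain ⟨n, ρ, hirr, rfl⟩ := hθ
  set e : Module.End ℂ (Fin n → ℂ) := ∑ x : N, ρ (x : G) with he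
  have hcomm : ∀ g, e * ρ g = ρ g * e := by
    intro g
    calc e * ρ g = ∑ x : N, ρ ((x : G) * g) := by
          rw [he, Finset.sum_mul]
          exact Finset.sum_congr rfl fun x _ => (map_mul ρ _ _).symm
      _ = ∑ x : N, ρ (g * (x : G)) := by
          apply Fintype.sum_equiv (MulAut.conjNormal g⁻¹ : N ≃* N).toEquiv
          intro x
          congr 1
          simp only [MulEquiv.toEquiv_eq_coe, MulEquiv.coe_toEquiv, MulAut.conjNormal_apply]
          group
      _ = ρ g * e := by
          rw [he, Finset.mul_sum]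
          exact Finset.sum_congr rfl fun x _ => map_mul ρ _ _
  obtain ⟨c, hc⟩ := exists_scalar_of_commute ρ hirr e hcomm
  have hye : ∀ y : N, ρ (y : G) * e = e := by
    intro y
    calc ρ (y : G) * e = ∑ x : N, ρ ((y * x : N) : G) := by
          rw [he, Finset.mul_sum]
          exact Finset.sum_congr rfl fun x _ => by
            rw [Subgroup.coe_mul, map_mul]
      _ = e := by
          rw [he]
          exact Fintype.sum_equiv (Equiv.mulLeft y) _ _ (fun x => rfl)
  have htr : LinearMap.trace ℂ _ e = ∑ x : N, ρ.character (x : G) := by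
    rw [he, map_sum]
    rfl
  by_cases hc0 : c = 0
  · have : ∑ x : N, ρ.character (x : G) = 0 := by
      rw [← htr, hc, hc0, zero_smul, map_zero]
    unfold classInner
    simp only [map_one, mul_one]
    rw [this, mul_zero]
  · exfalso
    apply hnk
    intro x hx
    have h1 := hye ⟨x, hx⟩
    rw [hc] at h1
    have h2 : ρ x = 1 := by
      have h3 : c • ρ x = c • (1 : Module.End ℂ (Fin n → ℂ)) := by
        simpa using h1
      exact smul_right_injective _ hc0 h3
    change LinearMap.trace ℂ _ (ρ x) = LinearMap.trace ℂ _ (ρ 1)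
    rw [h2, map_one ρ]

/-- If `N` is in the kernel of `θ`, then `⟨θ|_N, 1_N⟩ = θ(1)`. -/
theorem fixed_of_ker (N : Subgroup G) [Fintype N] {θ : G → ℂ}
    (hk : ∀ x ∈ N, θ x = θ 1) :
    classInner (fun x : N => θ x) (fun _ => 1) = θ 1 := by
  unfold classInner
  simp only [map_one, mul_one]
  have : ∑ x : N, θ (x : G) = (Nat.card N : ℂ) * θ 1 := by
    have h0 : ∀ x ∈ (Finset.univ : Finset N), θ (x : G) = θ 1 := fun x _ => hk x x.2
    rw [Finset.sum_congr rfl h0, Finset.sum_const, Finset.card_univ,
      nsmul_eq_mul, Nat.card_eq_fintype_card]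
  rw [this, ← mul_assoc, inv_mul_cancel₀, one_mul]
  have : Nat.card N ≠ 0 := Nat.card_pos.ne'
  exact_mod_cast this

/-- (A4) multiplicity of the trivial character of a normal subgroup `N` in a character `ψ`:
only the irreducible constituents with `N` in the kernel contribute, each with its full degree. -/
theorem A4_fixed_mult (N : Subgroup G) [N.Normal] [Fintype N] [Fintype (IrrCharacter G)]
    {ψ : G → ℂ} (hψ : IsCharacter G ψ) :
    classInner (fun x : N => ψ x) (fun _ => 1) =
      ∑ θ : IrrCharacter G, (mult ψ hψ θ : ℂ) *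
        (open Classical in if (∀ x ∈ N, (θ : G → ℂ) x = (θ : G → ℂ) 1) then (θ : G → ℂ) 1 else 0) := by
  classical
  have hdec := eq_sum_mult ψ hψ
  have hres : (fun x : N => ψ x) =
      ∑ θ : IrrCharacter G, (mult ψ hψ θ : ℂ) • (fun x : N => (θ : G → ℂ) x) := by
    funext x
    conv_lhs => rw [hdec]
    simp only [Finset.sum_apply, Pi.smul_apply]
  rw [hres, Helper15.classInner_finset_sum_left]
  refine Finset.sum_congr rfl fun θ _ => ?_
  rw [Helper15.classInner_smul_left]
  congr 1
  split_ifs with h
  · exact fixed_of_ker N h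
  · exact irr_fixed_zero N θ.2 h

end Cfsg.Agent.Helper42.LS
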