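import Mathlib
import Cfsg.Prelude.Def_Blocks
import Cfsg.Agent.Helper80.Degree
import Cfsg.Agent.Helper80.OneChar
import Cfsg.Agent.Helper80.Induced

/-!
# (A6) of helper80's S2332 farm: the Weil case

`A6_weil` : `χ` non-linear irreducible lying over a linear character `θ` of `P` trivial on `Q` and on
the conjugates of `t0` in `P`; then `χ(1) ≥ [G:P] - 1`.

Proof: `I = Ind_P^G θ` has `I(1) = |Q| + M`, `I(t0) = M`.  For a non-trivial linear character `λ` of
`Q` and a class function `f` of `G`, `|Q|⟨f|_Q, λ⟩ = f(1) - f(t0)`; for `f = ψ` irreducible this is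
`|Q| e_ψ` with `e_ψ ∈ ℕ`, and `Σ m_ψ e_ψ = 1`.  `e_ψ = 0` forces `ψ` linear, trivial on the normal
closure `S` of `t0`; such a constituent restricts to `θ` on `P`, so (as `G = PS`) there is at most one,
of multiplicity one.  `χ` has `e_χ ≥ 1`, so `I = χ` or `I = χ + ψ0`.
-/

set_option autoImplicit false
set_option linter.unusedSectionVars false
set_option linter.unusedVariables false

namespace Cfsg.Agent.Helper42.LS

open Cfsg Cfsg.Agent.Helper80
open scoped ComplexConjugate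

universe u

/-- The sum of the conjugates of a non-trivial linear character over a finite group vanishes. -/
theorem sum_conj_hom_eq_zero {A : Type*} [Group A] [Fintype A] (lam : A →* ℂˣ) (hl : lam ≠ 1) :
    ∑ x : A, conj (((lam x : ℂˣ) : ℂ)) = 0 := by
  obtain ⟨t, ht⟩ : ∃ t, lam t ≠ 1 := by
    by_contra h
    push Not at h
    exact hl (MonoidHom.ext h)
  have h1 : conj (((lam t : ℂˣ) : ℂ)) * ∑ x : A, conj (((lam x : ℂˣ) : ℂ)) =
      ∑ x : A, conj (((lam x : ℂˣ) : ℂ)) := by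
    rw [Finset.mul_sum]
    apply Fintype.sum_equiv (Equiv.mulLeft t)
    intro x
    simp [map_mul]
  have h2 : conj (((lam t : ℂˣ) : ℂ)) ≠ 1 := by
    intro h
    apply ht
    have h3 : ((lam t : ℂˣ) : ℂ) = 1 := by
      have := congrArg conj h
      simpa using this
    exact Units.ext h3
  have h3 : (conj (((lam t : ℂˣ) : ℂ)) - 1) * ∑ x : A, conj (((lam x : ℂˣ) : ℂ)) = 0 := by
    rw [sub_mul, h1, one_mul, sub_self]
  rcases mul_eq_zero.mp h3 with h | h
  · exact absurd (sub_eq_zero.mp h) h2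
  · exact h

variable {G : Type u} [Group G] [Fintype G]

/-- For `f` constant `= f t0` on `Q ∖ 1` and `λ ≠ 1` linear on `Q`: `|Q|⟨f|_Q, λ⟩ = f(1) - f(t0)`. -/
theorem card_mul_inner_lam (Q : Subgroup G) [Fintype Q] (t0 : G) (lam : Q →* ℂˣ) (hl : lam ≠ 1)
    (f : G → ℂ) (hf : ∀ x ∈ Q, x ≠ 1 → f x = f t0) :
    (Nat.card Q : ℂ) * classInner (fun x : Q => f x) (fun x => ((lam x : ℂˣ) : ℂ)) =
      f 1 - f t0 := by
  classical
  unfold classInner
  beta_reduce
  have hQ0 : (Nat.card Q : ℂ) ≠ 0 := by exact_mod_cast (Nat.card_pos (α := Q)).ne'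
  rw [← mul_assoc, mul_inv_cancel₀ hQ0, one_mul]
  have hx : ∀ x : Q, f x * conj (((lam x : ℂˣ) : ℂ)) =
      f t0 * conj (((lam x : ℂˣ) : ℂ)) + (if x = 1 then f 1 - f t0 else 0) := by
    intro x
    by_cases hx : x = 1
    · subst hx
      simp
    · rw [if_neg hx, add_zero, hf x x.2 (fun h => hx (Subtype.ext h))]
  rw [Finset.sum_congr rfl (fun x _ => hx x), Finset.sum_add_distrib, ← Finset.mul_sum,
    sum_conj_hom_eq_zero lam hl, mul_zero, zero_add]
  simp

/-- (A6) Weil case: `χ` non-linear irreducible lying over a linear character `θ` of `P` trivial on `Q`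
and on the conjugates of `t0` in `P`; then `χ(1) ≥ [G:P] - 1`. -/
theorem A6_weil (Q P : Subgroup G) [Fintype P] (t0 : G) (ht0 : t0 ∈ Q) (ht01 : t0 ≠ 1)
    (hQP : Q ≤ P) (hQab : ∀ x ∈ Q, ∀ y ∈ Q, x * y = y * x)
    (htrans : ∀ x ∈ Q, x ≠ 1 → ∃ p ∈ P, p * t0 * p⁻¹ = x)
    (hcomm : commutator G ≤ Subgroup.normalClosure ({t0} : Set G))
    (hPS : ∀ g : G, ∃ p ∈ P, ∃ s ∈ Subgroup.normalClosure ({t0} : Set G), g = p * s)
    (M : ℕ) (hidx : P.index = Nat.card Q + M)
    (hfix : Nat.card {y : G // y⁻¹ * t0 * y ∈ P} = Nat.card P * M)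
    {θ : P → ℂ} (hθ : IsIrrCharacter P θ) (hθ1 : θ 1 = 1)
    (hθQ : ∀ x : P, (x : G) ∈ Q → θ x = 1)
    (hθt : ∀ x : P, (∃ y : G, y⁻¹ * t0 * y = x) → θ x = 1)
    {χ : G → ℂ} (hχ : IsIrrCharacter G χ) (hχ1 : charDegree χ ≠ 1)
    (hne : classInner (fun x : P => χ x) θ ≠ 0) :
    P.index ≤ charDegree χ + 1 := by
  classical
  let _ : Fintype (IrrCharacter G) := Helper74.irrFintype G
  let _ : Fintype Q := Fintype.ofFinite Q
  have hθc : IsCharacter P θ := IsIrrCharacter.isCharacter hθ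
  have hQ0 : (Nat.card Q : ℂ) ≠ 0 := by exact_mod_cast (Nat.card_pos (α := Q)).ne'
  have hP0 : (Nat.card P : ℂ) ≠ 0 := by exact_mod_cast (Nat.card_pos (α := P)).ne'
  -- the induced character, made opaque
  obtain ⟨I, hIdef⟩ : ∃ I : G → ℂ, I = indFun P θ := ⟨_, rfl⟩
  have hI : IsCharacter G I := hIdef ▸ Helper15.isCharacter_indFun P hθc
  have hI1 : I 1 = (P.index : ℂ) := by
    rw [hIdef, Helper15.indFun_apply_one, hθ1, mul_one]
  have hIt : I t0 = (M : ℂ) := by
    rw [hIdef, Helper15.indFun_apply]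
    have h1 : ∀ y : G, extendByZero P θ (y⁻¹ * t0 * y) =
        if y⁻¹ * t0 * y ∈ P then 1 else 0 := by
      intro y
      split_ifs with h
      · rw [Helper15.extendByZero_of_mem P θ h]
        exact hθt ⟨_, h⟩ ⟨y, rfl⟩
      · exact Helper15.extendByZero_of_not_mem P θ h
    rw [Finset.sum_congr rfl (fun y _ => h1 y), Finset.sum_boole]
    have h2 : (Finset.univ.filter (fun y : G => y⁻¹ * t0 * y ∈ P)).card = Nat.card P * M := by
      rw [← hfix, Nat.card_eq_fintype_card, Fintype.card_subtype]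
    rw [h2]
    push_cast
    rw [← mul_assoc, inv_mul_cancel₀ hP0, one_mul]
  have hIfrob : ∀ ψ : G → ℂ, IsClassFunction G ψ →
      classInner I ψ = classInner θ (fun h : P => ψ h) := by
    intro ψ hψ
    rw [hIdef, Helper15.frobenius_reciprocity P θ ψ hψ]
  have hIdeg : charDegree I = P.index := by
    have hθd : charDegree θ = 1 := by
      unfold charDegree
      rw [hθ1]
      simp
    rw [hIdef, charDegree_indFun P hθc, hθd, mul_one]
  clear hIdef
  -- class functions are constant on `Q ∖ 1`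
  have hconst : ∀ f : G → ℂ, IsClassFunction G f → ∀ x ∈ Q, x ≠ 1 → f x = f t0 := by
    intro f hf x hx hx1
    obtain ⟨p, _, rfl⟩ := htrans x hx hx1
    exact hf t0 p
  -- a non-trivial linear character of `Q`
  obtain ⟨lam, hlam⟩ : ∃ lam : Q →* ℂˣ, lam ≠ 1 := by
    have hcomQ : (⟨t0, ht0⟩ : Q) ∉ commutator Q := by
      have hbot : commutator Q = ⊥ := by
        rw [commutator_def, Subgroup.commutator_eq_bot_iff_le_centralizer]
        intro x _
        rw [Subgroup.mem_centralizer_iff]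
        intro y _
        exact Subtype.ext (hQab y y.2 x x.2)
      rw [hbot, Subgroup.mem_bot]
      intro h
      exact ht01 (congrArg Subtype.val h)
    obtain ⟨ν, hν⟩ := exists_hom_ne_one_of_not_mem_commutator _ hcomQ
    exact ⟨ν, fun h => hν (by rw [h]; rfl)⟩
  -- the `e`-invariant of an irreducible character
  have hexe : ∀ ψ : IrrCharacter G, ∃ e : ℕ,
      (ψ : G → ℂ) 1 - (ψ : G → ℂ) t0 = (Nat.card Q : ℂ) * e := by
    intro ψ
    have hψc : IsCharacter G (ψ : G → ℂ) := IsIrrCharacter.isCharacter ψ.2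
    have hres : IsCharacter Q (fun x : Q => (ψ : G → ℂ) (Q.subtype x)) :=
      IsCharacter.comp_hom hψc Q.subtype
    obtain ⟨e, he⟩ := Helper74.isCharacter_inner_irr_nat hres
      ⟨_, isIrrCharacter_of_monoidHom lam⟩
    refine ⟨e, ?_⟩
    rw [← he]
    exact (card_mul_inner_lam Q t0 lam hlam _
      (hconst _ (IsCharacter.isClassFunction hψc))).symm
  choose e he using hexe
  -- `Σ m_ψ e_ψ = 1`
  have hdec := eq_sum_mult I hI
  have hsum : (∑ ψ : IrrCharacter G, mult I hI ψ * e ψ) = 1 := by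
    have hA := congrFun hdec 1
    have hB := congrFun hdec t0
    simp only [Finset.sum_apply, Pi.smul_apply, smul_eq_mul] at hA hB
    have h1 : I 1 - I t0 =
        (Nat.card Q : ℂ) * ((∑ ψ : IrrCharacter G, mult I hI ψ * e ψ : ℕ) : ℂ) := by
      rw [hA, hB, ← Finset.sum_sub_distrib]
      push_cast
      rw [Finset.mul_sum]
      refine Finset.sum_congr rfl fun ψ _ => ?_
      rw [← mul_sub, he ψ]
      ring
    rw [hI1, hIt, hidx] at h1
    have h2 : ((∑ ψ : IrrCharacter G, mult I hI ψ * e ψ : ℕ) : ℂ) = 1 := by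
      have h3 : (Nat.card Q : ℂ) * ((∑ ψ : IrrCharacter G, mult I hI ψ * e ψ : ℕ) : ℂ) =
          (Nat.card Q : ℂ) * 1 := by
        rw [← h1]
        push_cast
        ring
      exact mul_left_cancel₀ hQ0 h3
    exact_mod_cast h2
  -- `e_ψ = 0` forces `ψ` linear and trivial on `S`
  have hlin : ∀ ψ : IrrCharacter G, e ψ = 0 →
      charDegree (ψ : G → ℂ) = 1 ∧
        ∀ s ∈ Subgroup.normalClosure ({t0} : Set G), (ψ : G → ℂ) s = (ψ : G → ℂ) 1 := by
    intro ψ h0
    have hψc : IsCharacter G (ψ : G → ℂ) := IsIrrCharacter.isCharacter ψ.2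
    have ht : (ψ : G → ℂ) t0 = (ψ : G → ℂ) 1 := by
      have h1 := he ψ
      rw [h0, Nat.cast_zero, mul_zero] at h1
      exact (sub_eq_zero.mp h1).symm
    have hSk : Subgroup.normalClosure ({t0} : Set G) ≤ kerChar _ hψc := by
      apply Subgroup.normalClosure_le_normal
      intro x hx
      rw [Set.mem_singleton_iff] at hx
      subst hx
      exact (mem_kerChar hψc _).mpr ht
    have hS1 : ∀ s ∈ Subgroup.normalClosure ({t0} : Set G),
        (ψ : G → ℂ) s = (ψ : G → ℂ) 1 := fun s hs => (mem_kerChar hψc s).mp (hSk hs)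
    exact ⟨IsIrrCharacter.charDegree_eq_one_of_commutator_le ψ.2
      (fun g hg => hS1 g (hcomm hg)), hS1⟩
  -- `χ` is a constituent with `e_χ ≥ 1`
  set X : IrrCharacter G := ⟨χ, hχ⟩ with hX
  have hcf : IsClassFunction G χ := IsCharacter.isClassFunction (IsIrrCharacter.isCharacter hχ)
  have hmX0 : mult I hI X ≠ 0 := by
    have hm : (mult I hI X : ℂ) ≠ 0 := by
      rw [← mult_spec, hX]
      change classInner I χ ≠ 0
      rw [hIfrob χ hcf, ← Helper15.classInner_conj_symm]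
      simpa using hne
    exact_mod_cast hm
  have heX0 : e X ≠ 0 := fun h => hχ1 (hlin X h).1
  rw [← Finset.add_sum_erase _ _ (Finset.mem_univ X)] at hsum
  have hprod : 1 ≤ mult I hI X * e X :=
    Nat.one_le_iff_ne_zero.mpr (Nat.mul_ne_zero hmX0 heX0)
  have hrest : ∑ ψ ∈ Finset.univ.erase X, mult I hI ψ * e ψ = 0 := by omega
  have hmXe : mult I hI X * e X = 1 := by omega
  have hmX : mult I hI X = 1 := Nat.eq_one_of_mul_eq_one_right hmXe
  -- the other constituents
  have hother : ∀ ψ : IrrCharacter G, ψ ≠ X → mult I hI ψ ≠ 0 →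
      mult I hI ψ = 1 ∧ charDegree (ψ : G → ℂ) = 1 ∧
        ∀ (p : G) (hp : p ∈ P), ∀ s ∈ Subgroup.normalClosure ({t0} : Set G),
          (ψ : G → ℂ) (p * s) = θ ⟨p, hp⟩ := by
    intro ψ hψX hmψ
    have hψc : IsCharacter G (ψ : G → ℂ) := IsIrrCharacter.isCharacter ψ.2
    have he0 : e ψ = 0 := by
      have h1 := (Finset.sum_eq_zero_iff.mp hrest) ψ (Finset.mem_erase.mpr ⟨hψX, Finset.mem_univ _⟩)
      rcases Nat.mul_eq_zero.mp h1 with h | h
      · exact absurd h hmψ
      · exact h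
    obtain ⟨hdeg, hS1⟩ := hlin ψ he0
    have hψ1 : (ψ : G → ℂ) 1 = 1 := by
      rw [← IsCharacter.charDegree_cast hψc, hdeg, Nat.cast_one]
    obtain ⟨φ, hφ⟩ := IsCharacter.exists_monoidHom hψc hψ1
    set ψP : IrrCharacter P :=
      ⟨fun x : P => (((φ.comp P.subtype) x : ℂˣ) : ℂ), isIrrCharacter_of_monoidHom _⟩ with hψP
    set Θ : IrrCharacter P := ⟨θ, hθ⟩ with hΘ
    have hresP : (fun h : P => (ψ : G → ℂ) h) = (ψP : P → ℂ) := by
      funext h
      rw [hφ]
      rfl
    have hinner : classInner (Θ : P → ℂ) (ψP : P → ℂ) = (mult I hI ψ : ℂ) := by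
      rw [← mult_spec, hIfrob _ (IsCharacter.isClassFunction hψc), hresP]
    have hΘψ : Θ = ψP := by
      by_contra hcon
      rw [Helper74.irr_inner_ne hcon] at hinner
      exact hmψ (by exact_mod_cast hinner.symm)
    have hθφ : ∀ x : P, θ x = ((φ (x : G) : ℂˣ) : ℂ) := by
      intro x
      have := congrArg (fun a : IrrCharacter P => (a : P → ℂ) x) hΘψ
      exact this
    refine ⟨?_, hdeg, ?_⟩
    · rw [← hΘψ, Helper74.irr_inner_self] at hinner
      exact_mod_cast hinner.symm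
    · intro p hp s hs
      have hs1 : ((φ s : ℂˣ) : ℂ) = 1 := by
        rw [← hφ, hS1 s hs, hψ1]
      rw [hφ, map_mul, Units.val_mul, hs1, mul_one, hθφ ⟨p, hp⟩]
  have huniq : ∀ ψ₁ ψ₂ : IrrCharacter G, ψ₁ ≠ X → mult I hI ψ₁ ≠ 0 → ψ₂ ≠ X →
      mult I hI ψ₂ ≠ 0 → ψ₁ = ψ₂ := by
    intro ψ₁ ψ₂ h1 h1' h2 h2'
    apply Subtype.ext
    funext g
    obtain ⟨p, hp, s, hs, rfl⟩ := hPS g
    rw [(hother ψ₁ h1 h1').2.2 p hp s hs, (hother ψ₂ h2 h2').2.2 p hp s hs]
  -- degree count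
  have hdegI := charDegree_eq_sum_mult I hI
  rw [hIdeg, ← Finset.add_sum_erase _ _ (Finset.mem_univ X), hmX, one_mul] at hdegI
  have hXdeg : charDegree (X : G → ℂ) = charDegree χ := rfl
  have hrest_le : ∑ ψ ∈ Finset.univ.erase X, mult I hI ψ * charDegree (ψ : G → ℂ) ≤ 1 := by
    have h1 : ∑ ψ ∈ Finset.univ.erase X, mult I hI ψ * charDegree (ψ : G → ℂ) =
        ∑ ψ ∈ (Finset.univ.erase X).filter (fun ψ => mult I hI ψ ≠ 0), 1 := by
      rw [Finset.sum_filter]
      refine Finset.sum_congr rfl fun ψ hψ => ?_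
      have hψX : ψ ≠ X := Finset.ne_of_mem_erase hψ
      split_ifs with h
      · obtain ⟨a, b, _⟩ := hother ψ hψX h
        rw [a, b]
      · push Not at h
        rw [h, zero_mul]
    rw [h1, Finset.sum_const, smul_eq_mul, mul_one]
    apply Finset.card_le_one.mpr
    intro a ha b hb
    rw [Finset.mem_filter] at ha hb
    exact huniq a b (Finset.ne_of_mem_erase ha.1) ha.2 (Finset.ne_of_mem_erase hb.1) hb.2
  omega

end Cfsg.Agent.Helper42.LS
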