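import Mathlib
import Cfsg.Agent.Helper42.MaxSylB

/-!
# The frame `φ : Γ →* Perm (Fin n)` and the case `n` odd, `n - 1` not a power of two
-/

set_option autoImplicit false

namespace Cfsg.Agent.Helper42.MaxSyl

open Equiv Equiv.Perm MulAction
open scoped Pointwise

/-- The data shared by `Γ = Perm (Fin n)` and `Γ = alternatingGroup (Fin n)`. -/
structure Frame {Γ : Type*} [Group Γ] {n : ℕ} (φ : Γ →* Perm (Fin n)) : Prop where
  inj : Function.Injective φ
  alt : alternatingGroup (Fin n) ≤ φ.range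
  coatom : ∀ s : Set (Fin n), s.Nonempty → sᶜ.Nonempty → n ≠ 2 * s.ncard →
    IsCoatom ((stabilizer (Perm (Fin n)) s).comap φ)

theorem Frame.finite {Γ : Type*} [Group Γ] {n : ℕ} {φ : Γ →* Perm (Fin n)} (hF : Frame φ) :
    Finite Γ := Finite.of_injective φ hF.inj

/-- every 3-cycle is in the range -/
theorem Frame.exists_of_isThreeCycle {Γ : Type*} [Group Γ] {n : ℕ} {φ : Γ →* Perm (Fin n)}
    (hF : Frame φ) {g : Perm (Fin n)} (hg : g.IsThreeCycle) : ∃ γ : Γ, φ γ = g :=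
  hF.alt hg.mem_alternatingGroup

theorem smul_set_eq_of_fixes {α : Type*} (g : Perm α) (s : Set α) (h : ∀ x ∈ s, g x = x) :
    g • s = s := by
  ext x
  constructor
  · rintro ⟨y, hy, rfl⟩
    show g y ∈ s
    rw [h y hy]; exact hy
  · intro hx
    exact ⟨x, hx, h x hx⟩

theorem not_unique_of_odd {Γ : Type*} [Group Γ] {n : ℕ} {φ : Γ →* Perm (Fin n)}
    (hF : Frame φ) (hn5 : 5 ≤ n) (hodd : Odd n) (hnp : ¬ ∃ k, n - 1 = 2 ^ k)
    (R : Sylow 2 Γ) : ¬ ∃! M : Subgroup Γ, IsCoatom M ∧ (R : Subgroup Γ) ≤ M := by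
  classical
  set R' : Subgroup (Perm (Fin n)) := (R : Subgroup Γ).map φ with hR'
  have hR'p : IsPGroup 2 R' := R.isPGroup'.map φ
  have hmemR' : ∀ γ ∈ (R : Subgroup Γ), φ γ ∈ R' := fun γ hγ => ⟨γ, hγ, rfl⟩
  -- a fixed point
  have hnd : ¬ 2 ∣ Nat.card (Fin n) := by
    rw [Nat.card_eq_fintype_card, Fintype.card_fin]
    exact fun h => (Nat.not_even_iff_odd.mpr hodd) (even_iff_two_dvd.mpr h)
  obtain ⟨x₀, hx₀⟩ := hR'p.nonempty_fixed_point_of_prime_not_dvd_card (Fin n) hnd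
  have hfix : ∀ g ∈ R', g x₀ = x₀ := fun g hg => hx₀ ⟨g, hg⟩
  -- another point
  obtain ⟨y, hy⟩ : ∃ y : Fin n, y ≠ x₀ := by
    have : Nontrivial (Fin n) := Fin.nontrivial_iff_two_le.mpr (by omega)
    exact exists_ne x₀
  set O : Set (Fin n) := orbit R' y with hO
  have hyO : y ∈ O := mem_orbit_self y
  have hx₀O : x₀ ∉ O := by
    rintro ⟨g, hg⟩
    apply hy
    have h1 : (g : Perm (Fin n)) y = x₀ := hg
    have h2 : (g : Perm (Fin n))⁻¹ x₀ = x₀ := hfix _ (R'.inv_mem g.2)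
    rw [← h1, perm_inv_apply_self] at h2
    rw [h2]; exact h1
  obtain ⟨j, hj⟩ := hR'p.card_orbit y
  have hOcard : O.ncard = 2 ^ j := by
    rw [← hj]; rfl
  -- bound on the orbit size
  have hOle : O.ncard + 1 ≤ n := by
    have h1 : (insert x₀ O).ncard = O.ncard + 1 := Set.ncard_insert_of_notMem hx₀O
    have h2 : (insert x₀ O).ncard ≤ (Set.univ : Set (Fin n)).ncard :=
      Set.ncard_le_ncard (Set.subset_univ _)
    rw [Set.ncard_univ, Nat.card_eq_fintype_card, Fintype.card_fin] at h2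
    omega
  have hOle3 : O.ncard + 3 ≤ n := by
    obtain ⟨k, hk⟩ := hodd
    have hne : 2 ^ j ≠ n - 1 := fun h => hnp ⟨j, h.symm⟩
    rw [hOcard] at hOle ⊢
    rcases Nat.eq_zero_or_pos j with rfl | hjpos
    · simp at hne ⊢; omega
    · have h2 : 2 ∣ 2 ^ j := dvd_pow_self 2 hjpos.ne'
      omega
  -- two further points outside `O`
  have hcompl : (Oᶜ \ {x₀}).ncard ≥ 2 := by
    have h1 : O.ncard + Oᶜ.ncard = n := by
      rw [Set.ncard_add_ncard_compl, Nat.card_eq_fintype_card, Fintype.card_fin]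
    have h2 : (Oᶜ \ {x₀}).ncard = Oᶜ.ncard - 1 := Set.ncard_sdiff_singleton_of_mem hx₀O
    omega
  obtain ⟨z, z', hz, hz', hzz'⟩ := (Set.one_lt_ncard_iff (Set.toFinite _)).mp hcompl
  have hzO : z ∉ O := hz.1
  have hz'O : z' ∉ O := hz'.1
  have hzx : z ≠ x₀ := hz.2
  have hz'x : z' ≠ x₀ := hz'.2
  -- the two coatoms
  have hc₁ : IsCoatom ((stabilizer (Perm (Fin n)) ({x₀} : Set (Fin n))).comap φ) := by
    apply hF.coatom
    · exact Set.singleton_nonempty _
    · exact ⟨y, hy⟩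
    · rw [Set.ncard_singleton]
      obtain ⟨k, hk⟩ := hodd
      omega
  have hc₂ : IsCoatom ((stabilizer (Perm (Fin n)) O).comap φ) := by
    apply hF.coatom
    · exact ⟨y, hyO⟩
    · exact ⟨x₀, hx₀O⟩
    · obtain ⟨k, hk⟩ := hodd
      omega
  have hl₁ : (R : Subgroup Γ) ≤ (stabilizer (Perm (Fin n)) ({x₀} : Set (Fin n))).comap φ := by
    intro γ hγ
    rw [Subgroup.mem_comap, mem_stabilizer_iff, Set.smul_set_singleton]
    congr 1
    exact hfix _ (hmemR' γ hγ)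
  have hl₂ : (R : Subgroup Γ) ≤ (stabilizer (Perm (Fin n)) O).comap φ := by
    intro γ hγ
    rw [Subgroup.mem_comap, mem_stabilizer_iff]
    exact smul_orbit (⟨φ γ, hmemR' γ hγ⟩ : R') y
  -- a 3-cycle separating them
  have h3 : (swap z x₀ * swap z z').IsThreeCycle :=
    isThreeCycle_swap_mul_swap_same hzx hzz' (Ne.symm hz'x)
  obtain ⟨γ, hγ⟩ := hF.exists_of_isThreeCycle h3
  have hne : (stabilizer (Perm (Fin n)) ({x₀} : Set (Fin n))).comap φ ≠
      (stabilizer (Perm (Fin n)) O).comap φ := by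
    intro heq
    have hγ₂ : γ ∈ (stabilizer (Perm (Fin n)) O).comap φ := by
      rw [Subgroup.mem_comap, mem_stabilizer_iff, hγ]
      apply smul_set_eq_of_fixes
      intro x hx
      have hxz : x ≠ z := fun h => hzO (h ▸ hx)
      have hxz' : x ≠ z' := fun h => hz'O (h ▸ hx)
      have hxx : x ≠ x₀ := fun h => hx₀O (h ▸ hx)
      rw [Perm.mul_apply, swap_apply_of_ne_of_ne hxz hxz', swap_apply_of_ne_of_ne hxz hxx]
    rw [← heq, Subgroup.mem_comap, mem_stabilizer_iff, Set.smul_set_singleton, hγ] at hγ₂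
    have h4 : (swap z x₀ * swap z z') x₀ = z := by
      rw [Perm.mul_apply, swap_apply_of_ne_of_ne (Ne.symm hzx) (Ne.symm hz'x), swap_apply_right]
    have h5 : (swap z x₀ * swap z z') • x₀ = x₀ := Set.singleton_injective hγ₂
    rw [Perm.smul_def, h4] at h5
    exact hzx h5
  exact not_existsUnique_of_two _ _ _ hc₁ hc₂ hl₁ hl₂ hne

end Cfsg.Agent.Helper42.MaxSyl
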