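import Mathlib
import Cfsg.Agent.Helper42.MaxSylC

/-!
# Fibre stabilisers, and a criterion for containing the alternating group
-/

set_option autoImplicit false
set_option linter.unusedSectionVars false

namespace Cfsg.Agent.Helper42.MaxSyl

open Equiv Equiv.Perm MulAction Cfsg.Agent.Helper42
open scoped Pointwise

/-- permutations preserving the fibres of `c` -/
def fibStab {α T : Type*} (c : α → T) : Subgroup (Perm α) := relStab (fun x y => c x = c y)

theorem mem_fibStab {α T : Type*} {c : α → T} {g : Perm α} :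
    g ∈ fibStab c ↔ ∀ x y, c x = c y ↔ c (g x) = c (g y) := Iff.rfl

theorem mem_fibStab_of_semiconj {α T : Type*} {c : α → T} {g : Perm α} (h : T → T)
    (hh : Function.Injective h) (hc : ∀ x, c (g x) = h (c x)) : g ∈ fibStab c := by
  rw [mem_fibStab]
  intro x y
  rw [hc, hc, hh.eq_iff]

theorem swap_mem_fibStab {α T : Type*} [DecidableEq α] {c : α → T} {a b : α} (h : c a = c b) :
    swap a b ∈ fibStab c := by
  have key : ∀ x, c (swap a b x) = c x := by
    intro x
    by_cases hxa : x = a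
    · subst hxa; rw [swap_apply_left]; exact h.symm
    · by_cases hxb : x = b
      · subst hxb; rw [swap_apply_right]; exact h
      · rw [swap_apply_of_ne_of_ne hxa hxb]
  rw [mem_fibStab]
  intro x y
  rw [key, key]

theorem threeCycle_notMem_fibStab {α T : Type*} [DecidableEq α] {c : α → T} {a b d : α}
    (hab : a ≠ b) (had : a ≠ d) (hbd : b ≠ d) (h1 : c a = c b) (h2 : c d ≠ c a) :
    swap a b * swap a d ∉ fibStab c := by
  intro hmem
  have h := ((mem_fibStab.mp hmem) a b).mp h1
  rw [Perm.mul_apply, Perm.mul_apply, swap_apply_left,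
    swap_apply_of_ne_of_ne (Ne.symm had) (Ne.symm hbd),
    swap_apply_of_ne_of_ne (Ne.symm hab) hbd, swap_apply_right] at h
  exact h2 h

section fib

variable {β γ : Type*}

/-- the fibre index of a point -/
noncomputable def fib (ι : β × ZMod 2 ↪ γ) (x : γ) : Option β :=
  (Function.partialInv ι x).map Prod.fst

theorem fib_apply (ι : β × ZMod 2 ↪ γ) (l : β) (t : ZMod 2) : fib ι (ι (l, t)) = some l := by
  rw [fib, Function.partialInv_left ι.injective]; rfl

theorem fib_out (ι : β × ZMod 2 ↪ γ) {x : γ} (hx : x ∉ Set.range ι) : fib ι x = none := by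
  rw [fib]
  cases h : Function.partialInv ι x with
  | none => rfl
  | some a => exact absurd ⟨a, (ι.injective.isPartialInv a x).mp h⟩ hx

variable [DecidableEq β] [Fintype β] [DecidableEq γ] [Fintype γ]

theorem fib_stdW (ι : β × ZMod 2 ↪ γ) (K : Subgroup (Perm β)) {y : Perm γ}
    (hy : y ∈ stdW ι K) : ∃ σ ∈ K, ∀ x, fib ι (y x) = (fib ι x).map σ := by
  obtain ⟨σ, hσ, h1, h2⟩ := exists_fibre_perm ι K hy
  refine ⟨σ, hσ, fun x => ?_⟩
  by_cases hx : x ∈ Set.range ι
  · obtain ⟨⟨l, t⟩, rfl⟩ := hx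
    obtain ⟨t', ht'⟩ := h1 l t
    rw [ht', fib_apply, fib_apply]; rfl
  · rw [h2 x hx, fib_out ι hx]; rfl

theorem stdW_le_fibStab (ι : β × ZMod 2 ↪ γ) (K : Subgroup (Perm β)) :
    stdW ι K ≤ fibStab (fib ι) := by
  intro y hy
  obtain ⟨σ, -, h⟩ := fib_stdW ι K hy
  exact mem_fibStab_of_semiconj (Option.map σ) (Option.map_injective σ.injective) h

theorem stdW_stdW_le_fibStab {δ : Type*} [DecidableEq δ] [Fintype δ] (ι : β × ZMod 2 ↪ γ)
    (ι₂ : δ × ZMod 2 ↪ β) (K : Subgroup (Perm δ)) :
    stdW ι (stdW ι₂ K) ≤ fibStab (fun x => (fib ι x).bind (fib ι₂)) := by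
  intro y hy
  obtain ⟨σ, hσ, h⟩ := fib_stdW ι _ hy
  obtain ⟨ρ, -, h'⟩ := fib_stdW ι₂ K hσ
  apply mem_fibStab_of_semiconj (Option.map ρ) (Option.map_injective ρ.injective)
  intro x
  show (fib ι (y x)).bind (fib ι₂) = Option.map ρ ((fib ι x).bind (fib ι₂))
  rw [h]
  cases hx : fib ι x with
  | none => rfl
  | some i =>
    show fib ι₂ (σ i) = Option.map ρ (fib ι₂ i)
    exact h' i

end fib

/-- a subgroup containing the alternating group and an odd permutation is everything -/
theorem eq_top_of_alt_le_of_odd {α : Type*} [Fintype α] [DecidableEq α] (S : Subgroup (Perm α))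
    (h : alternatingGroup α ≤ S) {g : Perm α} (hg : g ∈ S) (hs : sign g = -1) : S = ⊤ := by
  rw [eq_top_iff]
  intro x _
  by_cases hx : x ∈ alternatingGroup α
  · exact h hx
  · have hsx : sign x = -1 := by
      rcases Int.units_eq_one_or (sign x) with h1 | h1
      · exact absurd (mem_alternatingGroup.mpr h1) hx
      · exact h1
    have h1 : x * g⁻¹ ∈ alternatingGroup α := by
      rw [mem_alternatingGroup, Perm.sign_mul, Perm.sign_inv, hsx, hs]; rfl
    have h2 := S.mul_mem (h h1) hg
    rwa [inv_mul_cancel_right] at h2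

theorem sign_two_swaps {α : Type*} [Fintype α] [DecidableEq α] {a b c d : α} (hab : a ≠ b)
    (hcd : c ≠ d) : sign (swap a b * swap c d) = 1 := by
  rw [Perm.sign_mul, Perm.sign_swap hab, Perm.sign_swap hcd]; rfl

end Cfsg.Agent.Helper42.MaxSyl
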