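import Mathlib
import Cfsg.Agent.Helper42.MaxSylD

/-!
# Two fibre stabilisers generating (at least) the alternating group
-/

set_option autoImplicit false
set_option linter.unusedSectionVars false

namespace Cfsg.Agent.Helper42.MaxSyl

open Equiv Equiv.Perm MulAction Cfsg.Agent.Helper42
open scoped Pointwise

section twoTrans

variable {β γ : Type*} [DecidableEq β] [Fintype β] [DecidableEq γ] [Fintype γ]

theorem pairExch_mem_fibStab (ι : β × ZMod 2 ↪ γ) (hsurj : Function.Surjective ι) {i j : β}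
    (hij : i ≠ j) :
    swap (ι (i, 0)) (ι (j, 0)) * swap (ι (i, 1)) (ι (j, 1)) ∈ fibStab (fib ι) := by
  apply mem_fibStab_of_semiconj (Option.map (swap i j))
    (Option.map_injective (swap i j).injective)
  intro x
  obtain ⟨⟨l, t⟩, rfl⟩ := hsurj x
  rw [pairExch_apply ι i j hij, fib_apply, fib_apply]; rfl

theorem baseSwap_apply_ne (ι : β × ZMod 2 ↪ γ) {i l : β} (h : l ≠ i) (t : ZMod 2) :
    swap (ι (i, 0)) (ι (i, 1)) (ι (l, t)) = ι (l, t) := by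
  apply swap_apply_of_ne_of_ne
  · intro e
    have := ι.injective e
    simp only [Prod.mk.injEq] at this
    exact h this.1
  · intro e
    have := ι.injective e
    simp only [Prod.mk.injEq] at this
    exact h this.1

theorem alt_le_of_fibStab {T : Type*} (ι : β × ZMod 2 ↪ γ) (hsurj : Function.Surjective ι)
    (c₂ : γ → T) (i₀ j₀ k₀ : β) (hij : i₀ ≠ j₀) (hik : i₀ ≠ k₀) (hjk : j₀ ≠ k₀)
    (hc : c₂ (ι (j₀, 0)) = c₂ (ι (i₀, 1))) (hc' : c₂ (ι (j₀, 0)) = c₂ (ι (j₀, 1)))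
    (S : Subgroup (Perm γ))
    (hS1 : ∀ g ∈ fibStab (fib ι), sign g = 1 → g ∈ S)
    (hS2 : ∀ g ∈ fibStab c₂, sign g = 1 → g ∈ S) : alternatingGroup γ ≤ S := by
  have hinj : ∀ a b : β × ZMod 2, ι a = ι b ↔ a = b := fun a b => ι.injective.eq_iff
  have h01 : ∀ i : β, ι (i, 0) ≠ ι (i, 1) := by
    intro i; rw [Ne, hinj]; simp
  -- the elements
  have hρ : ∀ i j, i ≠ j → swap (ι (i, 0)) (ι (j, 0)) * swap (ι (i, 1)) (ι (j, 1)) ∈ S := by
    intro i j hij'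
    apply hS1 _ (pairExch_mem_fibStab ι hsurj hij')
    apply sign_two_swaps
    · rw [Ne, hinj]; simp [hij']
    · rw [Ne, hinj]; simp [hij']
  have he : ∀ i j, i ≠ j → swap (ι (i, 0)) (ι (i, 1)) * swap (ι (j, 0)) (ι (j, 1)) ∈ S := by
    intro i j _
    apply hS1 _ _ (sign_two_swaps (h01 i) (h01 j))
    apply Subgroup.mul_mem
    · apply swap_mem_fibStab; rw [fib_apply, fib_apply]
    · apply swap_mem_fibStab; rw [fib_apply, fib_apply]
  have hji1 : ι (j₀, 0) ≠ ι (i₀, 1) := by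
    rw [Ne, hinj]; simp
  have h3 : swap (ι (j₀, 0)) (ι (j₀, 1)) * swap (ι (j₀, 0)) (ι (i₀, 1)) ∈ S := by
    apply hS2 _ _ (sign_two_swaps (h01 j₀) hji1)
    apply Subgroup.mul_mem
    · exact swap_mem_fibStab hc'
    · exact swap_mem_fibStab hc
  -- transitivity
  have Ta : ∀ l, ∃ g ∈ S, g (ι (i₀, 0)) = ι (l, 0) := by
    intro l
    by_cases hl : l = i₀
    · rw [hl]; exact ⟨1, S.one_mem, rfl⟩
    · refine ⟨_, hρ i₀ l (Ne.symm hl), ?_⟩
      rw [pairExch_apply ι i₀ l (Ne.symm hl), swap_apply_left]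
  have Tb : ∀ l, ∃ g ∈ S, g (ι (l, 0)) = ι (l, 1) := by
    intro l
    obtain ⟨l', hl'⟩ : ∃ l', l ≠ l' := by
      by_cases h : l = i₀
      · exact ⟨j₀, h ▸ hij⟩
      · exact ⟨i₀, h⟩
    refine ⟨_, he l l' hl', ?_⟩
    rw [Perm.mul_apply, baseSwap_apply_ne ι hl', swap_apply_left]
  have T1 : ∀ x, ∃ g ∈ S, g (ι (i₀, 0)) = x := by
    intro x
    obtain ⟨⟨l, t⟩, rfl⟩ := hsurj x
    obtain ⟨g, hg, hgp⟩ := Ta l
    rcases zmod2_cases t with rfl | rfl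
    · exact ⟨g, hg, hgp⟩
    · obtain ⟨g', hg', hgp'⟩ := Tb l
      exact ⟨g' * g, S.mul_mem hg' hg, by rw [Perm.mul_apply, hgp, hgp']⟩
  -- transitivity of the point stabiliser
  have Ta' : ∀ l, l ≠ i₀ →
      ∃ g ∈ S, g (ι (i₀, 0)) = ι (i₀, 0) ∧ g (ι (j₀, 0)) = ι (l, 0) := by
    intro l hl
    by_cases hlj : l = j₀
    · rw [hlj]; exact ⟨1, S.one_mem, rfl, rfl⟩
    · refine ⟨_, hρ j₀ l (Ne.symm hlj), ?_, ?_⟩
      · rw [pairExch_apply ι j₀ l (Ne.symm hlj), swap_apply_of_ne_of_ne hij (Ne.symm hl)]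
      · rw [pairExch_apply ι j₀ l (Ne.symm hlj), swap_apply_left]
  have Tb' : ∀ l, l ≠ i₀ →
      ∃ g ∈ S, g (ι (i₀, 0)) = ι (i₀, 0) ∧ g (ι (l, 0)) = ι (l, 1) := by
    intro l hl
    obtain ⟨l', hl', hl'i⟩ : ∃ l', l ≠ l' ∧ l' ≠ i₀ := by
      by_cases h : l = j₀
      · exact ⟨k₀, h ▸ hjk, Ne.symm hik⟩
      · exact ⟨j₀, h, Ne.symm hij⟩
    refine ⟨_, he l l' hl', ?_, ?_⟩
    · rw [Perm.mul_apply, baseSwap_apply_ne ι (Ne.symm hl'i), baseSwap_apply_ne ι (Ne.symm hl)]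
    · rw [Perm.mul_apply, baseSwap_apply_ne ι hl', swap_apply_left]
  have T2 : ∀ x, x ≠ ι (i₀, 0) →
      ∃ g ∈ S, g (ι (i₀, 0)) = ι (i₀, 0) ∧ g (ι (j₀, 0)) = x := by
    intro x hx
    obtain ⟨⟨l, t⟩, rfl⟩ := hsurj x
    by_cases hl : l = i₀
    · rw [hl] at hx ⊢
      rcases zmod2_cases t with rfl | rfl
      · exact absurd rfl hx
      · have e1 : swap (ι (j₀, 0)) (ι (i₀, 1)) (ι (i₀, 0)) = ι (i₀, 0) := by
          apply swap_apply_of_ne_of_ne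
          · rw [Ne, hinj]; simp [hij]
          · rw [Ne, hinj]; simp
        have e2 : swap (ι (j₀, 0)) (ι (j₀, 1)) (ι (i₀, 1)) = ι (i₀, 1) :=
          baseSwap_apply_ne ι hij 1
        refine ⟨_, h3, ?_, ?_⟩
        · rw [Perm.mul_apply, e1, baseSwap_apply_ne ι hij]
        · rw [Perm.mul_apply, swap_apply_left, e2]
    · obtain ⟨g, hg, hgp, hgq⟩ := Ta' l hl
      rcases zmod2_cases t with rfl | rfl
      · exact ⟨g, hg, hgp, hgq⟩
      · obtain ⟨g', hg', hgp', hgq'⟩ := Tb' l hl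
        exact ⟨g' * g, S.mul_mem hg' hg, by rw [Perm.mul_apply, hgp, hgp'],
          by rw [Perm.mul_apply, hgq, hgq']⟩
  have T12 : ∀ a b, a ≠ b → ∃ g ∈ S, g (ι (i₀, 0)) = a ∧ g (ι (j₀, 0)) = b := by
    intro a b hab
    obtain ⟨g₁, hg₁, h1⟩ := T1 a
    have hb' : g₁⁻¹ b ≠ ι (i₀, 0) := by
      intro h
      apply hab
      rw [← h1, ← h, perm_apply_inv_self]
    obtain ⟨g₂, hg₂, h2, h2'⟩ := T2 _ hb'
    refine ⟨g₁ * g₂, S.mul_mem hg₁ hg₂, ?_, ?_⟩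
    · rw [Perm.mul_apply, h2, h1]
    · rw [Perm.mul_apply, h2', perm_apply_inv_self]
  have h2t : IsMultiplyPretransitive S γ 2 := by
    rw [is_two_pretransitive_iff]
    intro a b c d hab hcd
    obtain ⟨g, hg, ga, gb⟩ := T12 a b hab
    obtain ⟨h, hh, hc, hd⟩ := T12 c d hcd
    refine ⟨⟨h * g⁻¹, S.mul_mem hh (S.inv_mem hg)⟩, ?_, ?_⟩
    · show (h * g⁻¹) a = c
      rw [Perm.mul_apply, ← ga, perm_inv_apply_self, hc]
    · show (h * g⁻¹) b = d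
      rw [Perm.mul_apply, ← gb, perm_inv_apply_self, hd]
  have hprim : IsPreprimitive S γ := isPreprimitive_of_is_two_pretransitive h2t
  have h3c : (swap (ι (j₀, 0)) (ι (j₀, 1)) * swap (ι (j₀, 0)) (ι (i₀, 1))).IsThreeCycle := by
    apply isThreeCycle_swap_mul_swap_same (h01 j₀) hji1
    rw [Ne, hinj]; simp [hij.symm]
  exact alternatingGroup_le_of_isPreprimitive_of_isThreeCycle_mem hprim h3c h3

end twoTrans

end Cfsg.Agent.Helper42.MaxSyl
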