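import Mathlib
import Cfsg.Agent.Helper42.MaxSylE

/-!
# The case `n` even, `n ≥ 8`: two maximal overgroups of a Sylow 2-subgroup
-/

set_option autoImplicit false

namespace Cfsg.Agent.Helper42.MaxSyl

open Equiv Equiv.Perm MulAction Cfsg.Agent.Helper42
open scoped Pointwise

/-- a subgroup whose image contains the alternating group, and which contains every preimage of
some odd permutation, is everything -/
theorem Frame.eq_top_of_alt_le {Γ : Type*} [Group Γ] {n : ℕ} {φ : Γ →* Perm (Fin n)}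
    (hF : Frame φ) (K : Subgroup Γ) (halt : alternatingGroup (Fin n) ≤ K.map φ)
    (τ : Perm (Fin n)) (hτ : sign τ = -1) (hτK : ∀ γ, φ γ = τ → γ ∈ K) : K = ⊤ := by
  rw [eq_top_iff]
  intro γ _
  by_cases hg : φ γ ∈ alternatingGroup (Fin n)
  · obtain ⟨γ', hγ', he⟩ := halt hg
    rw [← hF.inj he]; exact hγ'
  · have hs : sign (φ γ) = -1 := by
      rcases Int.units_eq_one_or (sign (φ γ)) with h1 | h1
      · exact absurd (mem_alternatingGroup.mpr h1) hg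
      · exact h1
    have h1 : τ * φ γ ∈ alternatingGroup (Fin n) := by
      rw [mem_alternatingGroup, Perm.sign_mul, hτ, hs]; rfl
    obtain ⟨γ', hγ', he⟩ := halt h1
    have h2 : φ (γ' * γ⁻¹) = τ := by
      rw [map_mul, map_inv, he, mul_inv_cancel_right]
    have h3 : γ' * γ⁻¹ ∈ K := hτK _ h2
    have h4 : (γ' * γ⁻¹)⁻¹ * γ' ∈ K := K.mul_mem (K.inv_mem h3) hγ'
    simpa using h4

theorem not_unique_of_even {Γ : Type*} [Group Γ] {n : ℕ} {φ : Γ →* Perm (Fin n)}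
    (hF : Frame φ) (hn8 : 8 ≤ n) (heven : Even n) (R : Sylow 2 Γ) :
    ¬ ∃! M : Subgroup Γ, IsCoatom M ∧ (R : Subgroup Γ) ≤ M := by
  classical
  have hfin : Finite Γ := hF.finite
  obtain ⟨Q, hQ⟩ := exists_sylow_comap_eq 2 φ hF.inj R
  obtain ⟨Pm0⟩ : Nonempty (Sylow 2 (Perm (Fin (n / 2)))) := inferInstance
  obtain ⟨Pm1⟩ : Nonempty (Sylow 2 (Perm (Fin (n / 2 / 2)))) := inferInstance
  obtain ⟨ι, hι⟩ := sylow_eq_stdW n Pm0 Q
  obtain ⟨ι₂, hι₂⟩ := sylow_eq_stdW (n / 2) Pm1 Pm0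
  have hsurj : Function.Surjective ι := by
    have hb : Function.Bijective ι := by
      rw [Fintype.bijective_iff_injective_and_card]
      refine ⟨ι.injective, ?_⟩
      rw [Fintype.card_prod, ZMod.card, Fintype.card_fin, Fintype.card_fin]
      obtain ⟨k, hk⟩ := heven
      omega
    exact hb.2
  set c₂ : Fin n → Option (Fin (n / 2 / 2)) := fun x => (fib ι x).bind (fib ι₂) with hc₂
  have hc₂_apply : ∀ l s t, c₂ (ι (ι₂ (l, s), t)) = some l := by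
    intro l s t
    show (fib ι (ι (ι₂ (l, s), t))).bind (fib ι₂) = some l
    rw [fib_apply]
    show fib ι₂ (ι₂ (l, s)) = some l
    rw [fib_apply]
  set H₁ : Subgroup Γ := (fibStab (fib ι)).comap φ with hH₁
  set H₂ : Subgroup Γ := (fibStab c₂).comap φ with hH₂
  have hR₁ : (R : Subgroup Γ) ≤ H₁ := by
    rw [hQ, hH₁]
    apply Subgroup.comap_mono
    rw [hι]
    exact stdW_le_fibStab ι _
  have hR₂ : (R : Subgroup Γ) ≤ H₂ := by
    rw [hQ, hH₂]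
    apply Subgroup.comap_mono
    rw [hι, hι₂]
    exact stdW_stdW_le_fibStab ι ι₂ _
  -- the indices
  have hq : 2 ≤ n / 2 / 2 := by omega
  set l₀ : Fin (n / 2 / 2) := ⟨0, by omega⟩ with hl₀
  set l₁ : Fin (n / 2 / 2) := ⟨1, by omega⟩ with hl₁
  have hl01 : l₀ ≠ l₁ := by
    rw [hl₀, hl₁, Ne, Fin.mk.injEq]; omega
  set i₀ : Fin (n / 2) := ι₂ (l₀, 0) with hi₀
  set j₀ : Fin (n / 2) := ι₂ (l₀, 1) with hj₀
  set k₀ : Fin (n / 2) := ι₂ (l₁, 0) with hk₀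
  have hinj₂ : ∀ a b : Fin (n / 2 / 2) × ZMod 2, ι₂ a = ι₂ b ↔ a = b :=
    fun a b => ι₂.injective.eq_iff
  have hinj : ∀ a b : Fin (n / 2) × ZMod 2, ι a = ι b ↔ a = b := fun a b => ι.injective.eq_iff
  have hij : i₀ ≠ j₀ := by
    rw [hi₀, hj₀, Ne, hinj₂]; simp
  have hik : i₀ ≠ k₀ := by
    rw [hi₀, hk₀, Ne, hinj₂]; simp [hl01]
  have hjk : j₀ ≠ k₀ := by
    rw [hj₀, hk₀, Ne, hinj₂]; simp
  -- the points
  have hpp : ι (i₀, 0) ≠ ι (i₀, 1) := by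
    rw [Ne, hinj]; simp
  have hpq : ι (i₀, 0) ≠ ι (j₀, 0) := by
    rw [Ne, hinj]; simp [hij]
  have hp'q : ι (i₀, 1) ≠ ι (j₀, 0) := by
    rw [Ne, hinj]; simp
  have hpr : ι (i₀, 0) ≠ ι (k₀, 0) := by
    rw [Ne, hinj]; simp [hik]
  have hp'r : ι (i₀, 1) ≠ ι (k₀, 0) := by
    rw [Ne, hinj]; simp
  -- properness
  have hne₁ : H₁ ≠ ⊤ := by
    intro htop
    have h3 : (swap (ι (i₀, 0)) (ι (i₀, 1)) * swap (ι (i₀, 0)) (ι (j₀, 0))).IsThreeCycle :=
      isThreeCycle_swap_mul_swap_same hpp hpq hp'q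
    obtain ⟨γ, hγ⟩ := hF.exists_of_isThreeCycle h3
    have hmem : γ ∈ H₁ := htop ▸ Subgroup.mem_top γ
    rw [hH₁, Subgroup.mem_comap, hγ] at hmem
    refine threeCycle_notMem_fibStab hpp hpq hp'q ?_ ?_ hmem
    · rw [fib_apply, fib_apply]
    · rw [fib_apply, fib_apply]
      intro h
      exact hij (Option.some_injective _ h).symm
  have hne₂ : H₂ ≠ ⊤ := by
    intro htop
    have h3 : (swap (ι (i₀, 0)) (ι (i₀, 1)) * swap (ι (i₀, 0)) (ι (k₀, 0))).IsThreeCycle :=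
      isThreeCycle_swap_mul_swap_same hpp hpr hp'r
    obtain ⟨γ, hγ⟩ := hF.exists_of_isThreeCycle h3
    have hmem : γ ∈ H₂ := htop ▸ Subgroup.mem_top γ
    rw [hH₂, Subgroup.mem_comap, hγ] at hmem
    refine threeCycle_notMem_fibStab hpp hpr hp'r ?_ ?_ hmem
    · rw [hi₀, hc₂_apply, hc₂_apply]
    · rw [hi₀, hk₀, hc₂_apply, hc₂_apply]
      intro h
      exact hl01 (Option.some_injective _ h).symm
  -- the join
  have hsup : H₁ ⊔ H₂ = ⊤ := by
    apply hF.eq_top_of_alt_le (H₁ ⊔ H₂) ?_ (swap (ι (i₀, 0)) (ι (i₀, 1))) (Perm.sign_swap hpp)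
    · intro γ hγ
      apply (le_sup_left : H₁ ≤ H₁ ⊔ H₂)
      rw [hH₁, Subgroup.mem_comap, hγ]
      apply swap_mem_fibStab
      rw [fib_apply, fib_apply]
    · apply alt_le_of_fibStab ι hsurj c₂ i₀ j₀ k₀ hij hik hjk
      · rw [hi₀, hj₀, hc₂_apply, hc₂_apply]
      · rw [hj₀, hc₂_apply, hc₂_apply]
      · intro g hg hs
        obtain ⟨γ, hγ⟩ := hF.alt (mem_alternatingGroup.mpr hs)
        refine ⟨γ, (le_sup_left : H₁ ≤ H₁ ⊔ H₂) ?_, hγ⟩
        rw [hH₁, Subgroup.mem_comap, hγ]; exact hg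
      · intro g hg hs
        obtain ⟨γ, hγ⟩ := hF.alt (mem_alternatingGroup.mpr hs)
        refine ⟨γ, (le_sup_right : H₂ ≤ H₁ ⊔ H₂) ?_, hγ⟩
        rw [hH₂, Subgroup.mem_comap, hγ]; exact hg
  exact not_existsUnique_of_sup_eq_top _ H₁ H₂ hR₁ hR₂ hne₁ hne₂ hsup

end Cfsg.Agent.Helper42.MaxSyl
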