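import Mathlib
import Cfsg.Agent.Helper42.MaxSylF

/-!
# Transitivity of Sylow 2-subgroups of `S_{2^j}`
-/

set_option autoImplicit false
set_option linter.unusedSectionVars false

namespace Cfsg.Agent.Helper42.MaxSyl

open Equiv Equiv.Perm MulAction Cfsg.Agent.Helper42
open scoped Pointwise

section trans

variable {β γ : Type*} [DecidableEq β] [Fintype β] [DecidableEq γ] [Fintype γ]

/-- `stdW ι K` is transitive on the range of `ι` when `K` is transitive -/
theorem stdW_trans (ι : β × ZMod 2 ↪ γ) (K : Subgroup (Perm β))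
    (hK : ∀ l l' : β, ∃ σ ∈ K, σ l = l') (l : β) (t : ZMod 2) (l' : β) (t' : ZMod 2) :
    ∃ g ∈ stdW ι K, g (ι (l, t)) = ι (l', t') := by
  obtain ⟨σ, hσ, hσl⟩ := hK l l'
  obtain ⟨y, hy, hyl⟩ := exists_lift_mem_stdW ι K hσ
  by_cases htt : t = t'
  · exact ⟨y, hy, by rw [hyl, hσl, htt]⟩
  · refine ⟨swap (ι (l', 0)) (ι (l', 1)) * y, (stdW ι K).mul_mem (swap_mem_stdW ι K l') hy, ?_⟩
    rw [Perm.mul_apply, hyl, hσl, baseSwap_apply, Pi.single_eq_same, zmod2_ne t t' htt, add_comm]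

/-- the same with even permutations, if there are at least two fibres -/
theorem stdW_trans_even (ι : β × ZMod 2 ↪ γ) (K : Subgroup (Perm β))
    (hK : ∀ l l' : β, ∃ σ ∈ K, σ l = l') (h2 : ∀ l : β, ∃ l', l' ≠ l)
    (l : β) (t : ZMod 2) (l' : β) (t' : ZMod 2) :
    ∃ g ∈ stdW ι K, sign g = 1 ∧ g (ι (l, t)) = ι (l', t') := by
  obtain ⟨g, hg, hgl⟩ := stdW_trans ι K hK l t l' t'
  rcases Int.units_eq_one_or (sign g) with h1 | h1
  · exact ⟨g, hg, h1, hgl⟩
  · obtain ⟨l'', hl''⟩ := h2 l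
    refine ⟨g * swap (ι (l'', 0)) (ι (l'', 1)),
      (stdW ι K).mul_mem hg (swap_mem_stdW ι K l''), ?_, ?_⟩
    · have hne : ι (l'', 0) ≠ ι (l'', 1) := by
        intro e
        have := ι.injective e
        simp at this
      rw [Perm.sign_mul, h1, Perm.sign_swap hne]; rfl
    · rw [Perm.mul_apply, baseSwap_apply_ne ι (Ne.symm hl''), hgl]

end trans

/-- Sylow 2-subgroups of the symmetric group of degree `2 ^ j` are transitive -/
theorem sylow_trans_pow : ∀ (j n : ℕ), n = 2 ^ j → ∀ (P : Sylow 2 (Perm (Fin n))) (x y : Fin n),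
    ∃ g ∈ P, g x = y := by
  intro j
  induction j with
  | zero =>
    intro n hn P x y
    have h1 : n = 1 := by rw [hn, pow_zero]
    subst h1
    exact ⟨1, P.one_mem, Subsingleton.elim _ _⟩
  | succ j ih =>
    intro n hn P x y
    have hhalf : n / 2 = 2 ^ j := by rw [hn, pow_succ]; omega
    obtain ⟨Pm0⟩ : Nonempty (Sylow 2 (Perm (Fin (n / 2)))) := inferInstance
    obtain ⟨ι, hι⟩ := sylow_eq_stdW n Pm0 P
    have hsurj : Function.Surjective ι := by
      have hb : Function.Bijective ι := by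
        rw [Fintype.bijective_iff_injective_and_card]
        refine ⟨ι.injective, ?_⟩
        rw [Fintype.card_prod, ZMod.card, Fintype.card_fin, Fintype.card_fin, hhalf, hn, pow_succ]
      exact hb.2
    obtain ⟨⟨l, t⟩, rfl⟩ := hsurj x
    obtain ⟨⟨l', t'⟩, rfl⟩ := hsurj y
    have hK : ∀ a b : Fin (n / 2), ∃ σ ∈ (Pm0 : Subgroup (Perm (Fin (n / 2)))), σ a = b :=
      fun a b => ih (n / 2) hhalf Pm0 a b
    obtain ⟨g, hg, hgl⟩ := stdW_trans ι (Pm0 : Subgroup (Perm (Fin (n / 2)))) hK l t l' t'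
    refine ⟨g, ?_, hgl⟩
    show g ∈ (P : Subgroup (Perm (Fin n)))
    rw [hι]; exact hg

end Cfsg.Agent.Helper42.MaxSyl
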