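import Mathlib
import Cfsg.Agent.Helper42.MaxSylG

/-!
# Auxiliary lemmas for the case `n = 2 ^ k + 1`
-/

set_option autoImplicit false
set_option linter.unusedSectionVars false

namespace Cfsg.Agent.Helper42.MaxSyl

open Equiv Equiv.Perm MulAction Cfsg.Agent.Helper42
open scoped Pointwise

/-- a criterion for double transitivity -/
theorem two_pretransitive_of {γ : Type*} (S : Subgroup (Perm γ)) (p q : γ)
    (T1 : ∀ x, ∃ g ∈ S, g p = x) (T2 : ∀ x, x ≠ p → ∃ g ∈ S, g p = p ∧ g q = x) :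
    IsMultiplyPretransitive S γ 2 := by
  have T12 : ∀ a b, a ≠ b → ∃ g ∈ S, g p = a ∧ g q = b := by
    intro a b hab
    obtain ⟨g₁, hg₁, h1⟩ := T1 a
    have hb' : g₁⁻¹ b ≠ p := by
      intro h
      apply hab
      rw [← h1, ← h, perm_apply_inv_self]
    obtain ⟨g₂, hg₂, h2, h2'⟩ := T2 _ hb'
    refine ⟨g₁ * g₂, S.mul_mem hg₁ hg₂, ?_, ?_⟩
    · rw [Perm.mul_apply, h2, h1]
    · rw [Perm.mul_apply, h2', perm_apply_inv_self]
  rw [is_two_pretransitive_iff]
  intro a b c d hab hcd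
  obtain ⟨g, hg, ga, gb⟩ := T12 a b hab
  obtain ⟨h, hh, hc, hd⟩ := T12 c d hcd
  refine ⟨⟨h * g⁻¹, S.mul_mem hh (S.inv_mem hg)⟩, ?_, ?_⟩
  · show (h * g⁻¹) a = c
    rw [Perm.mul_apply, ← ga, perm_inv_apply_self, hc]
  · show (h * g⁻¹) b = d
    rw [Perm.mul_apply, ← gb, perm_inv_apply_self, hd]

section

variable {β γ : Type*} [DecidableEq β] [Fintype β] [DecidableEq γ] [Fintype γ]

theorem swap_pair_mem_stdW (ι : β × ZMod 2 ↪ γ) (K : Subgroup (Perm β)) (l : β) (t : ZMod 2) :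
    swap (ι (l, t)) (ι (l, t + 1)) ∈ stdW ι K := by
  rcases zmod2_cases t with rfl | rfl
  · rw [zero_add]; exact swap_mem_stdW ι K l
  · rw [one_add_one_zmod2, swap_comm]; exact swap_mem_stdW ι K l

end

/-- the square of a product of two suitable double transpositions is a three-cycle -/
theorem sq_isThreeCycle {α : Type*} [DecidableEq α] [Fintype α] {x z w u v p q : α}
    (h : [x, z, w, u, v, p, q].Nodup) :
    ((swap x z * swap u v) * (swap z w * swap p q) *
      ((swap x z * swap u v) * (swap z w * swap p q))).IsThreeCycle := by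
  simp only [List.nodup_cons, List.mem_cons, List.not_mem_nil, or_false, not_or,
    List.nodup_nil, and_true] at h
  obtain ⟨⟨hxz, hxw, hxu, hxv, hxp, hxq⟩, ⟨hzw, hzu, hzv, hzp, hzq⟩, ⟨hwu, hwv, hwp, hwq⟩,
    ⟨huv, hup, huq⟩, ⟨hvp, hvq⟩, hpq⟩ := h
  have d12 : Perm.Disjoint (swap x z) (swap u v) :=
    disjoint_swap_swap (by simp [hxz, hxu, hxv, hzu, hzv, huv])
  have d14 : Perm.Disjoint (swap x z) (swap p q) :=
    disjoint_swap_swap (by simp [hxz, hxp, hxq, hzp, hzq, hpq])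
  have d32 : Perm.Disjoint (swap z w) (swap u v) :=
    disjoint_swap_swap (by simp [hzw, hzu, hzv, hwu, hwv, huv])
  have d34 : Perm.Disjoint (swap z w) (swap p q) :=
    disjoint_swap_swap (by simp [hzw, hzp, hzq, hwp, hwq, hpq])
  have d24 : Perm.Disjoint (swap u v) (swap p q) :=
    disjoint_swap_swap (by simp [huv, hup, huq, hvp, hvq, hpq])
  set t₁ := swap x z with ht₁
  set t₂ := swap u v with ht₂
  set t₃ := swap z w with ht₃
  set t₄ := swap p q with ht₄
  have e1 : t₁ * t₂ * (t₃ * t₄) = t₁ * t₃ * (t₂ * t₄) :=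
    Commute.mul_mul_mul_comm d32.commute.symm t₁ t₄
  have cAB : Commute (t₂ * t₄) (t₁ * t₃) :=
    (Perm.Disjoint.mul_left (Perm.Disjoint.mul_right d12.symm d32.symm)
      (Perm.Disjoint.mul_right d14.symm d34.symm)).commute
  have e2 : t₁ * t₃ * (t₂ * t₄) * (t₁ * t₃ * (t₂ * t₄)) =
      t₁ * t₃ * (t₁ * t₃) * ((t₂ * t₄) * (t₂ * t₄)) :=
    Commute.mul_mul_mul_comm cAB (t₁ * t₃) (t₂ * t₄)
  have e3 : t₂ * t₄ * (t₂ * t₄) = 1 := by
    rw [Commute.mul_mul_mul_comm d24.commute.symm t₂ t₄, ht₂, ht₄, swap_mul_self, swap_mul_self,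
      one_mul]
  rw [e1, e2, e3, mul_one]
  apply IsThreeCycle.isThreeCycle_sq
  rw [ht₁, ht₃, swap_comm x z]
  exact isThreeCycle_swap_mul_swap_same (Ne.symm hxz) hzw hxw

/-- a simple group of order 60 has no proper subgroup of order divisible by 20 -/
theorem simple60 {Γ : Type*} [Group Γ] (hs : IsSimpleGroup Γ) (hc : Nat.card Γ = 60)
    (M : Subgroup Γ) (hM : M ≠ ⊤) (h20 : 20 ∣ Nat.card M) : False := by
  have hfin : Finite Γ := Nat.finite_of_card_ne_zero (by rw [hc]; norm_num)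
  have hidx : M.index * Nat.card M = 60 := by rw [Subgroup.index_mul_card, hc]
  obtain ⟨c, hc'⟩ := h20
  have hidx3 : M.index = 3 := by
    have h1 : M.index ≠ 1 := fun h => hM (Subgroup.index_eq_one.mp h)
    have h2 : M.index * c = 3 := by
      rw [hc'] at hidx
      have : 20 * (M.index * c) = 20 * 3 := by
        have e : 20 * (M.index * c) = M.index * (20 * c) := by ring
        rw [e, hidx]
      exact Nat.eq_of_mul_eq_mul_left (by norm_num) this
    have h3 : M.index ∣ 3 := ⟨c, h2.symm⟩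
    rcases (Nat.dvd_prime Nat.prime_three).mp h3 with h | h
    · exact absurd h h1
    · exact h
  have hker : (MulAction.toPermHom Γ (Γ ⧸ M)).ker = ⊥ := by
    rcases (MulAction.toPermHom Γ (Γ ⧸ M)).normal_ker.eq_bot_or_eq_top with h | h
    · exact h
    · exfalso
      apply hM
      rw [eq_top_iff, ← h, ← Subgroup.normalCore_eq_ker]
      exact Subgroup.normalCore_le M
  have hinj : Function.Injective (MulAction.toPermHom Γ (Γ ⧸ M)) :=
    (MonoidHom.ker_eq_bot_iff _).mp hker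
  have hdvd := Subgroup.card_dvd_of_injective _ hinj
  rw [Nat.card_perm, ← Subgroup.index_eq_card, hidx3, hc] at hdvd
  norm_num [Nat.factorial] at hdvd

end Cfsg.Agent.Helper42.MaxSyl
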