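import Mathlib
import Cfsg.Agent.Helper42.MaxSylH

/-!
# Overgroups of `C_2 wr K` moving the fixed point: double transitivity and a three-cycle
-/

set_option autoImplicit false
set_option linter.unusedSectionVars false

namespace Cfsg.Agent.Helper42.MaxSyl

open Equiv Equiv.Perm MulAction Cfsg.Agent.Helper42
open scoped Pointwise

section

variable {β γ : Type*} [DecidableEq β] [Fintype β] [DecidableEq γ] [Fintype γ]

/-- transitivity of an overgroup moving the fixed point -/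
theorem exists_mem_apply_eq (ι : β × ZMod 2 ↪ γ) (K : Subgroup (Perm β))
    (hK : ∀ l l' : β, ∃ σ ∈ K, σ l = l') (h2 : ∀ l : β, ∃ l', l' ≠ l) (x₀ : γ)
    (hrest : ∀ x, x ≠ x₀ → x ∈ Set.range ι)
    (S : Subgroup (Perm γ)) (hE : ∀ g ∈ stdW ι K, sign g = 1 → g ∈ S)
    (g₀ : Perm γ) (hg₀ : g₀ ∈ S) (hg₀x : g₀ x₀ ≠ x₀) (x : γ) : ∃ g ∈ S, g x₀ = x := by
  by_cases hx : x = x₀
  · exact ⟨1, S.one_mem, hx.symm⟩
  · obtain ⟨⟨l', t'⟩, rfl⟩ := hrest x hx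
    obtain ⟨⟨l, t⟩, hy⟩ := hrest (g₀ x₀) hg₀x
    obtain ⟨e, he, hs, hel⟩ := stdW_trans_even ι K hK h2 l t l' t'
    exact ⟨e * g₀, S.mul_mem (hE e he hs) hg₀, by rw [Perm.mul_apply, ← hy, hel]⟩

/-- double transitivity of an overgroup moving the fixed point -/
theorem two_pretransitive_of_moves (ι : β × ZMod 2 ↪ γ) (K : Subgroup (Perm β))
    (hK : ∀ l l' : β, ∃ σ ∈ K, σ l = l') (h2 : ∀ l : β, ∃ l', l' ≠ l) (i₀ : β) (x₀ : γ)
    (hx₀ : x₀ ∉ Set.range ι) (hrest : ∀ x, x ≠ x₀ → x ∈ Set.range ι)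
    (S : Subgroup (Perm γ)) (hE : ∀ g ∈ stdW ι K, sign g = 1 → g ∈ S)
    (g₀ : Perm γ) (hg₀ : g₀ ∈ S) (hg₀x : g₀ x₀ ≠ x₀) : IsMultiplyPretransitive S γ 2 := by
  apply two_pretransitive_of S x₀ (ι (i₀, 0))
  · exact exists_mem_apply_eq ι K hK h2 x₀ hrest S hE g₀ hg₀ hg₀x
  · intro x hx
    obtain ⟨⟨l', t'⟩, rfl⟩ := hrest x hx
    obtain ⟨e, he, hs, hel⟩ := stdW_trans_even ι K hK h2 i₀ 0 l' t'
    refine ⟨e, hE e he hs, ?_, hel⟩
    obtain ⟨σ, -, -, hout⟩ := exists_fibre_perm ι K he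
    exact hout x₀ hx₀

/-- a three-cycle in an overgroup moving the fixed point, if there are at least four fibres -/
theorem exists_threeCycle_mem (ι : β × ZMod 2 ↪ γ) (K : Subgroup (Perm β)) (x₀ : γ)
    (hx₀ : x₀ ∉ Set.range ι) (hrest : ∀ x, x ≠ x₀ → x ∈ Set.range ι)
    (h4 : ∀ a b c : β, ∃ d, d ≠ a ∧ d ≠ b ∧ d ≠ c)
    (S : Subgroup (Perm γ)) (hE : ∀ g ∈ stdW ι K, sign g = 1 → g ∈ S)
    (i : β) (g : Perm γ) (hg : g ∈ S) (hgi : g (ι (i, 0)) = x₀) :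
    ∃ c ∈ S, c.IsThreeCycle := by
  have hinj : ∀ a b : β × ZMod 2, ι a = ι b ↔ a = b := fun a b => ι.injective.eq_iff
  have h01 : ∀ l : β, ι (l, 0) ≠ ι (l, 1) := by intro l; rw [Ne, hinj]; simp
  have hrange : ∀ a : β × ZMod 2, x₀ ≠ ι a := fun a h => hx₀ ⟨a, h.symm⟩
  have hfne : ∀ (a b : β) (s s' : ZMod 2), a ≠ b → ι (a, s) ≠ ι (b, s') := by
    intro a b s s' hab h
    have := (hinj _ _).mp h
    simp only [Prod.mk.injEq] at this
    exact hab this.1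
  -- the point `z`
  have hzx : g (ι (i, 1)) ≠ x₀ := by
    rw [← hgi]; intro h; exact h01 i (g.injective h).symm
  obtain ⟨⟨lz, tz⟩, hz⟩ := hrest _ hzx
  -- the point `w` and the choice of `j`
  obtain ⟨w, hw⟩ : ∃ w, w = ι (lz, tz + 1) := ⟨_, rfl⟩
  obtain ⟨jbad, hjbad⟩ : ∃ jb, jb = (fib ι (g⁻¹ w)).getD i := ⟨_, rfl⟩
  obtain ⟨j, hji, hjb, -⟩ := h4 i jbad i
  have hjw : ∀ s, g (ι (j, s)) ≠ w := by
    intro s h
    have h1 : g⁻¹ w = ι (j, s) := by rw [← h, perm_inv_apply_self]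
    rw [h1, fib_apply, Option.getD_some] at hjbad
    exact hjb hjbad.symm
  have hjx : ∀ s, g (ι (j, s)) ≠ x₀ := by
    intro s h
    rw [← hgi] at h
    exact hfne j i s 0 hji (g.injective h)
  obtain ⟨⟨lu, tu⟩, hu⟩ := hrest _ (hjx 0)
  obtain ⟨⟨lv, tv⟩, hv⟩ := hrest _ (hjx 1)
  obtain ⟨l', hl'z, hl'u, hl'v⟩ := h4 lz lu lv
  -- the two double transpositions
  have ha : swap (ι (i, 0)) (ι (i, 1)) * swap (ι (j, 0)) (ι (j, 1)) ∈ S := by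
    apply hE _ _ (sign_two_swaps (h01 i) (h01 j))
    exact (stdW ι K).mul_mem (swap_mem_stdW ι K i) (swap_mem_stdW ι K j)
  have hzw : ι (lz, tz) ≠ w := by
    rw [hw, Ne, hinj]
    simp only [Prod.mk.injEq, true_and]
    exact (zmod2_add_one_ne tz).symm
  have hs₂ : swap (ι (lz, tz)) w * swap (ι (l', 0)) (ι (l', 1)) ∈ S := by
    apply hE _ _ (sign_two_swaps hzw (h01 l'))
    rw [hw]
    exact (stdW ι K).mul_mem (swap_pair_mem_stdW ι K lz tz) (swap_mem_stdW ι K l')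
  have hs₁ : swap x₀ (ι (lz, tz)) * swap (ι (lu, tu)) (ι (lv, tv)) ∈ S := by
    have h1 := S.mul_mem (S.mul_mem hg ha) (S.inv_mem hg)
    rw [← conj_mul, ← swap_apply_apply, ← swap_apply_apply, hgi, ← hz, ← hu, ← hv] at h1
    exact h1
  refine ⟨_, S.mul_mem (S.mul_mem hs₁ hs₂) (S.mul_mem hs₁ hs₂), ?_⟩
  apply sq_isThreeCycle
  -- the distinctness
  have hzu : ι (lz, tz) ≠ ι (lu, tu) := by
    rw [hz, hu]; intro h; exact hfne i j 1 0 (Ne.symm hji) (g.injective h)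
  have hzv : ι (lz, tz) ≠ ι (lv, tv) := by
    rw [hz, hv]; intro h; exact hfne i j 1 1 (Ne.symm hji) (g.injective h)
  have huv : ι (lu, tu) ≠ ι (lv, tv) := by
    rw [hu, hv]; intro h; exact h01 j (g.injective h)
  have hwu : w ≠ ι (lu, tu) := by rw [hu]; exact (hjw 0).symm
  have hwv : w ≠ ι (lv, tv) := by rw [hv]; exact (hjw 1).symm
  have hxw : x₀ ≠ w := by rw [hw]; exact hrange _
  have hwp : ∀ s, w ≠ ι (l', s) := by intro s; rw [hw]; exact hfne _ _ _ _ (Ne.symm hl'z)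
  simp only [List.nodup_cons, List.mem_cons, List.not_mem_nil, or_false, not_or,
    List.nodup_nil, and_true]
  refine ⟨⟨hrange _, hxw, hrange _, hrange _, hrange _, hrange _⟩,
    ⟨hzw, hzu, hzv, hfne _ _ _ _ (Ne.symm hl'z), hfne _ _ _ _ (Ne.symm hl'z)⟩,
    ⟨hwu, hwv, hwp 0, hwp 1⟩,
    ⟨huv, hfne _ _ _ _ (Ne.symm hl'u), hfne _ _ _ _ (Ne.symm hl'u)⟩,
    ⟨hfne _ _ _ _ (Ne.symm hl'v), hfne _ _ _ _ (Ne.symm hl'v)⟩, h01 l', not_false⟩

end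

end Cfsg.Agent.Helper42.MaxSyl
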