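import Mathlib
import Cfsg.Agent.Helper42.MaxSylI

/-!
# The case `n = 2 ^ k + 1`: the point stabiliser is the unique maximal overgroup
-/

set_option autoImplicit false

namespace Cfsg.Agent.Helper42.MaxSyl

open Equiv Equiv.Perm MulAction Cfsg.Agent.Helper42
open scoped Pointwise

theorem exists_ne3 {m : ℕ} (hm : 4 ≤ m) (a b c : Fin m) : ∃ d, d ≠ a ∧ d ≠ b ∧ d ≠ c := by
  by_contra hcon
  have hsub : (Finset.univ : Finset (Fin m)) ⊆ {a, b, c} := by
    intro d _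
    simp only [Finset.mem_insert, Finset.mem_singleton]
    by_contra h
    rw [not_or, not_or] at h
    exact hcon ⟨d, h.1, h.2.1, h.2.2⟩
  have h1 := Finset.card_le_card hsub
  rw [Finset.card_univ, Fintype.card_fin] at h1
  have h3 : ({a, b, c} : Finset (Fin m)).card ≤ 3 := Finset.card_le_three
  omega

theorem unique_of_pow_add_one {Γ : Type*} [Group Γ] {n : ℕ} {φ : Γ →* Perm (Fin n)}
    (hF : Frame φ) (k : ℕ) (hk : 2 ≤ k) (hn : n = 2 ^ k + 1)
    (h5 : n = 5 → Function.Surjective φ ∨ (IsSimpleGroup Γ ∧ Nat.card Γ = 60))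
    (R : Sylow 2 Γ) : ∃! M : Subgroup Γ, IsCoatom M ∧ (R : Subgroup Γ) ≤ M := by
  classical
  have hfin : Finite Γ := hF.finite
  obtain ⟨Q, hQ⟩ := exists_sylow_comap_eq 2 φ hF.inj R
  obtain ⟨Pm0⟩ : Nonempty (Sylow 2 (Perm (Fin (n / 2)))) := inferInstance
  obtain ⟨ι, hι⟩ := sylow_eq_stdW n Pm0 Q
  obtain ⟨k', rfl⟩ : ∃ k', k = k' + 1 := ⟨k - 1, by omega⟩
  have hk'1 : 1 ≤ k' := by omega
  have hhalf : n / 2 = 2 ^ k' := by rw [hn, pow_succ]; omega
  have hhalf2 : 2 ≤ n / 2 := by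
    rw [hhalf]
    calc 2 = 2 ^ 1 := by norm_num
      _ ≤ 2 ^ k' := Nat.pow_le_pow_right (by norm_num) hk'1
  have hK : ∀ a b : Fin (n / 2), ∃ σ ∈ (Pm0 : Subgroup (Perm (Fin (n / 2)))), σ a = b :=
    fun a b => sylow_trans_pow k' (n / 2) hhalf Pm0 a b
  -- the fixed point
  have hcard : (Set.range ι)ᶜ.ncard = 1 := by
    have h1 : (Set.range ι).ncard = n - 1 := by
      rw [← Nat.card_coe_set_eq, Nat.card_range_of_injective ι.injective, Nat.card_prod,
        Nat.card_eq_fintype_card, Nat.card_eq_fintype_card, Fintype.card_fin, ZMod.card, hhalf, hn,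
        pow_succ]
      omega
    have h2 := Set.ncard_add_ncard_compl (Set.range ι)
    rw [Nat.card_eq_fintype_card, Fintype.card_fin] at h2
    have h3 : 1 ≤ n := by omega
    omega
  obtain ⟨x₀, hx₀eq⟩ := Set.ncard_eq_one.mp hcard
  have hx₀ : x₀ ∉ Set.range ι := by
    have : x₀ ∈ (Set.range ι)ᶜ := by rw [hx₀eq]; exact Set.mem_singleton _
    exact this
  have hrest : ∀ x, x ≠ x₀ → x ∈ Set.range ι := by
    intro x hx
    by_contra hxr
    have : x ∈ (Set.range ι)ᶜ := hxr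
    rw [hx₀eq] at this
    exact hx this
  have hQfix : ∀ g ∈ (Q : Subgroup (Perm (Fin n))), g x₀ = x₀ := by
    intro g hg
    rw [hι] at hg
    obtain ⟨σ, -, -, hout⟩ := exists_fibre_perm ι _ hg
    exact hout x₀ hx₀
  -- existence
  set S₀ : Subgroup Γ := (stabilizer (Perm (Fin n)) ({x₀} : Set (Fin n))).comap φ with hS₀def
  have hn5 : 5 ≤ n := by
    rw [hn]
    have : 2 ^ 2 ≤ 2 ^ (k' + 1) := Nat.pow_le_pow_right (by norm_num) hk
    omega
  have hS₀ : IsCoatom S₀ := by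
    apply hF.coatom
    · exact Set.singleton_nonempty _
    · have : Nontrivial (Fin n) := Fin.nontrivial_iff_two_le.mpr (by omega)
      obtain ⟨y, hy⟩ := exists_ne x₀
      exact ⟨y, hy⟩
    · rw [Set.ncard_singleton]; omega
  have hRS₀ : (R : Subgroup Γ) ≤ S₀ := by
    intro γ hγ
    rw [hQ, Subgroup.mem_comap] at hγ
    rw [hS₀def, Subgroup.mem_comap, mem_stabilizer_iff, Set.smul_set_singleton]
    congr 1
    exact hQfix _ hγ
  refine ⟨S₀, ⟨hS₀, hRS₀⟩, ?_⟩
  rintro M ⟨hM, hRM⟩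
  by_contra hne
  have hnle : ¬ M ≤ S₀ := by
    intro hle
    have hlt : M < S₀ := lt_of_le_of_ne hle hne
    exact hS₀.1 (hM.2 S₀ hlt)
  obtain ⟨γ₀, hγ₀M, hγ₀⟩ := SetLike.not_le_iff_exists.mp hnle
  have hmove : φ γ₀ x₀ ≠ x₀ := by
    intro h
    apply hγ₀
    rw [hS₀def, Subgroup.mem_comap, mem_stabilizer_iff, Set.smul_set_singleton]
    congr 1
  set S : Subgroup (Perm (Fin n)) := M.map φ with hS
  have hmemR : ∀ γ, φ γ ∈ stdW ι (Pm0 : Subgroup (Perm (Fin (n / 2)))) → γ ∈ M := by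
    intro γ hγ
    apply hRM
    rw [hQ, Subgroup.mem_comap, hι]
    exact hγ
  have hE : ∀ g ∈ stdW ι (Pm0 : Subgroup (Perm (Fin (n / 2)))), sign g = 1 → g ∈ S := by
    intro g hg hs
    obtain ⟨γ, hγ⟩ := hF.alt (mem_alternatingGroup.mpr hs)
    exact ⟨γ, hmemR γ (hγ ▸ hg), hγ⟩
  have h2 : ∀ l : Fin (n / 2), ∃ l', l' ≠ l := by
    intro l
    have : Nontrivial (Fin (n / 2)) := Fin.nontrivial_iff_two_le.mpr hhalf2
    exact exists_ne l
  set i₀ : Fin (n / 2) := ⟨0, by omega⟩ with hi₀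
  have hγ₀S : φ γ₀ ∈ S := ⟨γ₀, hγ₀M, rfl⟩
  have h2t : IsMultiplyPretransitive S (Fin n) 2 :=
    two_pretransitive_of_moves ι _ hK h2 i₀ x₀ hx₀ hrest S hE (φ γ₀) hγ₀S hmove
  have hprim : IsPreprimitive S (Fin n) := isPreprimitive_of_is_two_pretransitive h2t
  have hτne : ι (i₀, 0) ≠ ι (i₀, 1) := by
    intro h
    have := ι.injective h
    simp at this
  have hτK : ∀ γ, φ γ = swap (ι (i₀, 0)) (ι (i₀, 1)) → γ ∈ M := by
    intro γ hγ
    apply hmemR
    rw [hγ]
    exact swap_mem_stdW ι _ i₀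
  suffices halt : alternatingGroup (Fin n) ≤ S from
    hM.1 (hF.eq_top_of_alt_le M halt _ (Perm.sign_swap hτne) hτK)
  by_cases hn5' : n = 5
  · rcases h5 hn5' with hsurj | ⟨hsimple, hc60⟩
    · obtain ⟨γ, hγ⟩ := hsurj (swap (ι (i₀, 0)) (ι (i₀, 1)))
      have hτS : swap (ι (i₀, 0)) (ι (i₀, 1)) ∈ S := ⟨γ, hτK γ hγ, hγ⟩
      have htop : S = ⊤ :=
        subgroup_eq_top_of_isPreprimitive_of_isSwap_mem hprim _ ⟨_, _, hτne, rfl⟩ hτS
      rw [htop]; exact le_top
    · exfalso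
      apply simple60 hsimple hc60 M hM.1
      have h4 : 4 ∣ Nat.card M := by
        have h22 : 2 ^ 2 ∣ Nat.card R := R.pow_dvd_card_of_pow_dvd_card (by rw [hc60]; norm_num)
        exact dvd_trans h22 (Subgroup.card_dvd_of_le hRM)
      have h5' : 5 ∣ Nat.card M := by
        have hcardS : Nat.card S = Nat.card M :=
          Nat.card_congr (M.equivMapOfInjective φ hF.inj).symm.toEquiv
        rw [← hcardS]
        have hpt : IsPretransitive S (Fin n) := hprim.toIsPretransitive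
        have hidx := MulAction.index_stabilizer_of_transitive S (x₀ : Fin n)
        rw [Nat.card_eq_fintype_card, Fintype.card_fin] at hidx
        have hidx5 : (stabilizer S x₀).index = 5 := hidx.trans hn5'
        rw [← hidx5]
        exact Subgroup.index_dvd_card _
      exact Nat.Coprime.mul_dvd_of_dvd_of_dvd (by decide) h4 h5'
  · have hk'2 : 2 ≤ k' := by
      by_contra hlt
      have : k' = 1 := by omega
      apply hn5'
      rw [hn, this]
      norm_num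
    have hhalf4 : 4 ≤ n / 2 := by
      rw [hhalf]
      calc 4 = 2 ^ 2 := by norm_num
        _ ≤ 2 ^ k' := Nat.pow_le_pow_right (by norm_num) hk'2
    obtain ⟨g', hg', hg'x⟩ :=
      exists_mem_apply_eq ι _ hK h2 x₀ hrest S hE (φ γ₀) hγ₀S hmove (ι (i₀, 0))
    obtain ⟨c, hc, hc3⟩ := exists_threeCycle_mem ι (Pm0 : Subgroup (Perm (Fin (n / 2)))) x₀ hx₀
      hrest (exists_ne3 hhalf4) S hE i₀ g'⁻¹ (S.inv_mem hg')
      (by rw [← hg'x, perm_inv_apply_self])
    exact alternatingGroup_le_of_isPreprimitive_of_isThreeCycle_mem hprim hc3 hc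

end Cfsg.Agent.Helper42.MaxSyl
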