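import Mathlib
import Cfsg.Agent.Helper42.MaxSylJ

/-!
# Sylow 2-subgroups of `S_n` and `A_n` in a unique maximal subgroup
-/

set_option autoImplicit false

namespace Cfsg.Agent.Helper42.MaxSyl

open Equiv Equiv.Perm MulAction Cfsg.Agent.Helper42
open scoped Pointwise

theorem Frame.unique_iff {Γ : Type*} [Group Γ] {n : ℕ} {φ : Γ →* Perm (Fin n)}
    (hF : Frame φ) (hn : 5 ≤ n) (h6 : n ≠ 6)
    (h5 : n = 5 → Function.Surjective φ ∨ (IsSimpleGroup Γ ∧ Nat.card Γ = 60))
    (R : Sylow 2 Γ) :
    (∃! M : Subgroup Γ, IsCoatom M ∧ (R : Subgroup Γ) ≤ M) ↔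
      ∃ k : ℕ, 2 ≤ k ∧ n = 2 ^ k + 1 := by
  constructor
  · intro hu
    by_contra hno
    rcases Nat.even_or_odd n with he | ho
    · have h8 : 8 ≤ n := by
        obtain ⟨c, hc⟩ := he
        omega
      exact not_unique_of_even hF h8 he R hu
    · apply not_unique_of_odd hF hn ho ?_ R hu
      rintro ⟨k, hk⟩
      apply hno
      refine ⟨k, ?_, by omega⟩
      by_contra hk2
      have hk1 : k ≤ 1 := by omega
      have : 2 ^ k ≤ 2 ^ 1 := Nat.pow_le_pow_right (by norm_num) hk1
      omega
  · rintro ⟨k, hk, hnk⟩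
    exact unique_of_pow_add_one hF k hk hnk h5 R

theorem frame_perm (n : ℕ) : Frame (MonoidHom.id (Perm (Fin n))) where
  inj := Function.injective_id
  alt := by
    intro g _
    exact ⟨g, rfl⟩
  coatom := by
    intro s hs hsc hcard
    rw [Subgroup.comap_id]
    apply Equiv.Perm.isCoatom_stabilizer hs hsc
    rw [Nat.card_eq_fintype_card, Fintype.card_fin]
    exact hcard

theorem frame_alt (n : ℕ) : Frame (alternatingGroup (Fin n)).subtype where
  inj := Subtype.coe_injective
  alt := by
    intro g hg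
    exact ⟨⟨g, hg⟩, rfl⟩
  coatom := by
    intro s hs hsc hcard
    have h := alternatingGroup.isCoatom_stabilizer (α := Fin n) hs hsc
      (by rw [Nat.card_eq_fintype_card, Fintype.card_fin]; exact hcard)
    convert h using 1
    ext g
    simp only [Subgroup.mem_comap, mem_stabilizer_iff]
    rfl

end Cfsg.Agent.Helper42.MaxSyl
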