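import Mathlib
import Cfsg.Agent.Helper42.MonA

set_option autoImplicit false
set_option linter.unusedSectionVars false

/-!
# Towers of regular wreath products inside monomial groups
-/

namespace Cfsg.Agent.Helper42

open Equiv RegularWreathProduct

universe u

/-- the diagonal embedding of a subgroup into the monomial group on one point -/
def monUnit {A : Type*} [Group A] (Q : Subgroup A) : ↥Q →* Mon A Unit where
  toFun q := ⟨fun _ => q.1, 1⟩
  map_one' := rfl
  map_mul' _ _ := rfl

theorem monUnit_injective {A : Type*} [Group A] (Q : Subgroup A) :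
    Function.Injective (monUnit Q) := by
  intro a b h
  apply Subtype.ext
  exact congrFun (congrArg SemidirectProduct.left h) ()

/-- a `2`-group of derived length `≥ m + 2` inside the monomial group on `2 ^ m` points -/
theorem exists_tower_mon {A : Type u} [Group A] (Q : Subgroup A) [Finite Q] (hQ : IsPGroup 2 Q)
    (hQ1 : derivedSeries ↥Q 1 ≠ ⊥) (m : ℕ) :
    ∃ (X : Type u) (_ : Group X) (_ : Finite X) (ι : Type) (_ : Fintype ι) (θ : X →* Mon A ι),
      Function.Injective θ ∧ IsPGroup 2 X ∧ Fintype.card ι = 2 ^ m ∧
        derivedSeries X (m + 1) ≠ ⊥ := by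
  have hcardC : Nat.card (Multiplicative (ZMod 2)) = 2 := by
    rw [Nat.card_congr Multiplicative.toAdd, Nat.card_eq_fintype_card]
    exact ZMod.card 2
  have hnt : Nontrivial (Multiplicative (ZMod 2)) :=
    inferInstanceAs (Nontrivial (ZMod 2))
  induction m with
  | zero =>
    exact ⟨↥Q, inferInstance, inferInstance, Unit, inferInstance, monUnit Q, monUnit_injective Q,
      hQ, by simp, hQ1⟩
  | succ m ih =>
    obtain ⟨X, hX1, hX2, ι, hι, θ, hθ, hpX, hcard, hder⟩ := ih
    have hne : Nonempty ι := by
      rw [← Fintype.card_pos_iff, hcard]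
      exact pow_pos (by norm_num) _
    refine ⟨X ≀ᵣ Multiplicative (ZMod 2), inferInstance, inferInstance,
      ι × Multiplicative (ZMod 2), inferInstance, wrHom θ, wrHom_injective θ hθ, ?_, ?_, ?_⟩
    · obtain ⟨a, ha⟩ := IsPGroup.iff_card.mp hpX
      apply IsPGroup.of_card (n := a * 2 + 1)
      rw [RegularWreathProduct.card, hcardC, ha, ← pow_mul, pow_succ]
    · rw [Fintype.card_prod, hcard, ← Nat.card_eq_fintype_card (α := Multiplicative (ZMod 2)),
        hcardC, pow_succ]
    · exact derivedSeries_wreath_ne_bot (D := X) (Q := Multiplicative (ZMod 2)) (m + 1) hder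

end Cfsg.Agent.Helper42
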