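import Mathlib
import Cfsg.Agent.Helper42.EAMon

set_option autoImplicit false
set_option linter.unusedSectionVars false

/-!
# Functoriality of monomial groups; determinant kernels in `X ≀ C₂`
-/

namespace Cfsg.Agent.Helper42

open Equiv
open scoped commutatorElement

section monMap
variable {A B : Type*} [Group A] [Group B] {ι : Type*}

/-- functoriality of `Mon` in the coefficient group -/
def monMap (φ : A →* B) : Mon A ι →* Mon B ι :=
  SemidirectProduct.map (MonoidHom.compLeft φ ι) (MonoidHom.id _) (by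
    intro σ
    ext f k
    rfl)

theorem monMap_inl (φ : A →* B) (f : ι → A) :
    monMap φ (SemidirectProduct.inl f : Mon A ι) = SemidirectProduct.inl (fun i => φ (f i)) := by
  rw [monMap, SemidirectProduct.map_inl]
  rfl

theorem monMap_inr (φ : A →* B) (σ : Perm ι) :
    monMap φ (SemidirectProduct.inr σ : Mon A ι) = SemidirectProduct.inr σ := by
  rw [monMap, SemidirectProduct.map_inr]
  rfl

theorem monMap_injective (φ : A →* B) (hφ : Function.Injective φ) :
    Function.Injective (monMap (ι := ι) φ) := by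
  intro x y h
  have h1 : (monMap (ι := ι) φ x).left = (monMap (ι := ι) φ y).left := by rw [h]
  have h2 : (monMap (ι := ι) φ x).right = (monMap (ι := ι) φ y).right := by rw [h]
  rw [monMap, SemidirectProduct.map_left, SemidirectProduct.map_left] at h1
  rw [monMap, SemidirectProduct.map_right, SemidirectProduct.map_right] at h2
  apply SemidirectProduct.ext
  · funext i
    exact hφ (congrFun h1 i)
  · exact h2

end monMap

section wrTwo
variable {X : Type*} [Group X] {D : Type*} [CommGroup D]

theorem perm_fin_two_sq (σ : Perm (Fin 2)) : σ ^ 2 = 1 := by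
  revert σ
  decide

/-- `K / K'` is elementary abelian for the kernel `K` of `(x₀, x₁; σ) ↦ χ(x₀) χ(x₁)` on `X ≀ C₂`,
if it is so for the kernel of `χ` -/
theorem EA_ker_mon_two (χ : X →* D) (δ : Mon X (Fin 2) →* D)
    (hinl : ∀ f : Fin 2 → X, δ (SemidirectProduct.inl f) = χ (f 0) * χ (f 1))
    (hinr : ∀ σ : Perm (Fin 2), δ (SemidirectProduct.inr σ) = 1)
    (hK : EA 2 ↥χ.ker) : EA 2 ↥δ.ker := by
  set K := δ.ker with hKdef
  have hinrK : ∀ σ : Perm (Fin 2), (SemidirectProduct.inr σ : Mon X (Fin 2)) ∈ K := by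
    intro σ
    rw [hKdef, MonoidHom.mem_ker]
    exact hinr σ
  -- the embedding of `ker χ` in the second coordinate
  have hη : ∀ c : ↥χ.ker, (SemidirectProduct.inl (Pi.mulSingle (1 : Fin 2) c.1) : Mon X (Fin 2)) ∈ K := by
    intro c
    rw [hKdef, MonoidHom.mem_ker, hinl, Pi.mulSingle_eq_same,
      Pi.mulSingle_eq_of_ne (by decide : (0 : Fin 2) ≠ 1), map_one, one_mul]
    exact c.2
  let η : ↥χ.ker →* ↥K :=
    { toFun := fun c => ⟨SemidirectProduct.inl (Pi.mulSingle (1 : Fin 2) c.1), hη c⟩
      map_one' := by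
        apply Subtype.ext
        show (SemidirectProduct.inl (Pi.mulSingle (1 : Fin 2) (1 : X)) : Mon X (Fin 2)) = 1
        rw [Pi.mulSingle_one, map_one]
      map_mul' := fun a b => by
        apply Subtype.ext
        show (SemidirectProduct.inl (Pi.mulSingle (1 : Fin 2) (a.1 * b.1)) : Mon X (Fin 2)) =
          SemidirectProduct.inl (Pi.mulSingle (1 : Fin 2) a.1) *
            SemidirectProduct.inl (Pi.mulSingle (1 : Fin 2) b.1)
        rw [Pi.mulSingle_mul, map_mul] }
  intro x
  have hx : x.1 = SemidirectProduct.inl x.1.left * SemidirectProduct.inr x.1.right :=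
    (SemidirectProduct.inl_left_mul_inr_right x.1).symm
  set f := x.1.left with hf
  set σ := x.1.right with hσ
  have hfK : (SemidirectProduct.inl f : Mon X (Fin 2)) ∈ K := by
    have h1 : (SemidirectProduct.inl f : Mon X (Fin 2)) = x.1 * (SemidirectProduct.inr σ)⁻¹ := by
      rw [eq_mul_inv_iff_mul_eq]; exact hx.symm
    rw [h1]
    exact K.mul_mem x.2 (K.inv_mem (hinrK σ))
  have hsplit : x = ⟨SemidirectProduct.inl f, hfK⟩ * ⟨SemidirectProduct.inr σ, hinrK σ⟩ :=
    Subtype.ext hx
  rw [hsplit]
  apply pow_mem_commutator_of_mul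
  · -- the base part
    have hχf : χ (f 0) * χ (f 1) = 1 := by
      rw [← hinl]; exact hfK
    set g : Fin 2 → X := Pi.mulSingle 0 (f 0) * Pi.mulSingle 1 (f 0)⁻¹ with hg
    have hc : f 0 * f 1 ∈ χ.ker := by
      rw [MonoidHom.mem_ker, map_mul]; exact hχf
    have hfg : f = g * Pi.mulSingle 1 (f 0 * f 1) := by
      funext i
      fin_cases i
      · simp [hg]
      · simp [hg]
    have hgK : (SemidirectProduct.inl g : Mon X (Fin 2)) ∈ K := by
      rw [hKdef, MonoidHom.mem_ker, hinl, hg]
      simp
    have hsplit2 : (⟨SemidirectProduct.inl f, hfK⟩ : ↥K) =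
        ⟨SemidirectProduct.inl g, hgK⟩ * η ⟨f 0 * f 1, hc⟩ := by
      apply Subtype.ext
      show (SemidirectProduct.inl f : Mon X (Fin 2)) =
        SemidirectProduct.inl g * SemidirectProduct.inl (Pi.mulSingle (1 : Fin 2) (f 0 * f 1))
      rw [← map_mul, ← hfg]
    rw [hsplit2]
    apply pow_mem_commutator_of_mul
    · -- `(inl g)^2` is a commutator
      have hswap : permAut X (Fin 2) (Equiv.swap 0 1) g⁻¹ = g := by
        funext i
        rw [permAut_apply]
        fin_cases i
        · simp [hg]
        · simp [hg]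
      have h2 : (⟨SemidirectProduct.inl g, hgK⟩ : ↥K) ^ 2 =
          ⁅(⟨SemidirectProduct.inl g, hgK⟩ : ↥K),
            (⟨SemidirectProduct.inr (Equiv.swap 0 1), hinrK _⟩ : ↥K)⁆ := by
        apply Subtype.ext
        rw [Subgroup.coe_pow, commutatorElement_def]
        show (SemidirectProduct.inl g : Mon X (Fin 2)) ^ 2 =
          SemidirectProduct.inl g * SemidirectProduct.inr (Equiv.swap 0 1) *
            (SemidirectProduct.inl g)⁻¹ * (SemidirectProduct.inr (Equiv.swap 0 1))⁻¹
        have h3 := SemidirectProduct.inl_aut (φ := permAut X (Fin 2)) (Equiv.swap (0 : Fin 2) 1) g⁻¹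
        rw [hswap] at h3
        rw [pow_two, mul_assoc, mul_assoc, ← mul_assoc (SemidirectProduct.inr _), ← map_inv,
          ← map_inv (SemidirectProduct.inr : Perm (Fin 2) →* Mon X (Fin 2)), ← h3]
      rw [h2]
      exact Subgroup.commutator_mem_commutator (Subgroup.mem_top _) (Subgroup.mem_top _)
    · have h2 := map_commutator_le η ⟨_, hK ⟨f 0 * f 1, hc⟩, rfl⟩
      rwa [map_pow] at h2
  · have h1 : (⟨SemidirectProduct.inr σ, hinrK σ⟩ : ↥K) ^ 2 = 1 := by
      apply Subtype.ext
      rw [Subgroup.coe_pow]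
      show (SemidirectProduct.inr σ : Mon X (Fin 2)) ^ 2 = 1
      rw [← map_pow, perm_fin_two_sq, map_one]
    rw [h1]
    exact Subgroup.one_mem _

end wrTwo

end Cfsg.Agent.Helper42
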