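import Mathlib
import Cfsg.Agent.Helper42.MonB
import Cfsg.Agent.Helper42.SpSylD

set_option autoImplicit false
set_option linter.unusedSectionVars false

/-!
# Derived length of Sylow 2-subgroups of `Sp_{2n}(F)`
-/

namespace Cfsg.Agent.Helper42

open Matrix Equiv
open scoped commutatorElement

section monSp
variable {F : Type*} [Field F] {n : ℕ}

/-- the monomial group inside `Sp_{2n}(F)` -/
def monSp (F : Type*) [Field F] (n : ℕ) :
    Mon (SpecialLinearGroup (Fin 2) F) (Fin n) →* symplecticGroup (Fin n) F :=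
  SemidirectProduct.lift (bHom F n) (pHom F n) (by
    intro σ
    ext f : 1
    simp only [MonoidHom.comp_apply, MulEquiv.coe_toMonoidHom, MulAut.conj_apply]
    rw [eq_mul_inv_iff_mul_eq]
    exact (pHom_bHom σ f).symm)

theorem monSp_apply (x : Mon (SpecialLinearGroup (Fin 2) F) (Fin n)) :
    monSp F n x = bHom F n x.left * pHom F n x.right := rfl

theorem monSp_injective : Function.Injective (monSp F n) := by
  intro x y h
  rw [monSp_apply, monSp_apply] at h
  obtain ⟨h1, h2⟩ := bHom_pHom_inj h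
  exact SemidirectProduct.ext h1 h2

theorem map_monSub (Q : Subgroup (SpecialLinearGroup (Fin 2) F)) (T : Subgroup (Perm (Fin n))) :
    (monSub Q T).map (monSp F n) = spWr Q T := by
  ext g
  constructor
  · rintro ⟨x, ⟨hx1, hx2⟩, rfl⟩
    exact ⟨x.left, hx1, x.right, hx2, rfl⟩
  · rintro ⟨f, hf, σ, hσ, rfl⟩
    exact ⟨⟨f, σ⟩, ⟨hf, hσ⟩, rfl⟩

/-- `Q ≀ T` as an abstract group -/
noncomputable def monSubEquiv (Q : Subgroup (SpecialLinearGroup (Fin 2) F))
    (T : Subgroup (Perm (Fin n))) : ↥(monSub Q T) ≃* ↥(spWr Q T) :=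
  ((monSub Q T).equivMapOfInjective (monSp F n) monSp_injective).trans
    (MulEquiv.subgroupCongr (map_monSub Q T))

end monSp

section quaternion

/-- the cyclic subgroup `⟨a⟩` of the quaternion group -/
def quaternionA (n : ℕ) : Subgroup (QuaternionGroup n) where
  carrier := {x | ∃ i, x = QuaternionGroup.a i}
  mul_mem' := by
    rintro _ _ ⟨i, rfl⟩ ⟨j, rfl⟩
    exact ⟨i + j, QuaternionGroup.a_mul_a i j⟩
  one_mem' := ⟨0, QuaternionGroup.one_def⟩
  inv_mem' := by
    rintro _ ⟨i, rfl⟩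
    refine ⟨-i, ?_⟩
    apply inv_eq_of_mul_eq_one_right
    rw [QuaternionGroup.a_mul_a, add_neg_cancel, QuaternionGroup.a_zero]

theorem commutator_mem_quaternionA {n : ℕ} (g h : QuaternionGroup n) : ⁅g, h⁆ ∈ quaternionA n := by
  have hn : ((n : ZMod (2 * n)) + n) = 0 := by
    have := ZMod.natCast_self (2 * n)
    push_cast at this
    rw [← this]; ring
  have hinv_a : ∀ i : ZMod (2 * n), (QuaternionGroup.a i : QuaternionGroup n)⁻¹ =
      QuaternionGroup.a (-i) := by
    intro i
    apply inv_eq_of_mul_eq_one_right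
    rw [QuaternionGroup.a_mul_a, add_neg_cancel, QuaternionGroup.a_zero]
  have hinv_xa : ∀ i : ZMod (2 * n), (QuaternionGroup.xa i : QuaternionGroup n)⁻¹ =
      QuaternionGroup.xa ((n : ZMod (2 * n)) + i) := by
    intro i
    apply inv_eq_of_mul_eq_one_right
    rw [QuaternionGroup.xa_mul_xa]
    have : (n : ZMod (2 * n)) + (n + i) - i = 0 := by linear_combination hn
    rw [this, QuaternionGroup.a_zero]
  rw [commutatorElement_def]
  cases g with
  | a i =>
    cases h with
    | a j =>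
      rw [hinv_a, hinv_a, QuaternionGroup.a_mul_a, QuaternionGroup.a_mul_a, QuaternionGroup.a_mul_a]
      exact ⟨_, rfl⟩
    | xa j =>
      rw [hinv_a, hinv_xa, QuaternionGroup.a_mul_xa, QuaternionGroup.xa_mul_a,
        QuaternionGroup.xa_mul_xa]
      exact ⟨_, rfl⟩
  | xa i =>
    cases h with
    | a j =>
      rw [hinv_a, hinv_xa, QuaternionGroup.xa_mul_a, QuaternionGroup.xa_mul_xa,
        QuaternionGroup.a_mul_a]
      exact ⟨_, rfl⟩
    | xa j =>
      rw [hinv_xa, hinv_xa, QuaternionGroup.xa_mul_xa, QuaternionGroup.a_mul_xa,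
        QuaternionGroup.xa_mul_xa]
      exact ⟨_, rfl⟩

theorem derivedSeries_quaternion_two (n : ℕ) : derivedSeries (QuaternionGroup n) 2 = ⊥ := by
  have h1 : derivedSeries (QuaternionGroup n) 1 ≤ quaternionA n := by
    rw [derivedSeries_succ, derivedSeries_zero, Subgroup.commutator_le]
    intro g _ h _
    exact commutator_mem_quaternionA g h
  rw [derivedSeries_succ, eq_bot_iff]
  refine (Subgroup.commutator_mono h1 h1).trans ?_
  rw [Subgroup.commutator_le]
  rintro _ ⟨i, rfl⟩ _ ⟨j, rfl⟩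
  rw [Subgroup.mem_bot, commutatorElement_eq_one_iff_mul_comm, QuaternionGroup.a_mul_a,
    QuaternionGroup.a_mul_a, add_comm]

theorem derivedSeries_quaternion_one_ne_bot (k : ℕ) (hk : 1 ≤ k) :
    derivedSeries (QuaternionGroup (2 ^ k)) 1 ≠ ⊥ := by
  intro h
  have hmem : ⁅(QuaternionGroup.xa 0 : QuaternionGroup (2 ^ k)), QuaternionGroup.a 1⁆ ∈
      derivedSeries (QuaternionGroup (2 ^ k)) 1 := by
    rw [derivedSeries_succ, derivedSeries_zero]
    exact Subgroup.commutator_mem_commutator (Subgroup.mem_top _) (Subgroup.mem_top _)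
  rw [h, Subgroup.mem_bot, commutatorElement_eq_one_iff_mul_comm, QuaternionGroup.xa_mul_a,
    QuaternionGroup.a_mul_xa] at hmem
  have h2 : (0 + 1 : ZMod (2 * 2 ^ k)) = 0 - 1 := by
    injection hmem
  have h3 : ((2 : ℕ) : ZMod (2 * 2 ^ k)) = 0 := by
    push_cast
    linear_combination h2
  rw [ZMod.natCast_eq_zero_iff] at h3
  obtain ⟨m, rfl⟩ : ∃ m, k = m + 1 := ⟨k - 1, by omega⟩
  have : 2 * 2 ^ (m + 1) ≤ 2 := Nat.le_of_dvd (by norm_num) h3
  have : 2 ^ (m + 1) ≥ 2 := by
    calc 2 ^ (m + 1) ≥ 2 ^ 1 := Nat.pow_le_pow_right (by norm_num) (by omega)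
      _ = 2 := by norm_num
  omega

end quaternion

end Cfsg.Agent.Helper42
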