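import Mathlib
import Cfsg.Agent.Helper79.Mult.Defs

set_option autoImplicit false

universe u

namespace Cfsg.Agent.Helper42.Mult

open Cfsg Cfsg.Agent.Helper79.Mult

variable {G : Type u} [Group G] [Finite G]

/-- (AR) two different primes cannot both carry more than the square root. -/
theorem arith_two_primes (N p q d e : ℕ) (hN : 0 < N) (hp : p.Prime) (hq : q.Prime) (hpq : p ≠ q)
    (hd0 : 0 < d) (he0 : 0 < e)
    (hd : ordCompl[p] N ∣ d) (hd2 : d ^ 2 < N) (he : ordCompl[q] N ∣ e) (he2 : e ^ 2 < N) : False := by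
  have h1 : ordProj[p] N * ordCompl[p] N = N := Nat.ordProj_mul_ordCompl_eq_self N p
  have h2 : ordProj[q] N * ordCompl[q] N = N := Nat.ordProj_mul_ordCompl_eq_self N q
  have hcop : Nat.Coprime (ordProj[p] N) (ordProj[q] N) :=
    Nat.Coprime.pow _ _ ((Nat.coprime_primes hp hq).mpr hpq)
  generalize ordProj[p] N = a at *
  generalize ordProj[q] N = b at *
  generalize ha' : N / a = a' at *
  generalize hb' : N / b = b' at *
  have hbN : b ∣ N := Dvd.intro _ h2
  have haN : a ∣ N := Dvd.intro _ h1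
  have hba : b ∣ a' := by
    have : b ∣ a * a' := by rw [h1]; exact hbN
    exact hcop.symm.dvd_of_dvd_mul_left this
  have hab : a ∣ b' := by
    have : a ∣ b * b' := by rw [h2]; exact haN
    exact hcop.dvd_of_dvd_mul_left this
  have ha'0 : 0 < a' := Nat.pos_of_ne_zero (fun h => by rw [h, mul_zero] at h1; omega)
  have hb'0 : 0 < b' := Nat.pos_of_ne_zero (fun h => by rw [h, mul_zero] at h2; omega)
  have hd' : a' ≤ d := Nat.le_of_dvd hd0 hd
  have he' : b' ≤ e := Nat.le_of_dvd he0 he
  have h3 : a' * a' < a * a' := by nlinarith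
  have h4 : a' < a := Nat.lt_of_mul_lt_mul_right h3
  have h3' : b' * b' < b * b' := by nlinarith
  have h4' : b' < b := Nat.lt_of_mul_lt_mul_right h3'
  have h5 : b ≤ a' := Nat.le_of_dvd ha'0 hba
  have h6 : a ≤ b' := Nat.le_of_dvd hb'0 hab
  omega

end Cfsg.Agent.Helper42.Mult
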