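import Mathlib
import Cfsg.Agent.Helper79.Mult.Defs
import Cfsg.Agent.Helper74.CharBasic
import Cfsg.Agent.Helper74.FSCount

set_option autoImplicit false

universe u

namespace Cfsg.Agent.Helper42.Mult

open Cfsg Cfsg.Agent.Helper79.Mult

variable {G : Type u} [Group G] [Finite G]

/-- (DIV) a character vanishing on `R \ {1}` has degree divisible by `|R|`. -/
theorem card_dvd_degree (R : Subgroup G) (χ : IrrCharacter G)
    (hv : ∀ g ∈ R, g ≠ 1 → (χ : G → ℂ) g = 0) : Nat.card R ∣ Cfsg.charDegree (χ : G → ℂ) := by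
  classical
  let _ : Fintype R := Fintype.ofFinite R
  have hχ : IsCharacter G (χ : G → ℂ) := Cfsg.Agent.Helper74.irr_isCharacter χ
  have hχR : IsCharacter R (fun h : R => (χ : G → ℂ) h) :=
    Cfsg.Agent.Helper74.isCharacter_restrict R hχ
  obtain ⟨m, hm⟩ := Cfsg.Agent.Helper74.isCharacter_inner_irr_nat hχR (Cfsg.Agent.Helper74.irrTriv R)
  have hsum : ∑ h : R, (fun h : R => (χ : G → ℂ) h) h *
      (starRingEnd ℂ) ((Cfsg.Agent.Helper74.irrTriv R : R → ℂ) h) = (χ : G → ℂ) 1 := by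
    rw [Finset.sum_eq_single (1 : R)]
    · simp
    · intro b _ hb
      have : (b : G) ≠ 1 := fun h => hb (Subtype.ext h)
      simp [hv b b.2 this]
    · intro h; exact absurd (Finset.mem_univ _) h
  unfold classInner at hm
  rw [hsum] at hm
  have hc0 : (Nat.card R : ℂ) ≠ 0 := by
    exact_mod_cast Nat.card_pos.ne'
  have h1 : (χ : G → ℂ) 1 = (m : ℂ) * (Nat.card R : ℂ) := by
    field_simp at hm
    rw [hm]; ring
  have h2 : (Cfsg.charDegree (χ : G → ℂ) : ℂ) = ((m * Nat.card R : ℕ) : ℂ) := by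
    rw [Cfsg.Agent.Helper74.charDegree_cast hχ, h1]; push_cast; ring
  have h3 : Cfsg.charDegree (χ : G → ℂ) = m * Nat.card R := by exact_mod_cast h2
  exact ⟨m, by rw [h3]; ring⟩

end Cfsg.Agent.Helper42.Mult
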