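import Mathlib

/-!
# (FINAL) of helper58's S3614 farm: a faithful action inducing every even permutation but no
transposition is `A_p`
-/

set_option autoImplicit false

namespace Cfsg.Agent.Helper42.N4

open MulAction
open scoped Pointwise

/-- (FINAL) a faithful action inducing every even permutation but no transposition is `A_p` -/
theorem iso_alternatingGroup {G Ω : Type*} [Group G] [MulAction G Ω] [FaithfulSMul G Ω]
    [Fintype Ω] [DecidableEq Ω] (p : ℕ) (hΩ : Fintype.card Ω = p) (h2 : 2 ≤ p)
    (halt : ∀ σ : Equiv.Perm Ω, Equiv.Perm.sign σ = 1 →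
      ∃ x : G, (MulAction.toPerm x : Equiv.Perm Ω) = σ)
    (hnt : ∀ a b : Ω, a ≠ b → ∀ g : G, g • a = b → g • b = a →
      (∀ x, x ≠ a → x ≠ b → g • x = x) → False) :
    Nonempty (G ≃* alternatingGroup (Fin p)) := by
  classical
  -- two distinct points
  have hcard : 1 < Fintype.card Ω := by omega
  obtain ⟨a, b, hab⟩ := Fintype.exists_pair_of_one_lt_card hcard
  -- every element acts as an even permutation
  have hsign : ∀ g : G, Equiv.Perm.sign (MulAction.toPerm g : Equiv.Perm Ω) = 1 := by
    intro g
    rcases Int.units_eq_one_or (Equiv.Perm.sign (MulAction.toPerm g : Equiv.Perm Ω)) with h | h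
    · exact h
    · exfalso
      have h1 : Equiv.Perm.sign ((MulAction.toPerm g : Equiv.Perm Ω)⁻¹ * Equiv.swap a b) = 1 := by
        rw [map_mul, map_inv, h, Equiv.Perm.sign_swap hab]
        decide
      obtain ⟨x, hx⟩ := halt _ h1
      have h2 : (MulAction.toPerm (g * x) : Equiv.Perm Ω) = Equiv.swap a b := by
        have : (MulAction.toPerm (g * x) : Equiv.Perm Ω) =
            (MulAction.toPerm g : Equiv.Perm Ω) * (MulAction.toPerm x : Equiv.Perm Ω) :=
          map_mul (MulAction.toPermHom G Ω) g x
        rw [this, hx, mul_inv_cancel_left]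
      have h3 : ∀ y : Ω, (g * x) • y = Equiv.swap a b y := by
        intro y
        rw [← h2]
        rfl
      refine hnt a b hab (g * x) ?_ ?_ ?_
      · rw [h3, Equiv.swap_apply_left]
      · rw [h3, Equiv.swap_apply_right]
      · intro y hya hyb
        rw [h3, Equiv.swap_apply_of_ne_of_ne hya hyb]
  -- the isomorphism onto `alternatingGroup Ω`
  let f : G →* alternatingGroup Ω :=
    (MulAction.toPermHom G Ω).codRestrict (alternatingGroup Ω)
      (fun g => Equiv.Perm.mem_alternatingGroup.mpr (hsign g))
  have hinj : Function.Injective f := by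
    intro g h hgh
    have h1 : (MulAction.toPermHom G Ω) g = (MulAction.toPermHom G Ω) h :=
      congrArg Subtype.val hgh
    exact MulAction.toPerm_injective h1
  have hsurj : Function.Surjective f := by
    intro σ
    obtain ⟨x, hx⟩ := halt σ.1 (Equiv.Perm.mem_alternatingGroup.mp σ.2)
    exact ⟨x, Subtype.ext hx⟩
  have e1 : G ≃* alternatingGroup Ω := MulEquiv.ofBijective f ⟨hinj, hsurj⟩
  have e2 : alternatingGroup Ω ≃* alternatingGroup (Fin p) :=
    Equiv.altCongrHom (Fintype.equivFinOfCardEq hΩ)
  exact ⟨e1.trans e2⟩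

end Cfsg.Agent.Helper42.N4
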