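import Mathlib

set_option autoImplicit false

/-!
# Numerical bound for nilpotent subgroups of symmetric groups

`nilF n` is `2 ^ v₂(n!)` for `n % 4 ≠ 3` and `3 * 2 ^ v₂((n-3)!)` for `n % 4 = 3`.
-/

namespace Cfsg.Agent.Helper42

open Nat

/-- `v₂(n!)` via Legendre's recursion -/
def v2f (n : ℕ) : ℕ := if h : n = 0 then 0 else n / 2 + v2f (n / 2)
termination_by n
decreasing_by exact Nat.div_lt_self (Nat.pos_of_ne_zero h) (by decide)

theorem v2f_zero : v2f 0 = 0 := by rw [v2f]; simp

theorem v2f_of_pos (n : ℕ) (hn : n ≠ 0) : v2f n = n / 2 + v2f (n / 2) := by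
  rw [v2f]; simp [hn]

theorem v2f_two_mul (i : ℕ) : v2f (2 * i) = i + v2f i := by
  rcases Nat.eq_zero_or_pos i with rfl | hi
  · simp [v2f_zero]
  · rw [v2f_of_pos (2 * i) (by omega)]
    have : 2 * i / 2 = i := by omega
    rw [this]

theorem v2f_two_mul_add_one (i : ℕ) : v2f (2 * i + 1) = i + v2f i := by
  rw [v2f_of_pos (2 * i + 1) (by omega)]
  have : (2 * i + 1) / 2 = i := by omega
  rw [this]

theorem v2f_one : v2f 1 = 0 := by
  have := v2f_two_mul_add_one 0
  simpa [v2f_zero] using this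

theorem v2f_two : v2f 2 = 1 := by
  have := v2f_two_mul 1
  simpa [v2f_one] using this

theorem v2f_three : v2f 3 = 1 := by
  have := v2f_two_mul_add_one 1
  simpa [v2f_one] using this

theorem v2f_mono_succ (n : ℕ) : v2f n ≤ v2f (n + 1) := by
  induction n using Nat.strong_induction_on with
  | _ n ih =>
    rcases Nat.even_or_odd' n with ⟨i, rfl | rfl⟩
    · rw [v2f_two_mul, v2f_two_mul_add_one]
    · have e : 2 * i + 1 + 1 = 2 * (i + 1) := by ring
      rw [e, v2f_two_mul, v2f_two_mul_add_one]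
      have := ih i (by omega)
      omega

theorem v2f_mono {a b : ℕ} (h : a ≤ b) : v2f a ≤ v2f b := by
  induction b, h using Nat.le_induction with
  | base => exact le_rfl
  | succ b _ ih => exact ih.trans (v2f_mono_succ b)

theorem v2f_add_two (j : ℕ) : v2f j + 1 ≤ v2f (j + 2) := by
  rcases Nat.even_or_odd' j with ⟨i, rfl | rfl⟩
  · have e : 2 * i + 2 = 2 * (i + 1) := by ring
    rw [e, v2f_two_mul, v2f_two_mul]
    have := v2f_mono_succ i
    omega
  · have e : 2 * i + 1 + 2 = 2 * (i + 1) + 1 := by ring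
    rw [e, v2f_two_mul_add_one, v2f_two_mul_add_one]
    have := v2f_mono_succ i
    omega

theorem v2f_add (a b : ℕ) : v2f a + v2f b ≤ v2f (a + b) := by
  induction a using Nat.strong_induction_on generalizing b with
  | _ a ih =>
    rcases Nat.eq_zero_or_pos a with rfl | ha
    · simp [v2f_zero]
    · rcases Nat.eq_zero_or_pos b with rfl | hb
      · simp [v2f_zero]
      · rw [v2f_of_pos a (by omega), v2f_of_pos b (by omega), v2f_of_pos (a + b) (by omega)]
        have h1 := ih (a / 2) (by omega) (b / 2)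
        have h2 : v2f (a / 2 + b / 2) ≤ v2f ((a + b) / 2) := v2f_mono (by omega)
        have h3 : a / 2 + b / 2 ≤ (a + b) / 2 := by omega
        omega

/-- the normal form: `v2f (4 i + r)` -/
theorem v2f_four_mul (i : ℕ) : v2f (4 * i) = 3 * i + v2f i := by
  have e : 4 * i = 2 * (2 * i) := by ring
  rw [e, v2f_two_mul, v2f_two_mul]; ring

theorem v2f_four_mul_add_one (i : ℕ) : v2f (4 * i + 1) = 3 * i + v2f i := by
  have e : 4 * i + 1 = 2 * (2 * i) + 1 := by ring
  rw [e, v2f_two_mul_add_one, v2f_two_mul]; ring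

theorem v2f_four_mul_add_two (i : ℕ) : v2f (4 * i + 2) = 3 * i + 1 + v2f i := by
  have e : 4 * i + 2 = 2 * (2 * i + 1) := by ring
  rw [e, v2f_two_mul, v2f_two_mul_add_one]; ring

theorem v2f_four_mul_add_three (i : ℕ) : v2f (4 * i + 3) = 3 * i + 1 + v2f i := by
  have e : 4 * i + 3 = 2 * (2 * i + 1) + 1 := by ring
  rw [e, v2f_two_mul_add_one, v2f_two_mul_add_one]; ring

theorem padicValNat_two_factorial (n : ℕ) : padicValNat 2 n ! = v2f n := by
  induction n using Nat.strong_induction_on with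
  | _ n ih =>
    rcases Nat.even_or_odd' n with ⟨i, rfl | rfl⟩
    · rw [padicValNat_factorial_mul, v2f_two_mul]
      rcases Nat.eq_zero_or_pos i with rfl | hi
      · simp [v2f_zero]
      · rw [ih i (by omega)]; ring
    · rw [padicValNat_factorial_mul_add i (by norm_num : 1 < 2), padicValNat_factorial_mul,
        v2f_two_mul_add_one, ih i (by omega)]; ring

/-- the coefficient depending on `n % 4` -/
def nilC : ℕ → ℕ
  | 0 => 1
  | 1 => 1
  | 2 => 2
  | _ => 3

/-- the bound -/
def nilF (n : ℕ) : ℕ := nilC (n % 4) * 8 ^ (n / 4) * 2 ^ v2f (n / 4)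

theorem nilF_eq (i r : ℕ) (hr : r < 4) : nilF (4 * i + r) = nilC r * 8 ^ i * 2 ^ v2f i := by
  unfold nilF
  have h1 : (4 * i + r) % 4 = r := by omega
  have h2 : (4 * i + r) / 4 = i := by omega
  rw [h1, h2]

theorem exists_four_mul_add (n : ℕ) : ∃ i r, r < 4 ∧ n = 4 * i + r :=
  ⟨n / 4, n % 4, Nat.mod_lt _ (by norm_num), by omega⟩

theorem nilF_pos (n : ℕ) : 0 < nilF n := by
  obtain ⟨i, r, hr, rfl⟩ := exists_four_mul_add n
  rw [nilF_eq i r hr]
  have : 0 < nilC r := by interval_cases r <;> decide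
  positivity

theorem two_pow_v2f_le_nilF (n : ℕ) : 2 ^ v2f n ≤ nilF n := by
  obtain ⟨i, r, hr, rfl⟩ := exists_four_mul_add n
  rw [nilF_eq i r hr]
  have h8 : (8 : ℕ) ^ i = 2 ^ (3 * i) := by rw [pow_mul]; norm_num
  interval_cases r
  · rw [add_zero, v2f_four_mul, h8, pow_add]; simp [nilC]
  · rw [v2f_four_mul_add_one, h8, pow_add]; simp [nilC]
  · rw [v2f_four_mul_add_two, h8, pow_add, pow_add]; simp [nilC]; ring_nf; exact le_rfl
  · rw [v2f_four_mul_add_three, h8, pow_add, pow_add]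
    simp only [nilC, pow_one]
    have hp1 : 0 < 2 ^ (3 * i) * 2 ^ v2f i := by positivity
    have hp2 : 0 < 2 ^ (3 * i) := by positivity
    have hp3 : 0 < 2 ^ v2f i := by positivity
    nlinarith

theorem nilF_of_mod_ne (n : ℕ) (hn : n % 4 ≠ 3) : nilF n = 2 ^ v2f n := by
  obtain ⟨i, r, hr, rfl⟩ := exists_four_mul_add n
  rw [nilF_eq i r hr]
  have h8 : (8 : ℕ) ^ i = 2 ^ (3 * i) := by rw [pow_mul]; norm_num
  have hr3 : r ≠ 3 := by omega
  interval_cases r
  · rw [add_zero, v2f_four_mul, h8, pow_add]; simp [nilC]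
  · rw [v2f_four_mul_add_one, h8, pow_add]; simp [nilC]
  · rw [v2f_four_mul_add_two, h8, pow_add, pow_add]; simp [nilC]; ring
  · exact absurd rfl hr3

theorem nilF_mono_succ (n : ℕ) : nilF n ≤ nilF (n + 1) := by
  obtain ⟨i, r, hr, rfl⟩ := exists_four_mul_add n
  have hpos : 0 < 8 ^ i * 2 ^ v2f i := by positivity
  interval_cases r
  · rw [nilF_eq i 0 (by norm_num), nilF_eq i 1 (by norm_num)]
    simp only [nilC]; exact le_rfl
  · rw [nilF_eq i 1 (by norm_num), show 4 * i + 1 + 1 = 4 * i + 2 by ring, nilF_eq i 2 (by norm_num)]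
    simp only [nilC]; nlinarith
  · rw [nilF_eq i 2 (by norm_num), show 4 * i + 2 + 1 = 4 * i + 3 by ring, nilF_eq i 3 (by norm_num)]
    simp only [nilC]; nlinarith
  · rw [nilF_eq i 3 (by norm_num), show 4 * i + 3 + 1 = 4 * (i + 1) + 0 by ring,
      nilF_eq (i + 1) 0 (by norm_num)]
    simp only [nilC, pow_succ]
    have h1 : 2 ^ v2f i ≤ 2 ^ v2f (i + 1) := Nat.pow_le_pow_right (by norm_num) (v2f_mono_succ i)
    have hp8 : 0 < 8 ^ i := by positivity
    nlinarith [Nat.mul_le_mul_left (8 ^ i) h1]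

theorem nilF_mono {a b : ℕ} (h : a ≤ b) : nilF a ≤ nilF b := by
  induction b, h using Nat.le_induction with
  | base => exact le_rfl
  | succ b _ ih => exact ih.trans (nilF_mono_succ b)

theorem nilF_mul (a b : ℕ) : nilF a * nilF b ≤ nilF (a + b) := by
  obtain ⟨i, r, hr, rfl⟩ := exists_four_mul_add a
  obtain ⟨j, s, hs, rfl⟩ := exists_four_mul_add b
  rw [nilF_eq i r hr, nilF_eq j s hs]
  have hv : 2 ^ v2f i * 2 ^ v2f j ≤ 2 ^ v2f (i + j) := by
    rw [← pow_add]; exact Nat.pow_le_pow_right (by norm_num) (v2f_add i j)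
  have hv1 : 2 ^ v2f (i + j) ≤ 2 ^ v2f (i + j + 1) :=
    Nat.pow_le_pow_right (by norm_num) (v2f_mono_succ _)
  have h8 : (8 : ℕ) ^ i * 8 ^ j = 8 ^ (i + j) := by rw [pow_add]
  have key : nilC r * 8 ^ i * 2 ^ v2f i * (nilC s * 8 ^ j * 2 ^ v2f j) =
      nilC r * nilC s * (8 ^ (i + j) * (2 ^ v2f i * 2 ^ v2f j)) := by rw [← h8]; ring
  rw [key]
  by_cases hrs : r + s < 4
  · have e : 4 * i + r + (4 * j + s) = 4 * (i + j) + (r + s) := by ring
    rw [e, nilF_eq (i + j) (r + s) hrs]
    have hc : nilC r * nilC s ≤ nilC (r + s) := by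
      interval_cases r <;> interval_cases s <;> first | decide | omega
    calc nilC r * nilC s * (8 ^ (i + j) * (2 ^ v2f i * 2 ^ v2f j))
        ≤ nilC (r + s) * (8 ^ (i + j) * 2 ^ v2f (i + j)) :=
          Nat.mul_le_mul hc (Nat.mul_le_mul_left _ hv)
      _ = nilC (r + s) * 8 ^ (i + j) * 2 ^ v2f (i + j) := by ring
  · have e : 4 * i + r + (4 * j + s) = 4 * (i + j + 1) + (r + s - 4) := by omega
    rw [e, nilF_eq (i + j + 1) (r + s - 4) (by omega)]
    have hc : nilC r * nilC s ≤ 8 * nilC (r + s - 4) := by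
      interval_cases r <;> interval_cases s <;> first | decide | omega
    calc nilC r * nilC s * (8 ^ (i + j) * (2 ^ v2f i * 2 ^ v2f j))
        ≤ 8 * nilC (r + s - 4) * (8 ^ (i + j) * 2 ^ v2f (i + j + 1)) :=
          Nat.mul_le_mul hc (Nat.mul_le_mul_left _ (hv.trans hv1))
      _ = nilC (r + s - 4) * 8 ^ (i + j + 1) * 2 ^ v2f (i + j + 1) := by rw [pow_succ]; ring


theorem nilF_add_eight (n : ℕ) : 128 * nilF n ≤ nilF (n + 8) := by
  obtain ⟨i, r, hr, rfl⟩ := exists_four_mul_add n
  have e : 4 * i + r + 8 = 4 * (i + 2) + r := by ring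
  rw [e, nilF_eq i r hr, nilF_eq (i + 2) r hr]
  have h1 : 2 * 2 ^ v2f i ≤ 2 ^ v2f (i + 2) := by
    rw [← pow_succ']; exact Nat.pow_le_pow_right (by norm_num) (v2f_add_two i)
  calc 128 * (nilC r * 8 ^ i * 2 ^ v2f i) = nilC r * 8 ^ (i + 2) * (2 * 2 ^ v2f i) := by
        rw [pow_add]; ring
    _ ≤ nilC r * 8 ^ (i + 2) * 2 ^ v2f (i + 2) := Nat.mul_le_mul_left _ h1

theorem three_pow_le_nilF_sq_small (i r : ℕ) (hi : i < 4) (hr : r < 4) (h0 : 4 * i + r ≠ 0)
    (h5 : 4 * i + r ≠ 5) (h7 : 4 * i + r ≠ 7) :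
    3 ^ (4 * i + r - 1) ≤ nilF (4 * i + r) ^ 2 := by
  rw [nilF_eq i r hr]
  interval_cases i <;> interval_cases r <;>
    simp [nilC, v2f_zero, v2f_one, v2f_two, v2f_three] at h0 h5 h7 ⊢

theorem three_pow_le_nilF_sq (n : ℕ) (hn : 1 ≤ n) (h5 : n ≠ 5) (h7 : n ≠ 7) :
    3 ^ (n - 1) ≤ nilF n ^ 2 := by
  induction n using Nat.strong_induction_on with
  | _ n ih =>
    by_cases hsmall : n < 16
    · obtain ⟨i, r, hr, rfl⟩ := exists_four_mul_add n
      exact three_pow_le_nilF_sq_small i r (by omega) hr (by omega) h5 h7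
    · obtain ⟨m, rfl⟩ : ∃ m, n = m + 8 := ⟨n - 8, by omega⟩
      have h1 := ih m (by omega) (by omega) (by omega) (by omega)
      have h2 := nilF_add_eight m
      have e : m + 8 - 1 = (m - 1) + 8 := by omega
      rw [e, pow_add]
      calc 3 ^ (m - 1) * 3 ^ 8 ≤ nilF m ^ 2 * 128 ^ 2 := Nat.mul_le_mul h1 (by norm_num)
        _ = (128 * nilF m) ^ 2 := by ring
        _ ≤ nilF (m + 8) ^ 2 := Nat.pow_le_pow_left h2 2

theorem sq_le_three_pow (p : ℕ) (hp : 3 ≤ p) : p ^ 2 ≤ 3 ^ (p - 1) := by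
  induction p, hp using Nat.le_induction with
  | base => norm_num
  | succ p hp ih =>
    have e : p + 1 - 1 = (p - 1) + 1 := by omega
    rw [e, pow_succ]
    have h1 : (p + 1) ^ 2 ≤ p ^ 2 * 3 := by nlinarith
    exact h1.trans (Nat.mul_le_mul_right 3 ih)

theorem prime_pow_le_nilF (p j n : ℕ) (hp : p.Prime) (h : p ^ j ∣ n !) : p ^ j ≤ nilF n := by
  have : Fact p.Prime := ⟨hp⟩
  have hj : j ≤ padicValNat p n ! := (padicValNat_dvd_iff_le (Nat.factorial_ne_zero n)).mp h
  rcases hp.eq_two_or_odd' with rfl | hodd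
  · rw [padicValNat_two_factorial] at hj
    exact (Nat.pow_le_pow_right (by norm_num) hj).trans (two_pow_v2f_le_nilF n)
  · have hodd' : p % 2 = 1 := Nat.odd_iff.mp hodd
    have hp3 : 3 ≤ p := by
      have := hp.two_le
      omega
    rcases Nat.eq_zero_or_pos n with rfl | hn
    · have : p ^ j ∣ 1 := by simpa using h
      have := Nat.le_of_dvd (by norm_num) this
      exact this.trans (nilF_pos 0)
    · have hlt := sub_one_mul_padicValNat_factorial_lt_of_ne_zero p (n := n) (by omega)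
      have hj2 : (p - 1) * j < n := lt_of_le_of_lt (Nat.mul_le_mul_left _ hj) hlt
      by_cases h5 : n = 5
      · subst h5
        have hj3 : j ≤ 2 := by
          by_contra hc
          have : (p - 1) * j ≥ 2 * 3 := Nat.mul_le_mul (by omega) (by omega)
          omega
        interval_cases j
        · rw [pow_zero]; exact nilF_pos 5
        · rw [pow_one]
          have : p ≤ 5 := by omega
          have e : nilF 5 = 8 := by
            rw [show (5 : ℕ) = 4 * 1 + 1 by norm_num, nilF_eq 1 1 (by norm_num)]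
            simp [nilC, v2f_one]
          rw [e]; omega
        · have : p = 3 := by omega
          subst this
          exact absurd h (by decide)
      · by_cases h7 : n = 7
        · subst h7
          have e : nilF 7 = 24 := by
            rw [show (7 : ℕ) = 4 * 1 + 3 by norm_num, nilF_eq 1 3 (by norm_num)]
            simp [nilC, v2f_one]
          have hj3 : j ≤ 3 := by
            by_contra hc
            have : (p - 1) * j ≥ 2 * 4 := Nat.mul_le_mul (by omega) (by omega)
            omega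
          rw [e]
          interval_cases j
          · simp
          · rw [pow_one]; omega
          · have : p = 3 := by omega
            subst this; norm_num
          · have : p = 3 := by omega
            subst this
            exact absurd h (by decide)
        · have h1 := three_pow_le_nilF_sq n hn h5 h7
          have h2 := sq_le_three_pow p hp3
          have h3 : (p ^ j) ^ 2 ≤ nilF n ^ 2 := by
            calc (p ^ j) ^ 2 = (p ^ 2) ^ j := by rw [← pow_mul, ← pow_mul, mul_comm]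
              _ ≤ (3 ^ (p - 1)) ^ j := Nat.pow_le_pow_left h2 j
              _ = 3 ^ ((p - 1) * j) := by rw [← pow_mul]
              _ ≤ 3 ^ (n - 1) := Nat.pow_le_pow_right (by norm_num) (by omega)
              _ ≤ nilF n ^ 2 := h1
          exact (Nat.pow_le_pow_iff_left (by norm_num : (2 : ℕ) ≠ 0)).mp h3

end Cfsg.Agent.Helper42
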