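import Mathlib
import Cfsg.Agent.Helper42.NilpotentNum

set_option autoImplicit false
set_option linter.unusedSimpArgs false

/-!
# Numerical bound for nilpotent subgroups of alternating groups

`nilA n` is the largest order of a nilpotent subgroup of `A_n`: it is `nilF n / 2` for `n ≥ 10`.
-/

namespace Cfsg.Agent.Helper42

open Nat

theorem v2f_four : v2f 4 = 3 := by
  have := v2f_four_mul 1; simpa [v2f_one] using this

theorem v2f_five : v2f 5 = 3 := by
  have := v2f_four_mul_add_one 1; simpa [v2f_one] using this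

theorem v2f_six : v2f 6 = 4 := by
  have := v2f_four_mul_add_two 1; simpa [v2f_one] using this

theorem v2f_seven : v2f 7 = 4 := by
  have := v2f_four_mul_add_three 1; simpa [v2f_one] using this

theorem v2f_eight : v2f 8 = 7 := by
  have := v2f_four_mul 2; simpa [v2f_two] using this

theorem v2f_nine : v2f 9 = 7 := by
  have := v2f_four_mul_add_one 2; simpa [v2f_two] using this

theorem nilF_0 : nilF 0 = 1 := by
  rw [show (0 : ℕ) = 4 * 0 + 0 by norm_num, nilF_eq 0 0 (by norm_num)]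
  simp [nilC, v2f_zero, v2f_one, v2f_two, v2f_three, v2f_four, v2f_five]

theorem nilF_1 : nilF 1 = 1 := by
  rw [show (1 : ℕ) = 4 * 0 + 1 by norm_num, nilF_eq 0 1 (by norm_num)]
  simp [nilC, v2f_zero, v2f_one, v2f_two, v2f_three, v2f_four, v2f_five]

theorem nilF_2 : nilF 2 = 2 := by
  rw [show (2 : ℕ) = 4 * 0 + 2 by norm_num, nilF_eq 0 2 (by norm_num)]
  simp [nilC, v2f_zero, v2f_one, v2f_two, v2f_three, v2f_four, v2f_five]

theorem nilF_3 : nilF 3 = 3 := by
  rw [show (3 : ℕ) = 4 * 0 + 3 by norm_num, nilF_eq 0 3 (by norm_num)]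
  simp [nilC, v2f_zero, v2f_one, v2f_two, v2f_three, v2f_four, v2f_five]

theorem nilF_4 : nilF 4 = 8 := by
  rw [show (4 : ℕ) = 4 * 1 + 0 by norm_num, nilF_eq 1 0 (by norm_num)]
  simp [nilC, v2f_zero, v2f_one, v2f_two, v2f_three, v2f_four, v2f_five]

theorem nilF_5 : nilF 5 = 8 := by
  rw [show (5 : ℕ) = 4 * 1 + 1 by norm_num, nilF_eq 1 1 (by norm_num)]
  simp [nilC, v2f_zero, v2f_one, v2f_two, v2f_three, v2f_four, v2f_five]

theorem nilF_6 : nilF 6 = 16 := by
  rw [show (6 : ℕ) = 4 * 1 + 2 by norm_num, nilF_eq 1 2 (by norm_num)]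
  simp [nilC, v2f_zero, v2f_one, v2f_two, v2f_three, v2f_four, v2f_five]

theorem nilF_7 : nilF 7 = 24 := by
  rw [show (7 : ℕ) = 4 * 1 + 3 by norm_num, nilF_eq 1 3 (by norm_num)]
  simp [nilC, v2f_zero, v2f_one, v2f_two, v2f_three, v2f_four, v2f_five]

theorem nilF_8 : nilF 8 = 128 := by
  rw [show (8 : ℕ) = 4 * 2 + 0 by norm_num, nilF_eq 2 0 (by norm_num)]
  simp [nilC, v2f_zero, v2f_one, v2f_two, v2f_three, v2f_four, v2f_five]

theorem nilF_9 : nilF 9 = 128 := by
  rw [show (9 : ℕ) = 4 * 2 + 1 by norm_num, nilF_eq 2 1 (by norm_num)]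
  simp [nilC, v2f_zero, v2f_one, v2f_two, v2f_three, v2f_four, v2f_five]

theorem nilF_10 : nilF 10 = 256 := by
  rw [show (10 : ℕ) = 4 * 2 + 2 by norm_num, nilF_eq 2 2 (by norm_num)]
  simp [nilC, v2f_zero, v2f_one, v2f_two, v2f_three, v2f_four, v2f_five]

theorem nilF_11 : nilF 11 = 384 := by
  rw [show (11 : ℕ) = 4 * 2 + 3 by norm_num, nilF_eq 2 3 (by norm_num)]
  simp [nilC, v2f_zero, v2f_one, v2f_two, v2f_three, v2f_four, v2f_five]

theorem nilF_12 : nilF 12 = 1024 := by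
  rw [show (12 : ℕ) = 4 * 3 + 0 by norm_num, nilF_eq 3 0 (by norm_num)]
  simp [nilC, v2f_zero, v2f_one, v2f_two, v2f_three, v2f_four, v2f_five]

theorem nilF_13 : nilF 13 = 1024 := by
  rw [show (13 : ℕ) = 4 * 3 + 1 by norm_num, nilF_eq 3 1 (by norm_num)]
  simp [nilC, v2f_zero, v2f_one, v2f_two, v2f_three, v2f_four, v2f_five]

theorem nilF_14 : nilF 14 = 2048 := by
  rw [show (14 : ℕ) = 4 * 3 + 2 by norm_num, nilF_eq 3 2 (by norm_num)]
  simp [nilC, v2f_zero, v2f_one, v2f_two, v2f_three, v2f_four, v2f_five]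

theorem nilF_15 : nilF 15 = 3072 := by
  rw [show (15 : ℕ) = 4 * 3 + 3 by norm_num, nilF_eq 3 3 (by norm_num)]
  simp [nilC, v2f_zero, v2f_one, v2f_two, v2f_three, v2f_four, v2f_five]

theorem nilF_16 : nilF 16 = 32768 := by
  rw [show (16 : ℕ) = 4 * 4 + 0 by norm_num, nilF_eq 4 0 (by norm_num)]
  simp [nilC, v2f_zero, v2f_one, v2f_two, v2f_three, v2f_four, v2f_five]

theorem nilF_17 : nilF 17 = 32768 := by
  rw [show (17 : ℕ) = 4 * 4 + 1 by norm_num, nilF_eq 4 1 (by norm_num)]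
  simp [nilC, v2f_zero, v2f_one, v2f_two, v2f_three, v2f_four, v2f_five]

theorem nilF_18 : nilF 18 = 65536 := by
  rw [show (18 : ℕ) = 4 * 4 + 2 by norm_num, nilF_eq 4 2 (by norm_num)]
  simp [nilC, v2f_zero, v2f_one, v2f_two, v2f_three, v2f_four, v2f_five]

theorem nilF_19 : nilF 19 = 98304 := by
  rw [show (19 : ℕ) = 4 * 4 + 3 by norm_num, nilF_eq 4 3 (by norm_num)]
  simp [nilC, v2f_zero, v2f_one, v2f_two, v2f_three, v2f_four, v2f_five]

theorem nilF_20 : nilF 20 = 262144 := by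
  rw [show (20 : ℕ) = 4 * 5 + 0 by norm_num, nilF_eq 5 0 (by norm_num)]
  simp [nilC, v2f_zero, v2f_one, v2f_two, v2f_three, v2f_four, v2f_five]

theorem nilF_21 : nilF 21 = 262144 := by
  rw [show (21 : ℕ) = 4 * 5 + 1 by norm_num, nilF_eq 5 1 (by norm_num)]
  simp [nilC, v2f_zero, v2f_one, v2f_two, v2f_three, v2f_four, v2f_five]

theorem nilF_22 : nilF 22 = 524288 := by
  rw [show (22 : ℕ) = 4 * 5 + 2 by norm_num, nilF_eq 5 2 (by norm_num)]
  simp [nilC, v2f_zero, v2f_one, v2f_two, v2f_three, v2f_four, v2f_five]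

theorem nilF_23 : nilF 23 = 786432 := by
  rw [show (23 : ℕ) = 4 * 5 + 3 by norm_num, nilF_eq 5 3 (by norm_num)]
  simp [nilC, v2f_zero, v2f_one, v2f_two, v2f_three, v2f_four, v2f_five]


/-- the bound for alternating groups -/
def nilA : ℕ → ℕ
  | 0 => 1
  | 1 => 1
  | 2 => 1
  | 3 => 3
  | 4 => 4
  | 5 => 5
  | 6 => 9
  | 7 => 12
  | 8 => 64
  | 9 => 81
  | n + 10 => nilF (n + 10) / 2

theorem nilA_of_ge (n : ℕ) (h : 10 ≤ n) : nilA n = nilF n / 2 := by
  obtain ⟨m, rfl⟩ : ∃ m, n = m + 10 := ⟨n - 10, by omega⟩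
  rfl

theorem two_dvd_nilF (n : ℕ) (h : 4 ≤ n) : 2 ∣ nilF n := by
  obtain ⟨i, r, hr, rfl⟩ := exists_four_mul_add n
  rw [nilF_eq i r hr]
  obtain ⟨j, rfl⟩ : ∃ j, i = j + 1 := ⟨i - 1, by omega⟩
  rw [pow_succ]
  exact Dvd.dvd.mul_right (Dvd.dvd.mul_left (Dvd.dvd.mul_left (by norm_num) _) _) _

theorem two_mul_nilA (n : ℕ) (h : 10 ≤ n) : 2 * nilA n = nilF n := by
  rw [nilA_of_ge n h]
  exact Nat.mul_div_cancel' (two_dvd_nilF n (by omega))

theorem nilA_pos (n : ℕ) : 0 < nilA n := by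
  by_cases h : n < 10
  · interval_cases n <;> simp [nilA]
  · have := two_mul_nilA n (by omega)
    have := nilF_pos n
    omega

theorem nilF_le_two_mul_nilA (n : ℕ) (h : 2 ≤ n) : nilF n ≤ 2 * nilA n := by
  by_cases h10 : n < 10
  · interval_cases n <;> simp [nilA, nilF_2, nilF_3, nilF_4, nilF_5, nilF_6, nilF_7, nilF_8, nilF_9]
  · rw [two_mul_nilA n (by omega)]

theorem nilA_le_nilF (n : ℕ) : nilA n ≤ nilF n := by
  by_cases h10 : n < 10
  · interval_cases n <;>
      simp [nilA, nilF_0, nilF_1, nilF_2, nilF_3, nilF_4, nilF_5, nilF_6, nilF_7, nilF_8, nilF_9]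
  · rw [nilA_of_ge n (by omega)]; exact Nat.div_le_self _ _

theorem two_pow_v2f_le_two_mul_nilA (n : ℕ) (h : 2 ≤ n) : 2 ^ v2f n ≤ 2 * nilA n := by
  by_cases h10 : n < 10
  · interval_cases n <;>
      simp [nilA, v2f_two, v2f_three, v2f_four, v2f_five, v2f_six, v2f_seven, v2f_eight, v2f_nine]
  · rw [two_mul_nilA n (by omega)]; exact two_pow_v2f_le_nilF n

theorem nilA_mul (a b : ℕ) : nilA a * nilA b ≤ nilA (a + b) := by
  by_cases hab : a + b < 10
  · have ha : a < 10 := by omega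
    have hb : b < 10 := by omega
    interval_cases a <;> interval_cases b <;> first | omega | simp [nilA]
  · rw [nilA_of_ge (a + b) (by omega), Nat.le_div_iff_mul_le (by norm_num)]
    by_cases hb : 10 ≤ b
    · calc nilA a * nilA b * 2 = nilA a * (2 * nilA b) := by ring
        _ = nilA a * nilF b := by rw [two_mul_nilA b hb]
        _ ≤ nilF a * nilF b := Nat.mul_le_mul_right _ (nilA_le_nilF a)
        _ ≤ nilF (a + b) := nilF_mul a b
    · by_cases ha : 10 ≤ a
      · calc nilA a * nilA b * 2 = (2 * nilA a) * nilA b := by ring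
          _ = nilF a * nilA b := by rw [two_mul_nilA a ha]
          _ ≤ nilF a * nilF b := Nat.mul_le_mul_left _ (nilA_le_nilF b)
          _ ≤ nilF (a + b) := nilF_mul a b
      · have ha' : a < 10 := by omega
        have hb' : b < 10 := by omega
        interval_cases a <;> interval_cases b <;> first | omega |
          simp [nilA, nilF_10, nilF_11, nilF_12, nilF_13, nilF_14, nilF_15, nilF_16, nilF_17,
            nilF_18]

theorem two_mul_nilF_le_add_two (n : ℕ) : 2 * nilF n ≤ nilF (n + 2) := by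
  obtain ⟨i, r, hr, rfl⟩ := exists_four_mul_add n
  have hpos : 0 < 8 ^ i * 2 ^ v2f i := by positivity
  have h1 : 2 ^ v2f i ≤ 2 ^ v2f (i + 1) := Nat.pow_le_pow_right (by norm_num) (v2f_mono_succ i)
  have h2 : 8 ^ i * 2 ^ v2f i ≤ 8 ^ i * 2 ^ v2f (i + 1) := Nat.mul_le_mul_left _ h1
  interval_cases r
  · rw [nilF_eq i 0 (by norm_num), show 4 * i + 0 + 2 = 4 * i + 2 by ring, nilF_eq i 2 (by norm_num)]
    simp only [nilC]; nlinarith
  · rw [nilF_eq i 1 (by norm_num), show 4 * i + 1 + 2 = 4 * i + 3 by ring, nilF_eq i 3 (by norm_num)]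
    simp only [nilC]; nlinarith
  · rw [nilF_eq i 2 (by norm_num), show 4 * i + 2 + 2 = 4 * (i + 1) + 0 by ring,
      nilF_eq (i + 1) 0 (by norm_num)]
    simp only [nilC, pow_succ]; nlinarith
  · rw [nilF_eq i 3 (by norm_num), show 4 * i + 3 + 2 = 4 * (i + 1) + 1 by ring,
      nilF_eq (i + 1) 1 (by norm_num)]
    simp only [nilC, pow_succ]; nlinarith

theorem two_mul_nilF_mul_le (a b n : ℕ) (ha : 2 ≤ a) (hb : 2 ≤ b) (h : a * b ≤ n) :
    2 * (nilF a * nilF b) ≤ nilF n := by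
  by_cases h2 : a + b + 2 ≤ n
  · calc 2 * (nilF a * nilF b) ≤ 2 * nilF (a + b) := Nat.mul_le_mul_left _ (nilF_mul a b)
      _ ≤ nilF (a + b + 2) := two_mul_nilF_le_add_two _
      _ ≤ nilF n := nilF_mono h2
  · have ha3 : a ≤ 3 := by nlinarith
    have hb3 : b ≤ 3 := by nlinarith
    interval_cases a <;> interval_cases b
    · have : nilF 4 ≤ nilF n := nilF_mono (by omega)
      rw [nilF_4] at this
      rw [nilF_2]; omega
    · have : nilF 6 ≤ nilF n := nilF_mono (by omega)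
      rw [nilF_6] at this
      rw [nilF_2, nilF_3]; omega
    · have : nilF 6 ≤ nilF n := nilF_mono (by omega)
      rw [nilF_6] at this
      rw [nilF_2, nilF_3]; omega
    · omega


theorem nilA_10 : nilA 10 = 128 := by
  rw [nilA_of_ge 10 (by norm_num), nilF_10]

theorem nilA_11 : nilA 11 = 192 := by
  rw [nilA_of_ge 11 (by norm_num), nilF_11]

theorem nilA_12 : nilA 12 = 512 := by
  rw [nilA_of_ge 12 (by norm_num), nilF_12]

theorem nilA_13 : nilA 13 = 512 := by
  rw [nilA_of_ge 13 (by norm_num), nilF_13]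

theorem nilA_14 : nilA 14 = 1024 := by
  rw [nilA_of_ge 14 (by norm_num), nilF_14]

theorem nilA_15 : nilA 15 = 1536 := by
  rw [nilA_of_ge 15 (by norm_num), nilF_15]

theorem four_mul_three_pow_le_small (i r : ℕ) (hi4 : 4 ≤ i) (hi : i < 6) (hr : r < 4) :
    4 * 3 ^ (4 * i + r - 1) ≤ nilF (4 * i + r) ^ 2 := by
  rw [nilF_eq i r hr]
  interval_cases i <;> interval_cases r <;>
    simp [nilC, v2f_four, v2f_five]

theorem four_mul_three_pow_le (n : ℕ) (hn : 16 ≤ n) : 4 * 3 ^ (n - 1) ≤ nilF n ^ 2 := by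
  induction n using Nat.strong_induction_on with
  | _ n ih =>
    by_cases hsmall : n < 24
    · obtain ⟨i, r, hr, rfl⟩ := exists_four_mul_add n
      exact four_mul_three_pow_le_small i r (by omega) (by omega) hr
    · obtain ⟨m, rfl⟩ : ∃ m, n = m + 8 := ⟨n - 8, by omega⟩
      have h1 := ih m (by omega) (by omega)
      have h2 := nilF_add_eight m
      have e : m + 8 - 1 = (m - 1) + 8 := by omega
      rw [e, pow_add]
      calc 4 * (3 ^ (m - 1) * 3 ^ 8) = (4 * 3 ^ (m - 1)) * 3 ^ 8 := by ring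
        _ ≤ nilF m ^ 2 * 128 ^ 2 := Nat.mul_le_mul h1 (by norm_num)
        _ = (128 * nilF m) ^ 2 := by ring
        _ ≤ nilF (m + 8) ^ 2 := Nat.pow_le_pow_left h2 2

theorem odd_prime_pow_le_nilA (p j n : ℕ) (hp : p.Prime) (hodd : p ≠ 2) (h : p ^ j ∣ n !) :
    p ^ j ≤ nilA n := by
  have : Fact p.Prime := ⟨hp⟩
  have hj : j ≤ padicValNat p n ! := (padicValNat_dvd_iff_le (Nat.factorial_ne_zero n)).mp h
  have hodd' : p % 2 = 1 := by
    rcases hp.eq_two_or_odd with h2 | h2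
    · exact absurd h2 hodd
    · exact h2
  have hp3 : 3 ≤ p := by
    have := hp.two_le
    omega
  rcases Nat.eq_zero_or_pos j with rfl | hjpos
  · rw [pow_zero]; exact nilA_pos n
  rcases Nat.eq_zero_or_pos n with rfl | hn
  · have : p ^ j ∣ 1 := by simpa using h
    have := Nat.le_of_dvd (by norm_num) this
    exact this.trans (nilA_pos 0)
  have hlt := sub_one_mul_padicValNat_factorial_lt_of_ne_zero p (n := n) (by omega)
  have hj2 : (p - 1) * j < n := lt_of_le_of_lt (Nat.mul_le_mul_left _ hj) hlt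
  have hpn : p ≤ n := by
    have h1 : p ∣ n ! := (dvd_pow_self p (by omega)).trans h
    exact (hp.dvd_factorial).mp h1
  by_cases h16 : 16 ≤ n
  · have h1 := four_mul_three_pow_le n h16
    have h2 := sq_le_three_pow p hp3
    have h3 : (2 * p ^ j) ^ 2 ≤ nilF n ^ 2 := by
      calc (2 * p ^ j) ^ 2 = 4 * (p ^ 2) ^ j := by rw [mul_pow, ← pow_mul, ← pow_mul, mul_comm j 2]; norm_num
        _ ≤ 4 * (3 ^ (p - 1)) ^ j := Nat.mul_le_mul_left _ (Nat.pow_le_pow_left h2 j)
        _ = 4 * 3 ^ ((p - 1) * j) := by rw [← pow_mul]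
        _ ≤ 4 * 3 ^ (n - 1) := Nat.mul_le_mul_left _ (Nat.pow_le_pow_right (by norm_num) (by omega))
        _ ≤ nilF n ^ 2 := h1
    have h4 : 2 * p ^ j ≤ nilF n := (Nat.pow_le_pow_iff_left (by norm_num : (2 : ℕ) ≠ 0)).mp h3
    have h5 := two_mul_nilA n (by omega)
    omega
  · have hn16 : n < 16 := by omega
    clear hlt hj
    interval_cases n <;> interval_cases p <;> first
      | (exfalso; revert hp; decide)
      | omega
      | skip
    all_goals
      have hjb : j ≤ 7 := by omega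
      interval_cases j <;> first
        | omega
        | (simp [nilA, nilF_10, nilF_11, nilF_12, nilF_13, nilF_14, nilF_15]; done)
        | (exfalso; revert h; decide)

end Cfsg.Agent.Helper42
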