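import Mathlib
import Cfsg.Agent.Helper42.NilpotentNum

set_option autoImplicit false

/-!
# Nilpotent permutation groups have order at most `nilF n`
-/

namespace Cfsg.Agent.Helper42

open MulAction
open scoped commutatorElement

universe u

/-- In a nilpotent group, an element of order prime to `p` centralizes every normal `p`-subgroup. -/
theorem nilp_comm_of_coprime {G : Type*} [Group G] [Finite G] (hnil : Group.IsNilpotent G)
    {p : ℕ} [Fact p.Prime] (Q : Subgroup G) [hQn : Q.Normal] (hQ : IsPGroup p Q) (g : G)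
    (hg : (orderOf g).Coprime p) : ∀ x ∈ Q, x * g = g * x := by
  obtain ⟨r, hr⟩ := hnil.nilpotent'
  have claim : ∀ i : ℕ, ∀ x ∈ Q, x ∈ Subgroup.upperCentralSeries G i → x * g = g * x := by
    intro i
    induction i with
    | zero =>
      intro x _ hx
      rw [Subgroup.upperCentralSeries_zero, Subgroup.mem_bot] at hx
      rw [hx, one_mul, mul_one]
    | succ i ih =>
      intro x hxQ hx
      have hc : ⁅x, g⁆ ∈ Subgroup.upperCentralSeries G i :=
        Subgroup.mem_upperCentralSeries_succ_iff.mp hx g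
      rw [commutatorElement_def] at hc
      set c := x * g * x⁻¹ * g⁻¹ with hcdef
      have hcQ : c ∈ Q := by
        have e : c = x * (g * x⁻¹ * g⁻¹) := by rw [hcdef]; group
        rw [e]
        exact Q.mul_mem hxQ (hQn.conj_mem _ (Q.inv_mem hxQ) g)
      have hcg : Commute c g := ih c hcQ hc
      have e1 : x * g * x⁻¹ = c * g := by rw [hcdef]; group
      have e2 : (x * g * x⁻¹) ^ orderOf g = 1 := by
        rw [conj_pow, pow_orderOf_eq_one]; group
      rw [e1, hcg.mul_pow, pow_orderOf_eq_one, mul_one] at e2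
      obtain ⟨k, hk⟩ := hQ ⟨c, hcQ⟩
      have hk' : c ^ p ^ k = 1 := by
        have := congrArg Subtype.val hk
        simpa using this
      have h1 : orderOf c ∣ p ^ k := orderOf_dvd_of_pow_eq_one hk'
      have h2 : orderOf c ∣ orderOf g := orderOf_dvd_of_pow_eq_one e2
      have h3 : orderOf c = 1 :=
        Nat.Coprime.eq_one_of_dvd
          (Nat.Coprime.coprime_dvd_left h1 (Nat.Coprime.pow_left k hg.symm)) h2
      have hc1 : c = 1 := orderOf_eq_one_iff.mp h3
      have : x * g = c * g * x := by rw [hcdef]; group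
      rw [this, hc1, one_mul]
  intro x hx
  exact claim r x hx (by rw [hr]; trivial)

/-- commuting elements of coprime order: if the product fixes a point, so does each factor -/
theorem smul_eq_of_mul_smul_eq {G α : Type*} [Group G] [MulAction G α]
    {u v : G} (huv : Commute u v) (hcop : (orderOf u).Coprime (orderOf v)) {x : α}
    (h : (u * v) • x = x) : u • x = x ∧ v • x = x := by
  have key : ∀ (u v : G), Commute u v → (orderOf u).Coprime (orderOf v) →
      (u * v) • x = x → u • x = x := by
    intro u v huv hcop h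
    have hmem : u * v ∈ stabilizer G x := h
    have h1 : (u * v) ^ orderOf v ∈ stabilizer G x := Subgroup.pow_mem _ hmem _
    rw [huv.mul_pow, pow_orderOf_eq_one, mul_one] at h1
    obtain ⟨m, hm⟩ := exists_pow_eq_self_of_coprime hcop.symm
    have h2 : (u ^ orderOf v) ^ m ∈ stabilizer G x := Subgroup.pow_mem _ h1 _
    rw [hm] at h2
    exact h2
  refine ⟨key u v huv hcop h, key v u huv.symm hcop.symm ?_⟩
  rw [← huv.eq]; exact h

/-- If `G = Q P` acts faithfully and transitively, with `P` and `Q` commuting elementwise, then an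
element of `P` fixing the `P`-orbit of `x` pointwise is trivial. -/
theorem eq_one_of_fix_orbit {G α : Type*} [Group G] [MulAction G α] [FaithfulSMul G α]
    [IsPretransitive G α] (P Q : Subgroup G)
    (hPQ : ∀ g : G, ∃ u ∈ P, ∃ v ∈ Q, g = v * u)
    (hcomm : ∀ u ∈ P, ∀ v ∈ Q, u * v = v * u) (x : α) (u : G) (hu : u ∈ P)
    (h : ∀ w ∈ P, u • (w • x) = w • x) : u = 1 := by
  apply FaithfulSMul.eq_of_smul_eq_smul (α := α)
  intro y
  obtain ⟨g, rfl⟩ := exists_smul_eq G x y
  obtain ⟨u', hu', v', hv', rfl⟩ := hPQ g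
  rw [one_smul, ← mul_smul, ← mul_assoc, hcomm u hu v' hv', mul_assoc, mul_smul, mul_smul, h u' hu', mul_smul]


/-- faithfulness of `P` on the `P`-orbit of `x` -/
theorem faithful_orbit {G α : Type*} [Group G] [MulAction G α] [FaithfulSMul G α]
    [IsPretransitive G α] (P Q : Subgroup G)
    (hPQ : ∀ g : G, ∃ u ∈ P, ∃ v ∈ Q, g = v * u)
    (hcomm : ∀ u ∈ P, ∀ v ∈ Q, u * v = v * u) (x : α) :
    FaithfulSMul P (orbit P x) := by
  constructor
  intro m₁ m₂ h
  have h1 : ((m₂ : G)⁻¹ * (m₁ : G)) = 1 := by
    refine eq_one_of_fix_orbit P Q hPQ hcomm x _ (P.mul_mem (P.inv_mem m₂.2) m₁.2) ?_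
    intro w hw
    have h2 := h ⟨(⟨w, hw⟩ : P) • x, ⟨⟨w, hw⟩, rfl⟩⟩
    have h3 : (m₁ : G) • (w • x) = (m₂ : G) • (w • x) := congrArg Subtype.val h2
    rw [mul_smul, h3, inv_smul_smul]
  apply Subtype.ext
  exact (inv_mul_eq_one.mp h1).symm

theorem orbit_data {G α : Type*} [Group G] [MulAction G α] [FaithfulSMul G α]
    [IsPretransitive G α] [Finite α] (P Q : Subgroup G) (hPQ : P.IsComplement' Q)
    (hcomm : ∀ u ∈ P, ∀ v ∈ Q, u * v = v * u)
    (hcop : (Nat.card P).Coprime (Nat.card Q)) (hP : P ≠ ⊥) (hQ : Q ≠ ⊥) (x : α) :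
    FaithfulSMul P (orbit P x) ∧ FaithfulSMul Q (orbit Q x) ∧
      Nat.card (orbit P x) + Nat.card (orbit Q x) ≤ Nat.card α := by
  have hdec : ∀ g : G, ∃ u ∈ P, ∃ v ∈ Q, g = u * v := by
    intro g
    obtain ⟨⟨u, v⟩, huv⟩ := hPQ.2 g
    exact ⟨u.1, u.2, v.1, v.2, huv.symm⟩
  have hdec1 : ∀ g : G, ∃ u ∈ P, ∃ v ∈ Q, g = v * u := by
    intro g
    obtain ⟨u, hu, v, hv, rfl⟩ := hdec g
    exact ⟨u, hu, v, hv, hcomm u hu v hv⟩
  have hdec2 : ∀ g : G, ∃ v ∈ Q, ∃ u ∈ P, g = u * v := by
    intro g
    obtain ⟨u, hu, v, hv, rfl⟩ := hdec g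
    exact ⟨v, hv, u, hu, rfl⟩
  have hcomm' : ∀ v ∈ Q, ∀ u ∈ P, v * u = u * v := fun v hv u hu => (hcomm u hu v hv).symm
  have hord : ∀ u ∈ P, ∀ v ∈ Q, (orderOf u).Coprime (orderOf v) := by
    intro u hu v hv
    exact Nat.Coprime.coprime_dvd_left (P.orderOf_dvd_natCard hu)
      (Nat.Coprime.coprime_dvd_right (Q.orderOf_dvd_natCard hv) hcop)
  have hCP : ∀ u ∈ P, ∀ v ∈ Q, (u * v) • x = x → u • x = x ∧ v • x = x := by
    intro u hu v hv h
    exact smul_eq_of_mul_smul_eq (hcomm u hu v hv) (hord u hu v hv) h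
  have hF1 := faithful_orbit P Q hdec1 hcomm x
  have hF2 := faithful_orbit Q P hdec2 hcomm' x
  refine ⟨hF1, hF2, ?_⟩
  -- moved points
  have hmove : ∀ (P Q : Subgroup G), (∀ g : G, ∃ u ∈ P, ∃ v ∈ Q, g = v * u) →
      (∀ u ∈ P, ∀ v ∈ Q, u * v = v * u) → P ≠ ⊥ → ∃ u ∈ P, u • x ≠ x := by
    intro P Q h1 h2 hP
    by_contra hcon
    push Not at hcon
    apply hP
    rw [Subgroup.eq_bot_iff_forall]
    intro u hu
    refine eq_one_of_fix_orbit P Q h1 h2 x u hu ?_
    intro w hw
    rw [hcon w hw, hcon u hu]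
  obtain ⟨u₀, hu₀, hu₀x⟩ := hmove P Q hdec1 hcomm hP
  obtain ⟨v₀, hv₀, hv₀x⟩ := hmove Q P hdec2 hcomm' hQ
  set A : Set α := orbit P x with hA
  set B : Set α := orbit Q x with hB
  have hinter : A ∩ B = {x} := by
    ext y
    constructor
    · rintro ⟨⟨u, rfl⟩, ⟨v, hv⟩⟩
      have h1 : ((u : G)⁻¹ * (v : G)) • x = x := by
        rw [mul_smul]
        have : (v : G) • x = (u : G) • x := hv
        rw [this, inv_smul_smul]
      have h2 := (hCP _ (P.inv_mem u.2) _ v.2 h1).1
      have h3 : (u : G) • x = x := by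
        rw [inv_smul_eq_iff] at h2
        exact h2.symm
      exact h3
    · rintro rfl
      exact ⟨mem_orbit_self _, mem_orbit_self _⟩
  have hz : (u₀ * v₀) • x ∉ A ∪ B := by
    rintro (⟨u, hu⟩ | ⟨v, hv⟩)
    · have hu' : (u : G) • x = (u₀ * v₀) • x := hu
      have h1 : (((u : G)⁻¹ * u₀) * v₀) • x = x := by
        rw [mul_assoc, mul_smul, ← hu', inv_smul_smul]
      exact hv₀x (hCP _ (P.mul_mem (P.inv_mem u.2) hu₀) _ hv₀ h1).2
    · have hv' : (v : G) • x = (u₀ * v₀) • x := hv
      have h1 : (u₀ * ((v : G)⁻¹ * v₀)) • x = x := by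
        rw [← mul_assoc, hcomm u₀ hu₀ _ (Q.inv_mem v.2), mul_assoc, mul_smul, ← hv', inv_smul_smul]
      exact hu₀x (hCP _ hu₀ _ (Q.mul_mem (Q.inv_mem v.2) hv₀) h1).1
  have hc1 := Set.ncard_union_add_ncard_inter A B
  rw [hinter, Set.ncard_singleton] at hc1
  have hc2 := Set.ncard_insert_of_notMem hz
  have hc3 := Set.ncard_le_card (insert ((u₀ * v₀) • x) (A ∪ B))
  rw [Nat.card_coe_set_eq, Nat.card_coe_set_eq]
  omega


/-- a faithful action covered by two invariant parts -/
theorem card_le_mul_of_cover {G α : Type*} [Group G] [Finite G] [MulAction G α]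
    [FaithfulSMul G α] (S T : SubMulAction G α) (h : ∀ a, a ∈ S ∨ a ∈ T) :
    Nat.card G ≤
      Nat.card (toPermHom G S).range * Nat.card (toPermHom G T).range := by
  rw [← Nat.card_prod]
  have hfin1 : Finite (toPermHom G S).range := Set.finite_range _
  have hfin2 : Finite (toPermHom G T).range := Set.finite_range _
  refine Nat.card_le_card_of_injective
    (fun g => ((⟨toPermHom G S g, ⟨g, rfl⟩⟩ : (toPermHom G S).range),
      (⟨toPermHom G T g, ⟨g, rfl⟩⟩ : (toPermHom G T).range))) ?_
  intro g g' hgg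
  simp only [Prod.mk.injEq] at hgg
  have e1 : toPermHom G S g = toPermHom G S g' := congrArg Subtype.val hgg.1
  have e2 : toPermHom G T g = toPermHom G T g' := congrArg Subtype.val hgg.2
  apply FaithfulSMul.eq_of_smul_eq_smul (α := α)
  intro a
  rcases h a with ha | ha
  · have h1 := congrArg (fun σ => ((σ ⟨a, ha⟩ : S) : α)) e1
    simpa using h1
  · have h1 := congrArg (fun σ => ((σ ⟨a, ha⟩ : T) : α)) e2
    simpa using h1

theorem card_le_nilF_of_isPGroup {G α : Type*} [Group G] [MulAction G α] [FaithfulSMul G α]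
    [Finite α] {p : ℕ} [Fact p.Prime] (hG : IsPGroup p G) : Nat.card G ≤ nilF (Nat.card α) := by
  have : Finite G := Finite.of_injective _ (MulAction.toPerm_injective (α := G) (β := α))
  obtain ⟨k, hk⟩ := IsPGroup.iff_card.mp hG
  rw [hk]
  apply prime_pow_le_nilF p k _ Fact.out
  rw [← hk, ← Nat.card_perm]
  exact Subgroup.card_dvd_of_injective (toPermHom G α) MulAction.toPerm_injective

theorem card_le_nilF_aux (n : ℕ) : ∀ (G : Type u) [Group G] [Finite G] [Group.IsNilpotent G]
    (α : Type u) [Finite α] [MulAction G α] [FaithfulSMul G α],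
    Nat.card α = n → Nat.card G ≤ nilF n := by
  induction n using Nat.strong_induction_on with
  | _ n ih =>
    intro G _ _ hnil α _ _ _ hn
    by_cases hG1 : Nat.card G = 1
    · rw [hG1]; exact nilF_pos n
    rcases isEmpty_or_nonempty α with hemp | hne
    · exfalso
      apply hG1
      have : Subsingleton G := ⟨fun g g' =>
        FaithfulSMul.eq_of_smul_eq_smul (α := α) (fun a => (hemp.false a).elim)⟩
      exact Nat.card_unique
    by_cases htrans : IsPretransitive G α
    · -- transitive
      obtain ⟨x⟩ := hne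
      set p := (Nat.card G).minFac with hp
      have hpp : p.Prime := Nat.minFac_prime hG1
      have : Fact p.Prime := ⟨hpp⟩
      have hpdvd : p ∣ Nat.card G := Nat.minFac_dvd _
      let P : Sylow p G := default
      by_cases hPtop : (P : Subgroup G) = ⊤
      · have hG : IsPGroup p G := by
          have h1 := P.isPGroup'
          rw [hPtop] at h1
          exact h1.of_equiv Subgroup.topEquiv
        rw [← hn]; exact card_le_nilF_of_isPGroup hG
      · have hPbot : (P : Subgroup G) ≠ ⊥ := P.ne_bot_of_dvd_card hpdvd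
        obtain ⟨Q, hQ⟩ := Subgroup.exists_right_complement'_of_coprime (P.card_coprime_index)
        have hcard := hQ.card_mul_card
        have hcop : (Nat.card (P : Subgroup G)).Coprime (Nat.card Q) := by
          rw [← hQ.symm.index_eq_card]; exact P.card_coprime_index
        have hpP : p ∣ Nat.card (P : Subgroup G) := by
          obtain ⟨k, hk⟩ := IsPGroup.iff_card.mp P.isPGroup'
          rw [hk]
          rcases Nat.eq_zero_or_pos k with rfl | hkpos
          · exfalso
            apply hPbot
            rw [pow_zero] at hk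
            exact (Subgroup.card_eq_one).mp hk
          · exact dvd_pow_self p (by omega)
        have hcopQ : (Nat.card Q).Coprime p := (Nat.Coprime.coprime_dvd_left hpP hcop).symm
        have hcomm : ∀ u ∈ (P : Subgroup G), ∀ v ∈ Q, u * v = v * u := by
          intro u hu v hv
          exact nilp_comm_of_coprime hnil (P : Subgroup G) P.isPGroup' v
            (Nat.Coprime.coprime_dvd_left (Q.orderOf_dvd_natCard hv) hcopQ) u hu
        have hQbot : Q ≠ ⊥ := by
          rintro rfl
          apply hPtop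
          rw [← Subgroup.card_eq_iff_eq_top, ← hcard]
          simp
        obtain ⟨hF1, hF2, hab⟩ := orbit_data (P : Subgroup G) Q hQ hcomm hcop hPbot hQbot x
        have ha : 0 < Nat.card (orbit (P : Subgroup G) x) := by
          have : Nonempty (orbit (P : Subgroup G) x) := ⟨⟨x, mem_orbit_self x⟩⟩
          exact Nat.card_pos
        have hb : 0 < Nat.card (orbit Q x) := by
          have : Nonempty (orbit Q x) := ⟨⟨x, mem_orbit_self x⟩⟩
          exact Nat.card_pos
        have h1 := ih (Nat.card (orbit (P : Subgroup G) x)) (by omega) (P : Subgroup G)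
          (orbit (P : Subgroup G) x) rfl
        have h2 := ih (Nat.card (orbit Q x)) (by omega) Q (orbit Q x) rfl
        calc Nat.card G = Nat.card (P : Subgroup G) * Nat.card Q := hcard.symm
          _ ≤ nilF (Nat.card (orbit (P : Subgroup G) x)) * nilF (Nat.card (orbit Q x)) :=
            Nat.mul_le_mul h1 h2
          _ ≤ nilF (Nat.card (orbit (P : Subgroup G) x) + Nat.card (orbit Q x)) := nilF_mul _ _
          _ ≤ nilF n := nilF_mono (hn ▸ hab)
    · -- intransitive
      have hex : ∃ x y : α, ∀ g : G, g • x ≠ y := by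
        by_contra hcon
        push Not at hcon
        exact htrans ⟨hcon⟩
      obtain ⟨x, y, hxy⟩ := hex
      let S : SubMulAction G α := ⟨orbit G x, fun g a ha => by
        obtain ⟨h, rfl⟩ := ha
        exact ⟨g * h, mul_smul g h x⟩⟩
      let T : SubMulAction G α := ⟨(orbit G x)ᶜ, fun g a ha hga => by
        apply ha
        obtain ⟨h, hh⟩ := hga
        refine ⟨g⁻¹ * h, ?_⟩
        have : h • x = g • a := hh
        show (g⁻¹ * h) • x = a
        rw [mul_smul, this, inv_smul_smul]⟩
      have hcover : ∀ a, a ∈ S ∨ a ∈ T := fun a => Classical.em (a ∈ orbit G x)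
      have h0 := card_le_mul_of_cover S T hcover
      have hST : Nat.card S + Nat.card T = n := by
        rw [← hn]
        exact Set.ncard_add_ncard_compl (orbit G x)
      have hS : 0 < Nat.card S := by
        have : Nonempty S := ⟨⟨x, mem_orbit_self x⟩⟩
        exact Nat.card_pos
      have hT : 0 < Nat.card T := by
        have : Nonempty T := ⟨⟨y, fun ⟨g, hg⟩ => hxy g hg⟩⟩
        exact Nat.card_pos
      have hn1 : Group.IsNilpotent (toPermHom G S).range :=
        Group.nilpotent_of_surjective (toPermHom G S).rangeRestrict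
          (toPermHom G S).rangeRestrict_surjective
      have hn2 : Group.IsNilpotent (toPermHom G T).range :=
        Group.nilpotent_of_surjective (toPermHom G T).rangeRestrict
          (toPermHom G T).rangeRestrict_surjective
      have h1 := ih (Nat.card S) (by omega) (toPermHom G S).range S rfl
      have h2 := ih (Nat.card T) (by omega) (toPermHom G T).range T rfl
      calc Nat.card G ≤ Nat.card (toPermHom G S).range * Nat.card (toPermHom G T).range := h0
        _ ≤ nilF (Nat.card S) * nilF (Nat.card T) := Nat.mul_le_mul h1 h2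
        _ ≤ nilF (Nat.card S + Nat.card T) := nilF_mul _ _
        _ = nilF n := by rw [hST]

/-- A nilpotent group acting faithfully on `n` points has order at most `nilF n`. -/
theorem card_le_nilF (G : Type u) [Group G] [Finite G] [Group.IsNilpotent G]
    (α : Type u) [Finite α] [MulAction G α] [FaithfulSMul G α] :
    Nat.card G ≤ nilF (Nat.card α) :=
  card_le_nilF_aux _ G α rfl

end Cfsg.Agent.Helper42
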