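import Mathlib
import Cfsg.Agent.Helper42.NilpotentPerm

set_option autoImplicit false

/-!
# Extremal nilpotent subgroups of `S_n`, `n ≡ 3 (mod 4)`
-/

namespace Cfsg.Agent.Helper42

open Equiv Equiv.Perm

theorem nilF_three_mod (n : ℕ) (hn : n % 4 = 3) : nilF n = 3 * 2 ^ v2f (n - 3) := by
  obtain ⟨i, rfl⟩ : ∃ i, n = 4 * i + 3 := ⟨n / 4, by omega⟩
  rw [nilF_eq i 3 (by norm_num), show 4 * i + 3 - 3 = 4 * i by omega, v2f_four_mul]
  have h8 : (8 : ℕ) ^ i = 2 ^ (3 * i) := by rw [pow_mul]; norm_num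
  rw [h8, pow_add]
  simp only [nilC]
  ring

theorem v2f_pred_lt (i : ℕ) (hi : 1 ≤ i) : v2f (4 * i - 1) < v2f (4 * i) := by
  obtain ⟨j, rfl⟩ : ∃ j, i = j + 1 := ⟨i - 1, by omega⟩
  rw [show 4 * (j + 1) - 1 = 4 * j + 3 by omega, v2f_four_mul_add_three, v2f_four_mul]
  have := v2f_mono_succ j
  omega

theorem v2f_split_lt (n k : ℕ) (hn : n % 4 = 3) (hk : 2 ≤ k) (h3k : 3 * k ≤ n) :
    v2f (n - 3 * k) + v2f k < v2f (n - 3) := by
  obtain ⟨i, rfl⟩ : ∃ i, n = 4 * i + 3 := ⟨n / 4, by omega⟩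
  have hi : 1 ≤ i := by omega
  have h1 := v2f_add (4 * i + 3 - 3 * k) k
  have h2 : v2f (4 * i + 3 - 3 * k + k) ≤ v2f (4 * i - 1) := v2f_mono (by omega)
  have h3 := v2f_pred_lt i hi
  rw [show 4 * i + 3 - 3 = 4 * i by omega]
  omega


/-- a permutation of order prime to 3 commuting with a 3-cycle is disjoint from it -/
theorem disjoint_of_commute_threeCycle {α : Type*} [Fintype α] [DecidableEq α] {c t : Perm α}
    (hc : c.IsThreeCycle) (htc : Commute t c) (ht : (orderOf t).Coprime 3) :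
    Perm.Disjoint t c := by
  intro x
  by_cases hx : c x = x
  · exact Or.inr hx
  left
  have hcyc := hc.isCycle
  have htx : c (t x) ≠ t x := by
    intro h
    apply hx
    have h1 : t (c x) = c (t x) := by
      have := congrArg (fun σ : Perm α => σ x) htc.eq
      simpa using this
    rw [← h1] at h
    exact t.injective h
  obtain ⟨j, hj⟩ := hcyc.exists_pow_eq hx htx
  have hpow : ∀ r : ℕ, (t ^ r) x = (c ^ (j * r)) x := by
    intro r
    induction r with
    | zero => simp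
    | succ r ih =>
      rw [pow_succ', Perm.mul_apply, ih]
      have hcomm : Commute t (c ^ (j * r)) := htc.pow_right _
      have h1 : t ((c ^ (j * r)) x) = (c ^ (j * r)) (t x) := by
        have := congrArg (fun σ : Perm α => σ x) hcomm.eq
        simpa using this
      rw [h1, ← hj, ← Perm.mul_apply, ← pow_add]
      congr 2
  have h1 := hpow (orderOf t)
  rw [pow_orderOf_eq_one, Perm.one_apply] at h1
  have h2 : c ^ (j * orderOf t) = 1 := (hcyc.pow_eq_one_iff' hx).mpr h1.symm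
  have h3 : 3 ∣ j * orderOf t := by
    rw [← hc.orderOf]; exact orderOf_dvd_of_pow_eq_one h2
  have h4 : 3 ∣ j := (Nat.Coprime.dvd_of_dvd_mul_right ht.symm h3)
  have h5 : c ^ j = 1 := by
    obtain ⟨q, rfl⟩ := h4
    rw [pow_mul, ← hc.orderOf, pow_orderOf_eq_one, one_pow]
  rw [← hj, h5, Perm.one_apply]


theorem factorization_three_mul_two_pow (m : ℕ) : (3 * 2 ^ m).factorization 2 = m := by
  rw [Nat.factorization_mul (by norm_num) (by positivity), Nat.factorization_pow]
  simp [Nat.factorization_eq_zero_of_not_dvd (show ¬ 2 ∣ 3 by norm_num),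
    Nat.prime_two.factorization_self]

/-- the cycle type of an element of order 3 centralized by a large 2-group -/
theorem isThreeCycle_of_centralized {n : ℕ} (hn : n % 4 = 3) (c : Perm (Fin n))
    (hc : orderOf c = 3) (T : Subgroup (Perm (Fin n))) (hT : Nat.card T = 2 ^ v2f (n - 3))
    (hcomm : ∀ t ∈ T, Commute t c) : c.IsThreeCycle := by
  obtain ⟨k', hk'⟩ := cycleType_prime_order (σ := c) (by rw [hc]; exact Nat.prime_three)
  rw [hc] at hk'
  have hle : T ≤ Subgroup.centralizer {c} := by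
    intro t ht
    rw [Subgroup.mem_centralizer_iff]
    intro h hh
    rw [Set.mem_singleton_iff] at hh
    subst hh
    exact ((hcomm t ht).eq).symm
  have hdvd := Subgroup.card_dvd_of_le hle
  rw [hT, nat_card_centralizer, hk'] at hdvd
  have hsum : c.cycleType.sum ≤ n := by
    have := sum_cycleType_le c
    simpa using this
  rw [hk'] at hsum
  simp only [Multiset.sum_replicate, smul_eq_mul, Multiset.prod_replicate, Fintype.card_fin,
    Multiset.toFinset_replicate, Nat.add_eq_zero_iff, one_ne_zero, and_false, ↓reduceIte,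
    Finset.prod_singleton, Multiset.count_replicate_self] at hdvd hsum
  rcases Nat.eq_zero_or_pos k' with rfl | hkpos
  · rw [IsThreeCycle, hk']; rfl
  · exfalso
    have h1 : 2 ^ v2f (n - 3) ∣ (n - (k' + 1) * 3).factorial * (k' + 1).factorial := by
      have hcop : Nat.Coprime (2 ^ v2f (n - 3)) (3 ^ (k' + 1)) :=
        Nat.Coprime.pow _ _ (by norm_num)
      have e : (n - (k' + 1) * 3).factorial * 3 ^ (k' + 1) * (k' + 1).factorial =
          3 ^ (k' + 1) * ((n - (k' + 1) * 3).factorial * (k' + 1).factorial) := by ring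
      rw [e] at hdvd
      exact hcop.dvd_of_dvd_mul_left hdvd
    have : Fact (Nat.Prime 2) := ⟨Nat.prime_two⟩
    have h2 := (padicValNat_dvd_iff_le (p := 2)
      (mul_ne_zero (Nat.factorial_ne_zero _) (Nat.factorial_ne_zero _))).mp h1
    rw [padicValNat.mul (Nat.factorial_ne_zero _) (Nat.factorial_ne_zero _),
      padicValNat_two_factorial, padicValNat_two_factorial] at h2
    have h3 := v2f_split_lt n (k' + 1) hn (by omega) (by omega)
    rw [show 3 * (k' + 1) = (k' + 1) * 3 by ring] at h3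
    omega

/-- structure of a nilpotent subgroup of `S_n` of order `3 * 2 ^ v₂((n-3)!)`, `n ≡ 3 (mod 4)` -/
theorem structure_of_max {n : ℕ} (hn : n % 4 = 3) (N : Subgroup (Perm (Fin n)))
    (hN : Group.IsNilpotent N) (hcard : Nat.card N = 3 * 2 ^ v2f (n - 3)) :
    ∃ (c : Perm (Fin n)) (T : Subgroup (Perm (Fin n))), c.IsThreeCycle ∧
      Nat.card T = 2 ^ v2f (n - 3) ∧ (∀ t ∈ T, Perm.Disjoint t c) ∧
      N = Subgroup.zpowers c ⊔ T := by
  have : Fact (Nat.Prime 3) := ⟨Nat.prime_three⟩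
  have : Fact (Nat.Prime 2) := ⟨Nat.prime_two⟩
  obtain ⟨c₀, hc₀⟩ := exists_prime_orderOf_dvd_card' (G := N) 3
    (by rw [hcard]; exact dvd_mul_right 3 _)
  let T₀ : Sylow 2 N := default
  have hT₀card : Nat.card T₀ = 2 ^ v2f (n - 3) := by
    rw [Sylow.card_eq_multiplicity, hcard, factorization_three_mul_two_pow]
  set c : Perm (Fin n) := (c₀ : Perm (Fin n)) with hcdef
  have hc : orderOf c = 3 := by rw [hcdef, Subgroup.orderOf_coe, hc₀]
  set T : Subgroup (Perm (Fin n)) := (T₀ : Subgroup N).map N.subtype with hTdef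
  have hTcard : Nat.card T = 2 ^ v2f (n - 3) := by
    rw [hTdef, Subgroup.card_map_of_injective N.subtype_injective, hT₀card]
  have hcomm : ∀ t ∈ T, Commute t c := by
    intro t ht
    obtain ⟨t₀, ht₀, rfl⟩ := ht
    have h := nilp_comm_of_coprime hN (T₀ : Subgroup N) T₀.isPGroup' c₀
      (by rw [hc₀]; norm_num) t₀ ht₀
    have h' := congrArg (Subtype.val) h
    exact h'
  have hc3 : c.IsThreeCycle := isThreeCycle_of_centralized hn c hc T hTcard hcomm
  refine ⟨c, T, hc3, hTcard, ?_, ?_⟩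
  · intro t ht
    refine disjoint_of_commute_threeCycle hc3 (hcomm t ht) ?_
    have h1 : orderOf t ∣ 2 ^ v2f (n - 3) := hTcard ▸ T.orderOf_dvd_natCard ht
    exact Nat.Coprime.coprime_dvd_left h1 (Nat.Coprime.pow_left _ (by norm_num))
  · have hle : Subgroup.zpowers c ⊔ T ≤ N := by
      rw [sup_le_iff]
      refine ⟨?_, ?_⟩
      · rw [Subgroup.zpowers_le]; exact c₀.2
      · rw [hTdef]; exact Subgroup.map_subtype_le _
    refine (Subgroup.eq_of_le_of_card_ge hle ?_).symm
    have h3 : 3 ∣ Nat.card (Subgroup.zpowers c ⊔ T : Subgroup (Perm (Fin n))) := by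
      have := Subgroup.card_dvd_of_le (le_sup_left : Subgroup.zpowers c ≤ Subgroup.zpowers c ⊔ T)
      rwa [Nat.card_zpowers, hc] at this
    have h2 : 2 ^ v2f (n - 3) ∣ Nat.card (Subgroup.zpowers c ⊔ T : Subgroup (Perm (Fin n))) := by
      have := Subgroup.card_dvd_of_le (le_sup_right : T ≤ Subgroup.zpowers c ⊔ T)
      rwa [hTcard] at this
    have hcop : Nat.Coprime 3 (2 ^ v2f (n - 3)) := Nat.Coprime.pow_right _ (by norm_num)
    have h6 := hcop.mul_dvd_of_dvd_of_dvd h3 h2
    rw [hcard]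
    exact Nat.le_of_dvd Nat.card_pos h6


/-- two subgroups of Sylow order are conjugate -/
theorem exists_conj_of_card_sylow {G : Type*} [Group G] [Finite G] {p : ℕ} [Fact p.Prime]
    (H K : Subgroup G) (hH : Nat.card H = p ^ (Nat.card G).factorization p)
    (hK : Nat.card K = p ^ (Nat.card G).factorization p) :
    ∃ g : G, K = H.map (MulAut.conj g).toMonoidHom := by
  obtain ⟨g, hg⟩ := MulAction.exists_smul_eq G (Sylow.ofCard H hH) (Sylow.ofCard K hK)
  refine ⟨g, ?_⟩
  have h1 := congrArg (fun P : Sylow p G => (P : Subgroup G)) hg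
  simp only [Sylow.coe_subgroup_smul, Sylow.coe_ofCard] at h1
  rw [← h1]
  rfl

theorem conj_of_structure {n : ℕ} (c₁ c₂ : Perm (Fin n)) (T₁ T₂ : Subgroup (Perm (Fin n)))
    (h₁ : c₁.IsThreeCycle) (h₂ : c₂.IsThreeCycle)
    (hT₁ : Nat.card T₁ = 2 ^ v2f (n - 3)) (hT₂ : Nat.card T₂ = 2 ^ v2f (n - 3))
    (hd₁ : ∀ t ∈ T₁, Perm.Disjoint t c₁) (hd₂ : ∀ t ∈ T₂, Perm.Disjoint t c₂) :
    ∃ g : Perm (Fin n), Subgroup.zpowers c₂ ⊔ T₂ =
      (Subgroup.zpowers c₁ ⊔ T₁).map (MulAut.conj g).toMonoidHom := by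
  have : Fact (Nat.Prime 2) := ⟨Nat.prime_two⟩
  obtain ⟨g₀, hg₀⟩ : ∃ g₀, g₀ * c₁ * g₀⁻¹ = c₂ :=
    isConj_iff.mp ((isConj_iff_cycleType_eq).mpr (h₁.cycleType.trans h₂.cycleType.symm))
  set T₁' : Subgroup (Perm (Fin n)) := T₁.map (MulAut.conj g₀).toMonoidHom with hT₁'def
  have hT₁'card : Nat.card T₁' = 2 ^ v2f (n - 3) := by
    rw [hT₁'def, Subgroup.card_map_of_injective (MulAut.conj g₀).injective, hT₁]
  have hd₁' : ∀ t ∈ T₁', Perm.Disjoint t c₂ := by
    intro t ht
    obtain ⟨t₀, ht₀, rfl⟩ := ht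
    rw [← hg₀]
    exact (hd₁ t₀ ht₀).conj g₀
  -- the subgroup of permutations disjoint from c₂
  let ι : Perm {x // x ∉ c₂.support} →* Perm (Fin n) := ofSubtype
  have hι : Function.Injective ι := ofSubtype_injective
  have hrange : ∀ t : Perm (Fin n), Perm.Disjoint t c₂ → t ∈ ι.range := by
    intro t ht
    rw [mem_range_ofSubtype_iff]
    intro x hx
    have hx' : x ∈ t.support := hx
    have := (disjoint_iff_disjoint_support.mp ht)
    exact Finset.disjoint_left.mp this hx'
  have hdisj : ∀ s : Perm {x // x ∉ c₂.support}, Perm.Disjoint (ι s) c₂ := by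
    intro s
    rw [disjoint_iff_disjoint_support, Finset.disjoint_left]
    intro x hx
    have h1 : ι s ∈ ι.range := ⟨s, rfl⟩
    rw [mem_range_ofSubtype_iff] at h1
    exact h1 hx
  set A₁ := T₁'.comap ι with hA₁
  set A₂ := T₂.comap ι with hA₂
  have hA₁map : A₁.map ι = T₁' :=
    Subgroup.map_comap_eq_self (fun t ht => hrange t (hd₁' t ht))
  have hA₂map : A₂.map ι = T₂ :=
    Subgroup.map_comap_eq_self (fun t ht => hrange t (hd₂ t ht))
  have hcardS : Nat.card (Perm {x // x ∉ c₂.support}) = (n - 3).factorial := by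
    rw [Nat.card_perm, Nat.card_eq_fintype_card, Fintype.card_subtype_compl, Fintype.card_fin,
      Fintype.card_coe, h₂.card_support]
  have hfac : (Nat.card (Perm {x // x ∉ c₂.support})).factorization 2 = v2f (n - 3) := by
    rw [hcardS, Nat.factorization_def _ Nat.prime_two, padicValNat_two_factorial]
  have hA₁card : Nat.card A₁ = 2 ^ (Nat.card (Perm {x // x ∉ c₂.support})).factorization 2 := by
    rw [hfac, ← hT₁'card, ← hA₁map, Subgroup.card_map_of_injective hι]
  have hA₂card : Nat.card A₂ = 2 ^ (Nat.card (Perm {x // x ∉ c₂.support})).factorization 2 := by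
    rw [hfac, ← hT₂, ← hA₂map, Subgroup.card_map_of_injective hι]
  obtain ⟨h', hh'⟩ := exists_conj_of_card_sylow A₁ A₂ hA₁card hA₂card
  refine ⟨ι h' * g₀, ?_⟩
  rw [Subgroup.map_sup, MonoidHom.map_zpowers]
  have hcomm : Commute (ι h') c₂ := (hdisj h').commute
  have e1 : (MulAut.conj (ι h' * g₀)).toMonoidHom c₁ = c₂ := by
    show (MulAut.conj (ι h' * g₀)) c₁ = c₂
    rw [MulAut.conj_apply, mul_inv_rev]
    calc ι h' * g₀ * c₁ * (g₀⁻¹ * (ι h')⁻¹) = ι h' * (g₀ * c₁ * g₀⁻¹) * (ι h')⁻¹ := by group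
      _ = c₂ := by rw [hg₀, hcomm.eq, mul_inv_cancel_right]
  have e2 : T₁.map (MulAut.conj (ι h' * g₀)).toMonoidHom = T₂ := by
    have hcomp : (MulAut.conj (ι h' * g₀)).toMonoidHom =
        ((MulAut.conj (ι h')).toMonoidHom).comp (MulAut.conj g₀).toMonoidHom := by
      ext1 x
      simp [MulAut.conj_apply, mul_assoc]
    rw [hcomp, ← Subgroup.map_map, ← hT₁'def, ← hA₁map, Subgroup.map_map]
    have hcomp2 : ((MulAut.conj (ι h')).toMonoidHom).comp ι =
        ι.comp (MulAut.conj h').toMonoidHom := by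
      ext1 x
      simp [MulAut.conj_apply]
    rw [hcomp2, ← Subgroup.map_map, ← hh', hA₂map]
  rw [e1, e2]


/-- the translation action of `ZMod 3` -/
def zmodShift : Multiplicative (ZMod 3) →* Perm (ZMod 3) where
  toFun z := Equiv.addLeft (Multiplicative.toAdd z)
  map_one' := by ext x; simp
  map_mul' a b := by ext x; simp

theorem zmodShift_injective : Function.Injective zmodShift := by
  intro a b hab
  have h := congrArg (fun σ : Perm (ZMod 3) => σ 0) hab
  simpa [zmodShift] using h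

/-- embedding of `H × C₃` into `S_n` -/
theorem exists_prod_embedding {n : ℕ} (hn : 3 ≤ n) (H : Subgroup (Perm (Fin (n - 3)))) :
    ∃ φ : ↥H × Multiplicative (ZMod 3) →* Perm (Fin n), Function.Injective φ := by
  have hcard : Fintype.card (Fin (n - 3) ⊕ ZMod 3) = n := by
    rw [Fintype.card_sum, Fintype.card_fin, ZMod.card]; omega
  let e : Fin (n - 3) ⊕ ZMod 3 ≃ Fin n := Fintype.equivFinOfCardEq hcard
  refine ⟨(e.permCongrHom.toMonoidHom).comp
    ((sumCongrHom (Fin (n - 3)) (ZMod 3)).comp (MonoidHom.prodMap H.subtype zmodShift)), ?_⟩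
  intro a b hab
  have h1 := e.permCongrHom.injective hab
  have h2 := sumCongrHom_injective h1
  have h3 : (H.subtype a.1, zmodShift a.2) = (H.subtype b.1, zmodShift b.2) := h2
  rw [Prod.mk.injEq] at h3
  refine Prod.ext ?_ ?_
  · exact H.subtype_injective h3.1
  · exact zmodShift_injective h3.2

theorem exists_max {n : ℕ} (hn : 3 ≤ n) (P : Sylow 2 (Perm (Fin (n - 3)))) :
    ∃ M : Subgroup (Perm (Fin n)), Group.IsNilpotent M ∧ Nat.card M = 3 * Nat.card P ∧
      Nonempty (M ≃* (↥(P : Subgroup (Perm (Fin (n - 3)))) × Multiplicative (ZMod 3))) := by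
  have : Fact (Nat.Prime 2) := ⟨Nat.prime_two⟩
  obtain ⟨φ, hφ⟩ := exists_prod_embedding hn (P : Subgroup (Perm (Fin (n - 3))))
  have e : (↥(P : Subgroup (Perm (Fin (n - 3)))) × Multiplicative (ZMod 3)) ≃* φ.range :=
    MonoidHom.ofInjective hφ
  have hnilP : Group.IsNilpotent ↥(P : Subgroup (Perm (Fin (n - 3)))) := P.isPGroup'.isNilpotent
  have hnil : Group.IsNilpotent
      (↥(P : Subgroup (Perm (Fin (n - 3)))) × Multiplicative (ZMod 3)) := inferInstance
  refine ⟨φ.range, Group.nilpotent_of_mulEquiv e, ?_, ⟨e.symm⟩⟩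
  rw [← Nat.card_congr e.toEquiv, Nat.card_prod]
  have : Nat.card (Multiplicative (ZMod 3)) = 3 := by
    rw [Nat.card_eq_fintype_card]; rfl
  rw [this, mul_comm]

end Cfsg.Agent.Helper42
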