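import Mathlib
import Cfsg.Agent.Helper42.NilpotentSym3
import Cfsg.Agent.Helper42.NilpotentAltNum

set_option autoImplicit false

/-!
# Nilpotent groups of even permutations have order at most `nilA n`
-/

namespace Cfsg.Agent.Helper42

open MulAction Equiv

universe u

/-- the product of the orbit lengths of two commuting subgroups of coprime order -/
theorem orbit_prod_le {G α : Type*} [Group G] [MulAction G α] [Finite α] (P Q : Subgroup G)
    (hcomm : ∀ u ∈ P, ∀ v ∈ Q, u * v = v * u)
    (hcop : (Nat.card P).Coprime (Nat.card Q)) (x : α) :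
    Nat.card (orbit P x) * Nat.card (orbit Q x) ≤ Nat.card α := by
  rw [← Nat.card_prod]
  have hP : ∀ y : orbit P x, ∃ u : P, u • x = (y : α) := fun y => y.2
  have hQ : ∀ z : orbit Q x, ∃ v : Q, v • x = (z : α) := fun z => z.2
  choose uP huP using hP
  choose vQ hvQ using hQ
  have hord : ∀ u ∈ P, ∀ v ∈ Q, (orderOf u).Coprime (orderOf v) := by
    intro u hu v hv
    exact Nat.Coprime.coprime_dvd_left (P.orderOf_dvd_natCard hu)
      (Nat.Coprime.coprime_dvd_right (Q.orderOf_dvd_natCard hv) hcop)
  refine Nat.card_le_card_of_injective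
    (fun yz : orbit P x × orbit Q x => ((uP yz.1 : G) * (vQ yz.2 : G)) • x) ?_
  rintro ⟨y, z⟩ ⟨y', z'⟩ h
  simp only at h
  set u : G := (uP y : G) with hu
  set u' : G := (uP y' : G) with hu'
  set v : G := (vQ z : G) with hv
  set v' : G := (vQ z' : G) with hv'
  have hum : u ∈ P := (uP y).2
  have hu'm : u' ∈ P := (uP y').2
  have hvm : v ∈ Q := (vQ z).2
  have hv'm : v' ∈ Q := (vQ z').2
  have e1 : (u'⁻¹ * u) * (v'⁻¹ * v) = (u' * v')⁻¹ * (u * v) := by
    have c1 : u * v'⁻¹ = v'⁻¹ * u := hcomm u hum _ (Q.inv_mem hv'm)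
    have c2 : u'⁻¹ * v'⁻¹ = v'⁻¹ * u'⁻¹ := hcomm _ (P.inv_mem hu'm) _ (Q.inv_mem hv'm)
    calc (u'⁻¹ * u) * (v'⁻¹ * v) = u'⁻¹ * (u * v'⁻¹) * v := by group
      _ = u'⁻¹ * (v'⁻¹ * u) * v := by rw [c1]
      _ = (u'⁻¹ * v'⁻¹) * (u * v) := by group
      _ = (v'⁻¹ * u'⁻¹) * (u * v) := by rw [c2]
      _ = (u' * v')⁻¹ * (u * v) := by rw [mul_inv_rev]
  have e2 : ((u'⁻¹ * u) * (v'⁻¹ * v)) • x = x := by
    rw [e1, mul_smul, h, inv_smul_smul]
  have hc : Commute (u'⁻¹ * u) (v'⁻¹ * v) :=
    hcomm _ (P.mul_mem (P.inv_mem hu'm) hum) _ (Q.mul_mem (Q.inv_mem hv'm) hvm)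
  obtain ⟨h1, h2⟩ := smul_eq_of_mul_smul_eq hc
    (hord _ (P.mul_mem (P.inv_mem hu'm) hum) _ (Q.mul_mem (Q.inv_mem hv'm) hvm)) e2
  have hy : (y : α) = (y' : α) := by
    rw [← huP y, ← huP y']
    show u • x = u' • x
    rw [mul_smul, inv_smul_eq_iff] at h1
    exact h1
  have hz : (z : α) = (z' : α) := by
    rw [← hvQ z, ← hvQ z']
    show v • x = v' • x
    rw [mul_smul, inv_smul_eq_iff] at h2
    exact h2
  exact Prod.ext (Subtype.ext hy) (Subtype.ext hz)


/-- sign on a union of two complementary invariant parts -/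
theorem sign_toPerm_eq_mul {G α : Type*} [Group G] [MulAction G α] [Fintype α] [DecidableEq α]
    (S T : SubMulAction G α) [Fintype S] [DecidableEq S] [Fintype T] [DecidableEq T]
    (hcov : ∀ a, a ∈ S ∨ a ∈ T) (hdis : ∀ a, a ∈ S → a ∉ T) (g : G) :
    Perm.sign (toPerm g : Perm α) =
      Perm.sign (toPerm g : Perm S) * Perm.sign (toPerm g : Perm T) := by
  let f : S ⊕ T → α := Sum.elim (fun s => (s : α)) (fun t => (t : α))
  have hf : Function.Bijective f := by
    constructor
    · rintro (a | a) (b | b) h
      · exact congrArg Sum.inl (Subtype.ext h)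
      · exfalso
        have h' : (a : α) = (b : α) := h
        exact hdis _ a.2 (h' ▸ b.2)
      · exfalso
        have h' : (a : α) = (b : α) := h
        exact hdis _ b.2 (h' ▸ a.2)
      · exact congrArg Sum.inr (Subtype.ext h)
    · intro a
      rcases hcov a with ha | ha
      · exact ⟨Sum.inl ⟨a, ha⟩, rfl⟩
      · exact ⟨Sum.inr ⟨a, ha⟩, rfl⟩
  let e : S ⊕ T ≃ α := Equiv.ofBijective f hf
  rw [← Perm.sign_sumCongr]
  symm
  apply Perm.sign_eq_sign_of_equiv _ _ e
  rintro (a | a)
  · rfl
  · rfl

theorem two_mul_card_le_of_odd {G α : Type*} [Group G] [Finite G] [MulAction G α]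
    [FaithfulSMul G α] [Fintype α] [DecidableEq α]
    (S T : SubMulAction G α) [Fintype S] [DecidableEq S] [Fintype T] [DecidableEq T]
    (hcov : ∀ a, a ∈ S ∨ a ∈ T) (hdis : ∀ a, a ∈ S → a ∉ T)
    (heven : ∀ g : G, Perm.sign (toPerm g : Perm α) = 1)
    (hodd : ∃ g : G, Perm.sign (toPerm g : Perm S) ≠ 1) :
    2 * Nat.card G ≤ Nat.card (toPermHom G S).range * Nat.card (toPermHom G T).range := by
  set G₁ := (toPermHom G S).range with hG₁
  set G₂ := (toPermHom G T).range with hG₂
  have hfin1 : Finite G₁ := Set.finite_range _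
  have hfin2 : Finite G₂ := Set.finite_range _
  let χ : ↥G₁ × ↥G₂ →* ℤˣ :=
    (Perm.sign.comp G₁.subtype).coprod (Perm.sign.comp G₂.subtype)
  let j : G →* ↥G₁ × ↥G₂ :=
    (toPermHom G S).rangeRestrict.prod (toPermHom G T).rangeRestrict
  have hj : Function.Injective j := by
    intro g g' hgg
    have h1 : (toPermHom G S).rangeRestrict g = (toPermHom G S).rangeRestrict g' :=
      congrArg Prod.fst hgg
    have h2 : (toPermHom G T).rangeRestrict g = (toPermHom G T).rangeRestrict g' :=
      congrArg Prod.snd hgg
    have e1 : toPermHom G S g = toPermHom G S g' := congrArg Subtype.val h1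
    have e2 : toPermHom G T g = toPermHom G T g' := congrArg Subtype.val h2
    apply FaithfulSMul.eq_of_smul_eq_smul (α := α)
    intro a
    rcases hcov a with ha | ha
    · have h3 := congrArg (fun σ => ((σ ⟨a, ha⟩ : S) : α)) e1
      simpa using h3
    · have h3 := congrArg (fun σ => ((σ ⟨a, ha⟩ : T) : α)) e2
      simpa using h3
  have hχj : ∀ g : G, χ (j g) = 1 := by
    intro g
    have := sign_toPerm_eq_mul S T hcov hdis g
    rw [heven g] at this
    exact this.symm
  have hle : j.range ≤ χ.ker := by
    rintro _ ⟨g, rfl⟩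
    exact hχj g
  have hne : χ.ker ≠ ⊤ := by
    obtain ⟨g, hg⟩ := hodd
    intro htop
    have hmem : ((⟨toPermHom G S g, ⟨g, rfl⟩⟩ : G₁), (1 : G₂)) ∈ χ.ker := by
      rw [htop]; trivial
    rw [MonoidHom.mem_ker] at hmem
    apply hg
    have : χ ((⟨toPermHom G S g, ⟨g, rfl⟩⟩ : G₁), (1 : G₂)) =
        Perm.sign (toPerm g : Perm S) := by
      simp [χ]
    rw [← this]; exact hmem
  have hidx : 2 ≤ χ.ker.index := by
    have h0 : χ.ker.index ≠ 0 := Subgroup.index_ne_zero_of_finite
    have h1 : χ.ker.index ≠ 1 := fun h => hne (Subgroup.index_eq_one.mp h)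
    omega
  have hcard : Nat.card χ.ker * χ.ker.index = Nat.card G₁ * Nat.card G₂ := by
    rw [Subgroup.card_mul_index, Nat.card_prod]
  have h1 : Nat.card G = Nat.card j.range := (Nat.card_range_of_injective hj).symm
  have h2 : Nat.card j.range ≤ Nat.card χ.ker := Subgroup.card_le_of_le hle
  calc 2 * Nat.card G ≤ 2 * Nat.card χ.ker := by omega
    _ ≤ χ.ker.index * Nat.card χ.ker := Nat.mul_le_mul_right _ hidx
    _ = Nat.card G₁ * Nat.card G₂ := by rw [mul_comm, hcard]


/-- a group of even permutations embeds in the alternating group -/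
theorem two_mul_card_dvd_factorial {G α : Type*} [Group G] [MulAction G α] [FaithfulSMul G α]
    [Fintype α] [DecidableEq α] (heven : ∀ g : G, Perm.sign (toPerm g : Perm α) = 1)
    (hn : 2 ≤ Fintype.card α) : 2 * Nat.card G ∣ (Fintype.card α).factorial := by
  have : Nontrivial α := Fintype.one_lt_card_iff_nontrivial.mp hn
  let φ : G →* alternatingGroup α := (toPermHom G α).codRestrict (alternatingGroup α)
    (fun g => Perm.mem_alternatingGroup.mpr (heven g))
  have hφ : Function.Injective φ := by
    intro g g' h
    have h1 : toPermHom G α g = toPermHom G α g' := congrArg Subtype.val h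
    exact MulAction.toPerm_injective h1
  have h1 := Subgroup.card_dvd_of_injective φ hφ
  have h2 := two_mul_nat_card_alternatingGroup (α := α)
  rw [Nat.card_perm, Nat.card_eq_fintype_card (α := α)] at h2
  rw [← h2]
  exact Nat.mul_dvd_mul_left 2 h1

theorem card_le_nilA_aux (n : ℕ) : ∀ (G : Type u) [Group G] [Finite G] [Group.IsNilpotent G]
    (α : Type u) [Fintype α] [DecidableEq α] [MulAction G α] [FaithfulSMul G α],
    (∀ g : G, Perm.sign (toPerm g : Perm α) = 1) → Fintype.card α = n →
    Nat.card G ≤ nilA n := by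
  induction n using Nat.strong_induction_on with
  | _ n ih =>
    intro G _ _ hnil α _ _ _ _ heven hn
    have hnc : Nat.card α = n := by rw [Nat.card_eq_fintype_card, hn]
    by_cases hG1 : Nat.card G = 1
    · rw [hG1]; exact nilA_pos n
    have hdvd : Nat.card G ∣ n.factorial := by
      rw [← hnc, ← Nat.card_perm]
      exact Subgroup.card_dvd_of_injective (toPermHom G α) MulAction.toPerm_injective
    have hn2 : 2 ≤ n := by
      by_contra hlt
      apply hG1
      have : n.factorial = 1 := by
        have : n < 2 := by omega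
        interval_cases n <;> rfl
      rw [this] at hdvd
      exact Nat.dvd_one.mp hdvd
    have hne : Nonempty α := by
      have : 0 < Fintype.card α := by omega
      exact Fintype.card_pos_iff.mp this
    by_cases htrans : IsPretransitive G α
    · -- transitive
      obtain ⟨x⟩ := hne
      set p := (Nat.card G).minFac with hp
      have hpp : p.Prime := Nat.minFac_prime hG1
      have : Fact p.Prime := ⟨hpp⟩
      have hpdvd : p ∣ Nat.card G := Nat.minFac_dvd _
      let P : Sylow p G := default
      by_cases hPtop : (P : Subgroup G) = ⊤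
      · have hG : IsPGroup p G := by
          have h1 := P.isPGroup'
          rw [hPtop] at h1
          exact h1.of_equiv Subgroup.topEquiv
        obtain ⟨k, hk⟩ := IsPGroup.iff_card.mp hG
        by_cases hp2 : p = 2
        · have h1 := two_mul_card_dvd_factorial heven (by omega)
          rw [hk, hp2, hn, ← pow_succ'] at h1
          have : Fact (Nat.Prime 2) := ⟨Nat.prime_two⟩
          have h2 : k + 1 ≤ v2f n := by
            rw [← padicValNat_two_factorial]
            exact (padicValNat_dvd_iff_le (Nat.factorial_ne_zero n)).mp h1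
          have h3 := two_pow_v2f_le_two_mul_nilA n hn2
          have h4 : 2 ^ (k + 1) ≤ 2 ^ v2f n := Nat.pow_le_pow_right (by norm_num) h2
          rw [hk, hp2]
          rw [pow_succ'] at h4
          omega
        · rw [hk]
          apply odd_prime_pow_le_nilA p k n hpp hp2
          rw [← hk]; exact hdvd
      · have hPbot : (P : Subgroup G) ≠ ⊥ := P.ne_bot_of_dvd_card hpdvd
        obtain ⟨Q, hQ⟩ := Subgroup.exists_right_complement'_of_coprime (P.card_coprime_index)
        have hcard := hQ.card_mul_card
        have hcop : (Nat.card (P : Subgroup G)).Coprime (Nat.card Q) := by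
          rw [← hQ.symm.index_eq_card]; exact P.card_coprime_index
        have hpP : p ∣ Nat.card (P : Subgroup G) := by
          obtain ⟨k, hk⟩ := IsPGroup.iff_card.mp P.isPGroup'
          rw [hk]
          rcases Nat.eq_zero_or_pos k with rfl | hkpos
          · exfalso
            apply hPbot
            rw [pow_zero] at hk
            exact (Subgroup.card_eq_one).mp hk
          · exact dvd_pow_self p (by omega)
        have hcopQ : (Nat.card Q).Coprime p := (Nat.Coprime.coprime_dvd_left hpP hcop).symm
        have hcomm : ∀ u ∈ (P : Subgroup G), ∀ v ∈ Q, u * v = v * u := by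
          intro u hu v hv
          exact nilp_comm_of_coprime hnil (P : Subgroup G) P.isPGroup' v
            (Nat.Coprime.coprime_dvd_left (Q.orderOf_dvd_natCard hv) hcopQ) u hu
        have hQbot : Q ≠ ⊥ := by
          rintro rfl
          apply hPtop
          rw [← Subgroup.card_eq_iff_eq_top, ← hcard]
          simp
        obtain ⟨hF1, hF2, -⟩ := orbit_data (P : Subgroup G) Q hQ hcomm hcop hPbot hQbot x
        have hab := orbit_prod_le (P : Subgroup G) Q hcomm hcop x
        rw [hnc] at hab
        have h1 := card_le_nilF (P : Subgroup G) (orbit (P : Subgroup G) x)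
        have h2 := card_le_nilF Q (orbit Q x)
        have hP2 : 1 < Nat.card (P : Subgroup G) := (Subgroup.one_lt_card_iff_ne_bot _).mpr hPbot
        have hQ2 : 1 < Nat.card Q := (Subgroup.one_lt_card_iff_ne_bot _).mpr hQbot
        have ha : 2 ≤ Nat.card (orbit (P : Subgroup G) x) := by
          by_contra hlt
          have : Nat.card (orbit (P : Subgroup G) x) < 2 := by omega
          interval_cases (Nat.card (orbit (P : Subgroup G) x))
          · rw [nilF_0] at h1; omega
          · rw [nilF_1] at h1; omega
        have hb : 2 ≤ Nat.card (orbit Q x) := by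
          by_contra hlt
          have : Nat.card (orbit Q x) < 2 := by omega
          interval_cases (Nat.card (orbit Q x))
          · rw [nilF_0] at h2; omega
          · rw [nilF_1] at h2; omega
        have h3 := two_mul_nilF_mul_le _ _ n ha hb hab
        have h4 := nilF_le_two_mul_nilA n hn2
        have h5 : Nat.card G ≤ nilF (Nat.card (orbit (P : Subgroup G) x)) *
            nilF (Nat.card (orbit Q x)) := by
          rw [← hcard]; exact Nat.mul_le_mul h1 h2
        omega
    · -- intransitive
      have hex : ∃ x y : α, ∀ g : G, g • x ≠ y := by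
        by_contra hcon
        push Not at hcon
        exact htrans ⟨hcon⟩
      obtain ⟨x, y, hxy⟩ := hex
      let S : SubMulAction G α := ⟨orbit G x, fun g a ha => by
        obtain ⟨h, rfl⟩ := ha
        exact ⟨g * h, mul_smul g h x⟩⟩
      let T : SubMulAction G α := ⟨(orbit G x)ᶜ, fun g a ha hga => by
        apply ha
        obtain ⟨h, hh⟩ := hga
        refine ⟨g⁻¹ * h, ?_⟩
        have : h • x = g • a := hh
        show (g⁻¹ * h) • x = a
        rw [mul_smul, this, inv_smul_smul]⟩
      have hcover : ∀ a, a ∈ S ∨ a ∈ T := fun a => Classical.em (a ∈ orbit G x)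
      have hdis : ∀ a, a ∈ S → a ∉ T := fun a ha hT => hT ha
      have hST : Nat.card S + Nat.card T = n := by
        rw [← hnc]
        exact Set.ncard_add_ncard_compl (orbit G x)
      have hS : 0 < Nat.card S := by
        have : Nonempty S := ⟨⟨x, mem_orbit_self x⟩⟩
        exact Nat.card_pos
      have hT : 0 < Nat.card T := by
        have : Nonempty T := ⟨⟨y, fun ⟨g, hg⟩ => hxy g hg⟩⟩
        exact Nat.card_pos
      have hn1 : Group.IsNilpotent (toPermHom G S).range :=
        Group.nilpotent_of_surjective (toPermHom G S).rangeRestrict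
          (toPermHom G S).rangeRestrict_surjective
      have hn2' : Group.IsNilpotent (toPermHom G T).range :=
        Group.nilpotent_of_surjective (toPermHom G T).rangeRestrict
          (toPermHom G T).rangeRestrict_surjective
      have instS : Fintype S := Fintype.ofFinite S
      have instT : Fintype T := Fintype.ofFinite T
      have instS' : DecidableEq S := Classical.decEq S
      have instT' : DecidableEq T := Classical.decEq T
      have hcS : Fintype.card S = Nat.card S := Nat.card_eq_fintype_card.symm
      have hcT : Fintype.card T = Nat.card T := Nat.card_eq_fintype_card.symm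
      by_cases hE : (∀ g : G, Perm.sign (toPerm g : Perm S) = 1) ∧
          (∀ g : G, Perm.sign (toPerm g : Perm T) = 1)
      · have e1 : ∀ g₁ : (toPermHom G S).range, Perm.sign (toPerm g₁ : Perm S) = 1 := by
          rintro ⟨_, g, rfl⟩
          exact hE.1 g
        have e2 : ∀ g₂ : (toPermHom G T).range, Perm.sign (toPerm g₂ : Perm T) = 1 := by
          rintro ⟨_, g, rfl⟩
          exact hE.2 g
        have h1 := ih (Nat.card S) (by omega) (toPermHom G S).range S e1 hcS
        have h2 := ih (Nat.card T) (by omega) (toPermHom G T).range T e2 hcT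
        have h0 := card_le_mul_of_cover S T hcover
        calc Nat.card G ≤ Nat.card (toPermHom G S).range * Nat.card (toPermHom G T).range := h0
          _ ≤ nilA (Nat.card S) * nilA (Nat.card T) := Nat.mul_le_mul h1 h2
          _ ≤ nilA (Nat.card S + Nat.card T) := nilA_mul _ _
          _ = nilA n := by rw [hST]
      · have hodd : ∃ g : G, Perm.sign (toPerm g : Perm S) ≠ 1 := by
          by_contra hcon
          push Not at hcon
          apply hE
          refine ⟨hcon, ?_⟩
          intro g
          have := sign_toPerm_eq_mul S T hcover hdis g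
          rw [heven g, hcon g, one_mul] at this
          exact this.symm
        have h0 := two_mul_card_le_of_odd S T hcover hdis heven hodd
        have h1 := card_le_nilF (toPermHom G S).range S
        have h2 := card_le_nilF (toPermHom G T).range T
        have h3 := nilF_mul (Nat.card S) (Nat.card T)
        rw [hST] at h3
        have h4 := nilF_le_two_mul_nilA n hn2
        have h5 := Nat.mul_le_mul h1 h2
        omega

/-- A nilpotent group acting faithfully by even permutations on `n` points has order at most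
`nilA n`. -/
theorem card_le_nilA (G : Type u) [Group G] [Finite G] [Group.IsNilpotent G]
    (α : Type u) [Fintype α] [DecidableEq α] [MulAction G α] [FaithfulSMul G α]
    (heven : ∀ g : G, Perm.sign (toPerm g : Perm α) = 1) :
    Nat.card G ≤ nilA (Fintype.card α) :=
  card_le_nilA_aux _ G α heven rfl


theorem one_le_v2f (n : ℕ) (h2 : 2 ≤ n) : 1 ≤ v2f n := by
  have := v2f_mono h2
  rwa [v2f_two] at this

theorem nilA_eq_of_mod_ne (n : ℕ) (h2 : 2 ≤ n) (hn : n % 4 ≠ 3) (h5 : n ≠ 5) (h6 : n ≠ 6)
    (h9 : n ≠ 9) : nilA n = 2 ^ (v2f n - 1) := by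
  by_cases h10 : n < 10
  · interval_cases n <;> first
      | omega
      | simp [nilA, v2f_two, v2f_four, v2f_eight]
  · have h1 := two_mul_nilA n (by omega)
    rw [nilF_of_mod_ne n hn] at h1
    obtain ⟨k, hk⟩ : ∃ k, v2f n = k + 1 := ⟨v2f n - 1, by have := one_le_v2f n h2; omega⟩
    rw [hk, pow_succ'] at h1
    rw [hk, Nat.add_sub_cancel]
    omega

theorem nilA_eq_of_mod_eq (n : ℕ) (hn : n % 4 = 3) (h7 : 7 ≤ n) :
    nilA n = 3 * 2 ^ (v2f (n - 3) - 1) := by
  by_cases h10 : n < 10
  · interval_cases n <;> first
      | omega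
      | simp [nilA, v2f_four]
  · have h1 := two_mul_nilA n (by omega)
    rw [nilF_three_mod n hn] at h1
    obtain ⟨k, hk⟩ : ∃ k, v2f (n - 3) = k + 1 :=
      ⟨v2f (n - 3) - 1, by have := one_le_v2f (n - 3) (by omega); omega⟩
    rw [hk, pow_succ'] at h1
    rw [hk, Nat.add_sub_cancel]
    omega

/-- the order of a Sylow 2-subgroup of `A_n` -/
theorem card_sylow_two_alternating (n : ℕ) (h2 : 2 ≤ n) (P : Sylow 2 (alternatingGroup (Fin n))) :
    Nat.card P = 2 ^ (v2f n - 1) := by
  have : Nontrivial (Fin n) := Fin.nontrivial_iff_two_le.mpr h2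
  have : Fact (Nat.Prime 2) := ⟨Nat.prime_two⟩
  rw [P.card_eq_multiplicity, nat_card_alternatingGroup, Nat.card_fin]
  congr 1
  have hdvd : 2 ∣ n.factorial := Nat.dvd_factorial (by norm_num) h2
  rw [Nat.factorization_div hdvd]
  simp only [Finsupp.coe_tsub, Pi.sub_apply, Nat.prime_two.factorization_self]
  rw [Nat.factorization_def _ Nat.prime_two, padicValNat_two_factorial]

/-- nilpotent subgroups of `A_n` -/
theorem card_le_nilA_alternating (n : ℕ) (N : Subgroup (alternatingGroup (Fin n)))
    (hN : Group.IsNilpotent N) : Nat.card N ≤ nilA n := by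
  have heven : ∀ g : N, Perm.sign (toPerm g : Perm (Fin n)) = 1 := by
    intro g
    have h1 : (toPerm g : Perm (Fin n)) = ((g : alternatingGroup (Fin n)) : Perm (Fin n)) := by
      ext x; rfl
    rw [h1]
    exact Perm.mem_alternatingGroup.mp (g : alternatingGroup (Fin n)).2
  have := card_le_nilA (↥N) (Fin n) heven
  rwa [Fintype.card_fin] at this

end Cfsg.Agent.Helper42
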