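import Mathlib
import Cfsg.Agent.Helper42.NilpotentAlt

set_option autoImplicit false

/-!
# Extremal nilpotent subgroups of `A_n`, `n ≡ 3 (mod 4)`
-/

namespace Cfsg.Agent.Helper42

open Equiv Equiv.Perm

theorem v2f_pred_add_two_le (i : ℕ) (hi : 1 ≤ i) : v2f (4 * i - 1) + 2 ≤ v2f (4 * i) := by
  obtain ⟨j, rfl⟩ : ∃ j, i = j + 1 := ⟨i - 1, by omega⟩
  rw [show 4 * (j + 1) - 1 = 4 * j + 3 by omega, v2f_four_mul_add_three, v2f_four_mul]
  have := v2f_mono_succ j
  omega

theorem v2f_split_add_two_le (n k : ℕ) (hn : n % 4 = 3) (hk : 2 ≤ k) (h3k : 3 * k ≤ n) :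
    v2f (n - 3 * k) + v2f k + 2 ≤ v2f (n - 3) := by
  obtain ⟨i, rfl⟩ : ∃ i, n = 4 * i + 3 := ⟨n / 4, by omega⟩
  have hi : 1 ≤ i := by omega
  have h1 := v2f_add (4 * i + 3 - 3 * k) k
  have h2 : v2f (4 * i + 3 - 3 * k + k) ≤ v2f (4 * i - 1) := v2f_mono (by omega)
  have h3 := v2f_pred_add_two_le i hi
  rw [show 4 * i + 3 - 3 = 4 * i by omega]
  omega

/-- the cycle type of an element of order 3 centralized by a large 2-group (weaker hypothesis) -/
theorem isThreeCycle_of_centralized' {n e : ℕ} (hn : n % 4 = 3) (he : v2f (n - 3) ≤ e + 1)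
    (c : Perm (Fin n))
    (hc : orderOf c = 3) (T : Subgroup (Perm (Fin n))) (hT : Nat.card T = 2 ^ e)
    (hcomm : ∀ t ∈ T, Commute t c) : c.IsThreeCycle := by
  obtain ⟨k', hk'⟩ := cycleType_prime_order (σ := c) (by rw [hc]; exact Nat.prime_three)
  rw [hc] at hk'
  have hle : T ≤ Subgroup.centralizer {c} := by
    intro t ht
    rw [Subgroup.mem_centralizer_iff]
    intro h hh
    rw [Set.mem_singleton_iff] at hh
    subst hh
    exact ((hcomm t ht).eq).symm
  have hdvd := Subgroup.card_dvd_of_le hle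
  rw [hT, nat_card_centralizer, hk'] at hdvd
  have hsum : c.cycleType.sum ≤ n := by
    have := sum_cycleType_le c
    simpa using this
  rw [hk'] at hsum
  simp only [Multiset.sum_replicate, smul_eq_mul, Multiset.prod_replicate, Fintype.card_fin,
    Multiset.toFinset_replicate, Nat.add_eq_zero_iff, one_ne_zero, and_false, ↓reduceIte,
    Finset.prod_singleton, Multiset.count_replicate_self] at hdvd hsum
  rcases Nat.eq_zero_or_pos k' with rfl | hkpos
  · rw [IsThreeCycle, hk']; rfl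
  · exfalso
    have h1 : 2 ^ e ∣ (n - (k' + 1) * 3).factorial * (k' + 1).factorial := by
      have hcop : Nat.Coprime (2 ^ e) (3 ^ (k' + 1)) :=
        Nat.Coprime.pow _ _ (by norm_num)
      have e' : (n - (k' + 1) * 3).factorial * 3 ^ (k' + 1) * (k' + 1).factorial =
          3 ^ (k' + 1) * ((n - (k' + 1) * 3).factorial * (k' + 1).factorial) := by ring
      rw [e'] at hdvd
      exact hcop.dvd_of_dvd_mul_left hdvd
    have : Fact (Nat.Prime 2) := ⟨Nat.prime_two⟩
    have h2 := (padicValNat_dvd_iff_le (p := 2)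
      (mul_ne_zero (Nat.factorial_ne_zero _) (Nat.factorial_ne_zero _))).mp h1
    rw [padicValNat.mul (Nat.factorial_ne_zero _) (Nat.factorial_ne_zero _),
      padicValNat_two_factorial, padicValNat_two_factorial] at h2
    have h3 := v2f_split_add_two_le n (k' + 1) hn (by omega) (by omega)
    rw [show 3 * (k' + 1) = (k' + 1) * 3 by ring] at h3
    omega

/-- structure of a nilpotent subgroup of `S_n` of order `3 * 2 ^ e`, `v₂((n-3)!) ≤ e + 1` -/
theorem structure_of_max' {n e : ℕ} (hn : n % 4 = 3) (he : v2f (n - 3) ≤ e + 1)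
    (N : Subgroup (Perm (Fin n)))
    (hN : Group.IsNilpotent N) (hcard : Nat.card N = 3 * 2 ^ e) :
    ∃ (c : Perm (Fin n)) (T : Subgroup (Perm (Fin n))), c.IsThreeCycle ∧
      Nat.card T = 2 ^ e ∧ (∀ t ∈ T, Perm.Disjoint t c) ∧ T ≤ N ∧
      N = Subgroup.zpowers c ⊔ T := by
  have : Fact (Nat.Prime 3) := ⟨Nat.prime_three⟩
  have : Fact (Nat.Prime 2) := ⟨Nat.prime_two⟩
  obtain ⟨c₀, hc₀⟩ := exists_prime_orderOf_dvd_card' (G := N) 3
    (by rw [hcard]; exact dvd_mul_right 3 _)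
  let T₀ : Sylow 2 N := default
  have hT₀card : Nat.card T₀ = 2 ^ e := by
    rw [Sylow.card_eq_multiplicity, hcard, factorization_three_mul_two_pow]
  set c : Perm (Fin n) := (c₀ : Perm (Fin n)) with hcdef
  have hc : orderOf c = 3 := by rw [hcdef, Subgroup.orderOf_coe, hc₀]
  set T : Subgroup (Perm (Fin n)) := (T₀ : Subgroup N).map N.subtype with hTdef
  have hTcard : Nat.card T = 2 ^ e := by
    rw [hTdef, Subgroup.card_map_of_injective N.subtype_injective, hT₀card]
  have hcomm : ∀ t ∈ T, Commute t c := by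
    intro t ht
    obtain ⟨t₀, ht₀, rfl⟩ := ht
    have h := nilp_comm_of_coprime hN (T₀ : Subgroup N) T₀.isPGroup' c₀
      (by rw [hc₀]; norm_num) t₀ ht₀
    have h' := congrArg (Subtype.val) h
    exact h'
  have hc3 : c.IsThreeCycle := isThreeCycle_of_centralized' hn he c hc T hTcard hcomm
  have hTN : T ≤ N := by rw [hTdef]; exact Subgroup.map_subtype_le _
  refine ⟨c, T, hc3, hTcard, ?_, hTN, ?_⟩
  · intro t ht
    refine disjoint_of_commute_threeCycle hc3 (hcomm t ht) ?_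
    have h1 : orderOf t ∣ 2 ^ e := hTcard ▸ T.orderOf_dvd_natCard ht
    exact Nat.Coprime.coprime_dvd_left h1 (Nat.Coprime.pow_left _ (by norm_num))
  · have hle : Subgroup.zpowers c ⊔ T ≤ N := by
      rw [sup_le_iff]
      refine ⟨?_, hTN⟩
      rw [Subgroup.zpowers_le]; exact c₀.2
    refine (Subgroup.eq_of_le_of_card_ge hle ?_).symm
    have h3 : 3 ∣ Nat.card (Subgroup.zpowers c ⊔ T : Subgroup (Perm (Fin n))) := by
      have := Subgroup.card_dvd_of_le (le_sup_left : Subgroup.zpowers c ≤ Subgroup.zpowers c ⊔ T)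
      rwa [Nat.card_zpowers, hc] at this
    have h2 : 2 ^ e ∣ Nat.card (Subgroup.zpowers c ⊔ T : Subgroup (Perm (Fin n))) := by
      have := Subgroup.card_dvd_of_le (le_sup_right : T ≤ Subgroup.zpowers c ⊔ T)
      rwa [hTcard] at this
    have hcop : Nat.Coprime 3 (2 ^ e) := Nat.Coprime.pow_right _ (by norm_num)
    have h6 := hcop.mul_dvd_of_dvd_of_dvd h3 h2
    rw [hcard]
    exact Nat.le_of_dvd Nat.card_pos h6

/-- Sylow conjugacy inside a subgroup `K` -/
theorem exists_conj_of_card_sylow_in {G : Type*} [Group G] [Finite G] {p : ℕ} [Fact p.Prime]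
    (K H₁ H₂ : Subgroup G) (h₁ : H₁ ≤ K) (h₂ : H₂ ≤ K)
    (hc₁ : Nat.card H₁ = p ^ (Nat.card K).factorization p)
    (hc₂ : Nat.card H₂ = p ^ (Nat.card K).factorization p) :
    ∃ g ∈ K, H₂ = H₁.map (MulAut.conj g).toMonoidHom := by
  have e1 : Nat.card (H₁.subgroupOf K) = p ^ (Nat.card K).factorization p := by
    rw [Nat.card_congr (Subgroup.subgroupOfEquivOfLe h₁).toEquiv, hc₁]
  have e2 : Nat.card (H₂.subgroupOf K) = p ^ (Nat.card K).factorization p := by
    rw [Nat.card_congr (Subgroup.subgroupOfEquivOfLe h₂).toEquiv, hc₂]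
  obtain ⟨k, hk⟩ := exists_conj_of_card_sylow (H₁.subgroupOf K) (H₂.subgroupOf K) e1 e2
  refine ⟨k, k.2, ?_⟩
  have hcomp : K.subtype.comp (MulAut.conj k).toMonoidHom =
      ((MulAut.conj (k : G)).toMonoidHom).comp K.subtype := by
    ext1 x
    simp [MulAut.conj_apply]
  rw [← Subgroup.map_subgroupOf_eq_of_le h₂, hk, Subgroup.map_map, hcomp, ← Subgroup.map_map,
    Subgroup.map_subgroupOf_eq_of_le h₁]


theorem factorization_half_factorial (k : ℕ) (h2 : 2 ≤ k) :
    (k.factorial / 2).factorization 2 = v2f k - 1 := by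
  have hdvd : 2 ∣ k.factorial := Nat.dvd_factorial (by norm_num) h2
  rw [Nat.factorization_div hdvd]
  simp only [Finsupp.coe_tsub, Pi.sub_apply, Nat.prime_two.factorization_self]
  rw [Nat.factorization_def _ Nat.prime_two, padicValNat_two_factorial]

theorem conj_of_structure_alt {n e : ℕ} (hn7 : 7 ≤ n) (he : e + 1 = v2f (n - 3))
    (c₁ c₂ : Perm (Fin n)) (T₁ T₂ : Subgroup (Perm (Fin n)))
    (h₁ : c₁.IsThreeCycle) (h₂ : c₂.IsThreeCycle)
    (hT₁ : Nat.card T₁ = 2 ^ e) (hT₂ : Nat.card T₂ = 2 ^ e)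
    (hd₁ : ∀ t ∈ T₁, Perm.Disjoint t c₁) (hd₂ : ∀ t ∈ T₂, Perm.Disjoint t c₂)
    (he₁ : T₁ ≤ alternatingGroup (Fin n)) (he₂ : T₂ ≤ alternatingGroup (Fin n)) :
    ∃ g : Perm (Fin n), g ∈ alternatingGroup (Fin n) ∧ Subgroup.zpowers c₂ ⊔ T₂ =
      (Subgroup.zpowers c₁ ⊔ T₁).map (MulAut.conj g).toMonoidHom := by
  have : Fact (Nat.Prime 2) := ⟨Nat.prime_two⟩
  obtain ⟨g₀', hg₀'⟩ : ∃ g₀, g₀ * c₁ * g₀⁻¹ = c₂ :=
    isConj_iff.mp ((isConj_iff_cycleType_eq).mpr (h₁.cycleType.trans h₂.cycleType.symm))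
  -- the subgroup of permutations disjoint from c₂
  let ι : Perm {x // x ∉ c₂.support} →* Perm (Fin n) := ofSubtype
  have hι : Function.Injective ι := ofSubtype_injective
  have hrange : ∀ t : Perm (Fin n), Perm.Disjoint t c₂ → t ∈ ι.range := by
    intro t ht
    rw [mem_range_ofSubtype_iff]
    intro x hx
    have hx' : x ∈ t.support := hx
    have := (disjoint_iff_disjoint_support.mp ht)
    exact Finset.disjoint_left.mp this hx'
  have hdisj : ∀ s : Perm {x // x ∉ c₂.support}, Perm.Disjoint (ι s) c₂ := by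
    intro s
    rw [disjoint_iff_disjoint_support, Finset.disjoint_left]
    intro x hx
    have h1 : ι s ∈ ι.range := ⟨s, rfl⟩
    rw [mem_range_ofSubtype_iff] at h1
    exact h1 hx
  have hsign : ∀ s : Perm {x // x ∉ c₂.support}, Perm.sign (ι s) = Perm.sign s :=
    fun s => sign_ofSubtype s
  have hcardsub : Fintype.card {x // x ∉ c₂.support} = n - 3 := by
    rw [Fintype.card_subtype_compl, Fintype.card_fin, Fintype.card_coe, h₂.card_support]
  have hnontriv : Nontrivial {x // x ∉ c₂.support} := by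
    rw [← Fintype.one_lt_card_iff_nontrivial, hcardsub]; omega
  -- an even conjugating element
  obtain ⟨g₀, hg₀s, hg₀⟩ : ∃ g₀, Perm.sign g₀ = 1 ∧ g₀ * c₁ * g₀⁻¹ = c₂ := by
    rcases Int.units_eq_one_or (Perm.sign g₀') with hs | hs
    · exact ⟨g₀', hs, hg₀'⟩
    · obtain ⟨a, b, hab⟩ := exists_pair_ne {x // x ∉ c₂.support}
      refine ⟨ι (swap a b) * g₀', ?_, ?_⟩
      · rw [Perm.sign_mul, hsign, Perm.sign_swap hab, hs]; rfl
      · have hcomm : Commute (ι (swap a b)) c₂ := (hdisj _).commute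
        calc ι (swap a b) * g₀' * c₁ * (ι (swap a b) * g₀')⁻¹
            = ι (swap a b) * (g₀' * c₁ * g₀'⁻¹) * (ι (swap a b))⁻¹ := by group
          _ = c₂ := by rw [hg₀', hcomm.eq, mul_inv_cancel_right]
  set T₁' : Subgroup (Perm (Fin n)) := T₁.map (MulAut.conj g₀).toMonoidHom with hT₁'def
  have hT₁'card : Nat.card T₁' = 2 ^ e := by
    rw [hT₁'def, Subgroup.card_map_of_injective (MulAut.conj g₀).injective, hT₁]
  have hd₁' : ∀ t ∈ T₁', Perm.Disjoint t c₂ := by
    intro t ht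
    obtain ⟨t₀, ht₀, rfl⟩ := ht
    rw [← hg₀]
    exact (hd₁ t₀ ht₀).conj g₀
  have he₁' : T₁' ≤ alternatingGroup (Fin n) := by
    intro t ht
    obtain ⟨t₀, ht₀, rfl⟩ := ht
    have h1 : Perm.sign t₀ = 1 := Perm.mem_alternatingGroup.mp (he₁ ht₀)
    rw [Perm.mem_alternatingGroup]
    show Perm.sign (g₀ * t₀ * g₀⁻¹) = 1
    rw [Perm.sign_mul, Perm.sign_mul, Perm.sign_inv, h1, mul_one, hg₀s, one_mul]
  set K : Subgroup (Perm (Fin n)) := (alternatingGroup {x // x ∉ c₂.support}).map ι with hK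
  have hKle : ∀ T : Subgroup (Perm (Fin n)), T ≤ alternatingGroup (Fin n) →
      (∀ t ∈ T, Perm.Disjoint t c₂) → T ≤ K := by
    intro T hTe hTd t ht
    obtain ⟨s, rfl⟩ := hrange t (hTd t ht)
    refine ⟨s, ?_, rfl⟩
    rw [SetLike.mem_coe, Perm.mem_alternatingGroup, ← hsign]
    exact Perm.mem_alternatingGroup.mp (hTe ht)
  have hKcard : Nat.card K = (n - 3).factorial / 2 := by
    rw [hK, Subgroup.card_map_of_injective hι, nat_card_alternatingGroup,
      Nat.card_eq_fintype_card, hcardsub]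
  have hKfac : (Nat.card K).factorization 2 = e := by
    rw [hKcard, factorization_half_factorial (n - 3) (by omega)]; omega
  obtain ⟨h, hhK, hh⟩ := exists_conj_of_card_sylow_in K T₁' T₂ (hKle T₁' he₁' hd₁')
    (hKle T₂ he₂ hd₂) (by rw [hKfac, hT₁'card]) (by rw [hKfac, hT₂])
  obtain ⟨s, hs, rfl⟩ := hhK
  have hs' : Perm.sign s = 1 := Perm.mem_alternatingGroup.mp hs
  refine ⟨ι s * g₀, ?_, ?_⟩
  · rw [Perm.mem_alternatingGroup, Perm.sign_mul, hsign, hs', hg₀s, one_mul]
  rw [Subgroup.map_sup, MonoidHom.map_zpowers]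
  have hcomm : Commute (ι s) c₂ := (hdisj s).commute
  have e1 : (MulAut.conj (ι s * g₀)).toMonoidHom c₁ = c₂ := by
    show (MulAut.conj (ι s * g₀)) c₁ = c₂
    rw [MulAut.conj_apply, mul_inv_rev]
    calc ι s * g₀ * c₁ * (g₀⁻¹ * (ι s)⁻¹) = ι s * (g₀ * c₁ * g₀⁻¹) * (ι s)⁻¹ := by group
      _ = c₂ := by rw [hg₀, hcomm.eq, mul_inv_cancel_right]
  have e2 : T₁.map (MulAut.conj (ι s * g₀)).toMonoidHom = T₂ := by
    have hcomp : (MulAut.conj (ι s * g₀)).toMonoidHom =
        ((MulAut.conj (ι s)).toMonoidHom).comp (MulAut.conj g₀).toMonoidHom := by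
      ext1 x
      simp [MulAut.conj_apply, mul_assoc]
    rw [hcomp, ← Subgroup.map_map, ← hT₁'def, ← hh]
  rw [e1, e2]


theorem sign_zmodShift (z : Multiplicative (ZMod 3)) : Perm.sign (zmodShift z) = 1 := by
  have h3 : z ^ 3 = 1 := by
    have h : ∀ w : ZMod 3, 3 • w = 0 := by decide
    apply Multiplicative.toAdd.injective
    rw [toAdd_pow, toAdd_one]
    exact h _
  have h1 : Perm.sign (zmodShift z) ^ 3 = 1 := by
    rw [← map_pow, ← map_pow, h3, map_one, map_one]
  have h2 : Perm.sign (zmodShift z) ^ 2 = 1 := Int.units_sq _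
  calc Perm.sign (zmodShift z) = Perm.sign (zmodShift z) ^ 3 * (Perm.sign (zmodShift z) ^ 2)⁻¹ := by
        rw [pow_succ _ 2, mul_comm, inv_mul_cancel_left]
    _ = 1 := by rw [h1, h2]; simp

/-- embedding of `K × C₃` into `S_n` with control of the sign -/
theorem exists_prod_embedding_sign {n : ℕ} (hn : 3 ≤ n) {K : Type*} [Group K]
    (κ : K →* Perm (Fin (n - 3))) (hκ : Function.Injective κ) :
    ∃ φ : K × Multiplicative (ZMod 3) →* Perm (Fin n), Function.Injective φ ∧
      ∀ x : K × Multiplicative (ZMod 3), Perm.sign (φ x) = Perm.sign (κ x.1) := by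
  have hcard : Fintype.card (Fin (n - 3) ⊕ ZMod 3) = n := by
    rw [Fintype.card_sum, Fintype.card_fin, ZMod.card]; omega
  let e : Fin (n - 3) ⊕ ZMod 3 ≃ Fin n := Fintype.equivFinOfCardEq hcard
  refine ⟨(e.permCongrHom.toMonoidHom).comp
    ((sumCongrHom (Fin (n - 3)) (ZMod 3)).comp (MonoidHom.prodMap κ zmodShift)), ?_, ?_⟩
  · intro a b hab
    have h1 := e.permCongrHom.injective hab
    have h2 := sumCongrHom_injective h1
    have h3 : (κ a.1, zmodShift a.2) = (κ b.1, zmodShift b.2) := h2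
    rw [Prod.mk.injEq] at h3
    refine Prod.ext ?_ ?_
    · exact hκ h3.1
    · exact zmodShift_injective h3.2
  · intro x
    show Perm.sign (e.permCongr (Equiv.Perm.sumCongr (κ x.1) (zmodShift x.2))) = _
    rw [Perm.sign_permCongr, Perm.sign_sumCongr, sign_zmodShift, mul_one]

theorem exists_max_alt {n : ℕ} (hn : 3 ≤ n) (P : Sylow 2 (alternatingGroup (Fin (n - 3)))) :
    ∃ M : Subgroup (alternatingGroup (Fin n)), Group.IsNilpotent M ∧
      Nat.card M = 3 * Nat.card P ∧
      Nonempty (M ≃* (↥(P : Subgroup (alternatingGroup (Fin (n - 3)))) ×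
        Multiplicative (ZMod 3))) := by
  have : Fact (Nat.Prime 2) := ⟨Nat.prime_two⟩
  let κ : ↥(P : Subgroup (alternatingGroup (Fin (n - 3)))) →* Perm (Fin (n - 3)) :=
    (alternatingGroup (Fin (n - 3))).subtype.comp (P : Subgroup (alternatingGroup (Fin (n - 3)))).subtype
  have hκ : Function.Injective κ := by
    intro a b hab
    exact Subtype.ext (Subtype.ext hab)
  obtain ⟨φ, hφ, hsign⟩ := exists_prod_embedding_sign hn κ hκ
  let ψ : ↥(P : Subgroup (alternatingGroup (Fin (n - 3)))) × Multiplicative (ZMod 3) →*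
      alternatingGroup (Fin n) :=
    φ.codRestrict (alternatingGroup (Fin n)) (fun x => by
      rw [Perm.mem_alternatingGroup, hsign]
      exact Perm.mem_alternatingGroup.mp (x.1 : alternatingGroup (Fin (n - 3))).2)
  have hψ : Function.Injective ψ := by
    intro a b hab
    exact hφ (congrArg Subtype.val hab)
  have e : (↥(P : Subgroup (alternatingGroup (Fin (n - 3)))) × Multiplicative (ZMod 3)) ≃*
      ψ.range := MonoidHom.ofInjective hψ
  have hnilP : Group.IsNilpotent ↥(P : Subgroup (alternatingGroup (Fin (n - 3)))) :=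
    P.isPGroup'.isNilpotent
  have hnil : Group.IsNilpotent
      (↥(P : Subgroup (alternatingGroup (Fin (n - 3)))) × Multiplicative (ZMod 3)) :=
    inferInstance
  refine ⟨ψ.range, Group.nilpotent_of_mulEquiv e, ?_, ⟨e.symm⟩⟩
  rw [← Nat.card_congr e.toEquiv, Nat.card_prod]
  have : Nat.card (Multiplicative (ZMod 3)) = 3 := by
    rw [Nat.card_eq_fintype_card]; rfl
  rw [this, mul_comm]

end Cfsg.Agent.Helper42
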