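import Cfsg.Agent.Helper91.O7.Defs

/-!
# Helper42 / S5514 piece (E): transfer of `ClassesOK` along a group isomorphism
-/

set_option autoImplicit false

open Cfsg.Agent.Helper91.O7

namespace Cfsg.Agent.Helper42.O7

open Matrix

/-- conjugation commutes with a group isomorphism, on subgroups -/
theorem map_conj_map {G H : Type*} [Group G] [Group H] (e : G ≃* H) (S : Subgroup G) (g : G) :
    (S.map (MulAut.conj g).toMonoidHom).map e.toMonoidHom
      = (S.map e.toMonoidHom).map (MulAut.conj (e g)).toMonoidHom := by
  rw [Subgroup.map_map, Subgroup.map_map]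
  congr 1
  ext x
  simp [MulAut.conj_apply]

theorem ClassesOK.of_equiv {G H : Type*} [Group G] [Group H] (e : G ≃* H) {n : ℕ}
    (h : ClassesOK G n) : ClassesOK H n := by
  obtain ⟨Y, hcard, hsep, hcov⟩ := h
  have hinj : Function.Injective e.toMonoidHom := e.injective
  have hinj' : Function.Injective e.symm.toMonoidHom := e.symm.injective
  refine ⟨fun i => (Y i).map e.toMonoidHom, ?_, ?_, ?_⟩
  · intro i
    rw [Subgroup.card_map_of_injective hinj]
    exact hcard i
  · intro i j ⟨g, hg⟩
    apply hsep i j
    refine ⟨e.symm g, ?_⟩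
    apply Subgroup.map_injective hinj
    rw [map_conj_map, MulEquiv.apply_symm_apply]
    exact hg
  · intro X hX
    have hX' : Nat.card (X.map e.symm.toMonoidHom) = 3 := by
      rw [Subgroup.card_map_of_injective hinj']
      exact hX
    obtain ⟨i, g, hg⟩ := hcov _ hX'
    refine ⟨i, e g, ?_⟩
    have hXe : X = (X.map e.symm.toMonoidHom).map e.toMonoidHom := by
      rw [Subgroup.map_map]
      have : (e.toMonoidHom.comp e.symm.toMonoidHom) = MonoidHom.id H := by
        ext x
        simp
      rw [this, Subgroup.map_id]
    show X.map (MulAut.conj (e g)).toMonoidHom = (Y i).map e.toMonoidHom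
    rw [← hg, map_conj_map, ← hXe]

end Cfsg.Agent.Helper42.O7
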