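import Cfsg.Agent.Helper91.O7.Defs

/-!
# Helper42 / S5514 piece (Z): from elements to subgroups of order three
-/

set_option autoImplicit false

open Cfsg.Agent.Helper91.O7

namespace Cfsg.Agent.Helper42.O7

open Matrix

/-- the image of `zpowers x` under conjugation by `k` -/
theorem zpowers_conj {G : Type*} [Group G] (k x : G) :
    (Subgroup.zpowers x).map (MulAut.conj k).toMonoidHom = Subgroup.zpowers (k * x * k⁻¹) := by
  rw [MonoidHom.map_zpowers]
  rfl

/-- equal cyclic subgroups have equal conjugates -/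
theorem zpowers_conj_congr {G : Type*} [Group G] (k : G) {x y : G}
    (h : Subgroup.zpowers x = Subgroup.zpowers y) :
    Subgroup.zpowers (k * x * k⁻¹) = Subgroup.zpowers (k * y * k⁻¹) := by
  rw [← zpowers_conj, ← zpowers_conj, h]

theorem zconj_refl {G : Type*} [Group G] (K : Subgroup G) (x : G) : zconj K x x := by
  refine ⟨1, K.one_mem, ?_⟩
  rw [one_mul, inv_one, mul_one]

theorem zconj_symm {G : Type*} [Group G] {K : Subgroup G} {x y : G} (h : zconj K x y) :
    zconj K y x := by
  obtain ⟨k, hk, hkx⟩ := h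
  refine ⟨k⁻¹, K.inv_mem hk, ?_⟩
  rw [← zpowers_conj_congr k⁻¹ hkx]
  congr 1
  group

theorem zconj_trans {G : Type*} [Group G] {K : Subgroup G} {x y z : G} (h : zconj K x y)
    (h' : zconj K y z) : zconj K x z := by
  obtain ⟨k, hk, hkx⟩ := h
  obtain ⟨k', hk', hky⟩ := h'
  refine ⟨k' * k, K.mul_mem hk' hk, ?_⟩
  rw [← hky, ← zpowers_conj_congr k' hkx]
  congr 1
  group

theorem zconj_of_conj {G : Type*} [Group G] {K : Subgroup G} {x y k : G} (hk : k ∈ K)
    (h : k * x = y * k) : zconj K x y := by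
  refine ⟨k, hk, ?_⟩
  rw [h, mul_inv_cancel_right]

theorem zconj_sq {G : Type*} [Group G] (K : Subgroup G) {x : G} (hx : x ^ 3 = 1) :
    zconj K x (x ^ 2) := by
  refine ⟨1, K.one_mem, ?_⟩
  rw [one_mul, inv_one, mul_one]
  apply le_antisymm
  · rw [Subgroup.zpowers_le]
    have h4 : (x ^ 2) ^ 2 = x := by
      rw [← pow_mul]
      calc x ^ (2 * 2) = x ^ 3 * x := by rw [← pow_succ]
        _ = x := by rw [hx, one_mul]
    have hmem : (x ^ 2) ^ 2 ∈ Subgroup.zpowers (x ^ 2) :=
      Subgroup.pow_mem _ (Subgroup.mem_zpowers (x ^ 2)) 2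
    rwa [h4] at hmem
  · rw [Subgroup.zpowers_le]
    exact Subgroup.pow_mem _ (Subgroup.mem_zpowers x) 2

/-- cyclic subgroups of a subgroup, compared in the ambient group -/
theorem zpowers_eq_of_coe {G : Type*} [Group G] {K : Subgroup G} {a b : K}
    (h : Subgroup.zpowers (a : G) = Subgroup.zpowers (b : G)) :
    Subgroup.zpowers a = Subgroup.zpowers b := by
  apply Subgroup.map_injective K.subtype_injective
  rw [MonoidHom.map_zpowers, MonoidHom.map_zpowers]
  exact h

theorem coe_zpowers_eq {G : Type*} [Group G] {K : Subgroup G} {a b : K}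
    (h : Subgroup.zpowers a = Subgroup.zpowers b) :
    Subgroup.zpowers (a : G) = Subgroup.zpowers (b : G) := by
  have := congrArg (Subgroup.map K.subtype) h
  rw [MonoidHom.map_zpowers, MonoidHom.map_zpowers] at this
  exact this

/-- the classes of subgroups of order three of `K` from the classes of its elements of order
three -/
theorem classesOK_of_elements {G : Type*} [Group G] (K : Subgroup G) {n : ℕ} (y : Fin n → G)
    (hyK : ∀ i, y i ∈ K) (hy3 : ∀ i, y i ^ 3 = 1) (hy1 : ∀ i, y i ≠ 1)
    (sep : ∀ i j, zconj K (y i) (y j) → i = j)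
    (cov : ∀ x ∈ K, x ^ 3 = 1 → x ≠ 1 → ∃ i, zconj K x (y i)) :
    ClassesOK K n := by
  have : Fact (Nat.Prime 3) := ⟨Nat.prime_three⟩
  refine ⟨fun i => Subgroup.zpowers (⟨y i, hyK i⟩ : K), ?_, ?_, ?_⟩
  · intro i
    rw [Nat.card_zpowers]
    apply orderOf_eq_prime
    · exact Subtype.ext (by simpa using hy3 i)
    · intro h
      exact hy1 i (congrArg Subtype.val h)
  · intro i j ⟨g, hg⟩
    apply sep i j
    refine ⟨g.val, g.2, ?_⟩
    rw [zpowers_conj] at hg
    exact coe_zpowers_eq hg
  · intro X hX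
    -- a generator of `X`
    have : Finite X := Nat.finite_of_card_ne_zero (by rw [hX]; norm_num)
    have hnt : Nontrivial X := by
      rw [← Finite.one_lt_card_iff_nontrivial, hX]; norm_num
    obtain ⟨x, hx1⟩ := exists_ne (1 : X)
    have hxord : orderOf x = 3 := by
      have hdvd : orderOf x ∣ 3 := by
        rw [← hX]; exact orderOf_dvd_natCard x
      rcases (Nat.dvd_prime Nat.prime_three).1 hdvd with h | h
      · exact absurd (orderOf_eq_one_iff.1 h) hx1
      · exact h
    have hxK : ((x : K) : G) ∈ K := (x : K).2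
    have hx3 : ((x : K) : G) ^ 3 = 1 := by
      have : x ^ 3 = 1 := by rw [← hxord]; exact pow_orderOf_eq_one x
      have := congrArg (fun z : X => ((z : K) : G)) this
      simpa using this
    have hxne : ((x : K) : G) ≠ 1 := by
      intro h
      apply hx1
      apply Subtype.ext
      apply Subtype.ext
      simpa using h
    have hXz : X = Subgroup.zpowers (x : K) := by
      symm
      apply Subgroup.eq_of_le_of_card_ge
      · rw [Subgroup.zpowers_le]; exact x.2
      · rw [Nat.card_zpowers, hX]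
        have : orderOf (x : K) = orderOf x := Subgroup.orderOf_coe x
        rw [this, hxord]
    obtain ⟨i, k, hk, hkx⟩ := cov _ hxK hx3 hxne
    refine ⟨i, ⟨k, hk⟩, ?_⟩
    show X.map (MulAut.conj (⟨k, hk⟩ : K)).toMonoidHom = Subgroup.zpowers (⟨y i, hyK i⟩ : K)
    rw [hXz, zpowers_conj]
    apply zpowers_eq_of_coe
    exact hkx

end Cfsg.Agent.Helper42.O7
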