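import Mathlib
import Cfsg.Agent.Helper99.O9.Defs
import Cfsg.Agent.Helper99.O9.C7Defs
import Cfsg.Agent.Helper44.Spinor
import Cfsg.Agent.Helper94.Eo.P_CHAR

set_option autoImplicit false
set_option linter.unusedSectionVars false
set_option linter.unusedVariables false

/-!
# S2517 (C7) piece (CHSR) for helper99: the characteristic polynomial of an isometry of a
non-degenerate quadratic form is self-reciprocal up to a non-zero constant.
-/

namespace Cfsg.Agent.Helper42.O9

open Matrix Polynomial QuadraticMap Cfsg.Agent.Helper44 Cfsg.Agent.Helper44.QType Cfsg.Agent.Helper94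
  Cfsg.Agent.Helper99.O9

universe u

variable {F : Type u} [Field F] [Fintype F]

/-- the Gram matrix of the polar form of a quadratic form on `ι → F` -/
theorem CHSR_gram {ι : Type} [Fintype ι] [DecidableEq ι] (Q : QuadraticForm F (ι → F)) :
    ∃ B : Matrix ι ι F, ∀ u v : ι → F, Q (u + v) - Q u - Q v = u ⬝ᵥ B *ᵥ v := by
  refine ⟨LinearMap.BilinForm.toMatrix' (QuadraticMap.polarBilin Q), ?_⟩
  intro u v
  rw [← Matrix.toBilin'_apply', Matrix.toBilin'_toMatrix']
  rfl

/-- (CHSR) -/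
theorem charpoly_sr (hF : Odd (Fintype.card F)) {P : OPair F} (hP : P.ND) : Eo.SR P.M.charpoly := by
  obtain ⟨B, hB⟩ := CHSR_gram P.Q
  have hpol : ∀ u v : P.ι → F, polar P.Q u v = u ⬝ᵥ B *ᵥ v := fun u v => hB u v
  have hdetB : B.det ≠ 0 := by
    intro h0
    obtain ⟨x, hx0, hx⟩ := (Matrix.exists_mulVec_eq_zero_iff (M := B)).mpr h0
    apply hx0
    apply hP x
    intro y
    rw [QuadraticMap.polar_comm, hpol, hx, dotProduct_zero]
  have hgram : P.Mᵀ * B * P.M = B :=
    Eo.gram_of_isometry (⇑P.Q) B hB P.M (fun v => Eo.isometry_of_mem (⇑P.Q) P.g v)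
  obtain ⟨hdet, hrev⟩ := Eo.charpoly_reverse_of_gram P.M B hdetB hgram
  have hdet0 : P.M.det ≠ 0 := by
    intro h0
    rw [h0, mul_zero] at hdet
    exact zero_ne_one hdet
  have hsign : ((-1 : F)) ^ Fintype.card P.ι ≠ 0 := pow_ne_zero _ (neg_ne_zero.mpr one_ne_zero)
  refine ⟨?_, P.M.det * (-1) ^ Fintype.card P.ι, mul_ne_zero hdet0 hsign, hrev⟩
  intro h0
  have := Matrix.det_eq_sign_charpoly_coeff P.M
  rw [h0, mul_zero] at this
  exact hdet0 this

end Cfsg.Agent.Helper42.O9
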