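import Mathlib
import Cfsg.Agent.Helper99.O9.Defs
import Cfsg.Agent.Helper99.O9.C7Defs
import Cfsg.Agent.Helper44.Spinor
import Cfsg.Agent.Helper76.BCPM1

set_option autoImplicit false
set_option linter.unusedSectionVars false
set_option linter.unusedVariables false

/-!
# S2517 (C7) piece (CYC) for helper99: the sign of a semiregular isometry of even order `N` on a
level set `{Q = c}`, `c ≠ 0`, is `(-1)^(|{Q = c}|/N)`.
-/

namespace Cfsg.Agent.Helper42.O9

open Matrix Polynomial QuadraticMap Cfsg.Agent.Helper44 Cfsg.Agent.Helper44.QType Cfsg.Agent.Helper94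
  Cfsg.Agent.Helper99.O9

universe u

variable {F : Type u} [Field F] [Fintype F]

omit [Fintype F] in
theorem CYC_M_pow (P : OPair F) (j : ℕ) :
    (((P.g ^ j : ↥(Cfsg.isometryGroup F ⇑P.Q)) : GL P.ι F) : Matrix P.ι P.ι F) = P.M ^ j := by
  unfold OPair.M
  rw [Subgroup.coe_pow, Units.val_pow_eq_pow_val]

omit [Fintype F] in
theorem CYC_pow_eq_one_iff (P : OPair F) (j : ℕ) : P.g ^ j = 1 ↔ P.M ^ j = 1 := by
  rw [← CYC_M_pow]
  constructor
  · intro h
    rw [h]
    rfl
  · intro h
    apply Subtype.ext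
    apply Units.ext
    exact h

theorem CYC_pow_val (P : OPair F) (c : F) (j : ℕ) (x : LevelSet (⇑P.Q) c) :
    (((MulAction.toPerm P.g : Equiv.Perm (LevelSet (⇑P.Q) c)) ^ j) x).val =
      (P.M ^ j) *ᵥ x.val := by
  have h1 : (MulAction.toPerm P.g : Equiv.Perm (LevelSet (⇑P.Q) c)) ^ j =
      MulAction.toPerm (P.g ^ j) := by
    have := map_pow (MulAction.toPermHom (↥(Cfsg.isometryGroup F ⇑P.Q)) (LevelSet (⇑P.Q) c)) P.g j
    exact this.symm
  rw [h1, MulAction.toPerm_apply, LevelSet.smul_val, CYC_M_pow]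

/-- (CYC) -/
theorem signChar_of_semi {P : OPair F} (h : P.Semi) (he : Even P.ord) (c : F) (hc : c ≠ 0) :
    signChar (⇑P.Q) c P.g = (-1) ^ (Nat.card {v : P.ι → F // P.Q v = c} / P.ord) := by
  classical
  set N := P.ord with hN
  have hNpos : 0 < N := orderOf_pos P.g
  have hN2 : 2 ≤ N := by
    obtain ⟨t, ht⟩ := he
    omega
  set σ : Equiv.Perm (LevelSet (⇑P.Q) c) := MulAction.toPerm P.g with hσ
  have hgN : P.g ^ N = 1 := pow_orderOf_eq_one P.g
  have hper : ∀ x : LevelSet (⇑P.Q) c, Function.minimalPeriod σ x = N := by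
    intro x
    have hNper : Function.IsPeriodicPt σ N x := by
      show σ^[N] x = x
      rw [← Equiv.Perm.coe_pow]
      apply LevelSet.ext'
      rw [CYC_pow_val, (CYC_pow_eq_one_iff P N).mp hgN, Matrix.one_mulVec]
    have hdvd : Function.minimalPeriod σ x ∣ N := hNper.minimalPeriod_dvd
    set j := Function.minimalPeriod σ x with hj
    have hjper : σ^[j] x = x := Function.iterate_minimalPeriod
    rw [← Equiv.Perm.coe_pow] at hjper
    have h1 : (P.M ^ j) *ᵥ x.val = x.val := by
      rw [← CYC_pow_val]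
      exact congrArg LevelSet.val hjper
    rcases h j with h2 | h2
    · have : P.g ^ j = 1 := (CYC_pow_eq_one_iff P j).mpr h2
      exact Nat.dvd_antisymm hdvd (orderOf_dvd_of_pow_eq_one this)
    · exfalso
      have h3 : (P.M ^ j - 1) *ᵥ x.val = 0 := by
        rw [Matrix.sub_mulVec, h1, Matrix.one_mulVec, sub_self]
      obtain ⟨u, hu⟩ := h2
      have h4 : x.val = 0 := by
        have := congrArg (fun w => (↑u⁻¹ : Matrix P.ι P.ι F) *ᵥ w) h3
        simp only [Matrix.mulVec_mulVec, Matrix.mulVec_zero] at this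
        rw [← hu, Units.inv_mul, Matrix.one_mulVec] at this
        exact this
      have h5 := x.prop
      rw [h4, map_zero] at h5
      exact hc h5.symm
  have hnofix : IsEmpty {x : LevelSet (⇑P.Q) c // σ x = x} := by
    constructor
    rintro ⟨x, hx⟩
    have h1 : Function.minimalPeriod σ x = 1 := Function.minimalPeriod_eq_one_iff_isFixedPt.mpr hx
    rw [hper x] at h1
    omega
  obtain ⟨K, hK, hsign⟩ := Cfsg.Agent.Helper76.BC.sign_of_uniform_period σ N he hNpos
    (fun x _ => hper x)
  rw [Fintype.card_eq_zero_iff.mpr hnofix, add_zero] at hK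
  have hcardX : Nat.card {v : P.ι → F // P.Q v = c} = Fintype.card (LevelSet (⇑P.Q) c) := by
    rw [← Nat.card_eq_fintype_card]
    apply Nat.card_congr
    exact { toFun := fun v => ⟨v.1, v.2⟩
            invFun := fun x => ⟨x.val, x.prop⟩
            left_inv := fun v => rfl
            right_inv := fun x => rfl }
  rw [signChar_apply, ← hσ, hsign, hcardX, ← hK, Nat.mul_div_cancel _ hNpos]

end Cfsg.Agent.Helper42.O9
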