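import Mathlib
import Cfsg.Agent.Helper19.OpBN.Defs

/-!
# S2548 piece (CN): conjugation by `s_k` does not preserve the Borel subgroup
-/

set_option autoImplicit false

namespace Cfsg.Agent.Helper42.OpBN

open Matrix Cfsg.Agent.Helper19.OpBN

variable {F : Type*} [Field F] {m : ℕ}

/-- the entries of a matrix multiplied by a permutation matrix on both sides -/
theorem CN_conj_apply (σ : Equiv.Perm (Fin (2 * m))) (M : Matrix (Fin (2 * m)) (Fin (2 * m)) F)
    (i j : Fin (2 * m)) :
    ((pMat σ * M * pMat σ : Matrix (Fin (2 * m)) (Fin (2 * m)) F)) i j = M (σ⁻¹ i) (σ j) := by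
  rw [Matrix.mul_apply, Finset.sum_eq_single (σ j)]
  · rw [pMat_apply, if_pos rfl, mul_one, Matrix.mul_apply, Finset.sum_eq_single (σ⁻¹ i)]
    · rw [pMat_apply, if_pos (by simp), one_mul]
    · intro b _ hb
      rw [pMat_apply, if_neg, zero_mul]
      intro h
      apply hb
      rw [h]
      simp
    · intro h
      exact absurd (Finset.mem_univ _) h
  · intro b _ hb
    rw [pMat_apply, if_neg hb, mul_zero]
  · intro h
    exact absurd (Finset.mem_univ _) h

/-- (CN) -/
theorem conj_ne_A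
    (hX : ∀ (a b : Fin (2 * m)), a ≠ b → a ≠ Fin.rev b → ∀ t : F, IsOJ (xMat a b t))
    (k : Fin (m - 1)) :
    (fun b : OG m F => sA k * b * sA k) '' (Bsub m F : Set (OG m F)) ≠ (Bsub m F : Set (OG m F)) := by
  intro heq
  have hk := k.2
  have hab : ia k ≠ ib k := by
    intro h
    have := congrArg Fin.val h
    rw [val_ia, val_ib] at this
    omega
  have hab' : ia k ≠ Fin.rev (ib k) := by
    intro h
    have := congrArg Fin.val h
    rw [val_ia, val_rev, val_ib] at this
    omega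
  have hba' : ¬ (Fin.rev (ib k) = ia k ∧ Fin.rev (ia k) = ib k) := fun h => hab' h.1.symm
  obtain ⟨x, hx⟩ := exists_of_isOJ (hX (ia k) (ib k) hab hab' (1 : F))
  have hxB : x ∈ Bsub m F := by
    rw [mem_Bsub_iff]
    intro a b hlt
    rw [hx, xMat_apply]
    have h1 : ¬ a = b := fun h => by rw [h] at hlt; exact lt_irrefl _ hlt
    have h2 : ¬ (ia k = a ∧ ib k = b) := by
      rintro ⟨rfl, rfl⟩
      rw [Fin.lt_def, val_ia, val_ib] at hlt
      omega
    have h3 : ¬ (Fin.rev (ib k) = a ∧ Fin.rev (ia k) = b) := by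
      rintro ⟨rfl, rfl⟩
      rw [Fin.lt_def, val_rev, val_rev, val_ia, val_ib] at hlt
      omega
    rw [if_neg h1, if_neg h2, if_neg h3]
    ring
  have hmem : sA k * x * sA k ∈ (Bsub m F : Set (OG m F)) := by
    rw [← heq]
    exact ⟨x, hxB, rfl⟩
  have h0 := (mem_Bsub_iff _).1 hmem (ib k) (ia k) (by
    rw [Fin.lt_def, val_ia, val_ib]
    omega)
  rw [mat_mul, mat_mul, mat_sA, CN_conj_apply] at h0
  have hs1 : sPerm k (ia k) = ib k := by
    apply Fin.ext
    rw [val_sPerm, val_ia, val_ib, if_pos rfl]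
  have hs2 : (sPerm k)⁻¹ (ib k) = ia k := by
    rw [Equiv.Perm.inv_eq_iff_eq, hs1]
  rw [hs1, hs2, hx, xMat_apply, if_neg hab, if_pos ⟨rfl, rfl⟩, if_neg hba'] at h0
  simp at h0

end Cfsg.Agent.Helper42.OpBN
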