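import Mathlib
import Cfsg.Agent.Helper49.SylowExtra

set_option autoImplicit false
set_option linter.unusedSectionVars false

/-!
# Sylow `2`-subgroups of an extension of degree two of a group with "opposite" Sylow subgroups

`N ⊴ G` of index two, `𝔅 ≤ N` a self-normalizing `2`-subgroup such that the conjugates of `𝔅`
meeting `𝔅` trivially form a single `𝔅`-orbit (`g ∈ 𝔅 w 𝔅`).  Then any two Sylow `2`-subgroups
of `G` meet non-trivially.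
-/

namespace Cfsg.Agent.Helper42

open Cfsg.Agent.Helper49

section
variable {G : Type*} [Group G] [Finite G]

/-- a self-normalizing `p`-subgroup is a Sylow subgroup -/
theorem exists_sylow_eq_of_self_normalizing {K : Type*} [Group K] [Finite K] {p : ℕ} [Fact p.Prime]
    (B : Subgroup K) (h1 : IsPGroup p B) (h2 : ∀ g : K, (∀ b ∈ B, g * b * g⁻¹ ∈ B) → g ∈ B) :
    ∃ Q : Sylow p K, (Q : Subgroup K) = B := by
  obtain ⟨Q, hQ⟩ := h1.exists_le_sylow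
  refine ⟨Q, ?_⟩
  by_contra hne
  have hlt : B.subgroupOf (Q : Subgroup K) < ⊤ := by
    rw [lt_top_iff_ne_top]
    intro htop
    apply hne
    apply le_antisymm _ hQ
    intro x hx
    have : (⟨x, hx⟩ : ↥(Q : Subgroup K)) ∈ B.subgroupOf (Q : Subgroup K) := by rw [htop]; trivial
    exact Subgroup.mem_subgroupOf.mp this
  have hnil : Group.IsNilpotent ↥(Q : Subgroup K) := Q.isPGroup'.isNilpotent
  have hnc := Group.normalizerCondition_of_isNilpotent (G := ↥(Q : Subgroup K))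
  obtain ⟨x, hxn, hxB⟩ := SetLike.exists_of_lt (hnc _ hlt)
  apply hxB
  rw [Subgroup.mem_subgroupOf]
  apply h2
  intro b hb
  have hbQ : b ∈ (Q : Subgroup K) := hQ hb
  have := (Subgroup.mem_normalizer_iff.mp hxn ⟨b, hbQ⟩).mp (Subgroup.mem_subgroupOf.mpr hb)
  rw [Subgroup.mem_subgroupOf] at this
  simpa using this

theorem sylow_not_le_of_index_two (N : Subgroup G) (hidx : N.index = 2) (H : Sylow 2 G) :
    ∃ h ∈ (H : Subgroup G), h ∉ N := by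
  by_contra hcon
  push Not at hcon
  have hle : (H : Subgroup G) ≤ N := hcon
  have h1 : N.index ∣ (H : Subgroup G).index := Subgroup.index_dvd_of_le hle
  rw [hidx] at h1
  haveI : Fact (Nat.Prime 2) := ⟨Nat.prime_two⟩
  exact H.not_dvd_index h1

/-- `H ∩ N` is an `N`-conjugate of the Sylow subgroup `𝔅` of `N` -/
theorem exists_conj_of_sylow_inf (N : Subgroup G) [N.Normal] (Q : Sylow 2 ↥N) (H : Sylow 2 G) :
    ∃ a : ↥N, ∀ y : ↥N, (y : G) ∈ (H : Subgroup G) ↔ a⁻¹ * y * a ∈ (Q : Subgroup ↥N) := by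
  haveI : Fact (Nat.Prime 2) := ⟨Nat.prime_two⟩
  set P : Sylow 2 ↥N := (isSylowOf_inf_of_normal H N).toSylow with hP
  have hPc : (P : Subgroup ↥N) = ((H : Subgroup G) ⊓ N).subgroupOf N :=
    (isSylowOf_inf_of_normal H N).coe_toSylow
  obtain ⟨a, ha⟩ := MulAction.exists_smul_eq ↥N Q P
  refine ⟨a, fun y => ?_⟩
  have h1 : y ∈ (P : Subgroup ↥N) ↔ (y : G) ∈ (H : Subgroup G) := by
    rw [hPc, Subgroup.mem_subgroupOf, Subgroup.mem_inf]
    exact ⟨fun h => h.1, fun h => ⟨h, y.2⟩⟩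
  rw [← h1, ← ha, Sylow.smul_def, Sylow.pointwise_smul_def,
    Subgroup.mem_pointwise_smul_iff_inv_smul_mem, MulAut.smul_def, ← map_inv, MulAut.conj_apply,
    inv_inv]

theorem sylow_inter_ne_bot_of_opposite (N : Subgroup G) [N.Normal] (hidx : N.index = 2)
    (𝔅 : Subgroup ↥N) (h1 : IsPGroup 2 𝔅)
    (h2 : ∀ g : ↥N, (∀ b ∈ 𝔅, g * b * g⁻¹ ∈ 𝔅) → g ∈ 𝔅)
    (w : ↥N)
    (h3 : ∀ g : ↥N, (∀ b ∈ 𝔅, g * b * g⁻¹ ∈ 𝔅 → b = 1) → ∃ u ∈ 𝔅, ∃ b ∈ 𝔅, g = u * w * b)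
    (H₁ H₂ : Sylow 2 G) : (H₁ : Subgroup G) ⊓ (H₂ : Subgroup G) ≠ ⊥ := by
  haveI : Fact (Nat.Prime 2) := ⟨Nat.prime_two⟩
  intro hbot
  have hbot' : ∀ x : G, x ∈ (H₁ : Subgroup G) → x ∈ (H₂ : Subgroup G) → x = 1 := by
    intro x hx1 hx2
    have : x ∈ (H₁ : Subgroup G) ⊓ (H₂ : Subgroup G) := ⟨hx1, hx2⟩
    rw [hbot] at this
    exact Subgroup.mem_bot.mp this
  obtain ⟨Q, hQ⟩ := exists_sylow_eq_of_self_normalizing 𝔅 h1 h2
  -- the general "opposite" step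
  have opp : ∀ (K K' : Sylow 2 G) (a a' : ↥N),
      (∀ y : ↥N, (y : G) ∈ (K : Subgroup G) ↔ a⁻¹ * y * a ∈ 𝔅) →
      (∀ y : ↥N, (y : G) ∈ (K' : Subgroup G) ↔ a'⁻¹ * y * a' ∈ 𝔅) →
      (∀ x : G, x ∈ (K : Subgroup G) → x ∈ (K' : Subgroup G) → x = 1) →
      ∃ u ∈ 𝔅, ∃ b ∈ 𝔅, a⁻¹ * a' = u * w * b := by
    intro K K' a a' hK hK' hKK
    apply h3
    intro b hb hgb
    have hy' : ((a' * b * a'⁻¹ : ↥N) : G) ∈ (K' : Subgroup G) := by
      rw [hK']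
      have : a'⁻¹ * (a' * b * a'⁻¹) * a' = b := by group
      rw [this]; exact hb
    have hy : ((a' * b * a'⁻¹ : ↥N) : G) ∈ (K : Subgroup G) := by
      rw [hK]
      have : a⁻¹ * (a' * b * a'⁻¹) * a = a⁻¹ * a' * b * (a⁻¹ * a')⁻¹ := by group
      rw [this]; exact hgb
    have h1' := hKK _ hy hy'
    have h2' : a' * b * a'⁻¹ = 1 := Subtype.ext h1'
    calc b = a'⁻¹ * (a' * b * a'⁻¹) * a' := by group
      _ = 1 := by rw [h2']; group
  obtain ⟨a₁, hα₁⟩ := exists_conj_of_sylow_inf N Q H₁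
  obtain ⟨a₂, hα₂⟩ := exists_conj_of_sylow_inf N Q H₂
  rw [hQ] at hα₁ hα₂
  obtain ⟨u, hu, b₀, hb₀, huwb⟩ := opp H₁ H₂ a₁ a₂ hα₁ hα₂ hbot'
  obtain ⟨h, hhH, hhN⟩ := sylow_not_le_of_index_two N hidx H₁
  obtain ⟨h₂, hh₂H, hh₂N⟩ := sylow_not_le_of_index_two N hidx H₂
  -- the conjugate Sylow subgroup
  set H₂' : Sylow 2 G := h • H₂ with hH₂'
  have hmem' : ∀ x : G, x ∈ (H₂' : Subgroup G) ↔ h⁻¹ * x * h ∈ (H₂ : Subgroup G) := by
    intro x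
    rw [hH₂', Sylow.smul_def, Sylow.pointwise_smul_def,
      Subgroup.mem_pointwise_smul_iff_inv_smul_mem, MulAut.smul_def, ← map_inv, MulAut.conj_apply,
      inv_inv]
  obtain ⟨a₃, hα₃⟩ := exists_conj_of_sylow_inf N Q H₂'
  rw [hQ] at hα₃
  have hbot'' : ∀ x : G, x ∈ (H₁ : Subgroup G) → x ∈ (H₂' : Subgroup G) → x = 1 := by
    intro x hx1 hx2
    rw [hmem'] at hx2
    have hx1' : h⁻¹ * x * h ∈ (H₁ : Subgroup G) :=
      (H₁ : Subgroup G).mul_mem ((H₁ : Subgroup G).mul_mem ((H₁ : Subgroup G).inv_mem hhH) hx1) hhH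
    have := hbot' _ hx1' hx2
    calc x = h * (h⁻¹ * x * h) * h⁻¹ := by group
      _ = 1 := by rw [this]; group
  obtain ⟨u', hu', b', hb', huwb'⟩ := opp H₁ H₂' a₁ a₃ hα₁ hα₃ hbot''
  -- the element `p`
  set p : ↥N := a₁ * u' * u⁻¹ * a₁⁻¹ with hp
  have hpH : (p : G) ∈ (H₁ : Subgroup G) := by
    rw [hα₁]
    have : a₁⁻¹ * p * a₁ = u' * u⁻¹ := by rw [hp]; group
    rw [this]
    exact 𝔅.mul_mem hu' (𝔅.inv_mem hu)
  have hpa : p * a₂ = a₃ * (b'⁻¹ * b₀) := by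
    have e2 : a₂ = a₁ * (u * w * b₀) := by rw [← huwb]; group
    have e3 : a₃ = a₁ * (u' * w * b') := by rw [← huwb']; group
    rw [hp, e2, e3]; group
  set y : G := (p : G)⁻¹ * h with hy
  have hyH : y ∈ (H₁ : Subgroup G) :=
    (H₁ : Subgroup G).mul_mem ((H₁ : Subgroup G).inv_mem hpH) hhH
  have hyN : y ∉ N := by
    intro hcon
    apply hhN
    have := N.mul_mem p.2 hcon
    rwa [hy, mul_inv_cancel_left] at this
  -- `y` normalizes `H₂ ∩ N`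
  have hynorm : ∀ v : ↥N, (v : G) ∈ (H₂ : Subgroup G) → y * v * y⁻¹ ∈ (H₂ : Subgroup G) := by
    intro v hv
    have hXN : h * (v : G) * h⁻¹ ∈ N := (inferInstance : N.Normal).conj_mem _ v.2 h
    set X : ↥N := ⟨h * (v : G) * h⁻¹, hXN⟩ with hX
    have hX' : (X : G) ∈ (H₂' : Subgroup G) := by
      rw [hmem']
      have : h⁻¹ * (X : G) * h = v := by rw [hX]; group
      rw [this]; exact hv
    have h3' := (hα₃ X).mp hX'
    have h4 : ((p⁻¹ * X * p : ↥N) : G) = y * v * y⁻¹ := by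
      rw [hy, hX]
      simp only [Subgroup.coe_mul, Subgroup.coe_inv]
      group
    rw [← h4, hα₂]
    have h5 : a₂⁻¹ * (p⁻¹ * X * p) * a₂ = (b'⁻¹ * b₀)⁻¹ * (a₃⁻¹ * X * a₃) * (b'⁻¹ * b₀) := by
      have : a₂⁻¹ * (p⁻¹ * X * p) * a₂ = (p * a₂)⁻¹ * X * (p * a₂) := by group
      rw [this, hpa]; group
    rw [h5]
    have hbb : b'⁻¹ * b₀ ∈ 𝔅 := 𝔅.mul_mem (𝔅.inv_mem hb') hb₀
    exact 𝔅.mul_mem (𝔅.mul_mem (𝔅.inv_mem hbb) h3') hbb
  -- `ν = y h₂⁻¹ ∈ N` normalizes `H₂ ∩ N`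
  have hνN : y * h₂⁻¹ ∈ N := by
    rw [Subgroup.mul_mem_iff_of_index_two hidx]
    constructor
    · intro h'; exact absurd h' hyN
    · intro h'; exact absurd (by simpa using N.inv_mem h') hh₂N
  set ν : ↥N := ⟨y * h₂⁻¹, hνN⟩ with hν
  have hνnorm : ∀ v : ↥N, (v : G) ∈ (H₂ : Subgroup G) →
      ((ν * v * ν⁻¹ : ↥N) : G) ∈ (H₂ : Subgroup G) := by
    intro v hv
    have hv'N : h₂⁻¹ * (v : G) * h₂ ∈ N := by
      have := (inferInstance : N.Normal).conj_mem _ v.2 h₂⁻¹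
      simpa using this
    set v' : ↥N := ⟨h₂⁻¹ * (v : G) * h₂, hv'N⟩ with hv'
    have hv'H : (v' : G) ∈ (H₂ : Subgroup G) :=
      (H₂ : Subgroup G).mul_mem ((H₂ : Subgroup G).mul_mem ((H₂ : Subgroup G).inv_mem hh₂H) hv) hh₂H
    have := hynorm v' hv'H
    have e : ((ν * v * ν⁻¹ : ↥N) : G) = y * (v' : G) * y⁻¹ := by
      rw [hν, hv']
      simp only [Subgroup.coe_mul, Subgroup.coe_inv]
      group
    rw [e]; exact this
  have hν𝔅 : a₂⁻¹ * ν * a₂ ∈ 𝔅 := by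
    apply h2
    intro b hb
    have hvH : ((a₂ * b * a₂⁻¹ : ↥N) : G) ∈ (H₂ : Subgroup G) := by
      rw [hα₂]
      have : a₂⁻¹ * (a₂ * b * a₂⁻¹) * a₂ = b := by group
      rw [this]; exact hb
    have := (hα₂ _).mp (hνnorm _ hvH)
    have e : a₂⁻¹ * (ν * (a₂ * b * a₂⁻¹) * ν⁻¹) * a₂ =
        a₂⁻¹ * ν * a₂ * b * (a₂⁻¹ * ν * a₂)⁻¹ := by group
    rwa [e] at this
  have hνH : (ν : G) ∈ (H₂ : Subgroup G) := (hα₂ ν).mpr hν𝔅
  have hyH₂ : y ∈ (H₂ : Subgroup G) := by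
    have := (H₂ : Subgroup G).mul_mem hνH hh₂H
    have e : (ν : G) * h₂ = y := by rw [hν]; simp
    rwa [e] at this
  have hy1 := hbot' y hyH hyH₂
  apply hyN
  rw [hy1]
  exact N.one_mem

end

end Cfsg.Agent.Helper42
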