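import Mathlib
import Cfsg.Agent.Helper99.P4Defs

/-!
# S6000 farm (helper99), piece (E1): scalars and `R0` lie in `N0`
-/

set_option autoImplicit false
open scoped MatrixGroups

namespace Cfsg.Agent.Helper42.P4

open Matrix Polynomial Cfsg.Agent.Helper99.P4 Cfsg.Geo

variable {F : Type*} [Field F]

/-- (E1) scalars -/
theorem scalar_mem_N0 {i : F} (hi : i ^ 2 = -1) (g : GL (Fin 4) F) (c : F)
    (hg : (g : Matrix (Fin 4) (Fin 4) F) = c • 1) : g ∈ N0 i hi := by
  have hcomm : ∀ h : GL (Fin 4) F, g * h = h * g := by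
    intro h
    apply Units.ext
    rw [Units.val_mul, Units.val_mul, hg, Matrix.smul_mul, Matrix.mul_smul, Matrix.one_mul,
      Matrix.mul_one]
  unfold N0 Cfsg.Geo.subgroupNormalizer
  rw [Subgroup.mem_normalizer_iff]
  intro h
  rw [hcomm h, mul_inv_cancel_right]

/-- (E1') `R0 ≤ N0` -/
theorem R0_le_N0 {i : F} (hi : i ^ 2 = -1) : R0 i hi ≤ N0 i hi := by
  unfold N0 Cfsg.Geo.subgroupNormalizer
  exact Subgroup.le_normalizer

end Cfsg.Agent.Helper42.P4
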