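import Mathlib
import Cfsg.Agent.Helper99.P4Defs

/-!
# S6000 farm (helper99), piece (E3): relations of the matrix `M0 ⊗ M0`
-/

set_option autoImplicit false
open scoped MatrixGroups

namespace Cfsg.Agent.Helper42.P4

open Matrix Polynomial Cfsg.Agent.Helper99.P4 Cfsg.Geo

variable {F : Type*} [Field F]

theorem MM_sq {i : F} (hi : i ^ 2 = -1) :
    MMm i * MMm i = !![2*i, 2, 2, -2*i; 2*i, -2, 2, 2*i; 2*i, 2, -2, 2*i; 2*i, -2, -2, -2*i] := by
  have hi' : i * i = -1 := by rw [← hi]; ring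
  ext a b; fin_cases a <;> fin_cases b <;>
    simp [MMm, Matrix.mul_apply, Fin.sum_univ_four, hi'] <;> ring_nf

/-- (E3) -/
theorem MM_rel {i : F} (hi : i ^ 2 = -1) :
    (MMm i) ^ 3 = (8 * i) • (1 : Matrix (Fin 4) (Fin 4) F) ∧
    MMm i * mX1 = pw (0, 1, 0, 0) * MMm i ∧
    MMm i * mZ1 = i • (pw (1, 1, 0, 0) * MMm i) ∧
    MMm i * mX2 = pw (0, 0, 0, 1) * MMm i ∧
    MMm i * mZ2 = i • (pw (0, 0, 1, 1) * MMm i) ∧
    Matrix.trace (MMm i) = -2 * i := by
  have hi' : i * i = -1 := by rw [← hi]; ring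
  refine ⟨?_, ?_, ?_, ?_, ?_, ?_⟩
  · rw [pow_succ, pow_two, MM_sq hi]
    ext a b; fin_cases a <;> fin_cases b <;>
      simp [MMm, Matrix.mul_apply, Fin.sum_univ_four, hi'] <;> ring_nf <;>
      (try simp only [hi]) <;> (try ring)
  · simp only [pw, z2_v0, z2_v1, pow_zero, pow_one, mul_one, one_mul]
    ext a b; fin_cases a <;> fin_cases b <;>
      simp [MMm, mX1, mZ1, Matrix.mul_apply, Fin.sum_univ_four]
  · simp only [pw, z2_v0, z2_v1, pow_zero, pow_one, mul_one, one_mul]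
    ext a b; fin_cases a <;> fin_cases b <;>
      simp [MMm, mX1, mZ1, Matrix.mul_apply, Fin.sum_univ_four, hi']
  · simp only [pw, z2_v0, z2_v1, pow_zero, pow_one, mul_one, one_mul]
    ext a b; fin_cases a <;> fin_cases b <;>
      simp [MMm, mX2, mZ2, Matrix.mul_apply, Fin.sum_univ_four]
  · simp only [pw, z2_v0, z2_v1, pow_zero, pow_one, mul_one, one_mul]
    ext a b; fin_cases a <;> fin_cases b <;>
      simp [MMm, mX2, mZ2, Matrix.mul_apply, Fin.sum_univ_four, hi']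
  · simp [MMm, Matrix.trace, Fin.sum_univ_four]
    ring

end Cfsg.Agent.Helper42.P4
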