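import Mathlib

/-!
# Counting points of subspaces of a finite projective space modulo `q`
-/

namespace Cfsg.Agent.Helper42

open Projectivization

set_option linter.unusedSectionVars false

section

variable {F : Type*} [Field F] {V : Type*} [AddCommGroup V] [Module F V]

/-- the points of the projective space lying in the subspace `W` -/
def ptsOf (W : Submodule F V) : Set (Projectivization F V) := {x | x.submodule ≤ W}

theorem mem_ptsOf_mk (W : Submodule F V) (v : V) (hv : v ≠ 0) :
    Projectivization.mk F v hv ∈ ptsOf W ↔ v ∈ W := by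
  rw [ptsOf, Set.mem_ofPred_eq, submodule_mk, Submodule.span_singleton_le_iff_mem]

theorem ptsOf_inf (W W' : Submodule F V) : ptsOf (W ⊓ W') = ptsOf W ∩ ptsOf W' := by
  ext x
  simp only [ptsOf, Set.mem_ofPred_eq, Set.mem_inter_iff, le_inf_iff]

/-- the points of `W` are the image of the projective space of `W` -/
theorem ptsOf_eq_range (W : Submodule F V) :
    ptsOf W = Set.range (Projectivization.map W.subtype W.injective_subtype) := by
  ext x
  induction x using Projectivization.ind with
  | h v hv =>
    rw [mem_ptsOf_mk]
    constructor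
    · intro hvW
      refine ⟨Projectivization.mk F (⟨v, hvW⟩ : W) (fun h => hv (congrArg Subtype.val h)), ?_⟩
      rw [map_mk]
      rfl
    · rintro ⟨y, hy⟩
      induction y using Projectivization.ind with
      | h w hw =>
        rw [map_mk, mk_eq_mk_iff] at hy
        obtain ⟨a, ha⟩ := hy
        have ha' : a • v = (w : V) := ha
        have : v = a⁻¹ • (w : V) := by
          rw [← ha', inv_smul_smul]
        rw [this]
        exact W.smul_mem _ w.2

theorem card_ptsOf [Finite F] [Finite V] (W : Submodule F V) :
    Nat.card (ptsOf W) = Nat.card (Projectivization F W) := by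
  rw [ptsOf_eq_range]
  exact Nat.card_range_of_injective
    (Projectivization.map_injective (σ := RingHom.id F) (τ := RingHom.id F) W.subtype
      W.injective_subtype)

/-- a nonzero subspace has `1` modulo `q` points -/
theorem card_ptsOf_modEq [Finite F] [Finite V] (W : Submodule F V) (hW : W ≠ ⊥) :
    Nat.card (ptsOf W) ≡ 1 [MOD Nat.card F] := by
  rw [card_ptsOf]
  have h1 := Projectivization.card' F W
  have hq : 1 < Nat.card F := Finite.one_lt_card
  have hfin : Module.Finite F W := Module.Finite.of_finite
  have h2 : Nat.card W = Nat.card F ^ Module.finrank F W := Module.natCard_eq_pow_finrank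
  have hpos : 0 < Module.finrank F W := by
    rw [Module.finrank_pos_iff]
    exact (Submodule.nontrivial_iff_ne_bot).mpr hW
  have hdvd : Nat.card F ∣ Nat.card W := by
    rw [h2]
    exact dvd_pow_self _ hpos.ne'
  set N := Nat.card (Projectivization F W)
  set q := Nat.card F
  -- `N * (q - 1) + 1 ≡ 0` and `N * (q - 1) + N ≡ 0`
  have e1 : N * (q - 1) + 1 ≡ 0 [MOD q] := by
    rw [← h1]
    exact (Nat.modEq_zero_iff_dvd).mpr hdvd
  have e2 : N * (q - 1) + N ≡ 0 [MOD q] := by
    have : N * (q - 1) + N = N * q := by
      obtain ⟨r, hr⟩ : ∃ r, q = r + 1 := ⟨q - 1, by omega⟩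
      rw [hr]
      simp
      ring
    rw [this]
    exact (Nat.modEq_zero_iff_dvd).mpr (Dvd.intro_left N rfl)
  exact (Nat.ModEq.add_left_cancel' (N * (q - 1)) (e2.trans e1.symm))

end

end Cfsg.Agent.Helper42
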