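import Mathlib
import Cfsg.Agent.Helper42.ProjCount

/-!
# No sharply 2-transitive set of collineations of a finite projective space of dimension ≥ 2
-/

namespace Cfsg.Agent.Helper42

open Projectivization

set_option linter.unusedSectionVars false

section

variable {F : Type*} [Field F] [Finite F]

/-- the coordinate hyperplane `x_i = 0` -/
def hyp (n : ℕ) (i0 : Fin n) : Submodule F (Fin n → F) :=
  LinearMap.ker (LinearMap.proj i0 : (Fin n → F) →ₗ[F] F)

theorem mem_hyp {n : ℕ} {i0 : Fin n} (v : Fin n → F) : v ∈ hyp (F := F) n i0 ↔ v i0 = 0 := by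
  rw [hyp, LinearMap.mem_ker, LinearMap.proj_apply]

theorem finrank_hyp (n : ℕ) (i0 : Fin n) : Module.finrank F (hyp (F := F) n i0) + 1 = n := by
  have h := LinearMap.finrank_range_add_finrank_ker (LinearMap.proj i0 : (Fin n → F) →ₗ[F] F)
  have hr : LinearMap.range (LinearMap.proj i0 : (Fin n → F) →ₗ[F] F) = ⊤ := by
    rw [LinearMap.range_eq_top]
    intro c
    exact ⟨Pi.single i0 c, by simp⟩
  rw [hr, finrank_top, Module.finrank_self, Module.finrank_fin_fun] at h
  rw [hyp]
  omega

/-- the preimage of a hyperplane under a bijective semilinear map meets the hyperplane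
nontrivially in dimension at least 3 -/
theorem hyp_inf_comap_ne_bot (n : ℕ) (hn : 3 ≤ n) (i0 : Fin n) (σ : F ≃+* F)
    (f : (Fin n → F) →ₛₗ[(σ : F →+* F)] (Fin n → F)) (hf : Function.Injective f) :
    hyp (F := F) n i0 ⊓ Submodule.comap f (hyp (F := F) n i0) ≠ ⊥ := by
  set H := hyp (F := F) n i0 with hH
  set H' := Submodule.comap f H with hH'
  have hq : 2 ≤ Nat.card F := Finite.one_lt_card
  have hsurj : Function.Surjective f := Finite.surjective_of_injective hf
  have hcard : Nat.card H' = Nat.card H := by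
    apply Nat.card_congr
    refine Equiv.ofBijective (fun v => ⟨f v.1, v.2⟩) ⟨?_, ?_⟩
    · intro v w hvw
      apply Subtype.ext
      apply hf
      exact congrArg Subtype.val hvw
    · rintro ⟨w, hw⟩
      obtain ⟨v, rfl⟩ := hsurj w
      exact ⟨⟨v, hw⟩, rfl⟩
  have hfr : Module.finrank F H' = Module.finrank F H := by
    have h1 : Nat.card H' = Nat.card F ^ Module.finrank F H' := Module.natCard_eq_pow_finrank
    have h2 : Nat.card H = Nat.card F ^ Module.finrank F H := Module.natCard_eq_pow_finrank
    rw [h1, h2] at hcard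
    exact Nat.pow_right_injective hq hcard
  have h3 := Submodule.finrank_sup_add_finrank_inf_eq H H'
  have h4 : Module.finrank F (H ⊔ H' : Submodule F (Fin n → F)) ≤ n := by
    have := Submodule.finrank_le (H ⊔ H')
    rwa [Module.finrank_fin_fun] at this
  have h5 : Module.finrank F H + 1 = n := finrank_hyp (F := F) n i0
  intro hbot
  rw [hbot, finrank_bot, hfr] at h3
  omega

end

section main

variable {F : Type*} [Field F] [Finite F]

theorem no_sharply_two_transitive (n : ℕ) (hn : 3 ≤ n)
    (S : Set (Equiv.Perm (Projectivization F (Fin n → F))))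
    (hS : ∀ s ∈ S, ∃ (σ : F ≃+* F) (f : (Fin n → F) →ₛₗ[(σ : F →+* F)] (Fin n → F))
      (hf : Function.Injective f), ∀ x, s x = Projectivization.map f hf x) :
    ¬ (∀ a b c d : Projectivization F (Fin n → F), a ≠ b → c ≠ d →
        ∃! s, s ∈ S ∧ s a = c ∧ s b = d) := by
  intro h2
  classical
  have : Finite (Projectivization F (Fin n → F)) :=
    (Projectivization.finite_iff_of_finite F (Fin n → F)).mpr inferInstance
  haveI : Fintype (Projectivization F (Fin n → F)) := Fintype.ofFinite _
  set q := Nat.card F with hqdef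
  have hq : 2 ≤ q := Finite.one_lt_card
  let i0 : Fin n := ⟨0, by omega⟩
  let e0 : Fin n → F := Pi.single i0 1
  have he0 : e0 ≠ 0 := by
    intro h
    have := congrFun h i0
    simp [e0] at this
  let a : Projectivization F (Fin n → F) := Projectivization.mk F e0 he0
  set H := hyp (F := F) n i0 with hH
  have haH : a ∉ ptsOf H := by
    rw [mem_ptsOf_mk, mem_hyp]
    simp [e0]
  have hHne : H ≠ ⊥ := by
    intro hbot
    have := finrank_hyp (F := F) n i0
    rw [← hH, hbot, finrank_bot] at this
    omega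
  let B : Finset (Projectivization F (Fin n → F)) := Finset.univ.filter (· ∈ ptsOf H)
  have hmemB : ∀ b, b ∈ B ↔ b ∈ ptsOf H := fun b => by simp [B]
  have haB : a ∉ B := fun h => haH ((hmemB a).mp h)
  have hBcard : B.card ≡ 1 [MOD q] := by
    have : B.card = Nat.card (ptsOf H) := by
      rw [Nat.card_eq_fintype_card, ← Set.toFinset_card]
      congr 1
      ext b
      simp [B]
    rw [this]
    exact card_ptsOf_modEq H hHne
  let T : Finset (Equiv.Perm (Projectivization F (Fin n → F))) :=
    Finset.univ.filter (fun s => s ∈ S ∧ s a = a)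
  have hmemT : ∀ t, t ∈ T ↔ t ∈ S ∧ t a = a := fun t => by simp [T]
  -- each member of `T` maps `1` modulo `q` points of `B` into `B`
  have key1 : ∀ t ∈ T, (B.filter (fun b => t b ∈ B)).card ≡ 1 [MOD q] := by
    intro t ht
    obtain ⟨htS, -⟩ := (hmemT t).mp ht
    obtain ⟨σ, f, hf, hs⟩ := hS t htS
    have hne := hyp_inf_comap_ne_bot (F := F) n hn i0 σ f hf
    have : (B.filter (fun b => t b ∈ B)).card = Nat.card (ptsOf (H ⊓ Submodule.comap f H)) := by
      rw [Nat.card_eq_fintype_card, ← Set.toFinset_card]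
      congr 1
      ext b
      simp only [Finset.mem_filter, hmemB, Set.mem_toFinset]
      induction b using Projectivization.ind with
      | h v hv =>
        rw [hs, Projectivization.map_mk, mem_ptsOf_mk, mem_ptsOf_mk, mem_ptsOf_mk,
          Submodule.mem_inf, Submodule.mem_comap]
    rw [this]
    exact card_ptsOf_modEq _ hne
  -- for `b ∈ B`, evaluation at `b` is a bijection from `{t ∈ T | t b ∈ B}` to `B`
  have huniq : ∀ b c, b ≠ a → c ≠ a → ∀ t1 ∈ T, ∀ t2 ∈ T, t1 b = c → t2 b = c → t1 = t2 := by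
    intro b c hb hc t1 ht1 t2 ht2 h1 h2'
    obtain ⟨s, -, hs⟩ := h2 a b a c (Ne.symm hb) (Ne.symm hc)
    have e1 := hs t1 ⟨((hmemT t1).mp ht1).1, ((hmemT t1).mp ht1).2, h1⟩
    have e2 := hs t2 ⟨((hmemT t2).mp ht2).1, ((hmemT t2).mp ht2).2, h2'⟩
    rw [e1, e2]
  have hexist : ∀ b c, b ≠ a → c ≠ a → ∃ t ∈ T, t b = c := by
    intro b c hb hc
    obtain ⟨s, ⟨hsS, hsa, hsb⟩, -⟩ := h2 a b a c (Ne.symm hb) (Ne.symm hc)
    exact ⟨s, (hmemT s).mpr ⟨hsS, hsa⟩, hsb⟩
  have hBne : ∀ b ∈ B, b ≠ a := fun b hb h => haB (h ▸ hb)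
  have key2 : ∀ b ∈ B, (T.filter (fun t => t b ∈ B)).card = B.card := by
    intro b hb
    apply Finset.card_bij (fun t _ => t b)
    · intro t ht
      exact (Finset.mem_filter.mp ht).2
    · intro t1 ht1 t2 ht2 h12
      have h1 := Finset.mem_filter.mp ht1
      have h2' := Finset.mem_filter.mp ht2
      exact huniq b (t1 b) (hBne b hb) (hBne _ h1.2) t1 h1.1 t2 h2'.1 rfl h12.symm
    · intro c hc
      obtain ⟨t, ht, htb⟩ := hexist b c (hBne b hb) (hBne c hc)
      exact ⟨t, Finset.mem_filter.mpr ⟨ht, htb ▸ hc⟩, htb⟩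
  -- double counting
  have hdc : ∑ t ∈ T, (B.filter (fun b => t b ∈ B)).card = B.card * B.card := by
    have e1 : ∑ t ∈ T, (B.filter (fun b => t b ∈ B)).card =
        ∑ t ∈ T, ∑ b ∈ B, if t b ∈ B then 1 else 0 := by
      apply Finset.sum_congr rfl
      intro t _
      rw [Finset.card_filter]
    have e2 : ∑ b ∈ B, (T.filter (fun t => t b ∈ B)).card =
        ∑ b ∈ B, ∑ t ∈ T, if t b ∈ B then 1 else 0 := by
      apply Finset.sum_congr rfl
      intro b _
      rw [Finset.card_filter]
    rw [e1, Finset.sum_comm, ← e2, Finset.sum_congr rfl key2, Finset.sum_const, smul_eq_mul]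
  -- the size of `T`
  have hBpos : B.Nonempty := by
    rw [← Finset.card_pos]
    by_contra h0
    have h0' : B.card = 0 := by omega
    rw [h0'] at hBcard
    have := (Nat.modEq_zero_iff_dvd.mp hBcard.symm)
    have := Nat.le_of_dvd one_pos this
    omega
  obtain ⟨b0, hb0⟩ := hBpos
  have hTcard : T.card = (Finset.univ.erase a).card := by
    apply Finset.card_bij (fun t _ => t b0)
    · intro t ht
      rw [Finset.mem_erase]
      refine ⟨?_, Finset.mem_univ _⟩
      intro h
      have hta := ((hmemT t).mp ht).2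
      rw [← hta] at h
      exact hBne b0 hb0 (t.injective h)
    · intro t1 ht1 t2 ht2 h12
      have hne1 : t1 b0 ≠ a := by
        intro h
        have hta := ((hmemT t1).mp ht1).2
        rw [← hta] at h
        exact hBne b0 hb0 (t1.injective h)
      exact huniq b0 (t1 b0) (hBne b0 hb0) hne1 t1 ht1 t2 ht2 rfl h12.symm
    · intro c hc
      obtain ⟨t, ht, htb⟩ := hexist b0 c (hBne b0 hb0) (Finset.ne_of_mem_erase hc)
      exact ⟨t, ht, htb⟩
  have hΩ : Fintype.card (Projectivization F (Fin n → F)) ≡ 1 [MOD q] := by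
    have htop : (⊤ : Submodule F (Fin n → F)) ≠ ⊥ := by
      intro h
      have : e0 ∈ (⊥ : Submodule F (Fin n → F)) := h ▸ Submodule.mem_top
      exact he0 ((Submodule.mem_bot F).mp this)
    have h1 := card_ptsOf_modEq (⊤ : Submodule F (Fin n → F)) htop
    have h2' : ptsOf (⊤ : Submodule F (Fin n → F)) = Set.univ := by
      ext x
      simp [ptsOf]
    have h3 : Nat.card (Set.univ : Set (Projectivization F (Fin n → F))) =
        Fintype.card (Projectivization F (Fin n → F)) := by
      rw [Nat.card_univ, Nat.card_eq_fintype_card]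
    rw [h2', h3] at h1
    exact h1
  have hT0 : T.card ≡ 0 [MOD q] := by
    rw [hTcard, Finset.card_erase_of_mem (Finset.mem_univ a), Finset.card_univ]
    have hpos : 0 < Fintype.card (Projectivization F (Fin n → F)) := Fintype.card_pos_iff.mpr ⟨a⟩
    have : Fintype.card (Projectivization F (Fin n → F)) - 1 + 1 ≡ 0 + 1 [MOD q] := by
      rw [Nat.sub_add_cancel hpos, zero_add]
      exact hΩ
    exact Nat.ModEq.add_right_cancel' 1 this
  -- conclusion
  have hsum : ∑ t ∈ T, (B.filter (fun b => t b ∈ B)).card ≡ ∑ _t ∈ T, 1 [MOD q] := by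
    have : ∀ (U : Finset (Equiv.Perm (Projectivization F (Fin n → F)))), U ⊆ T →
        ∑ t ∈ U, (B.filter (fun b => t b ∈ B)).card ≡ ∑ _t ∈ U, 1 [MOD q] := by
      intro U
      induction U using Finset.induction_on with
      | empty => intro _; rfl
      | insert t U htU ih =>
        intro hsub
        rw [Finset.sum_insert htU, Finset.sum_insert htU]
        exact Nat.ModEq.add (key1 t (hsub (Finset.mem_insert_self t U)))
          (ih (fun x hx => hsub (Finset.mem_insert_of_mem hx)))
    exact this T (Finset.Subset.refl T)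
  rw [hdc, Finset.sum_const, smul_eq_mul, mul_one] at hsum
  have h11 : B.card * B.card ≡ 1 * 1 [MOD q] := Nat.ModEq.mul hBcard hBcard
  have : 1 * 1 ≡ 0 [MOD q] := h11.symm.trans (hsum.trans hT0)
  have hd := (Nat.modEq_zero_iff_dvd.mp this)
  have := Nat.le_of_dvd one_pos hd
  omega

end main

end Cfsg.Agent.Helper42
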