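import Cfsg.Agent.Helper42.QdEmbed
import Cfsg.Agent.Helper42.SylowDerived

set_option autoImplicit false

namespace Cfsg.Agent.Helper42

open Matrix
open scoped commutatorElement

section ut

variable {R : Type*} [CommRing R]

/-- upper unitriangular `3 × 3` matrices -/
def IsUT (M : Matrix (Fin 3) (Fin 3) R) : Prop :=
  M 0 0 = 1 ∧ M 1 1 = 1 ∧ M 2 2 = 1 ∧ M 1 0 = 0 ∧ M 2 0 = 0 ∧ M 2 1 = 0

theorem isUT_one : IsUT (1 : Matrix (Fin 3) (Fin 3) R) := by
  refine ⟨?_, ?_, ?_, ?_, ?_, ?_⟩ <;> simp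

theorem isUT_mul {M N : Matrix (Fin 3) (Fin 3) R} (hM : IsUT M) (hN : IsUT N) : IsUT (M * N) := by
  obtain ⟨a1, a2, a3, a4, a5, a6⟩ := hM
  obtain ⟨b1, b2, b3, b4, b5, b6⟩ := hN
  refine ⟨?_, ?_, ?_, ?_, ?_, ?_⟩ <;>
    simp [Matrix.mul_apply, Fin.sum_univ_three, a1, a2, a3, a4, a5, a6, b1, b2, b3, b4, b5, b6]

theorem isUT_sub_one_pow_three {M : Matrix (Fin 3) (Fin 3) R} (hM : IsUT M) : (M - 1) ^ 3 = 0 := by
  obtain ⟨a1, a2, a3, a4, a5, a6⟩ := hM
  ext i j
  fin_cases i <;> fin_cases j <;>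
    simp [pow_succ, Matrix.mul_apply, Fin.sum_univ_three, a1, a2, a3, a4, a5, a6]

theorem isUT_pow_p {p : ℕ} [Fact p.Prime] [CharP R p] (hp : p ≠ 2) {M : Matrix (Fin 3) (Fin 3) R}
    (hM : IsUT M) : M ^ p = 1 := by
  have hpp : p.Prime := Fact.out
  have h3 : 3 ≤ p := by
    have := hpp.two_le
    omega
  have hcomm : Commute (M - 1) (1 : Matrix (Fin 3) (Fin 3) R) := Commute.one_right _
  have h := add_pow_char_of_commute (p := p) hcomm
  rw [sub_add_cancel, one_pow] at h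
  rw [h]
  have : (M - 1) ^ p = 0 := by
    have e : p = 3 + (p - 3) := by omega
    rw [e, pow_add, isUT_sub_one_pow_three hM, zero_mul]
  rw [this, zero_add]

end ut

/-- the unitriangular subgroup of `Qd(p)` -/
def qdUT (p : ℕ) [Fact p.Prime] (hp : p ≠ 2) : Subgroup ↥(Cfsg.qd p) where
  carrier := {x | IsUT x.1.1}
  mul_mem' := by
    intro x y hx hy
    exact isUT_mul hx hy
  one_mem' := isUT_one
  inv_mem' := by
    intro x hx
    have hpow : x ^ p = 1 := by
      apply Subtype.ext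
      apply Subtype.ext
      rw [Subgroup.coe_pow, Matrix.SpecialLinearGroup.coe_pow]
      exact isUT_pow_p hp hx
    have hpp : p.Prime := Fact.out
    have hinv : x⁻¹ = x ^ (p - 1) := by
      apply inv_eq_of_mul_eq_one_left
      rw [← pow_succ]
      have : p - 1 + 1 = p := Nat.sub_add_cancel hpp.one_le
      rw [this, hpow]
    rw [hinv]
    have hk : ∀ k : ℕ, IsUT ((x ^ k : ↥(Cfsg.qd p)).1.1) := by
      intro k
      induction k with
      | zero => exact isUT_one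
      | succ k ih =>
        rw [pow_succ]
        exact isUT_mul ih hx
    exact hk _

theorem isPGroup_qdUT (p : ℕ) [Fact p.Prime] (hp : p ≠ 2) : IsPGroup p (qdUT p hp) := by
  intro g
  refine ⟨1, ?_⟩
  rw [pow_one]
  apply Subtype.ext
  apply Subtype.ext
  apply Subtype.ext
  rw [Subgroup.coe_pow, Subgroup.coe_pow, Matrix.SpecialLinearGroup.coe_pow]
  exact isUT_pow_p hp g.2

theorem exists_noncomm_qdUT (p : ℕ) [Fact p.Prime] (hp : p ≠ 2) :
    ∃ u v : ↥(Cfsg.qd p), u ∈ qdUT p hp ∧ v ∈ qdUT p hp ∧ u * v ≠ v * u := by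
  have h01 : (0 : Fin 3) ≠ 1 := by decide
  have h12 : (1 : Fin 3) ≠ 2 := by decide
  have h02 : (0 : Fin 3) ≠ 2 := by decide
  refine ⟨⟨_, transvection_mem_qd (p := p) h01 h02 1⟩, ⟨_, transvection_mem_qd (p := p) h12 h12 1⟩, ?_, ?_, ?_⟩
  · show IsUT _
    simp only [Matrix.SpecialLinearGroup.transvection_coe]
    refine ⟨?_, ?_, ?_, ?_, ?_, ?_⟩ <;> simp
  · show IsUT _
    simp only [Matrix.SpecialLinearGroup.transvection_coe]
    refine ⟨?_, ?_, ?_, ?_, ?_, ?_⟩ <;> simp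
  · intro h
    have h1 := congrArg (fun x : ↥(Cfsg.qd p) => x.1.1 0 2) h
    simp only [Subgroup.coe_mul, transvection_mul_entry] at h1
    simp [Matrix.SpecialLinearGroup.transvection_coe] at h1

/-- A `p`-group acting faithfully on fewer than `p²` points is abelian. -/
theorem comm_of_isPGroup_perm {p : ℕ} [Fact p.Prime] {n : ℕ} (hn : n < p ^ 2) {G : Type*} [Group G]
    [Finite G] (hG : IsPGroup p G) (f : G →* Equiv.Perm (Fin n)) (hf : Function.Injective f)
    (a b : G) : a * b = b * a := by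
  have hpp : p.Prime := Fact.out
  letI : MulAction G (Fin n) := MulAction.compHom (Fin n) f
  haveI : FaithfulSMul G (Fin n) := ⟨fun {g h} hgh => hf (Equiv.ext hgh)⟩
  have h := derivedSeries_log_eq_bot p G hG (Fin n)
  rw [Nat.card_eq_fintype_card, Fintype.card_fin] at h
  have hlog : Nat.log p n ≤ 1 := by
    rcases Nat.eq_zero_or_pos n with h0 | h0
    · rw [h0, Nat.log_zero_right]; omega
    · have := Nat.log_lt_of_lt_pow (Nat.pos_iff_ne_zero.mp h0) hn
      omega
  have h1 : derivedSeries G 1 = ⊥ := by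
    rw [eq_bot_iff, ← h]
    exact derivedSeries_antitone G hlog
  rw [derivedSeries_one] at h1
  have hmem : ⁅a, b⁆ ∈ commutator G := Subgroup.commutator_mem_commutator (Subgroup.mem_top a) (Subgroup.mem_top b)
  rw [h1, Subgroup.mem_bot] at hmem
  exact commutatorElement_eq_one_iff_mul_comm.mp hmem

theorem not_involves_qd {p : ℕ} [Fact p.Prime] (hp : p ≠ 2) (n : ℕ) (hn : n < p ^ 2) :
    ¬ Cfsg.Involves ↥(Cfsg.qd p) ↥(alternatingGroup (Fin n)) := by
  rintro ⟨K, R, hN, ⟨e⟩⟩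
  let f : ↥K →* ↥(Cfsg.qd p) := e.toMonoidHom.comp (QuotientGroup.mk' (R.subgroupOf K))
  have hf : Function.Surjective f := e.surjective.comp (QuotientGroup.mk'_surjective _)
  obtain ⟨P'', hU⟩ := (isPGroup_qdUT p hp).exists_le_sylow
  obtain ⟨P, hP⟩ := Sylow.mapSurjective_surjective hf p P''
  obtain ⟨u, v, hu, hv, huv⟩ := exists_noncomm_qdUT p hp
  have huP : u ∈ (P : Subgroup ↥K).map f := by
    rw [← Sylow.coe_mapSurjective hf, hP]; exact hU hu
  have hvP : v ∈ (P : Subgroup ↥K).map f := by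
    rw [← Sylow.coe_mapSurjective hf, hP]; exact hU hv
  obtain ⟨a, ha, rfl⟩ := huP
  obtain ⟨b, hb, rfl⟩ := hvP
  apply huv
  let ι : ↥(P : Subgroup ↥K) →* Equiv.Perm (Fin n) :=
    (alternatingGroup (Fin n)).subtype.comp (K.subtype.comp (P : Subgroup ↥K).subtype)
  have hι : Function.Injective ι := by
    intro x y hxy
    apply Subtype.ext
    apply Subtype.ext
    apply Subtype.ext
    exact hxy
  have hcomm := comm_of_isPGroup_perm hn P.2 ι hι ⟨a, ha⟩ ⟨b, hb⟩
  have hab : a * b = b * a := congrArg Subtype.val hcomm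
  rw [← map_mul, ← map_mul, hab]

end Cfsg.Agent.Helper42
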