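import Mathlib
import Cfsg.Prelude.Def_LocalEven

set_option autoImplicit false

/-!
# The group `Qd(p)` as the affine subgroup of `SL₃(p)`: membership, affine action on the plane,
generation by transvections.
-/

namespace Cfsg.Agent.Helper42

open Matrix

/-- the affine subgroup of `SL₃`, as an honest subgroup -/
def qdSub (p : ℕ) : Subgroup (Matrix.SpecialLinearGroup (Fin 3) (ZMod p)) where
  carrier := {M | (M : Matrix (Fin 3) (Fin 3) (ZMod p)) 2 0 = 0 ∧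
    (M : Matrix (Fin 3) (Fin 3) (ZMod p)) 2 1 = 0 ∧ (M : Matrix (Fin 3) (Fin 3) (ZMod p)) 2 2 = 1}
  mul_mem' := by
    rintro M N ⟨h0, h1, h2⟩ ⟨k0, k1, k2⟩
    refine ⟨?_, ?_, ?_⟩ <;>
      simp [Matrix.SpecialLinearGroup.coe_mul, Matrix.mul_apply, Fin.sum_univ_three, h0, h1, h2, k0, k1, k2]
  one_mem' := by
    refine ⟨?_, ?_, ?_⟩ <;> simp
  inv_mem' := by
    rintro M ⟨h0, h1, h2⟩
    have key : ∀ j, (↑(M⁻¹) : Matrix (Fin 3) (Fin 3) (ZMod p)) 2 j =
        (1 : Matrix (Fin 3) (Fin 3) (ZMod p)) 2 j := by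
      intro j
      have h : ((M * M⁻¹ : Matrix.SpecialLinearGroup (Fin 3) (ZMod p)) :
          Matrix (Fin 3) (Fin 3) (ZMod p)) 2 j = (1 : Matrix (Fin 3) (Fin 3) (ZMod p)) 2 j := by
        rw [mul_inv_cancel]; rfl
      rw [← h, Matrix.SpecialLinearGroup.coe_mul, Matrix.mul_apply, Fin.sum_univ_three, h0, h1, h2]
      simp
    refine ⟨?_, ?_, ?_⟩
    · rw [key 0]; simp
    · rw [key 1]; simp
    · rw [key 2]; simp

theorem qd_eq (p : ℕ) : Cfsg.qd p = qdSub p := by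
  unfold Cfsg.qd
  exact Subgroup.closure_eq (qdSub p)

theorem mem_qd_iff {p : ℕ} (M : Matrix.SpecialLinearGroup (Fin 3) (ZMod p)) :
    M ∈ Cfsg.qd p ↔ ((M : Matrix (Fin 3) (Fin 3) (ZMod p)) 2 0 = 0 ∧
    (M : Matrix (Fin 3) (Fin 3) (ZMod p)) 2 1 = 0 ∧ (M : Matrix (Fin 3) (Fin 3) (ZMod p)) 2 2 = 1) := by
  rw [qd_eq]; exact Iff.rfl

/-! ### The affine action on the plane -/

section aff

variable {R : Type*} [CommRing R]

/-- affine action of a `3 × 3` matrix with last row `(0,0,1)` on the plane -/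
def aff (M : Matrix (Fin 3) (Fin 3) R) (v : R × R) : R × R :=
  (M 0 0 * v.1 + M 0 1 * v.2 + M 0 2, M 1 0 * v.1 + M 1 1 * v.2 + M 1 2)

theorem aff_one (v : R × R) : aff (1 : Matrix (Fin 3) (Fin 3) R) v = v := by
  ext <;> simp [aff]

theorem aff_mul (M N : Matrix (Fin 3) (Fin 3) R) (h0 : N 2 0 = 0) (h1 : N 2 1 = 0) (h2 : N 2 2 = 1)
    (v : R × R) : aff (M * N) v = aff M (aff N v) := by
  ext <;> simp [aff, Matrix.mul_apply, Fin.sum_univ_three, h0, h1, h2] <;> ring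

end aff

/-- the affine action of `Qd(p)` on the plane -/
@[reducible] def qdMulAction (p : ℕ) : MulAction ↥(Cfsg.qd p) (ZMod p × ZMod p) where
  smul x v := aff (x.1.1) v
  one_smul v := aff_one v
  mul_smul x y v := by
    obtain ⟨h0, h1, h2⟩ := (mem_qd_iff y.1).mp y.2
    exact aff_mul x.1.1 y.1.1 h0 h1 h2 v

theorem qd_faithful {p : ℕ} (x : ↥(Cfsg.qd p)) (h : ∀ v, aff x.1.1 v = v) : x = 1 := by
  obtain ⟨h0, h1, h2⟩ := (mem_qd_iff x.1).mp x.2
  have e00 := h (0, 0)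
  have e10 := h (1, 0)
  have e01 := h (0, 1)
  simp only [aff, Prod.mk.injEq, mul_zero, mul_one, zero_add, add_zero] at e00 e10 e01
  obtain ⟨a1, a2⟩ := e00
  obtain ⟨b1, b2⟩ := e10
  obtain ⟨c1, c2⟩ := e01
  rw [a1, add_zero] at b1 c1
  rw [a2, add_zero] at b2 c2
  apply Subtype.ext
  apply Subtype.ext
  ext i j
  fin_cases i <;> fin_cases j <;> simp [*]

end Cfsg.Agent.Helper42
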