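import Cfsg.Agent.Helper42.QdGen

set_option autoImplicit false

namespace Cfsg.Agent.Helper42

open Matrix

/-- `Qd(p)`, `p` odd, has no non-trivial homomorphism to `{±1}`. -/
theorem qd_hom_units_trivial {p : ℕ} [Fact p.Prime] (hp : p ≠ 2) (χ : ↥(Cfsg.qd p) →* ℤˣ)
    (x : ↥(Cfsg.qd p)) : χ x = 1 := by
  have hpp : p.Prime := Fact.out
  have hodd : Odd p := hpp.odd_of_ne_two hp
  have hle : Cfsg.qd p ≤ (χ.ker).map (Cfsg.qd p).subtype := by
    apply qd_le_of_transvection
    intro i j hij c hi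
    have hT := transvection_mem_qd (p := p) hij hi c
    refine ⟨⟨_, hT⟩, ?_, rfl⟩
    rw [SetLike.mem_coe, MonoidHom.mem_ker]
    have hpow : (⟨_, hT⟩ : ↥(Cfsg.qd p)) ^ p = 1 := by
      apply Subtype.ext
      rw [Subgroup.coe_pow]
      exact transvection_pow_p hij c
    have h1 : (χ ⟨_, hT⟩) ^ p = 1 := by rw [← map_pow, hpow, map_one]
    rcases Int.units_eq_one_or (χ ⟨_, hT⟩) with h | h
    · exact h
    · rw [h, hodd.neg_one_pow] at h1
      exact absurd h1 (by decide)
  obtain ⟨y, hy, hyx⟩ := hle x.2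
  have : y = x := Subtype.ext hyx
  rw [← this]
  exact MonoidHom.mem_ker.mp hy

/-- `Qd(p)` embeds in the alternating group of degree `n` as soon as `p² ≤ n` (`p` odd). -/
theorem exists_qd_embedding {p : ℕ} [Fact p.Prime] (hp : p ≠ 2) (n : ℕ) (hn : p ^ 2 ≤ n) :
    ∃ f : ↥(Cfsg.qd p) →* alternatingGroup (Fin n), Function.Injective f := by
  classical
  letI := qdMulAction p
  have hcard : Fintype.card (ZMod p × ZMod p) ≤ Fintype.card (Fin n) := by
    rw [Fintype.card_prod, ZMod.card, Fintype.card_fin]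
    calc p * p = p ^ 2 := by ring
      _ ≤ n := hn
  obtain ⟨ι⟩ := Function.Embedding.nonempty_of_card_le hcard
  let φ : ↥(Cfsg.qd p) →* Equiv.Perm (Fin n) :=
    (Equiv.Perm.viaEmbeddingHom ι).comp (MulAction.toPermHom ↥(Cfsg.qd p) (ZMod p × ZMod p))
  have hφ : Function.Injective φ := by
    apply (Equiv.Perm.viaEmbeddingHom_injective ι).comp
    rw [injective_iff_map_eq_one]
    intro x hx
    apply qd_faithful
    intro v
    have := congrArg (fun σ : Equiv.Perm (ZMod p × ZMod p) => σ v) hx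
    exact this
  have hsign : ∀ x, φ x ∈ alternatingGroup (Fin n) := by
    intro x
    rw [Equiv.Perm.mem_alternatingGroup]
    exact qd_hom_units_trivial hp (Equiv.Perm.sign.comp φ) x
  refine ⟨φ.codRestrict (alternatingGroup (Fin n)) hsign, ?_⟩
  intro x y hxy
  apply hφ
  exact congrArg Subtype.val hxy

end Cfsg.Agent.Helper42
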