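import Cfsg.Agent.Helper42.QdBasic

set_option autoImplicit false

namespace Cfsg.Agent.Helper42

open Matrix

theorem transvection_pow {ι F : Type*} [DecidableEq ι] [Fintype ι] [Field F] {i j : ι} (hij : i ≠ j) (c : F) (k : ℕ) :
    (Matrix.SpecialLinearGroup.transvection hij c) ^ k =
      Matrix.SpecialLinearGroup.transvection hij ((k : F) * c) := by
  induction k with
  | zero => simp [Matrix.SpecialLinearGroup.transvection_coeff_zero]
  | succ k ih =>
    rw [pow_succ, ih, ← Matrix.SpecialLinearGroup.transvection_add]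
    congr 1
    push_cast; ring

theorem transvection_pow_p {p : ℕ} [Fact p.Prime] {i j : Fin 3} (hij : i ≠ j) (c : ZMod p) :
    (Matrix.SpecialLinearGroup.transvection hij c) ^ p = 1 := by
  rw [transvection_pow, ZMod.natCast_self, zero_mul, Matrix.SpecialLinearGroup.transvection_coeff_zero]

theorem transvection_mem_qd {p : ℕ} {i j : Fin 3} (hij : i ≠ j) (hi : i ≠ 2) (c : ZMod p) :
    Matrix.SpecialLinearGroup.transvection hij c ∈ Cfsg.qd p := by
  rw [mem_qd_iff]
  simp only [Matrix.SpecialLinearGroup.transvection_coe]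
  refine ⟨?_, ?_, ?_⟩ <;> simp [hi]

/-- entries of a row operation -/
theorem transvection_mul_entry {p : ℕ} {i j : Fin 3} (hij : i ≠ j) (c : ZMod p)
    (M : Matrix.SpecialLinearGroup (Fin 3) (ZMod p)) (a b : Fin 3) :
    ((Matrix.SpecialLinearGroup.transvection hij c * M : Matrix.SpecialLinearGroup (Fin 3) (ZMod p)) :
      Matrix (Fin 3) (Fin 3) (ZMod p)) a b =
      if a = i then M.1 i b + c * M.1 j b else M.1 a b := by
  rw [Matrix.SpecialLinearGroup.coe_mul]
  show (Matrix.transvection i j c * M.1) a b = _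
  split_ifs with h
  · subst h; exact Matrix.transvection_mul_apply_same _ _ _ _ _
  · exact Matrix.transvection_mul_apply_of_ne _ _ _ _ h _ _

theorem qd_det {p : ℕ} (M : Matrix.SpecialLinearGroup (Fin 3) (ZMod p)) (hM : M ∈ Cfsg.qd p) :
    M.1 0 0 * M.1 1 1 - M.1 0 1 * M.1 1 0 = 1 := by
  obtain ⟨h0, h1, h2⟩ := (mem_qd_iff M).mp hM
  have hdet := M.2
  rw [Matrix.det_fin_three, h0, h1, h2] at hdet
  linear_combination hdet

theorem mem_of_ne_zero {p : ℕ} [Fact p.Prime] (H : Subgroup (Matrix.SpecialLinearGroup (Fin 3) (ZMod p)))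
    (hH : ∀ (i j : Fin 3) (hij : i ≠ j) (c : ZMod p), i ≠ 2 →
      Matrix.SpecialLinearGroup.transvection hij c ∈ H)
    (M : Matrix.SpecialLinearGroup (Fin 3) (ZMod p)) (hM : M ∈ Cfsg.qd p) (hc : M.1 1 0 ≠ 0) : M ∈ H := by
  obtain ⟨h0, h1, h2⟩ := (mem_qd_iff M).mp hM
  have hdet := qd_det M hM
  have h02 : (0 : Fin 3) ≠ 2 := by decide
  have h12 : (1 : Fin 3) ≠ 2 := by decide
  have h01 : (0 : Fin 3) ≠ 1 := by decide
  have h10 : (1 : Fin 3) ≠ 0 := by decide
  have hMN : M = Matrix.SpecialLinearGroup.transvection h02 (M.1 0 2) *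
      (Matrix.SpecialLinearGroup.transvection h12 (M.1 1 2) *
      (Matrix.SpecialLinearGroup.transvection h01 ((M.1 0 0 - 1) / M.1 1 0) *
      (Matrix.SpecialLinearGroup.transvection h10 (M.1 1 0) *
       Matrix.SpecialLinearGroup.transvection h01 ((M.1 1 1 - 1) / M.1 1 0)))) := by
    apply Subtype.ext
    ext i j
    fin_cases i <;> fin_cases j <;>
      simp [transvection_mul_entry, Matrix.SpecialLinearGroup.transvection_coe]
    · field_simp; ring
    · field_simp
      linear_combination (-1 : ZMod p) * hdet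
    · field_simp; ring
    · exact h0
    · exact h1
    · exact h2
  rw [hMN]
  exact H.mul_mem (hH _ _ _ _ h02) (H.mul_mem (hH _ _ _ _ h12) (H.mul_mem (hH _ _ _ _ h02)
    (H.mul_mem (hH _ _ _ _ h12) (hH _ _ _ _ h02))))

theorem qd_le_of_transvection {p : ℕ} [Fact p.Prime]
    (H : Subgroup (Matrix.SpecialLinearGroup (Fin 3) (ZMod p)))
    (hH : ∀ (i j : Fin 3) (hij : i ≠ j) (c : ZMod p), i ≠ 2 →
      Matrix.SpecialLinearGroup.transvection hij c ∈ H) : Cfsg.qd p ≤ H := by
  intro M hM
  by_cases hc : M.1 1 0 = 0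
  · have h10 : (1 : Fin 3) ≠ 0 := by decide
    have h12 : (1 : Fin 3) ≠ 2 := by decide
    have hT := hH 1 0 h10 1 h12
    have hTq := transvection_mem_qd (p := p) h10 h12 1
    have hdet := qd_det M hM
    rw [hc, mul_zero, sub_zero] at hdet
    have ha : M.1 0 0 ≠ 0 := by
      intro h0
      rw [h0, zero_mul] at hdet
      exact zero_ne_one hdet
    have hM' : Matrix.SpecialLinearGroup.transvection h10 1 * M ∈ H := by
      apply mem_of_ne_zero H hH _ ((Cfsg.qd p).mul_mem hTq hM)
      rw [transvection_mul_entry]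
      simp [hc, ha]
    exact (H.mul_mem_cancel_left hT).mp hM'
  · exact mem_of_ne_zero H hH M hM hc

end Cfsg.Agent.Helper42
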