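import Mathlib

set_option autoImplicit false
set_option linter.unusedSectionVars false

/-!
# Redundant Sylow subgroups: abstract lemmas
-/

namespace Cfsg.Agent.Helper42

open scoped Pointwise

section abstract
variable {G : Type*} [Group G] {p : ℕ} [Fact p.Prime]

/-- if `g⁻¹ x g ∈ Q` and `g` does not normalize `Q`, then `x` lies in another Sylow subgroup -/
theorem exists_sylow_ne_of_conj (Q : Sylow p G) (g x : G)
    (hx : g⁻¹ * x * g ∈ (Q : Subgroup G)) (hg : g ∉ Subgroup.normalizer (Q : Subgroup G)) :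
    ∃ P : Sylow p G, P ≠ Q ∧ x ∈ P := by
  refine ⟨g • Q, ?_, ?_⟩
  · intro h
    exact hg (Sylow.smul_eq_iff_mem_normalizer.1 h)
  · show x ∈ ((g • Q : Sylow p G) : Subgroup G)
    rw [Sylow.coe_subgroup_smul, Subgroup.mem_pointwise_smul_iff_inv_smul_mem]
    have : (MulAut.conj g)⁻¹ • x = g⁻¹ * x * g := by
      rw [MulAut.smul_def, MulAut.conj_inv_apply]
    rw [this]
    exact hx

/-- a witness that `g` does not normalize `Q` -/
theorem not_mem_normalizer_of_witness (Q : Subgroup G) (g w : G) (hw : w ∈ Q)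
    (hgw : g * w * g⁻¹ ∉ Q) : g ∉ Subgroup.normalizer Q := by
  intro h
  exact hgw ((Subgroup.mem_normalizer_iff.1 h w).1 hw)

/-- a `p`-element commuting with `x ∈ Q` but outside `Q` puts `x` in another Sylow subgroup -/
theorem exists_sylow_ne_of_commute (Q : Sylow p G) (h x : G) (hx : x ∈ (Q : Subgroup G))
    (hc : h * x = x * h) {k : ℕ} (hk : h ^ p ^ k = 1) (hh : h ∉ (Q : Subgroup G)) :
    ∃ P : Sylow p G, P ≠ Q ∧ x ∈ P := by
  apply exists_sylow_ne_of_conj Q h x
  · have : h⁻¹ * x * h = x := by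
      rw [mul_assoc, ← hc, inv_mul_cancel_left]
    rw [this]
    exact hx
  · intro hn
    have hP : IsPGroup p (Subgroup.zpowers h) := by
      rintro ⟨y, hy⟩
      obtain ⟨m, rfl⟩ := Subgroup.mem_zpowers_iff.1 hy
      refine ⟨k, Subtype.ext ?_⟩
      show (h ^ m) ^ p ^ k = 1
      rw [← zpow_natCast, ← zpow_mul, mul_comm, zpow_mul, zpow_natCast, hk, one_zpow]
    have h1 : h ∈ Subgroup.zpowers h ⊓ Subgroup.normalizer (Q : Subgroup G) :=
      ⟨Subgroup.mem_zpowers h, hn⟩
    have h2 : h ∈ Subgroup.zpowers h ⊓ (Q : Subgroup G) := by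
      rw [← hP.inf_normalizer_sylow Q]
      exact h1
    exact hh h2.2

end abstract

end Cfsg.Agent.Helper42
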