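import Mathlib
import Cfsg.Agent.Helper42.GLMon
import Cfsg.Agent.Helper42.GLSyl

set_option autoImplicit false
set_option linter.unusedSectionVars false

/-!
# The monomial group `Z ≀ C_p` inside `GL_p(F)`: arithmetic in `Fin p`, generators, powers
-/

namespace Cfsg.Agent.Helper42

open Matrix Equiv
open Fin.CommRing Fin.NatCast

section finp
variable {p : ℕ} [hp : Fact p.Prime] [NeZero p]

theorem fin_exists_mul_eq_one {a : Fin p} (ha : a ≠ 0) : ∃ b : Fin p, a * b = 1 := by
  have h1 : 0 < a.val := Nat.pos_of_ne_zero (fun h => ha (Fin.ext (by rw [h]; rfl)))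
  have hcop : Nat.Coprime a.val p := by
    rw [Nat.coprime_comm, hp.out.coprime_iff_not_dvd]
    intro hd
    have := Nat.le_of_dvd h1 hd
    have := a.isLt
    omega
  obtain ⟨m, -, hm⟩ := Nat.exists_mul_mod_eq_one_of_coprime hcop hp.out.one_lt
  refine ⟨(m : Fin p), ?_⟩
  have ha' : a = ((a.val : ℕ) : Fin p) := (Fin.cast_val_eq_self a).symm
  rw [ha', ← Nat.cast_mul]
  apply Fin.ext
  rw [Fin.val_natCast, hm, Fin.val_one', Nat.mod_eq_of_lt hp.out.one_lt]

theorem fin_mul_right_cancel {a : Fin p} (ha : a ≠ 0) {k k' : Fin p} (h : k * a = k' * a) :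
    k = k' := by
  obtain ⟨b, hb⟩ := fin_exists_mul_eq_one ha
  have : k * a * b = k' * a * b := by rw [h]
  rwa [mul_assoc, mul_assoc, hb, mul_one, mul_one] at this

theorem fin_exists_mul_eq {a : Fin p} (ha : a ≠ 0) (i : Fin p) : ∃ k : Fin p, k * a = i := by
  obtain ⟨b, hb⟩ := fin_exists_mul_eq_one ha
  exact ⟨i * b, by rw [mul_assoc, mul_comm b a, hb, mul_one]⟩

theorem fin_bijective_sub_mul {a : Fin p} (ha : a ≠ 0) (i : Fin p) :
    Function.Bijective (fun k : Fin p => i - k * a) := by
  constructor
  · intro k k' h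
    apply fin_mul_right_cancel ha
    have h' : i - k * a = i - k' * a := h
    have := congrArg (fun t => i - t) h'
    simpa using this
  · intro l
    obtain ⟨k, hk⟩ := fin_exists_mul_eq ha (i - l)
    exact ⟨k, by show i - k * a = l; rw [hk]; abel⟩

theorem fin_natCast_mul_eq_zero_iff {a : Fin p} (ha : a ≠ 0) (k : ℕ) :
    (k : Fin p) * a = 0 ↔ p ∣ k := by
  constructor
  · intro h
    have h0 : (k : Fin p) * a = 0 * a := by rw [h, zero_mul]
    have := fin_mul_right_cancel ha h0
    exact Fin.natCast_eq_zero.1 this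
  · intro h
    rw [Fin.natCast_eq_zero.2 h, zero_mul]

theorem fin_add_self_ne_zero (hp2 : p ≠ 2) {a : Fin p} (ha : a ≠ 0) : a + a ≠ 0 := by
  intro h
  have h2 : ((2 : ℕ) : Fin p) * a = 0 := by
    rw [Nat.cast_ofNat, two_mul]; exact h
  have := (fin_natCast_mul_eq_zero_iff ha 2).1 h2
  have h3 := Nat.le_of_dvd (by norm_num) this
  have := hp.out.two_le
  omega

end finp

section rot
variable {p : ℕ} [NeZero p]

/-- rotation by `a` -/
def rot (a : Fin p) : Perm (Fin p) where
  toFun i := i + a
  invFun i := i - a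
  left_inv i := by simp
  right_inv i := by simp

theorem rot_apply (a i : Fin p) : rot a i = i + a := rfl

theorem rot_symm_apply (a i : Fin p) : (rot a).symm i = i - a := rfl

theorem rot_zero : rot (0 : Fin p) = 1 := by
  ext i
  rw [rot_apply, add_zero]
  rfl

theorem rot_mul (a b : Fin p) : rot a * rot b = rot (a + b) := by
  ext i
  rw [Perm.mul_apply, rot_apply, rot_apply, rot_apply, add_assoc, add_comm b a]

theorem rot_injective : Function.Injective (rot : Fin p → Perm (Fin p)) := by
  intro a b h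
  have := congrArg (fun σ : Perm (Fin p) => σ 0) h
  simpa [rot_apply] using this

theorem rot_pow (a : Fin p) (k : ℕ) : rot a ^ k = rot ((k : Fin p) * a) := by
  induction k with
  | zero => rw [pow_zero, Nat.cast_zero, zero_mul, rot_zero]
  | succ k ih => rw [pow_succ, ih, rot_mul, Nat.cast_succ, add_mul, one_mul]

/-- rotations as a homomorphism -/
def rotHom (p : ℕ) [NeZero p] : Multiplicative (Fin p) →* Perm (Fin p) where
  toFun a := rot (Multiplicative.toAdd a)
  map_one' := rot_zero
  map_mul' a b := (rot_mul _ _).symm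

theorem rotHom_injective : Function.Injective (rotHom p) := by
  intro a b h
  have h' : rot (Multiplicative.toAdd a) = rot (Multiplicative.toAdd b) := h
  exact Multiplicative.toAdd.injective (rot_injective h')

theorem mem_range_rotHom {σ : Perm (Fin p)} : σ ∈ (rotHom p).range ↔ ∃ a, σ = rot a := by
  constructor
  · rintro ⟨a, rfl⟩
    exact ⟨Multiplicative.toAdd a, rfl⟩
  · rintro ⟨a, rfl⟩
    exact ⟨Multiplicative.ofAdd a, rfl⟩

theorem card_range_rotHom : Nat.card (rotHom p).range = p := by
  rw [← Nat.card_congr (MonoidHom.ofInjective rotHom_injective).toEquiv,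
    Nat.card_congr Multiplicative.toAdd, Nat.card_fin]

end rot

section mk
variable {F : Type*} [Field F] {p : ℕ} [hp : Fact p.Prime] [NeZero p]

/-- the monomial matrix with diagonal part `d` and rotation `a` -/
def mkM (d : Fin p → Fˣ) (a : Fin p) : GL (Fin p) F := monGL F p ⟨d, rot a⟩

theorem mkM_val_apply (d : Fin p → Fˣ) (a : Fin p) (i l : Fin p) :
    (mkM d a).1 i l = if i = l + a then (d i : F) else 0 := by
  rw [mkM, monGL_val_apply]
  rfl

theorem mkM_mul (d d' : Fin p → Fˣ) (a a' : Fin p) :
    mkM d a * mkM d' a' = mkM (fun i => d i * d' (i - a)) (a + a') := by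
  rw [mkM, mkM, ← map_mul, mkM]
  congr 1
  apply SemidirectProduct.ext
  · funext i
    rw [SemidirectProduct.mul_left]
    rfl
  · rw [SemidirectProduct.mul_right]
    exact rot_mul a a'

theorem mkM_one : mkM (1 : Fin p → Fˣ) (0 : Fin p) = (1 : GL (Fin p) F) := by
  rw [mkM, rot_zero]
  exact map_one (monGL F p)

theorem mkM_pow (d : Fin p → Fˣ) (a : Fin p) (k : ℕ) :
    mkM d a ^ k = mkM (fun i => ∏ j ∈ Finset.range k, d (i - (j : Fin p) * a)) ((k : Fin p) * a) := by
  induction k with
  | zero =>
    rw [pow_zero, Nat.cast_zero, zero_mul]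
    simp only [Finset.range_zero, Finset.prod_empty]
    exact mkM_one.symm
  | succ k ih =>
    rw [pow_succ', ih, mkM_mul]
    congr 1
    · funext i
      rw [Finset.prod_range_succ', Nat.cast_zero, zero_mul, sub_zero, mul_comm]
      congr 1
      apply Finset.prod_congr rfl
      intro j _
      rw [Nat.cast_succ, add_mul, one_mul, sub_sub, add_comm]
    · rw [Nat.cast_succ, add_mul, one_mul, add_comm]

theorem mkM_injective {d d' : Fin p → Fˣ} {a a' : Fin p} (h : mkM (F := F) d a = mkM d' a') :
    d = d' ∧ a = a' := by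
  have h1 := monGL_injective h
  have h2 : d = d' := congrArg SemidirectProduct.left h1
  have h3 : rot a = rot a' := congrArg SemidirectProduct.right h1
  exact ⟨h2, rot_injective h3⟩

/-- for `a ≠ 0`, the `p`-th power of `mkM d a` is the scalar matrix `∏ d` -/
theorem mkM_pow_p (d : Fin p → Fˣ) {a : Fin p} (ha : a ≠ 0) :
    mkM d a ^ p = mkM (fun _ => ∏ l, d l) (0 : Fin p) := by
  rw [mkM_pow]
  congr 1
  · funext i
    rw [← Fin.prod_univ_eq_prod_range (fun j => d (i - (j : Fin p) * a)) p]
    apply Fintype.prod_bijective (fun k : Fin p => i - k * a) (fin_bijective_sub_mul ha i)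
    intro k
    rw [Fin.cast_val_eq_self]
  · rw [Fin.natCast_eq_zero.2 (dvd_refl p), zero_mul]

end mk

end Cfsg.Agent.Helper42
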