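import Mathlib
import Cfsg.Agent.Helper42.RedB
import Cfsg.Agent.Helper42.GLCardP

set_option autoImplicit false
set_option linter.unusedSectionVars false

/-!
# The Sylow `p`-subgroup `Z ≀ C_p` of `GL_p(F)` when `p ∥ q - 1`
-/

namespace Cfsg.Agent.Helper42

open Matrix Equiv
open Fin.CommRing Fin.NatCast

section Q
variable (F : Type*) [Field F] [Fintype F] (p : ℕ) [hp : Fact p.Prime] [NeZero p]

/-- the Sylow `p`-subgroup of `Fˣ` -/
noncomputable def zSub : Subgroup Fˣ := ((default : Sylow p Fˣ) : Subgroup Fˣ)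

/-- the monomial subgroup `Z ≀ C_p` -/
noncomputable def redQ : Subgroup (GL (Fin p) F) :=
  (monSub (zSub F p) (rotHom p).range).map (monGL F p)

variable {F p}

theorem mem_redQ {x : GL (Fin p) F} :
    x ∈ redQ F p ↔ ∃ (d : Fin p → Fˣ) (a : Fin p), (∀ i, d i ∈ zSub F p) ∧ x = mkM d a := by
  constructor
  · rintro ⟨y, ⟨hy1, hy2⟩, rfl⟩
    obtain ⟨a, ha⟩ := mem_range_rotHom.1 hy2
    refine ⟨y.left, a, hy1, ?_⟩
    rw [mkM, ← ha]
  · rintro ⟨d, a, hd, rfl⟩
    exact ⟨⟨d, rot a⟩, ⟨hd, mem_range_rotHom.2 ⟨a, rfl⟩⟩, rfl⟩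

theorem mkM_mem_redQ {d : Fin p → Fˣ} (a : Fin p) (hd : ∀ i, d i ∈ zSub F p) :
    mkM d a ∈ redQ F p := mem_redQ.2 ⟨d, a, hd, rfl⟩

theorem padicValNat_sub_one (h1 : p ∣ Fintype.card F - 1) (h2 : ¬ p ^ 2 ∣ Fintype.card F - 1) :
    padicValNat p (Fintype.card F - 1) = 1 := by
  have hq : Fintype.card F - 1 ≠ 0 := by
    have := Fintype.one_lt_card (α := F)
    omega
  have h3 : 1 ≤ padicValNat p (Fintype.card F - 1) := by
    rw [← padicValNat_dvd_iff_le hq, pow_one]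
    exact h1
  have h4 : ¬ 2 ≤ padicValNat p (Fintype.card F - 1) := by
    rw [← padicValNat_dvd_iff_le hq]
    exact h2
  omega

theorem card_zSub (h1 : p ∣ Fintype.card F - 1) (h2 : ¬ p ^ 2 ∣ Fintype.card F - 1) :
    Nat.card (zSub F p) = p := by
  rw [zSub, Sylow.card_eq_multiplicity, Nat.card_units, Nat.card_eq_fintype_card,
    Nat.factorization_def _ hp.out, padicValNat_sub_one h1 h2, pow_one]

theorem zSub_pow (h1 : p ∣ Fintype.card F - 1) (h2 : ¬ p ^ 2 ∣ Fintype.card F - 1) {t : Fˣ}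
    (ht : t ∈ zSub F p) : t ^ p = 1 := by
  have := pow_card_eq_one' (G := ↥(zSub F p)) (x := ⟨t, ht⟩)
  rw [card_zSub h1 h2] at this
  exact congrArg Subtype.val this

theorem exists_ne_one_zSub (h1 : p ∣ Fintype.card F - 1) (h2 : ¬ p ^ 2 ∣ Fintype.card F - 1) :
    ∃ ζ ∈ zSub F p, ζ ≠ 1 := by
  have hc := card_zSub h1 h2
  have hfin : Finite ↥(zSub F p) := Nat.finite_of_card_ne_zero (by rw [hc]; exact hp.out.ne_zero)
  have : 1 < Nat.card ↥(zSub F p) := by rw [hc]; exact hp.out.one_lt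
  rw [Finite.one_lt_card_iff_nontrivial] at this
  obtain ⟨ζ, hζ⟩ := exists_ne (1 : ↥(zSub F p))
  exact ⟨ζ.1, ζ.2, fun h => hζ (Subtype.ext h)⟩

theorem card_redQ (h1 : p ∣ Fintype.card F - 1) (h2 : ¬ p ^ 2 ∣ Fintype.card F - 1) :
    Nat.card (redQ F p) = p ^ (p + 1) := by
  rw [redQ, ← Nat.card_congr (Subgroup.equivMapOfInjective _ _ monGL_injective).toEquiv,
    card_monSub, card_zSub h1 h2, card_range_rotHom, Nat.card_fin, pow_succ]

theorem factorization_card_GL_p (hp2 : p ≠ 2) (h1 : p ∣ Fintype.card F - 1)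
    (h2 : ¬ p ^ 2 ∣ Fintype.card F - 1) :
    (Nat.card (GL (Fin p) F)).factorization p = p + 1 := by
  have hq : 2 ≤ Fintype.card F := Fintype.one_lt_card
  have hpq : ¬ p ∣ Fintype.card F := by
    intro h
    have h3 : p ∣ Fintype.card F - (Fintype.card F - 1) := Nat.dvd_sub h h1
    have h4 : Fintype.card F - (Fintype.card F - 1) = 1 := by omega
    rw [h4] at h3
    exact hp.out.one_lt.ne' (Nat.dvd_one.1 h3)
  have hord : orderOf ((Fintype.card F : ℕ) : ZMod p) = 1 := by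
    have := (dvd_pow_sub_one_iff p (Fintype.card F) (by omega) 1).1 (by rwa [pow_one])
    exact Nat.dvd_one.1 this
  rw [Nat.factorization_def _ hp.out, padicValNat_card_GL p F hp2 hpq p, hord, Nat.div_one, pow_one,
    padicValNat_sub_one h1 h2, mul_one]
  have h5 := padicValNat_factorial_mul (p := p) 1
  rw [mul_one] at h5
  rw [h5]
  simp

/-- the Sylow `p`-subgroup `Z ≀ C_p` -/
noncomputable def redSylow (hp2 : p ≠ 2) (h1 : p ∣ Fintype.card F - 1)
    (h2 : ¬ p ^ 2 ∣ Fintype.card F - 1) : Sylow p (GL (Fin p) F) :=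
  Sylow.ofCard (redQ F p) (by rw [card_redQ h1 h2, factorization_card_GL_p hp2 h1 h2])

theorem coe_redSylow (hp2 : p ≠ 2) (h1 : p ∣ Fintype.card F - 1)
    (h2 : ¬ p ^ 2 ∣ Fintype.card F - 1) :
    ((redSylow hp2 h1 h2 : Sylow p (GL (Fin p) F)) : Subgroup (GL (Fin p) F)) = redQ F p := rfl

/-- elements of `redQ` have at most one nonzero entry in each row -/
theorem redQ_row_unique {M : GL (Fin p) F} (hM : M ∈ redQ F p) {i l l' : Fin p}
    (h : M.1 i l ≠ 0) (h' : M.1 i l' ≠ 0) : l = l' := by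
  obtain ⟨d, a, -, rfl⟩ := mem_redQ.1 hM
  rw [mkM_val_apply] at h h'
  have e1 : i = l + a := by
    by_contra hne
    exact h (if_neg hne)
  have e2 : i = l' + a := by
    by_contra hne
    exact h' (if_neg hne)
  exact add_right_cancel (e1.symm.trans e2)

end Q

end Cfsg.Agent.Helper42
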