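import Mathlib
import Cfsg.Agent.Helper42.RedA
import Cfsg.Agent.Helper42.RedC

set_option autoImplicit false
set_option linter.unusedSectionVars false

/-!
# Redundant Sylow subgroup of `GL_p(q)`: diagonal elements
-/

namespace Cfsg.Agent.Helper42

open Matrix Equiv
open Fin.CommRing Fin.NatCast

section diag
variable {F : Type*} [Field F] [Fintype F] {p : ℕ} [hp : Fact p.Prime] [NeZero p]

theorem mkM_zero_val (d : Fin p → Fˣ) :
    (mkM d (0 : Fin p)).1 = diagonal (fun i => (d i : F)) := by
  ext i l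
  rw [mkM_val_apply, add_zero, diagonal_apply]

/-- the diagonal element with a single entry `ζ` -/
theorem mulSingle_mem_zSub {ζ : Fˣ} (hζ : ζ ∈ zSub F p) (i l : Fin p) :
    (Pi.mulSingle i ζ : Fin p → Fˣ) l ∈ zSub F p := by
  by_cases h : l = i
  · subst h
    rw [Pi.mulSingle_eq_same]
    exact hζ
  · rw [Pi.mulSingle_eq_of_ne h]
    exact Subgroup.one_mem _

/-- the transvection `1 + E_ik` as an element of `GL` -/
def transGL {i k : Fin p} (hik : i ≠ k) : GL (Fin p) F :=
  ⟨transvection i k (1 : F), transvection i k (-1 : F),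
    by rw [transvection_mul_transvection_same _ _ hik, add_neg_cancel, transvection_zero],
    by rw [transvection_mul_transvection_same _ _ hik, neg_add_cancel, transvection_zero]⟩

theorem transGL_val {i k : Fin p} (hik : i ≠ k) :
    (transGL (F := F) hik).1 = 1 + Matrix.single i k (1 : F) := rfl

/-- Case I: a diagonal element with a repeated entry -/
theorem redundant_diag_repeat (hp2 : p ≠ 2) (h1 : p ∣ Fintype.card F - 1)
    (h2 : ¬ p ^ 2 ∣ Fintype.card F - 1) (d : Fin p → Fˣ) (hd : ∀ i, d i ∈ zSub F p)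
    {i k : Fin p} (hik : i ≠ k) (hdik : d i = d k) :
    ∃ P : Sylow p (GL (Fin p) F), P ≠ redSylow hp2 h1 h2 ∧ mkM d 0 ∈ P := by
  obtain ⟨ζ, hζ, hζ1⟩ := exists_ne_one_zSub (F := F) (p := p) h1 h2
  set g : GL (Fin p) F := transGL hik with hg
  -- `g` commutes with `x`
  have hcomm : g * mkM d 0 = mkM d 0 * g := by
    apply Units.ext
    rw [Units.val_mul, Units.val_mul, mkM_zero_val]
    ext r s
    rw [mul_diagonal, diagonal_mul, hg, transGL_val, Matrix.add_apply, Matrix.one_apply,
      Matrix.single_apply]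
    by_cases hrs : r = s
    · subst hrs
      rw [mul_comm]
    · rw [if_neg hrs, zero_add]
      by_cases h' : i = r ∧ k = s
      · obtain ⟨rfl, rfl⟩ := h'
        rw [if_pos ⟨rfl, rfl⟩, hdik, mul_comm]
      · rw [if_neg h', zero_mul, mul_zero]
  apply exists_sylow_ne_of_conj (redSylow hp2 h1 h2) g
  · have : g⁻¹ * mkM d 0 * g = mkM d 0 := by
      rw [mul_assoc, ← hcomm, inv_mul_cancel_left]
    rw [this, coe_redSylow]
    exact mkM_mem_redQ 0 hd
  · rw [coe_redSylow]
    apply not_mem_normalizer_of_witness _ g (mkM (Pi.mulSingle i ζ) 0)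
      (mkM_mem_redQ 0 (mulSingle_mem_zSub hζ i))
    intro hM
    set M := g * mkM (Pi.mulSingle i ζ) 0 * g⁻¹ with hMdef
    have hMg : M.1 * g.1 = g.1 * (mkM (Pi.mulSingle i ζ) (0 : Fin p)).1 := by
      rw [← Units.val_mul, ← Units.val_mul, hMdef, inv_mul_cancel_right]
    rw [mkM_zero_val] at hMg
    have e1 := congrFun (congrFun hMg i) i
    have e2 := congrFun (congrFun hMg i) k
    rw [mul_diagonal, hg, transGL_val, Matrix.mul_add, Matrix.mul_one, Matrix.add_apply,
      Matrix.add_apply, Matrix.one_apply] at e1 e2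
    rw [Matrix.mul_single_apply_of_ne _ _ _ _ _ hik, add_zero, if_pos rfl, Matrix.single_apply,
      if_neg (fun h => hik h.2.symm), add_zero, one_mul, Pi.mulSingle_eq_same] at e1
    rw [Matrix.mul_single_apply_same, mul_one, if_neg hik, zero_add, Matrix.single_apply,
      if_pos ⟨rfl, rfl⟩, one_mul, Pi.mulSingle_eq_of_ne hik.symm, Units.val_one] at e2
    have hMii : M.1 i i ≠ 0 := by rw [e1]; exact ζ.ne_zero
    have hMik : M.1 i k ≠ 0 := by
      intro h0
      rw [h0, zero_add, e1] at e2
      exact hζ1 (Units.ext e2)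
    exact hik (redQ_row_unique hM hMii hMik)

end diag

end Cfsg.Agent.Helper42
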