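import Mathlib
import Cfsg.Agent.Helper42.RedD

set_option autoImplicit false
set_option linter.unusedSectionVars false

/-!
# Redundant Sylow subgroup of `GL_p(q)`: diagonal elements with distinct entries
-/

namespace Cfsg.Agent.Helper42

open Matrix Equiv
open Fin.CommRing Fin.NatCast

section vdm
variable {F : Type*} [Field F] [Fintype F] {p : ℕ} [hp : Fact p.Prime] [NeZero p]

/-- the Vandermonde-type matrix `V i l = d_l ^ i` -/
def vdm (d : Fin p → Fˣ) : Matrix (Fin p) (Fin p) F := Matrix.of fun i l => (d l : F) ^ (i : ℕ)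

theorem vdm_apply (d : Fin p → Fˣ) (i l : Fin p) : vdm d i l = (d l : F) ^ (i : ℕ) := rfl

theorem vdm_det_ne_zero {d : Fin p → Fˣ} (hd : Function.Injective d) : (vdm (F := F) d).det ≠ 0 := by
  have : vdm d = (vandermonde (fun l => (d l : F)))ᵀ := by
    ext i l
    rfl
  rw [this, det_transpose, det_vandermonde_ne_zero_iff]
  intro a b h
  exact hd (Units.ext h)

theorem fin_val_one (hp2 : p ≠ 2) : ((1 : Fin p) : ℕ) = 1 := by
  rw [Fin.val_one', Nat.mod_eq_of_lt hp.out.one_lt]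

theorem fin_val_two (hp2 : p ≠ 2) : ((2 : Fin p) : ℕ) = 2 := by
  have h3 : 2 < p := lt_of_le_of_ne hp.out.two_le (Ne.symm hp2)
  have : (2 : Fin p) = ((2 : ℕ) : Fin p) := by norm_cast
  rw [this, Fin.val_natCast, Nat.mod_eq_of_lt h3]

theorem vdm_key {d : Fin p → Fˣ} (hd1 : ∀ l, d l ^ p = 1) :
    (mkM (1 : Fin p → Fˣ) (-1 : Fin p)).1 * vdm d = vdm d * (mkM d (0 : Fin p)).1 := by
  ext i l
  rw [mkM_zero_val, mul_diagonal, Matrix.mul_apply, Finset.sum_eq_single (i + 1)]
  · rw [mkM_val_apply, if_pos (by abel), vdm_apply, vdm_apply, Pi.one_apply, Units.val_one,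
      one_mul, ← pow_succ]
    have hl : ((d l : Fˣ) : F) ^ p = 1 := by
      rw [← Units.val_pow_eq_pow_val, hd1, Units.val_one]
    rw [Fin.val_add, Fin.val_one', Nat.mod_eq_of_lt hp.out.one_lt, ← pow_eq_pow_mod _ hl]
  · intro t _ ht
    rw [mkM_val_apply, if_neg, zero_mul]
    intro h
    apply ht
    rw [h]
    abel
  · intro h
    exact absurd (Finset.mem_univ _) h

/-- Case II: a diagonal element with distinct entries -/
theorem redundant_diag_injective (hp2 : p ≠ 2) (h1 : p ∣ Fintype.card F - 1)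
    (h2 : ¬ p ^ 2 ∣ Fintype.card F - 1) (d : Fin p → Fˣ) (hd : ∀ i, d i ∈ zSub F p)
    (hinj : Function.Injective d) :
    ∃ P : Sylow p (GL (Fin p) F), P ≠ redSylow hp2 h1 h2 ∧ mkM d 0 ∈ P := by
  obtain ⟨ζ, hζ, hζ1⟩ := exists_ne_one_zSub (F := F) (p := p) h1 h2
  set g : GL (Fin p) F := Matrix.GeneralLinearGroup.mkOfDetNeZero (vdm d) (vdm_det_ne_zero hinj)
    with hg
  have hgval : g.1 = vdm d := rfl
  have hc : mkM (1 : Fin p → Fˣ) (-1 : Fin p) * g = g * mkM d 0 := by
    apply Units.ext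
    rw [Units.val_mul, Units.val_mul, hgval]
    exact vdm_key (fun l => zSub_pow h1 h2 (hd l))
  have h10 : (1 : Fin p) ≠ 0 := by
    intro h
    have := congrArg Fin.val h
    rw [fin_val_one hp2] at this
    exact one_ne_zero this
  have h20 : (2 : Fin p) ≠ 0 := by
    intro h
    have := congrArg Fin.val h
    rw [fin_val_two hp2] at this
    exact two_ne_zero this
  apply exists_sylow_ne_of_conj (redSylow hp2 h1 h2) g⁻¹
  · have : g⁻¹⁻¹ * mkM d 0 * g⁻¹ = mkM (1 : Fin p → Fˣ) (-1 : Fin p) := by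
      rw [inv_inv, ← hc, mul_inv_cancel_right]
    rw [this, coe_redSylow]
    exact mkM_mem_redQ _ (fun _ => Subgroup.one_mem _)
  · rw [coe_redSylow]
    apply not_mem_normalizer_of_witness _ g⁻¹ (mkM (Pi.mulSingle 0 ζ) 0)
      (mkM_mem_redQ 0 (mulSingle_mem_zSub hζ 0))
    intro hM
    set M := g⁻¹ * mkM (Pi.mulSingle 0 ζ) 0 * g⁻¹⁻¹ with hMdef
    have hgM : g.1 * M.1 = (mkM (Pi.mulSingle (0 : Fin p) ζ) (0 : Fin p)).1 * g.1 := by
      rw [← Units.val_mul, ← Units.val_mul, hMdef, inv_inv, mul_assoc, mul_inv_cancel_left]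
    obtain ⟨m, b, -, hMm⟩ := mem_redQ.1 hM
    rw [hMm, hgval, mkM_zero_val] at hgM
    have key : ∀ i : Fin p, (d (0 + b) : F) ^ (i : ℕ) * (m (0 + b) : F) =
        ((Pi.mulSingle (0 : Fin p) ζ : Fin p → Fˣ) i : F) * (d 0 : F) ^ (i : ℕ) := by
      intro i
      have e := congrFun (congrFun hgM i) 0
      rw [diagonal_mul, Matrix.mul_apply, Finset.sum_eq_single (0 + b)] at e
      · rw [mkM_val_apply, if_pos rfl, vdm_apply, vdm_apply] at e
        exact e
      · intro t _ ht
        rw [mkM_val_apply, if_neg ht, mul_zero]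
      · intro h
        exact absurd (Finset.mem_univ _) h
    have e0 := key 0
    have e1 := key 1
    have e2 := key 2
    rw [Fin.val_zero, pow_zero, pow_zero, one_mul, mul_one, Pi.mulSingle_eq_same] at e0
    rw [fin_val_one hp2, pow_one, pow_one, Pi.mulSingle_eq_of_ne h10, Units.val_one, one_mul] at e1
    rw [fin_val_two hp2, Pi.mulSingle_eq_of_ne h20, Units.val_one, one_mul] at e2
    rw [e0] at e1 e2
    rw [← e1] at e2
    have hu : (d (0 + b) : F) ≠ 0 := Units.ne_zero _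
    have hz : (ζ : F) ≠ 0 := Units.ne_zero _
    have e3 : (d (0 + b) : F) ^ 2 * (ζ : F) * ((ζ : F) - 1) = 0 := by
      have : ((d (0 + b) : F) * (ζ : F)) ^ 2 - (d (0 + b) : F) ^ 2 * (ζ : F) = 0 := by
        rw [e2, sub_self]
      rw [← this]
      ring
    rcases mul_eq_zero.1 e3 with h | h
    · exact (mul_ne_zero (pow_ne_zero 2 hu) hz) h
    · exact hζ1 (Units.ext (by rw [Units.val_one]; exact sub_eq_zero.1 h))

end vdm

end Cfsg.Agent.Helper42
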