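import Mathlib
import Cfsg.Agent.Helper42.RedD

set_option autoImplicit false
set_option linter.unusedSectionVars false

/-!
# Redundant Sylow subgroup of `GL_p(q)`: non-diagonal elements of order `p²`
-/

namespace Cfsg.Agent.Helper42

open Matrix Equiv
open Fin.CommRing Fin.NatCast

section offdiag
variable {F : Type*} [Field F] [Fintype F] {p : ℕ} [hp : Fact p.Prime] [NeZero p]

theorem mkM_const_zero_val (c : Fˣ) :
    (mkM (fun _ : Fin p => c) (0 : Fin p)).1 = (c : F) • (1 : Matrix (Fin p) (Fin p) F) := by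
  rw [mkM_zero_val]
  ext i l
  rw [diagonal_apply, Matrix.smul_apply, Matrix.one_apply, smul_eq_mul]
  split_ifs <;> simp

theorem prod_mem_zSub {d : Fin p → Fˣ} (hd : ∀ i, d i ∈ zSub F p) : (∏ l, d l) ∈ zSub F p :=
  Subgroup.prod_mem _ (fun i _ => hd i)

/-- Case IV: `x = d · rot a` with `a ≠ 0` and `∏ d ≠ 1` -/
theorem redundant_offdiag_ne_one (hp2 : p ≠ 2) (h1 : p ∣ Fintype.card F - 1)
    (h2 : ¬ p ^ 2 ∣ Fintype.card F - 1) (d : Fin p → Fˣ) (hd : ∀ i, d i ∈ zSub F p)
    {a : Fin p} (ha : a ≠ 0) (hne : (∏ l, d l) ≠ 1) :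
    ∃ P : Sylow p (GL (Fin p) F), P ≠ redSylow hp2 h1 h2 ∧ mkM d a ∈ P := by
  obtain ⟨ζ, hζ, hζ1⟩ := exists_ne_one_zSub (F := F) (p := p) h1 h2
  set lam : Fˣ := ∏ l, d l with hlam
  have hlamp : lam ^ p = 1 := zSub_pow h1 h2 (prod_mem_zSub hd)
  have hodd : Odd p := hp.out.odd_of_ne_two hp2
  set X : Matrix (Fin p) (Fin p) F := (mkM d a).1 with hX
  have hXp : X ^ p = (lam : F) • (1 : Matrix (Fin p) (Fin p) F) := by
    rw [hX, ← Units.val_pow_eq_pow_val, mkM_pow_p d ha, mkM_const_zero_val]
  have hlam1 : (1 : F) + (lam : F) ≠ 0 := by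
    intro h
    have h3 : (lam : F) = -1 := by linear_combination h
    have h4 : ((lam ^ p : Fˣ) : F) = 1 := by rw [hlamp, Units.val_one]
    rw [Units.val_pow_eq_pow_val, h3, hodd.neg_one_pow] at h4
    apply hne
    apply Units.ext
    rw [h3, h4, Units.val_one]
  have hAB : (1 + X) * (((1 : F) + (lam : F))⁻¹ • ∑ k ∈ Finset.range p, (-X) ^ k) = 1 := by
    rw [Matrix.mul_smul]
    have : (1 + X) = 1 - (-X) := by rw [sub_neg_eq_add]
    rw [this, mul_neg_geom_sum, hodd.neg_pow, sub_neg_eq_add, hXp]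
    have e1 : (1 : Matrix (Fin p) (Fin p) F) + (lam : F) • (1 : Matrix (Fin p) (Fin p) F) =
        ((1 : F) + (lam : F)) • (1 : Matrix (Fin p) (Fin p) F) := by
      rw [add_smul, one_smul]
    rw [e1, smul_smul, inv_mul_cancel₀ hlam1, one_smul]
  set g : GL (Fin p) F := ⟨1 + X, ((1 : F) + (lam : F))⁻¹ • ∑ k ∈ Finset.range p, (-X) ^ k, hAB,
    mul_eq_one_comm.1 hAB⟩ with hg
  have hgval : g.1 = 1 + X := rfl
  have hcomm : g * mkM d a = mkM d a * g := by
    apply Units.ext
    rw [Units.val_mul, Units.val_mul, hgval, ← hX, add_mul, mul_add, one_mul, mul_one]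
  apply exists_sylow_ne_of_conj (redSylow hp2 h1 h2) g
  · have : g⁻¹ * mkM d a * g = mkM d a := by
      rw [mul_assoc, ← hcomm, inv_mul_cancel_left]
    rw [this, coe_redSylow]
    exact mkM_mem_redQ a hd
  · rw [coe_redSylow]
    apply not_mem_normalizer_of_witness _ g (mkM (Pi.mulSingle 0 ζ) 0)
      (mkM_mem_redQ 0 (mulSingle_mem_zSub hζ 0))
    intro hM
    obtain ⟨m, b, -, hMm⟩ := mem_redQ.1 hM
    have hMg : mkM m b * g = g * mkM (Pi.mulSingle 0 ζ) 0 := by
      rw [← hMm, inv_mul_cancel_right]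
    have hE : (mkM m b).1 + (mkM m b * mkM d a).1 =
        (mkM (Pi.mulSingle (0 : Fin p) ζ) (0 : Fin p)).1 +
          (mkM d a * mkM (Pi.mulSingle (0 : Fin p) ζ) 0).1 := by
      have := congrArg Units.val hMg
      rw [Units.val_mul, Units.val_mul, hgval, mul_add, add_mul, mul_one, one_mul] at this
      rw [Units.val_mul, Units.val_mul]
      exact this
    rw [mkM_mul, mkM_mul] at hE
    have key : ∀ i l : Fin p,
        (if i = l + b then (m i : F) else 0) +
          (if i = l + (b + a) then ((m i : F) * (d (i - b) : F)) else 0) =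
        (if i = l + 0 then ((Pi.mulSingle (0 : Fin p) ζ : Fin p → Fˣ) i : F) else 0) +
          (if i = l + (a + 0) then ((d i : F) *
            ((Pi.mulSingle (0 : Fin p) ζ : Fin p → Fˣ) (i - a) : F)) else 0) := by
      intro i l
      have := congrFun (congrFun hE i) l
      rw [Matrix.add_apply, Matrix.add_apply, mkM_val_apply, mkM_val_apply, mkM_val_apply,
        mkM_val_apply, Units.val_mul, Units.val_mul] at this
      exact this
    have hna : (-a : Fin p) ≠ 0 := neg_ne_zero.2 ha
    have hm0 : (m 0 : F) ≠ 0 := Units.ne_zero _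
    have hd0 : (d 0 : F) ≠ 0 := Units.ne_zero _
    have hz0 : (ζ : F) ≠ 0 := Units.ne_zero _
    by_cases hb : b = 0
    · subst hb
      have e1 := key 0 0
      have e2 := key 0 (-a)
      simp only [zero_add, add_zero, neg_add_cancel, sub_zero, zero_sub, if_true,
        if_neg (Ne.symm ha), if_neg (Ne.symm hna), Pi.mulSingle_eq_same,
        Pi.mulSingle_eq_of_ne hna, Units.val_one, mul_one] at e1 e2
      rw [e1] at e2
      have : (ζ : F) = 1 := by
        have h5 : ((ζ : F) - 1) * (d 0 : F) = 0 := by rw [sub_mul, e2, one_mul, sub_self]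
        rcases mul_eq_zero.1 h5 with h | h
        · exact sub_eq_zero.1 h
        · exact absurd h hd0
      exact hζ1 (Units.ext (by rw [this, Units.val_one]))
    · have e1 := key 0 0
      simp only [zero_add, add_zero, if_true, if_neg (Ne.symm ha), if_neg (Ne.symm hb),
        Pi.mulSingle_eq_same] at e1
      have hba : b + a = 0 := by
        by_contra hcon
        rw [if_neg (Ne.symm hcon)] at e1
        exact hz0 e1.symm
      have e2 := key 0 (-b)
      have hnb : (-b : Fin p) ≠ 0 := neg_ne_zero.2 hb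
      have h3 : -b + (b + a) = a := by abel
      simp only [zero_add, add_zero, neg_add_cancel, h3, if_true, if_neg (Ne.symm ha),
        if_neg (Ne.symm hnb)] at e2
      have hab : (0 : Fin p) = -b + a := by
        by_contra hcon
        rw [if_neg hcon] at e2
        exact hm0 e2
      apply fin_add_self_ne_zero hp2 ha
      have : a = b := by
        have h' : b = b + (-b + a) := by rw [← hab, add_zero]
        rw [h']
        abel
      rw [← hba, this]

end offdiag

end Cfsg.Agent.Helper42
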