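import Mathlib
import Cfsg.Agent.Helper42.RedE

set_option autoImplicit false
set_option linter.unusedSectionVars false

/-!
# Redundant Sylow subgroup of `GL_p(q)`: non-diagonal elements of order `p`
-/

namespace Cfsg.Agent.Helper42

open Matrix Equiv
open Fin.CommRing Fin.NatCast

section idem
variable {R : Type*} [Ring R]

theorem mul_geom_sum_of_pow_eq_one {X : R} {n : ℕ} (hX : X ^ n = 1) :
    X * ∑ k ∈ Finset.range n, X ^ k = ∑ k ∈ Finset.range n, X ^ k := by
  rw [Finset.mul_sum]
  have h1 := Finset.sum_range_succ' (fun k => X ^ k) n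
  have h2 := Finset.sum_range_succ (fun k => X ^ k) n
  rw [h1, pow_zero, hX] at h2
  have h3 := add_right_cancel h2
  rw [← h3]
  apply Finset.sum_congr rfl
  intro k _
  rw [pow_succ']

theorem pow_mul_geom_sum_of_pow_eq_one {X : R} {n : ℕ} (hX : X ^ n = 1) (k : ℕ) :
    X ^ k * ∑ j ∈ Finset.range n, X ^ j = ∑ j ∈ Finset.range n, X ^ j := by
  induction k with
  | zero => rw [pow_zero, one_mul]
  | succ k ih => rw [pow_succ, mul_assoc, mul_geom_sum_of_pow_eq_one hX, ih]

theorem geom_sum_mul_self_of_pow_eq_one {X : R} {n : ℕ} (hX : X ^ n = 1) :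
    (∑ k ∈ Finset.range n, X ^ k) * (∑ k ∈ Finset.range n, X ^ k) =
      n • ∑ k ∈ Finset.range n, X ^ k := by
  rw [Finset.sum_mul]
  rw [Finset.sum_congr rfl (fun k _ => pow_mul_geom_sum_of_pow_eq_one hX k), Finset.sum_const,
    Finset.card_range]

end idem

section offdiag
variable {F : Type*} [Field F] [Fintype F] {p : ℕ} [hp : Fact p.Prime] [NeZero p]

theorem prime_cast_ne_zero (h1 : p ∣ Fintype.card F - 1) : (p : F) ≠ 0 := by
  intro h
  obtain ⟨c, hc⟩ := h1
  have hq : 1 ≤ Fintype.card F := Fintype.card_pos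
  have h3 : Fintype.card F = p * c + 1 := by omega
  have h4 := FiniteField.cast_card_eq_zero F
  rw [h3] at h4
  push_cast at h4
  rw [h, zero_mul, zero_add] at h4
  exact one_ne_zero h4

theorem fin_natCast_inj_of_lt {k k' : ℕ} (hk : k < p) (hk' : k' < p)
    (h : (k : Fin p) = (k' : Fin p)) : k = k' := by
  have := congrArg Fin.val h
  rwa [Fin.val_natCast, Fin.val_natCast, Nat.mod_eq_of_lt hk, Nat.mod_eq_of_lt hk'] at this

/-- Case III: `x = d · rot a` with `a ≠ 0` and `∏ d = 1` -/
theorem redundant_offdiag_one (hp2 : p ≠ 2) (h1 : p ∣ Fintype.card F - 1)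
    (h2 : ¬ p ^ 2 ∣ Fintype.card F - 1) (d : Fin p → Fˣ) (hd : ∀ i, d i ∈ zSub F p)
    {a : Fin p} (ha : a ≠ 0) (hone : (∏ l, d l) = 1) :
    ∃ P : Sylow p (GL (Fin p) F), P ≠ redSylow hp2 h1 h2 ∧ mkM d a ∈ P := by
  obtain ⟨ζ, hζ, hζ1⟩ := exists_ne_one_zSub (F := F) (p := p) h1 h2
  have hζp : (ζ : F) ^ p = 1 := by
    rw [← Units.val_pow_eq_pow_val, zSub_pow h1 h2 hζ, Units.val_one]
  have hpF : (p : F) ≠ 0 := prime_cast_ne_zero h1
  have h3 : 2 < p := lt_of_le_of_ne hp.out.two_le (Ne.symm hp2)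
  set x := mkM d a with hx
  have hxp : x ^ p = 1 := by
    rw [hx, mkM_pow_p d ha, hone]
    exact mkM_one
  set X : Matrix (Fin p) (Fin p) F := x.1 with hX
  have hXp : X ^ p = 1 := by
    rw [hX, ← Units.val_pow_eq_pow_val, hxp, Units.val_one]
  set π : Matrix (Fin p) (Fin p) F := ∑ k ∈ Finset.range p, X ^ k with hπ
  have hππ : π * π = (p : F) • π := by
    rw [hπ, geom_sum_mul_self_of_pow_eq_one hXp, Nat.cast_smul_eq_nsmul]
  have hcommX : Commute X π :=
    Commute.sum_right _ _ _ (fun k _ => (Commute.refl X).pow_right k)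
  have Hmul : ∀ u v : F, (1 + u • π) * (1 + v • π) = 1 + (u + v + u * v * (p : F)) • π := by
    intro u v
    have e1 : (u • π) * (v • π) = (u * v * (p : F)) • π := by
      rw [smul_mul_smul_comm, hππ, smul_smul]
    rw [add_mul, mul_add, mul_add, one_mul, mul_one, one_mul, e1]
    module
  set u : ℕ → F := fun k => ((ζ : F) ^ k - 1) / (p : F) with hu
  have hu_succ : ∀ k, u k + u 1 + u k * u 1 * (p : F) = u (k + 1) := by
    intro k
    simp only [hu]
    field_simp
    ring
  have Hpow : ∀ k, (1 + u 1 • π) ^ k = 1 + u k • π := by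
    intro k
    induction k with
    | zero =>
      have : u 0 = 0 := by simp only [hu, pow_zero, sub_self, zero_div]
      rw [pow_zero, this, zero_smul, add_zero]
    | succ k ih => rw [pow_succ, ih, Hmul, hu_succ]
  have Hp : (1 + u 1 • π) ^ p = 1 := by
    have : u p = 0 := by simp only [hu, hζp, sub_self, zero_div]
    rw [Hpow, this, zero_smul, add_zero]
  set h : GL (Fin p) F := Units.ofPowEqOne (1 + u 1 • π) p Hp hp.out.ne_zero with hh
  have hval : h.1 = 1 + u 1 • π := Units.val_ofPowEqOne _ _ _ _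
  have hε : u 1 ≠ 0 := by
    simp only [hu, pow_one]
    apply div_ne_zero _ hpF
    intro h0
    exact hζ1 (Units.ext (by rw [Units.val_one]; exact sub_eq_zero.1 h0))
  have hhp : h ^ p ^ 1 = 1 := by
    rw [pow_one]
    exact Units.pow_ofPowEqOne Hp _
  have hc : h * x = x * h := by
    apply Units.ext
    rw [Units.val_mul, Units.val_mul, hval, ← hX, add_mul, mul_add, one_mul, mul_one,
      smul_mul_assoc, mul_smul_comm, hcommX.eq]
  have hxQ : x ∈ ((redSylow hp2 h1 h2 : Sylow p (GL (Fin p) F)) : Subgroup (GL (Fin p) F)) := by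
    rw [coe_redSylow]
    exact mkM_mem_redQ a hd
  apply exists_sylow_ne_of_commute (redSylow hp2 h1 h2) h x hxQ hc hhp
  rw [coe_redSylow]
  intro hQ
  -- entries of `h`
  have hXk : ∀ k : ℕ, ∀ i l : Fin p, (X ^ k) i l =
      if i = l + (k : Fin p) * a then
        ((∏ j ∈ Finset.range k, d (i - (j : Fin p) * a) : Fˣ) : F) else 0 := by
    intro k i l
    rw [hX, ← Units.val_pow_eq_pow_val, hx, mkM_pow, mkM_val_apply]
  have hentry : ∀ k₀ : ℕ, 0 < k₀ → k₀ < p →
      h.1 0 (0 - (k₀ : Fin p) * a) ≠ 0 := by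
    intro k₀ hk0 hkp
    have hne : (k₀ : Fin p) * a ≠ 0 := by
      intro h0
      have := (fin_natCast_mul_eq_zero_iff ha k₀).1 h0
      have := Nat.le_of_dvd hk0 this
      omega
    rw [hval, Matrix.add_apply, Matrix.smul_apply, Matrix.one_apply, if_neg, zero_add, hπ,
      Matrix.sum_apply, Finset.sum_eq_single k₀, hXk, if_pos (by abel), smul_eq_mul]
    · exact mul_ne_zero hε (Units.ne_zero _)
    · intro k hk hkk
      rw [hXk, if_neg]
      intro h0
      apply hkk
      apply fin_natCast_inj_of_lt (Finset.mem_range.1 hk) hkp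
      apply fin_mul_right_cancel ha
      have h' : (k₀ : Fin p) * a = (k₀ : Fin p) * a + (0 - (k₀ : Fin p) * a + (k : Fin p) * a) := by
        rw [← h0, add_zero]
      rw [h']
      abel
    · intro hk
      exact absurd (Finset.mem_range.2 hkp) hk
    · intro h0
      apply hne
      have h' : (k₀ : Fin p) * a = (k₀ : Fin p) * a + (0 - (k₀ : Fin p) * a) := by
        rw [← h0, add_zero]
      rw [h']
      abel
  have e1 := hentry 1 (by norm_num) (by omega)
  have e2 := hentry 2 (by norm_num) h3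
  have h12 := redQ_row_unique hQ e1 e2
  have h12' : ((1 : ℕ) : Fin p) * a = ((2 : ℕ) : Fin p) * a := by
    have := congrArg (fun t => (0 : Fin p) - t) h12
    simpa using this
  have := fin_natCast_inj_of_lt (by omega) h3 (fin_mul_right_cancel ha h12')
  omega

end offdiag

end Cfsg.Agent.Helper42
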