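import Cfsg.Agent.Helper21.SC3C.Defs
import Cfsg.Agent.Helper17.G4320d
import Cfsg.Agent.Helper80.CharLevel

/-!
# S3331 block C (helper21's farm #15586), leaf (DEG) (helper42)

`f ≡ 1 (mod 3)`, `f ≥ 4` and `c < f` for the character data of block C.
-/

set_option autoImplicit false

namespace Cfsg.Agent.Helper42.SC3C

open Cfsg Cfsg.Agent Cfsg.Agent.Helper62.SC3 Cfsg.Agent.Helper21.SC3C
open scoped ComplexConjugate

universe u

variable {G : Type u} [Group G]

/-- (DEG) `f ≡ 1 (mod 3)`, `f ≠ 1` and `c < f`. -/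
theorem deg_facts [Finite G] [IsSimpleGroup G] (S : Setup G) (D : CData S)
    (hint : ∃ (v : ℤ) (m : ℕ), D.χ S.x = (v : ℂ) ∧ D.χ 1 + 2 * D.χ S.x = 3 * (m : ℂ)) :
    D.f % 3 = 1 ∧ 4 ≤ D.f ∧ D.c < (D.f : ℤ) := by
  obtain ⟨v, m, -, hm⟩ := hint
  rw [D.hχ1, D.hχx] at hm
  have hm' : D.f + 2 = 3 * m := by
    have : ((D.f + 2 : ℕ) : ℂ) = ((3 * m : ℕ) : ℂ) := by
      push_cast
      rw [← hm]; ring
    exact_mod_cast this
  -- the character as a member of `IrrCharacter G`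
  let χ' : IrrCharacter G := ⟨D.χ, D.hχ⟩
  have hχ' : χ' ≠ Helper79.principalIrr G := by
    intro h
    exact D.hχ_ne (congrArg Subtype.val h)
  have hx1 : S.x ≠ 1 := by
    intro h
    have := S.hx
    rw [h, orderOf_one] at this
    omega
  have ht1 : S.t ≠ 1 := by
    intro h
    have := S.ht
    rw [h, orderOf_one] at this
    omega
  have h1 := Helper17.G4320.ne_degree_of_simple χ' hχ' hx1
  have h2 := Helper17.G4320.ne_degree_of_simple χ' hχ' ht1
  change D.χ S.x ≠ D.χ 1 at h1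
  change D.χ S.t ≠ D.χ 1 at h2
  rw [D.hχx, D.hχ1] at h1
  rw [D.hχt, D.hχ1] at h2
  have hf1 : D.f ≠ 1 := by
    intro h
    apply h1
    rw [h]; simp
  have hcf : D.c ≠ (D.f : ℤ) := by
    intro h
    apply h2
    rw [h]; simp
  -- `|c| ≤ f`
  have hchar : IsCharacter G D.χ := Helper80.IsIrrCharacter.isCharacter D.hχ
  have hnorm := Helper80.IsCharacter.norm_le hchar S.t
  have hdeg : Cfsg.charDegree D.χ = D.f := by
    have := Helper80.IsCharacter.charDegree_cast hchar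
    rw [D.hχ1] at this
    exact_mod_cast this
  rw [D.hχt, hdeg, Complex.norm_intCast] at hnorm
  have hle : D.c ≤ (D.f : ℤ) := by
    have h3 : ((D.c : ℤ) : ℝ) ≤ ((D.f : ℕ) : ℝ) := le_trans (le_abs_self _) hnorm
    exact_mod_cast h3
  refine ⟨by omega, by omega, lt_of_le_of_ne hle hcf⟩

end Cfsg.Agent.Helper42.SC3C
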