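import Cfsg.Agent.Helper21.SC3C.Defs
import Cfsg.Agent.Helper79.Counting
import Cfsg.Agent.Helper80.CharLevel

/-!
# S3331 block C (helper21's farm #15586), leaf (INT) (helper42)

The value of a character at the self-centralizing element `x` of order 3 (inverted by `t`) is a
rational integer `v`, and `θ(1) + 2 v` is three times a natural number.
-/

set_option autoImplicit false

namespace Cfsg.Agent.Helper42.SC3C

open Cfsg Cfsg.Agent Cfsg.Agent.Helper62.SC3 Cfsg.Agent.Helper21.SC3C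
open scoped ComplexConjugate

universe u

variable {G : Type u} [Group G]

/-- the sum of a function over `zpowers x` for `x` of order 3 -/
theorem INT_sum_zpowers (x : G) (hx : orderOf x = 3) (θ : G → ℂ)
    [Fintype (Subgroup.zpowers x)] :
    ∑ z : Subgroup.zpowers x, θ z = θ 1 + θ x + θ (x ^ 2) := by
  have hfin : IsOfFinOrder x := orderOf_pos_iff.mp (by rw [hx]; norm_num)
  let e : Fin 3 ≃ Subgroup.zpowers x := (finCongr hx.symm).trans (finEquivZPowers hfin)
  rw [← Equiv.sum_comp e (fun z : Subgroup.zpowers x => θ z), Fin.sum_univ_three]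
  have h0 : ((e 0 : Subgroup.zpowers x) : G) = 1 := by
    simp [e, finEquivZPowers_apply]
  have h1 : ((e 1 : Subgroup.zpowers x) : G) = x := by
    simp [e, finEquivZPowers_apply]
  have h2 : ((e 2 : Subgroup.zpowers x) : G) = x ^ 2 := by
    simp [e, finEquivZPowers_apply]
  rw [h0, h1, h2]

/-- (INT) the value of a character at `x` is a rational integer `v`, and `θ(1) + 2 v = 3 m`. -/
theorem char_x_int [Finite G] (S : Setup G) {θ : G → ℂ} (hθ : IsCharacter G θ) :
    ∃ (v : ℤ) (m : ℕ), θ S.x = (v : ℂ) ∧ θ 1 + 2 * θ S.x = 3 * (m : ℂ) := by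
  classical
  let _ : Fintype G := Fintype.ofFinite G
  let _ : Fintype (Subgroup.zpowers S.x) := Fintype.ofFinite _
  obtain ⟨m, hm⟩ := Helper79.sum_subgroup_char hθ (Subgroup.zpowers S.x)
  rw [INT_sum_zpowers S.x S.hx θ, Nat.card_zpowers, S.hx] at hm
  -- `θ (x ^ 2) = θ x`
  have hx3 : S.x ^ 3 = 1 := by rw [← S.hx]; exact pow_orderOf_eq_one S.x
  have hx2 : S.x ^ 2 = S.x⁻¹ := by
    rw [eq_inv_iff_mul_eq_one, ← pow_succ, hx3]
  have hconj : IsConj S.x (S.x ^ 2) := by
    rw [hx2, ← S.htx]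
    exact isConj_iff.mpr ⟨S.t, rfl⟩
  have hθ2 : θ (S.x ^ 2) = θ S.x := (Helper80.IsCharacter.eq_of_isConj hθ hconj).symm
  rw [hθ2] at hm
  have hsum : θ 1 + 2 * θ S.x = 3 * (m : ℂ) := by
    have h3 : ((3 : ℕ) : ℂ) = 3 := by norm_num
    rw [h3] at hm
    rw [← hm]; ring
  -- integrality
  have hd := Helper80.IsCharacter.charDegree_cast hθ
  set n : ℕ := Cfsg.charDegree θ with hn
  have hval : θ S.x = (((3 * (m : ℚ) - (n : ℚ)) / 2 : ℚ) : ℂ) := by
    push_cast
    rw [hd]
    linear_combination (1 / 2 : ℂ) * hsum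
  have hint : IsIntegral ℤ (θ S.x) := Helper80.IsCharacter.isIntegral hθ S.x
  rw [hval] at hint
  have hq : IsIntegral ℤ ((3 * (m : ℚ) - (n : ℚ)) / 2 : ℚ) :=
    (isIntegral_algebraMap_iff (algebraMap ℚ ℂ).injective).mp hint
  obtain ⟨v, hv⟩ := IsIntegrallyClosed.isIntegral_iff.mp hq
  refine ⟨v, m, ?_, hsum⟩
  rw [hval, ← hv]
  simp

end Cfsg.Agent.Helper42.SC3C
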