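import Cfsg.Agent.Helper42.SL2OddCount

set_option autoImplicit false

/-!
# Centralizers in `PSL(2, F)` pulled back to `SL(2, F)`, odd characteristic
-/

namespace Cfsg.Agent.Helper42

open Matrix

variable {F : Type*} [Field F]

/-- central elements of `SL(2,F)` are `±1` -/
theorem mem_center_SL2_iff (z : Matrix.SpecialLinearGroup (Fin 2) F) :
    z ∈ Subgroup.center (Matrix.SpecialLinearGroup (Fin 2) F) ↔
      (z : Matrix (Fin 2) (Fin 2) F) = 1 ∨ (z : Matrix (Fin 2) (Fin 2) F) = -1 := by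
  rw [Matrix.SpecialLinearGroup.mem_center_iff]
  constructor
  · rintro ⟨r, hr, hz⟩
    rw [Fintype.card_fin] at hr
    have : (r - 1) * (r + 1) = 0 := by linear_combination hr
    rcases mul_eq_zero.mp this with h | h
    · left
      rw [← hz, sub_eq_zero.mp h]
      simp
    · right
      rw [← hz, eq_neg_of_add_eq_zero_left h]
      ext i j
      simp [Matrix.neg_apply, Matrix.one_apply, Matrix.diagonal_apply]
      split_ifs <;> simp
  · rintro (h | h)
    · exact ⟨1, by simp, by rw [h]; simp⟩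
    · refine ⟨-1, by simp, ?_⟩
      rw [h]
      ext i j
      simp [Matrix.neg_apply, Matrix.one_apply, Matrix.diagonal_apply]
      split_ifs <;> simp

/-- the preimage in `SL(2,F)` of the centralizer of the image of `g` in `PSL(2,F)` -/
def preCent (g : Matrix.SpecialLinearGroup (Fin 2) F) : Subgroup (Matrix.SpecialLinearGroup (Fin 2) F) :=
  (Subgroup.centralizer
    ({(QuotientGroup.mk' (Subgroup.center (Matrix.SpecialLinearGroup (Fin 2) F))) g} :
      Set (Matrix.SpecialLinearGroup (Fin 2) F ⧸ Subgroup.center (Matrix.SpecialLinearGroup (Fin 2) F)))).comap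
    (QuotientGroup.mk' (Subgroup.center (Matrix.SpecialLinearGroup (Fin 2) F)))

theorem index_preCent (g : Matrix.SpecialLinearGroup (Fin 2) F) :
    (preCent g).index = (Subgroup.centralizer
    ({(QuotientGroup.mk' (Subgroup.center (Matrix.SpecialLinearGroup (Fin 2) F))) g} :
      Set (Matrix.SpecialLinearGroup (Fin 2) F ⧸ Subgroup.center (Matrix.SpecialLinearGroup (Fin 2) F)))).index :=
  Subgroup.index_comap_of_surjective _ (QuotientGroup.mk'_surjective _)

theorem mem_preCent (g h : Matrix.SpecialLinearGroup (Fin 2) F) :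
    h ∈ preCent g ↔
      (h : Matrix (Fin 2) (Fin 2) F) * (g : Matrix (Fin 2) (Fin 2) F) =
        (g : Matrix (Fin 2) (Fin 2) F) * (h : Matrix (Fin 2) (Fin 2) F) ∨
      (h : Matrix (Fin 2) (Fin 2) F) * (g : Matrix (Fin 2) (Fin 2) F) =
        -((g : Matrix (Fin 2) (Fin 2) F) * (h : Matrix (Fin 2) (Fin 2) F)) := by
  unfold preCent
  rw [Subgroup.mem_comap, Subgroup.mem_centralizer_singleton_iff, ← map_mul, ← map_mul]
  show ((h * g : Matrix.SpecialLinearGroup (Fin 2) F) :
      Matrix.SpecialLinearGroup (Fin 2) F ⧸ Subgroup.center (Matrix.SpecialLinearGroup (Fin 2) F)) = ((g * h : Matrix.SpecialLinearGroup (Fin 2) F) :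
      Matrix.SpecialLinearGroup (Fin 2) F ⧸ Subgroup.center (Matrix.SpecialLinearGroup (Fin 2) F)) ↔ _
  rw [QuotientGroup.eq, mem_center_SL2_iff]
  have key : ∀ M : Matrix (Fin 2) (Fin 2) F,
      (((h * g)⁻¹ * (g * h) : Matrix.SpecialLinearGroup (Fin 2) F) : Matrix (Fin 2) (Fin 2) F) = M ↔
      (g : Matrix (Fin 2) (Fin 2) F) * (h : Matrix (Fin 2) (Fin 2) F) =
        (h : Matrix (Fin 2) (Fin 2) F) * (g : Matrix (Fin 2) (Fin 2) F) * M := by
    intro M
    have e1 : ((h * g : Matrix.SpecialLinearGroup (Fin 2) F) : Matrix (Fin 2) (Fin 2) F) *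
        (((h * g)⁻¹ * (g * h) : Matrix.SpecialLinearGroup (Fin 2) F) : Matrix (Fin 2) (Fin 2) F) =
        (g : Matrix (Fin 2) (Fin 2) F) * (h : Matrix (Fin 2) (Fin 2) F) := by
      rw [← Matrix.SpecialLinearGroup.coe_mul, ← Matrix.SpecialLinearGroup.coe_mul, mul_inv_cancel_left]
    have e2 : ((h * g : Matrix.SpecialLinearGroup (Fin 2) F) : Matrix (Fin 2) (Fin 2) F) =
        (h : Matrix (Fin 2) (Fin 2) F) * (g : Matrix (Fin 2) (Fin 2) F) :=
      Matrix.SpecialLinearGroup.coe_mul _ _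
    constructor
    · intro hM
      rw [← e1, hM, e2]
    · intro hM
      have e3 : ((h * g)⁻¹ : Matrix.SpecialLinearGroup (Fin 2) F) * (h * g) = 1 := inv_mul_cancel _
      have e4 := congrArg (fun A : Matrix.SpecialLinearGroup (Fin 2) F => (A : Matrix (Fin 2) (Fin 2) F)) e3
      simp only [Matrix.SpecialLinearGroup.coe_mul, Matrix.SpecialLinearGroup.coe_one] at e4
      rw [Matrix.SpecialLinearGroup.coe_mul, Matrix.SpecialLinearGroup.coe_mul, hM, ← mul_assoc, e4, one_mul]
  rw [key, key, mul_one, mul_neg, mul_one]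
  constructor
  · rintro (h1 | h1)
    · left; exact h1.symm
    · right; rw [h1, neg_neg]
  · rintro (h1 | h1)
    · left; exact h1.symm
    · right; rw [h1, neg_neg]

theorem centralizer_le_preCent (g : Matrix.SpecialLinearGroup (Fin 2) F) :
    Subgroup.centralizer ({g} : Set (Matrix.SpecialLinearGroup (Fin 2) F)) ≤ preCent g := by
  intro h hh
  rw [Subgroup.mem_centralizer_singleton_iff] at hh
  rw [mem_preCent]
  left
  have := congrArg (fun A : Matrix.SpecialLinearGroup (Fin 2) F => (A : Matrix (Fin 2) (Fin 2) F)) hh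
  simpa only [Matrix.SpecialLinearGroup.coe_mul] using this

theorem mem_centralizer_iff_mat (g h : Matrix.SpecialLinearGroup (Fin 2) F) :
    h ∈ Subgroup.centralizer ({g} : Set (Matrix.SpecialLinearGroup (Fin 2) F)) ↔
      (h : Matrix (Fin 2) (Fin 2) F) * (g : Matrix (Fin 2) (Fin 2) F) =
        (g : Matrix (Fin 2) (Fin 2) F) * (h : Matrix (Fin 2) (Fin 2) F) := by
  rw [Subgroup.mem_centralizer_singleton_iff]
  constructor
  · intro hh
    have := congrArg (fun A : Matrix.SpecialLinearGroup (Fin 2) F => (A : Matrix (Fin 2) (Fin 2) F)) hh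
    simpa only [Matrix.SpecialLinearGroup.coe_mul] using this
  · intro hh
    apply Matrix.SpecialLinearGroup.ext
    intro i j
    rw [Matrix.SpecialLinearGroup.coe_mul, Matrix.SpecialLinearGroup.coe_mul, hh]

/-- anticommuting forces trace zero -/
theorem trace_eq_zero_of_anticomm (h2 : (2 : F) ≠ 0) (g h : Matrix.SpecialLinearGroup (Fin 2) F)
    (hh : (h : Matrix (Fin 2) (Fin 2) F) * (g : Matrix (Fin 2) (Fin 2) F) =
        -((g : Matrix (Fin 2) (Fin 2) F) * (h : Matrix (Fin 2) (Fin 2) F))) :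
    (g : Matrix (Fin 2) (Fin 2) F).trace = 0 := by
  -- g = -(h⁻¹ g h)... use trace (h g h⁻¹) = trace g
  have e3 : (h : Matrix.SpecialLinearGroup (Fin 2) F) * h⁻¹ = 1 := mul_inv_cancel _
  have e4 := congrArg (fun A : Matrix.SpecialLinearGroup (Fin 2) F => (A : Matrix (Fin 2) (Fin 2) F)) e3
  simp only [Matrix.SpecialLinearGroup.coe_mul, Matrix.SpecialLinearGroup.coe_one] at e4
  have h1 : (h : Matrix (Fin 2) (Fin 2) F) * (g : Matrix (Fin 2) (Fin 2) F) *
      ((h⁻¹ : Matrix.SpecialLinearGroup (Fin 2) F) : Matrix (Fin 2) (Fin 2) F) =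
      -(g : Matrix (Fin 2) (Fin 2) F) := by
    rw [hh, neg_mul, mul_assoc, e4, mul_one]
  have h3 := congrArg Matrix.trace h1
  rw [Matrix.trace_mul_cycle] at h3
  have e5 : ((h⁻¹ : Matrix.SpecialLinearGroup (Fin 2) F) : Matrix (Fin 2) (Fin 2) F) *
      (h : Matrix (Fin 2) (Fin 2) F) = 1 := by
    have e6 : (h⁻¹ : Matrix.SpecialLinearGroup (Fin 2) F) * h = 1 := inv_mul_cancel _
    have := congrArg (fun A : Matrix.SpecialLinearGroup (Fin 2) F => (A : Matrix (Fin 2) (Fin 2) F)) e6
    simpa only [Matrix.SpecialLinearGroup.coe_mul, Matrix.SpecialLinearGroup.coe_one] using this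
  rw [e5, one_mul, Matrix.trace_neg] at h3
  have : (2 : F) * (g : Matrix (Fin 2) (Fin 2) F).trace = 0 := by linear_combination h3
  exact (mul_eq_zero.mp this).resolve_left h2

theorem preCent_eq_of_trace_ne_zero (h2 : (2 : F) ≠ 0) (g : Matrix.SpecialLinearGroup (Fin 2) F)
    (ht : (g : Matrix (Fin 2) (Fin 2) F).trace ≠ 0) :
    preCent g = Subgroup.centralizer ({g} : Set (Matrix.SpecialLinearGroup (Fin 2) F)) := by
  apply le_antisymm _ (centralizer_le_preCent g)
  intro h hh
  rw [mem_preCent] at hh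
  rcases hh with hh | hh
  · exact (mem_centralizer_iff_mat g h).mpr hh
  · exact absurd (trace_eq_zero_of_anticomm h2 g h hh) ht

/-- an invertible anticommuting matrix for a non-scalar trace-zero matrix -/
theorem exists_anticomm_mat (g : Matrix (Fin 2) (Fin 2) F) (hg : IsNonScalarMat g) (ht : g.trace = 0) :
    ∃ k : Matrix (Fin 2) (Fin 2) F, k * g = -(g * k) ∧ k.det ≠ 0 := by
  rw [Matrix.trace_fin_two] at ht
  have hd : g 1 1 = -g 0 0 := by linear_combination ht
  by_cases hb : g 0 1 = 0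
  · by_cases hc : g 1 0 = 0
    · refine ⟨!![0, 1; -1, 0], ?_, ?_⟩
      · apply ext2
        · rw [mul00, Matrix.neg_apply, mul00]; simp [hb, hc]
        · rw [mul01, Matrix.neg_apply, mul01]; simp [hd]
        · rw [mul10, Matrix.neg_apply, mul10]; simp [hd]
        · rw [mul11, Matrix.neg_apply, mul11]; simp [hb, hc]
      · rw [Matrix.det_fin_two]; simp
    · refine ⟨!![g 1 0, -2 * g 0 0; 0, -g 1 0], ?_, ?_⟩
      · apply ext2
        · rw [mul00, Matrix.neg_apply, mul00]; simp; ring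
        · rw [mul01, Matrix.neg_apply, mul01]; simp [hd]; ring
        · rw [mul10, Matrix.neg_apply, mul10]; simp
        · rw [mul11, Matrix.neg_apply, mul11]; simp [hd]; ring
      · rw [Matrix.det_fin_two]; simp [hc]
  · refine ⟨!![g 0 1, 0; -2 * g 0 0, -g 0 1], ?_, ?_⟩
    · apply ext2
      · rw [mul00, Matrix.neg_apply, mul00]; simp; ring
      · rw [mul01, Matrix.neg_apply, mul01]; simp
      · rw [mul10, Matrix.neg_apply, mul10]; simp [hd]; ring
      · rw [mul11, Matrix.neg_apply, mul11]; simp [hd]; ring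
    · rw [Matrix.det_fin_two]; simp [hb]

theorem exists_anticomm [Fintype F] (h2 : (2 : F) ≠ 0) (hodd : Fintype.card F % 2 = 1)
    (g : Matrix.SpecialLinearGroup (Fin 2) F) (hg : IsNonScalarMat (g : Matrix (Fin 2) (Fin 2) F))
    (ht : (g : Matrix (Fin 2) (Fin 2) F).trace = 0) :
    ∃ h : Matrix.SpecialLinearGroup (Fin 2) F,
      (h : Matrix (Fin 2) (Fin 2) F) * (g : Matrix (Fin 2) (Fin 2) F) =
        -((g : Matrix (Fin 2) (Fin 2) F) * (h : Matrix (Fin 2) (Fin 2) F)) := by
  classical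
  obtain ⟨k, hk, hdet⟩ := exists_anticomm_mat _ hg ht
  have h4 : (0 : F) ^ 2 ≠ 4 := by
    have : (4 : F) = 2 * 2 := by norm_num
    rw [this]
    intro h
    have : (2 : F) * 2 = 0 := by rw [← h]; ring
    exact h2 ((mul_self_eq_zero).mp this)
  obtain ⟨⟨x, y⟩, hxy⟩ := exists_qform_eq h2 hodd (0 : F) h4 (k.det)⁻¹
  have hxy' : x ^ 2 + y ^ 2 = (k.det)⁻¹ := by
    unfold qform at hxy
    simpa using hxy
  have hdet' : (k * lin (g : Matrix (Fin 2) (Fin 2) F) x y).det = 1 := by
    rw [Matrix.det_mul, det_lin, ht, g.2, mul_zero, add_zero, mul_one, hxy', mul_inv_cancel₀ hdet]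
  refine ⟨⟨k * lin (g : Matrix (Fin 2) (Fin 2) F) x y, hdet'⟩, ?_⟩
  show k * lin (g : Matrix (Fin 2) (Fin 2) F) x y * (g : Matrix (Fin 2) (Fin 2) F) =
    -((g : Matrix (Fin 2) (Fin 2) F) * (k * lin (g : Matrix (Fin 2) (Fin 2) F) x y))
  rw [mul_assoc, lin_comm, ← mul_assoc, hk, neg_mul, mul_assoc]

/-- with an anticommuting element the preimage centralizer is twice as large -/
theorem card_preCent_of_anticomm (h2 : (2 : F) ≠ 0) (g h₀ : Matrix.SpecialLinearGroup (Fin 2) F)
    (hh₀ : (h₀ : Matrix (Fin 2) (Fin 2) F) * (g : Matrix (Fin 2) (Fin 2) F) =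
        -((g : Matrix (Fin 2) (Fin 2) F) * (h₀ : Matrix (Fin 2) (Fin 2) F))) :
    Nat.card (preCent g) = Nat.card (Subgroup.centralizer ({g} : Set (Matrix.SpecialLinearGroup (Fin 2) F))) * 2 := by
  have hle := centralizer_le_preCent g
  have hidx : ((Subgroup.centralizer ({g} : Set (Matrix.SpecialLinearGroup (Fin 2) F))).subgroupOf (preCent g)).index = 2 := by
    rw [Subgroup.index_eq_two_iff]
    have hh₀mem : h₀ ∈ preCent g := (mem_preCent g h₀).mpr (Or.inr hh₀)
    refine ⟨⟨h₀, hh₀mem⟩, ?_⟩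
    rintro ⟨b, hb⟩
    rw [Subgroup.mem_subgroupOf, Subgroup.mem_subgroupOf]
    show Xor (b * h₀ ∈ _) (b ∈ _)
    rw [mem_centralizer_iff_mat, mem_centralizer_iff_mat, Matrix.SpecialLinearGroup.coe_mul]
    -- a matrix cannot both commute and anticommute with g
    have hne : ∀ M : Matrix (Fin 2) (Fin 2) F, M.det ≠ 0 → M ≠ -M := by
      intro M hM hMM
      apply hM
      have h00 : (2 : F) * M 0 0 = 0 := by
        have := congrFun (congrFun hMM 0) 0
        rw [Matrix.neg_apply] at this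
        linear_combination this
      have h01 : (2 : F) * M 0 1 = 0 := by
        have := congrFun (congrFun hMM 0) 1
        rw [Matrix.neg_apply] at this
        linear_combination this
      rw [Matrix.det_fin_two, (mul_eq_zero.mp h00).resolve_left h2, (mul_eq_zero.mp h01).resolve_left h2]
      ring
    have hdetgb : ((g : Matrix (Fin 2) (Fin 2) F) * (b : Matrix (Fin 2) (Fin 2) F)).det ≠ 0 := by
      rw [Matrix.det_mul, g.2, b.2]; simp
    have hdetgbh : ((g : Matrix (Fin 2) (Fin 2) F) * ((b : Matrix (Fin 2) (Fin 2) F) * (h₀ : Matrix (Fin 2) (Fin 2) F))).det ≠ 0 := by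
      rw [Matrix.det_mul, Matrix.det_mul, g.2, b.2, h₀.2]; simp
    rw [mem_preCent] at hb
    rcases hb with hb | hb
    · -- b commutes: b h₀ anticommutes
      right
      refine ⟨hb, ?_⟩
      intro hcomm
      have hanti : (b : Matrix (Fin 2) (Fin 2) F) * (h₀ : Matrix (Fin 2) (Fin 2) F) * (g : Matrix (Fin 2) (Fin 2) F) =
          -((g : Matrix (Fin 2) (Fin 2) F) * ((b : Matrix (Fin 2) (Fin 2) F) * (h₀ : Matrix (Fin 2) (Fin 2) F))) := by
        rw [mul_assoc, hh₀, mul_neg, ← mul_assoc, hb, mul_assoc]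
      rw [hcomm] at hanti
      exact hne _ hdetgbh hanti
    · -- b anticommutes: b h₀ commutes
      left
      refine ⟨?_, ?_⟩
      · rw [mul_assoc, hh₀, mul_neg, ← mul_assoc, hb, neg_mul, neg_neg, mul_assoc]
      · intro hcomm
        rw [hcomm] at hb
        exact hne _ hdetgb hb
  have h1 := Subgroup.card_mul_index ((Subgroup.centralizer ({g} : Set (Matrix.SpecialLinearGroup (Fin 2) F))).subgroupOf (preCent g))
  rw [hidx, Nat.card_congr (Subgroup.subgroupOfEquivOfLe hle).toEquiv] at h1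
  exact h1.symm

end Cfsg.Agent.Helper42
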