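import Mathlib
import Cfsg.Agent.Helper42.GLSyl2C

set_option autoImplicit false
set_option linter.unusedSectionVars false

/-!
# Sylow 2-subgroups of `SL_n(q)`, `n` odd, `q ≡ 3 (mod 4)`
-/

namespace Cfsg.Agent.Helper42

open Matrix Equiv

variable {F : Type*} [Field F] [Fintype F]

/-- elements of a `2`-subgroup of `GL_n(q)`, `q ≡ 3 (mod 4)`, have determinant `± 1` -/
theorem det_sq_eq_one_of_isPGroup (h3 : Fintype.card F % 4 = 3) {n : ℕ}
    {S : Subgroup (GL (Fin n) F)} (hS : IsPGroup 2 S) {a : GL (Fin n) F} (ha : a ∈ S) :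
    (Matrix.GeneralLinearGroup.det a) ^ 2 = 1 := by
  classical
  obtain ⟨k, hk⟩ := hS ⟨a, ha⟩
  have hk' : a ^ 2 ^ k = 1 := by
    have := congrArg Subtype.val hk
    simpa using this
  set d := Matrix.GeneralLinearGroup.det a with hd
  have h1 : d ^ 2 ^ k = 1 := by rw [hd, ← map_pow, hk', map_one]
  have h2 : d ^ (Fintype.card F - 1) = 1 := by
    have := pow_card_eq_one (G := Fˣ) (x := d)
    rwa [Fintype.card_units] at this
  have h3' : orderOf d ∣ 2 ^ k := orderOf_dvd_of_pow_eq_one h1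
  have h4 : orderOf d ∣ Fintype.card F - 1 := orderOf_dvd_of_pow_eq_one h2
  obtain ⟨j, -, hj⟩ := (Nat.dvd_prime_pow Nat.prime_two).1 h3'
  have hj1 : j ≤ 1 := by
    by_contra hcon
    have h5 : 2 ^ 2 ∣ 2 ^ j := pow_dvd_pow 2 (by omega)
    rw [← hj] at h5
    have h6 := h5.trans h4
    omega
  have h7 : orderOf d ∣ 2 := by
    rw [hj]
    calc 2 ^ j ∣ 2 ^ 1 := pow_dvd_pow 2 hj1
      _ = 2 := pow_one 2
  exact orderOf_dvd_iff_pow_eq_one.1 h7

/-- the retraction `a ↦ det(a) • a` of a `2`-subgroup of `GL_n(q)` (`n` odd, `q ≡ 3 (mod 4)`)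
into `SL_n(q)` -/
def detTwist (h3 : Fintype.card F % 4 = 3) {n : ℕ} (hn : Odd n)
    (S : Subgroup (GL (Fin n) F)) (hS : IsPGroup 2 S) : ↥S →* SpecialLinearGroup (Fin n) F where
  toFun a := ⟨((Matrix.GeneralLinearGroup.det a.1 : Fˣ) : F) • (a.1 : Matrix (Fin n) (Fin n) F), by
    rw [Matrix.det_smul, Fintype.card_fin]
    have h1 := det_sq_eq_one_of_isPGroup h3 hS a.2
    have h2 : (Matrix.GeneralLinearGroup.det a.1 : F) = (a.1 : Matrix (Fin n) (Fin n) F).det := rfl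
    rw [← h2, ← pow_succ]
    obtain ⟨k, rfl⟩ := hn
    have : 2 * k + 1 + 1 = 2 * (k + 1) := by ring
    rw [this, pow_mul]
    have h1' : ((Matrix.GeneralLinearGroup.det a.1 : Fˣ) : F) ^ 2 = 1 := by
      rw [← Units.val_pow_eq_pow_val, h1, Units.val_one]
    rw [h1', one_pow]⟩
  map_one' := by
    apply Subtype.ext
    simp
  map_mul' a b := by
    apply Subtype.ext
    show ((Matrix.GeneralLinearGroup.det (a * b).1 : Fˣ) : F) •
        ((a * b).1 : Matrix (Fin n) (Fin n) F) =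
      (((Matrix.GeneralLinearGroup.det a.1 : Fˣ) : F) • (a.1 : Matrix (Fin n) (Fin n) F)) *
        (((Matrix.GeneralLinearGroup.det b.1 : Fˣ) : F) • (b.1 : Matrix (Fin n) (Fin n) F))
    rw [Matrix.smul_mul, Matrix.mul_smul, smul_smul, Subgroup.coe_mul, map_mul, Units.val_mul,
      Units.val_mul]

theorem detTwist_apply (h3 : Fintype.card F % 4 = 3) {n : ℕ} (hn : Odd n)
    (S : Subgroup (GL (Fin n) F)) (hS : IsPGroup 2 S) (a : ↥S) :
    (detTwist h3 hn S hS a).1 =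
      ((Matrix.GeneralLinearGroup.det a.1 : Fˣ) : F) • (a.1 : Matrix (Fin n) (Fin n) F) := rfl

/-- `P / P'` is elementary abelian for a Sylow `2`-subgroup `P` of `SL_n(q)`, `n` odd,
`q ≡ 3 (mod 4)` -/
theorem EA_sylow_SL_odd (h3 : Fintype.card F % 4 = 3) {n : ℕ} (hn : Odd n)
    (P : Sylow 2 (SpecialLinearGroup (Fin n) F)) :
    EA 2 ↥(P : Subgroup (SpecialLinearGroup (Fin n) F)) := by
  classical
  have hP : IsPGroup 2 ((P : Subgroup (SpecialLinearGroup (Fin n) F)).map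
      (SpecialLinearGroup.toGL : SpecialLinearGroup (Fin n) F →* GL (Fin n) F)) :=
    P.isPGroup'.map _
  obtain ⟨S, hS⟩ := hP.exists_le_sylow
  have hSp : IsPGroup 2 (S : Subgroup (GL (Fin n) F)) := S.isPGroup'
  set θ := detTwist h3 hn (S : Subgroup (GL (Fin n) F)) hSp with hθ
  have hmem : ∀ x : ↥(P : Subgroup (SpecialLinearGroup (Fin n) F)),
      SpecialLinearGroup.toGL x.1 ∈ (S : Subgroup (GL (Fin n) F)) :=
    fun x => hS ⟨x.1, x.2, rfl⟩
  have hθx : ∀ x : ↥(P : Subgroup (SpecialLinearGroup (Fin n) F)),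
      θ ⟨SpecialLinearGroup.toGL x.1, hmem x⟩ = x.1 := by
    intro x
    apply Subtype.ext
    rw [hθ, detTwist_apply]
    have : (Matrix.GeneralLinearGroup.det (SpecialLinearGroup.toGL x.1) : Fˣ) = 1 := by
      apply Units.ext
      show (SpecialLinearGroup.toGL x.1 : Matrix (Fin n) (Fin n) F).det = 1
      exact x.1.2
    rw [this, Units.val_one, one_smul]
    rfl
  have hrange : θ.range = (P : Subgroup (SpecialLinearGroup (Fin n) F)) := by
    apply P.is_maximal'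
    · exact IsPGroup.of_surjective hSp θ.rangeRestrict θ.rangeRestrict_surjective
    · intro x hx
      exact ⟨⟨SpecialLinearGroup.toGL x, hmem ⟨x, hx⟩⟩, hθx ⟨x, hx⟩⟩
  let θ' : ↥(S : Subgroup (GL (Fin n) F)) →* ↥(P : Subgroup (SpecialLinearGroup (Fin n) F)) :=
    θ.codRestrict _ (fun a => by rw [← hrange]; exact ⟨a, rfl⟩)
  have hEA := EA_sylow_GL_three h3 n S
  intro x
  have h1 := hEA ⟨SpecialLinearGroup.toGL x.1, hmem x⟩
  have h2 := map_commutator_le θ' ⟨_, h1, rfl⟩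
  rw [map_pow] at h2
  have h3' : θ' ⟨SpecialLinearGroup.toGL x.1, hmem x⟩ = x := Subtype.ext (hθx x)
  rwa [h3'] at h2

end Cfsg.Agent.Helper42
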