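import Mathlib
import Cfsg.Agent.Helper5.Card

set_option autoImplicit false
set_option linter.unusedSectionVars false

/-!
# Sylow subgroups of `SL_n(q)` as determinant kernels of Sylow subgroups of `GL_n(q)`
-/

namespace Cfsg.Agent.Helper42

open Matrix

variable {F : Type*} [Field F] [Fintype F]

/-- the kernel of `det ∘ Ψ` mapped into `SL_n` -/
def kerToSL {X : Type*} [Group X] {n : ℕ} (Ψ : X →* GL (Fin n) F) :
    ↥(Matrix.GeneralLinearGroup.det.comp Ψ).ker →* SpecialLinearGroup (Fin n) F where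
  toFun x := ⟨(Ψ x.1).1, by
    have h := x.2
    rw [MonoidHom.mem_ker, MonoidHom.comp_apply] at h
    have h2 : ((Matrix.GeneralLinearGroup.det (Ψ x.1) : Fˣ) : F) = 1 := by rw [h]; rfl
    exact h2⟩
  map_one' := by
    apply Subtype.ext
    show (Ψ ((1 : ↥(Matrix.GeneralLinearGroup.det.comp Ψ).ker) : X)).1 = 1
    rw [Subgroup.coe_one, map_one]
    rfl
  map_mul' a b := by
    apply Subtype.ext
    show (Ψ ((a * b : ↥(Matrix.GeneralLinearGroup.det.comp Ψ).ker) : X)).1 =
      (Ψ a.1).1 * (Ψ b.1).1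
    rw [Subgroup.coe_mul, map_mul]
    rfl

theorem kerToSL_injective {X : Type*} [Group X] {n : ℕ} (Ψ : X →* GL (Fin n) F)
    (hΨ : Function.Injective Ψ) : Function.Injective (kerToSL Ψ) := by
  intro a b h
  apply Subtype.ext
  apply hΨ
  apply Units.ext
  exact congrArg Subtype.val h

/-- if `Ψ : X → GL_n(q)` is an embedding onto a Sylow `p`-subgroup, then the Sylow
`p`-subgroups of `SL_n(q)` are isomorphic to `ker (det ∘ Ψ)` -/
theorem nonempty_ker_equiv_sylow_SL {p : ℕ} [hp : Fact p.Prime] {X : Type*} [Group X] {n : ℕ}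
    (hn : 0 < n) (Ψ : X →* GL (Fin n) F) (hΨ : Function.Injective Ψ)
    (hcard : Nat.card X = p ^ (Nat.card (GL (Fin n) F)).factorization p)
    (P : Sylow p (SpecialLinearGroup (Fin n) F)) :
    Nonempty (↥(Matrix.GeneralLinearGroup.det.comp Ψ).ker ≃*
      ↥(P : Subgroup (SpecialLinearGroup (Fin n) F))) := by
  classical
  haveI : Nonempty (Fin n) := ⟨⟨0, hn⟩⟩
  haveI : Finite X := Nat.finite_of_card_ne_zero (by rw [hcard]; exact (pow_pos hp.out.pos _).ne')
  set δ := Matrix.GeneralLinearGroup.det.comp Ψ with hδ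
  have h1 := Subgroup.card_eq_card_quotient_mul_card_subgroup δ.ker
  rw [Nat.card_congr (QuotientGroup.quotientKerEquivRange δ).toEquiv, hcard,
    Cfsg.Agent.Helper5.card_GL_eq_card_SL_mul] at h1
  have hq : Fintype.card F - 1 ≠ 0 := by
    have := Fintype.one_lt_card (α := F)
    omega
  rw [Nat.factorization_mul Nat.card_pos.ne' hq, Finsupp.add_apply] at h1
  -- the kernel
  have hk1 : Nat.card δ.ker ∣ Nat.card (SpecialLinearGroup (Fin n) F) := by
    rw [Nat.card_congr (MonoidHom.ofInjective (kerToSL_injective Ψ hΨ)).toEquiv]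
    exact Subgroup.card_subgroup_dvd_card _
  have hk2 : Nat.card δ.ker ∣ p ^ ((Nat.card (SpecialLinearGroup (Fin n) F)).factorization p +
      (Fintype.card F - 1).factorization p) := by
    rw [h1]; exact dvd_mul_left _ _
  obtain ⟨i, -, hi⟩ := (Nat.dvd_prime_pow hp.out).1 hk2
  have hi' : i ≤ (Nat.card (SpecialLinearGroup (Fin n) F)).factorization p := by
    rw [hi] at hk1
    exact (hp.out.pow_dvd_iff_le_factorization Nat.card_pos.ne').1 hk1
  -- the range
  have hr1 : Nat.card δ.range ∣ Fintype.card F - 1 := by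
    have := Subgroup.card_subgroup_dvd_card δ.range
    rw [Nat.card_units] at this
    rwa [Nat.card_eq_fintype_card (α := F)] at this
  have hr2 : Nat.card δ.range ∣ p ^ ((Nat.card (SpecialLinearGroup (Fin n) F)).factorization p +
      (Fintype.card F - 1).factorization p) := by
    rw [h1]; exact dvd_mul_right _ _
  obtain ⟨j, -, hj⟩ := (Nat.dvd_prime_pow hp.out).1 hr2
  have hj' : j ≤ (Fintype.card F - 1).factorization p := by
    rw [hj] at hr1
    exact (hp.out.pow_dvd_iff_le_factorization hq).1 hr1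
  rw [hi, hj, ← pow_add] at h1
  have h2 := Nat.pow_right_injective hp.out.two_le h1
  have h3 : i = (Nat.card (SpecialLinearGroup (Fin n) F)).factorization p := by omega
  have h4 : Nat.card (kerToSL Ψ).range =
      p ^ (Nat.card (SpecialLinearGroup (Fin n) F)).factorization p := by
    rw [← Nat.card_congr (MonoidHom.ofInjective (kerToSL_injective Ψ hΨ)).toEquiv, hi, h3]
  exact ⟨(MonoidHom.ofInjective (kerToSL_injective Ψ hΨ)).trans ((Sylow.ofCard _ h4).equiv P)⟩

end Cfsg.Agent.Helper42
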