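import Mathlib
import Cfsg.Agent.Helper42.GLSyl2C
import Cfsg.Agent.Helper42.SLOddSyl
import Cfsg.Agent.Helper42.DetMon
import Cfsg.Agent.Helper42.SylKer
import Cfsg.Agent.Helper42.KerEA
import Cfsg.Agent.Helper42.SpSylC

set_option autoImplicit false
set_option linter.unusedSectionVars false

/-!
# Sylow 2-subgroups of `SL_n(q)`, `n` even, `q ≡ 3 (mod 4)`: `P / P'` elementary abelian
-/

namespace Cfsg.Agent.Helper42

open Matrix Equiv

section ext2
variable {F : Type*} [Field F] {ι ρ κ : Type*} [Fintype ι] [DecidableEq ι] [Fintype ρ]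
  [DecidableEq ρ] [Fintype κ] [DecidableEq κ]

theorem det_extGL2 (eqv : ι ⊕ ρ ≃ κ) (A : GL ι F) (B : GL ρ F) :
    ((extGL2 eqv (A, B)).1).det = A.1.det * B.1.det := by
  show (reindex eqv eqv (fromBlocks A.1 0 0 B.1)).det = _
  rw [det_reindex_self, det_fromBlocks_zero₂₁]

end ext2

variable {F : Type*} [Field F] [Fintype F]

theorem units_eq_one_or_of_sq {x : Fˣ} (hx : x ^ 2 = 1) : x = 1 ∨ x = -1 := by
  have h1 : (x : F) * (x : F) = 1 := by
    rw [← pow_two, ← Units.val_pow_eq_pow_val, hx, Units.val_one]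
  rcases mul_self_eq_one_iff.1 h1 with h | h
  · left; exact Units.ext h
  · right; exact Units.ext (by rw [h]; simp)

theorem EA_sylow_SL_even_three (h3 : Fintype.card F % 4 = 3) (n : ℕ) (hn : n % 2 = 0)
    (P : Sylow 2 (SpecialLinearGroup (Fin n) F)) :
    EA 2 ↥(P : Subgroup (SpecialLinearGroup (Fin n) F)) := by
  classical
  rcases Nat.lt_or_ge n 4 with hlt | hge
  · have h02 : n = 0 ∨ n = 2 := by omega
    rcases h02 with rfl | rfl
    · haveI : Subsingleton (SpecialLinearGroup (Fin 0) F) :=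
        ⟨fun a b => Subtype.ext (Subsingleton.elim _ _)⟩
      exact EA.of_subsingleton
    · exact sylow_SL2_EA (Nat.odd_iff.2 (by omega)) P
  · set SD := (default : Sylow 2 (GL (Fin 2) F)) with hSD
    set T := (default : Sylow 2 (Perm (Fin (n / 2)))) with hT
    let Ψ : ↥(monSub (SD : Subgroup (GL (Fin 2) F)) (T : Subgroup (Perm (Fin (n / 2))))) →*
        GL (Fin n) F := (sylGL3 F n).comp (MonoidHom.inl _ _)
    have hΨ : Function.Injective Ψ :=
      (sylGL3_injective F n).comp (fun a b h => congrArg Prod.fst h)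
    have hcard : Nat.card ↥(monSub (SD : Subgroup (GL (Fin 2) F))
        (T : Subgroup (Perm (Fin (n / 2))))) = 2 ^ (Nat.card (GL (Fin n) F)).factorization 2 := by
      rw [← card_range_sylGL3 h3 n,
        ← Nat.card_congr (MonoidHom.ofInjective (sylGL3_injective F n)).toEquiv, Nat.card_prod]
      have : Nat.card (Fin (n % 2) → ↥(negOneSub F)) = 1 := by
        rw [Nat.card_fun, Nat.card_fin, hn, pow_zero]
      rw [this, mul_one]
    obtain ⟨e⟩ := nonempty_ker_equiv_sylow_SL (p := 2) (by omega) Ψ hΨ hcard P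
    apply EA.of_mulEquiv e
    let χ : ↥(SD : Subgroup (GL (Fin 2) F)) →* Fˣ :=
      Matrix.GeneralLinearGroup.det.comp (Subgroup.subtype _)
    have hχ2 : ∀ a : ↥(SD : Subgroup (GL (Fin 2) F)), χ a = 1 ∨ χ a = -1 := fun a =>
      units_eq_one_or_of_sq (det_sq_eq_one_of_isPGroup h3 SD.isPGroup' a.2)
    have hval : ∀ h : ↥(monSub (SD : Subgroup (GL (Fin 2) F))
        (T : Subgroup (Perm (Fin (n / 2))))),
        ((Matrix.GeneralLinearGroup.det.comp Ψ h : Fˣ) : F) = ((monGLκ F (Fin 2) (n / 2) h.1).1).det := by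
      intro h
      show ((extGL2 (idxEquiv n) (monGL2 F (n / 2) h.1, sylGL3Right F n 1)).1).det = _
      rw [det_extGL2, map_one]
      show _ * (1 : Matrix (Fin (n % 2)) (Fin (n % 2)) F).det = _
      rw [det_one, mul_one]
      rfl
    have hinl : ∀ f : Fin (n / 2) → ↥(SD : Subgroup (GL (Fin 2) F)),
        Matrix.GeneralLinearGroup.det.comp Ψ (monSubInl _ _ f) = ∏ i, χ (f i) := by
      intro f
      apply Units.ext
      rw [hval, Units.coe_prod]
      show ((monGLκ F (Fin 2) (n / 2) (SemidirectProduct.inl (fun i => (f i).1))).1).det = _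
      rw [det_monGLκ_inl]
      rfl
    have hinr : ∀ σ : ↥(T : Subgroup (Perm (Fin (n / 2)))),
        Matrix.GeneralLinearGroup.det.comp Ψ (monSubInr _ _ σ) = 1 := by
      intro σ
      apply Units.ext
      rw [hval]
      show ((monGLκ F (Fin 2) (n / 2) (SemidirectProduct.inr σ.1)).1).det = _
      rw [det_monGLκ_inr_of_even (by rw [Fintype.card_fin]; exact even_two)]
      rfl
    obtain ⟨w, hw⟩ : ∃ w : ↥(SD : Subgroup (GL (Fin 2) F)), ∀ a, ∃ k : ℤ, χ a = χ w ^ k := by
      by_cases hex : ∃ w, χ w ≠ 1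
      · obtain ⟨w, hw⟩ := hex
        have hw' : χ w = -1 := (hχ2 w).resolve_left hw
        refine ⟨w, fun a => ?_⟩
        rcases hχ2 a with h | h
        · exact ⟨0, by rw [h, zpow_zero]⟩
        · exact ⟨1, by rw [h, hw', zpow_one]⟩
      · push Not at hex
        exact ⟨1, fun a => ⟨0, by rw [hex a, zpow_zero]⟩⟩
    have hm : 2 ≤ n / 2 := by omega
    exact EA_ker_monSub _ _
      (EA_quasiDihedral ((Cfsg.Agent.Helper37.GL2S2.sylow_two_type _).1 h3))
      (sylow_perm_EA 2 (n / 2) _) χ _ hinl hinr w hw ⟨0, by omega⟩ ⟨1, by omega⟩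
      (by intro h; have := congrArg Fin.val h; simp at this)

end Cfsg.Agent.Helper42
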