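import Mathlib
import Cfsg.Agent.Helper42.MonMap
import Cfsg.Agent.Helper42.DetMon
import Cfsg.Agent.Helper42.SylKer
import Cfsg.Agent.Helper42.SpSylC
import Cfsg.Agent.Helper42.GLCard2

set_option autoImplicit false
set_option linter.unusedSectionVars false

/-!
# Sylow 2-subgroups of `SL_n(q)`, `n` a power of two, `q ≡ 1 (mod 4)`: `P / P'` elementary
abelian
-/

namespace Cfsg.Agent.Helper42

open Matrix Equiv

theorem padicValNat_two_factorial_two_pow (j : ℕ) :
    padicValNat 2 (2 ^ j).factorial + 1 = 2 ^ j := by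
  induction j with
  | zero => simp
  | succ j ih =>
    rw [pow_succ', padicValNat_factorial_mul]
    omega

section reidx
variable {F : Type*} [Field F] {ι κ : Type*} [Fintype ι] [DecidableEq ι] [Fintype κ]
  [DecidableEq κ]

/-- reindexing of general linear groups -/
def reidxGL (e : ι ≃ κ) : GL ι F →* GL κ F :=
  Units.map (Matrix.reindexRingEquiv F e).toRingHom.toMonoidHom

theorem reidxGL_injective (e : ι ≃ κ) : Function.Injective (reidxGL (F := F) e) :=
  Units.map_injective (f := (Matrix.reindexRingEquiv F e).toRingHom.toMonoidHom)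
    (Matrix.reindexRingEquiv F e).injective

theorem det_reidxGL (e : ι ≃ κ) (A : GL ι F) : ((reidxGL e A).1).det = A.1.det := by
  show (reindex e e A.1).det = _
  rw [det_reindex_self]

end reidx

section step
variable {F : Type*} [Field F] {X : Type*} [Group X] {N M : ℕ}

/-- from a model `X → GL_N` to the model `X ≀ C₂ → GL_{2N}` -/
def stepHom (e : Fin 2 × Fin N ≃ Fin M) (Ψ : X →* GL (Fin N) F) : Mon X (Fin 2) →* GL (Fin M) F :=
  (reidxGL e).comp ((monGLκ F (Fin N) 2).comp (monMap Ψ))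

theorem stepHom_injective (hN : 0 < N) (e : Fin 2 × Fin N ≃ Fin M) (Ψ : X →* GL (Fin N) F)
    (hΨ : Function.Injective Ψ) : Function.Injective (stepHom e Ψ) := by
  haveI : Nonempty (Fin N) := ⟨⟨0, hN⟩⟩
  exact (reidxGL_injective e).comp (monGLκ_injective.comp (monMap_injective Ψ hΨ))

theorem det_stepHom_inl (e : Fin 2 × Fin N ≃ Fin M) (Ψ : X →* GL (Fin N) F) (f : Fin 2 → X) :
    Matrix.GeneralLinearGroup.det.comp (stepHom e Ψ) (SemidirectProduct.inl f) =
      Matrix.GeneralLinearGroup.det.comp Ψ (f 0) * Matrix.GeneralLinearGroup.det.comp Ψ (f 1) := by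
  apply Units.ext
  show ((reidxGL e (monGLκ F (Fin N) 2 (monMap Ψ (SemidirectProduct.inl f)))).1).det = _
  rw [det_reidxGL, monMap_inl, det_monGLκ_inl, Fin.prod_univ_two]
  rfl

theorem det_stepHom_inr (hN : Even N) (e : Fin 2 × Fin N ≃ Fin M) (Ψ : X →* GL (Fin N) F)
    (σ : Perm (Fin 2)) :
    Matrix.GeneralLinearGroup.det.comp (stepHom e Ψ) (SemidirectProduct.inr σ) = 1 := by
  apply Units.ext
  show ((reidxGL e (monGLκ F (Fin N) 2 (monMap Ψ (SemidirectProduct.inr σ)))).1).det = _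
  rw [det_reidxGL, monMap_inr, det_monGLκ_inr_of_even (by rw [Fintype.card_fin]; exact hN)]
  rfl

theorem card_mon_two : Nat.card (Mon X (Fin 2)) = Nat.card X ^ 2 * 2 := by
  rw [SemidirectProduct.card, Nat.card_fun, Nat.card_fin, Nat.card_perm, Nat.card_fin]
  rfl

end step

universe u

variable {F : Type u} [Field F] [Fintype F]

theorem card_GL_two_pow_step (h1 : Fintype.card F % 4 = 1) (j : ℕ) :
    (Nat.card (GL (Fin (2 ^ (j + 1))) F)).factorization 2 =
      2 * (Nat.card (GL (Fin (2 ^ j)) F)).factorization 2 + 1 := by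
  rw [Nat.factorization_def _ Nat.prime_two, Nat.factorization_def _ Nat.prime_two,
    padicValNat_two_card_GL_one F h1, padicValNat_two_card_GL_one F h1]
  have e1 := padicValNat_two_factorial_two_pow j
  have e2 := padicValNat_two_factorial_two_pow (j + 1)
  have e3 : 2 ^ (j + 1) * padicValNat 2 (Fintype.card F - 1) =
      2 * (2 ^ j * padicValNat 2 (Fintype.card F - 1)) := by rw [pow_succ']; ring
  have e4 : 2 ^ (j + 1) = 2 * 2 ^ j := pow_succ' 2 j
  rw [e3]
  omega

/-- models of the Sylow `2`-subgroups of `GL_{2^(j+1)}(q)`, `q ≡ 1 (mod 4)` -/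
theorem exists_model_two_pow (h1 : Fintype.card F % 4 = 1) (j : ℕ) :
    ∃ (X : Type u) (_ : Group X) (Ψ : X →* GL (Fin (2 ^ (j + 1))) F), Function.Injective Ψ ∧
      Nat.card X = 2 ^ (Nat.card (GL (Fin (2 ^ (j + 1))) F)).factorization 2 ∧
      EA 2 ↥(Matrix.GeneralLinearGroup.det.comp Ψ).ker := by
  classical
  have hodd : Odd (Fintype.card F) := Nat.odd_iff.2 (by omega)
  induction j with
  | zero =>
    let S : Sylow 2 (GL (Fin (2 ^ (0 + 1))) F) := default
    refine ⟨↥(S : Subgroup (GL (Fin (2 ^ (0 + 1))) F)), inferInstance, Subgroup.subtype _,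
      Subgroup.subtype_injective _, S.card_eq_multiplicity, ?_⟩
    let P : Sylow 2 (SpecialLinearGroup (Fin (2 ^ (0 + 1))) F) := default
    obtain ⟨e⟩ := nonempty_ker_equiv_sylow_SL (p := 2) (by norm_num)
      (Subgroup.subtype (S : Subgroup (GL (Fin (2 ^ (0 + 1))) F))) (Subgroup.subtype_injective _)
      S.card_eq_multiplicity P
    exact EA.of_mulEquiv e.symm (sylow_SL2_EA hodd P)
  | succ j ih =>
    obtain ⟨X, hX, Ψ, hΨ, hcard, hEA⟩ := ih
    let e : Fin 2 × Fin (2 ^ (j + 1)) ≃ Fin (2 ^ (j + 1 + 1)) :=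
      finProdFinEquiv.trans (finCongr (pow_succ' 2 (j + 1)).symm)
    refine ⟨Mon X (Fin 2), inferInstance, stepHom e Ψ,
      stepHom_injective (pow_pos (by norm_num) _) e Ψ hΨ, ?_, ?_⟩
    · rw [card_mon_two, hcard, card_GL_two_pow_step h1 (j + 1), ← pow_mul, ← pow_succ]
      congr 1
      ring
    · apply EA_ker_mon_two (Matrix.GeneralLinearGroup.det.comp Ψ) _ (det_stepHom_inl e Ψ)
        (det_stepHom_inr ⟨2 ^ j, by rw [pow_succ']; ring⟩ e Ψ) hEA

/-- `P / P'` is elementary abelian for a Sylow `2`-subgroup `P` of `SL_n(q)`, `n ≥ 2` a power of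
two, `q ≡ 1 (mod 4)` -/
theorem EA_sylow_SL_two_pow_one (h1 : Fintype.card F % 4 = 1) (j n : ℕ) (hn : n = 2 ^ (j + 1))
    (P : Sylow 2 (SpecialLinearGroup (Fin n) F)) :
    EA 2 ↥(P : Subgroup (SpecialLinearGroup (Fin n) F)) := by
  subst hn
  obtain ⟨X, hX, Ψ, hΨ, hcard, hEA⟩ := exists_model_two_pow h1 j
  obtain ⟨e⟩ := nonempty_ker_equiv_sylow_SL (p := 2) (pow_pos (by norm_num) _) Ψ hΨ hcard P
  exact EA.of_mulEquiv e hEA

end Cfsg.Agent.Helper42
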