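import Mathlib
import Cfsg.Agent.Helper84.SU3P.Defs
import Cfsg.Agent.Helper81.RU3NTZ

/-!
helper42 for helper84 (S2289, #12729): piece (NT) `exists_gen_rel` — the data of the relator (C2):
`θ ^ kc` in terms of `θ ^ i`, `i < kc`, over `𝔽_p[θ ^ (q - 1)]`.  With `E = 𝔽_p(θ ^ (q - 1))`, take `kc` the
degree of the minimal polynomial of `θ` over `E`; it is at most `[K : E]`, which is `1` unless `q = 8`
(`Helper81.RU3.nt_aux`), and then at most `3`.
-/

set_option autoImplicit false

namespace Cfsg.Agent.Helper42.SU3P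

open Matrix Polynomial Cfsg.Agent.Helper84.SU3P Cfsg.Agent.Helper84.RU3 Cfsg.Agent.Helper96.SLPres
  Cfsg.Agent.Helper96.StemSLTwo Cfsg.Agent.Helper96.StPres

section E

variable {K : Type*} [Field K] [Fintype K] (bar : K →+* K)

/-- the order of a generator of the multiplicative group -/
theorem NT_orderOf {ζ : K} (hc : 2 < Fintype.card K) (hζ : ∀ x : K, x ≠ 0 → ∃ n : ℕ, ζ ^ n = x) :
    ζ ≠ 0 ∧ orderOf ζ = Fintype.card K - 1 := by
  classical
  have hζ0 : ζ ≠ 0 := by
    intro h0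
    have hall : ∀ x : K, x ∈ ({0, 1} : Finset K) := by
      intro x
      by_cases hx : x = 0
      · simp [hx]
      · obtain ⟨n, hn⟩ := hζ x hx
        rw [h0] at hn
        rcases Nat.eq_zero_or_pos n with h | h
        · rw [h, pow_zero] at hn
          simp [← hn]
        · rw [zero_pow (by omega)] at hn
          exact absurd hn.symm hx
    have h1 : Fintype.card K ≤ ({0, 1} : Finset K).card := by
      rw [← Finset.card_univ]
      exact Finset.card_le_card (fun x _ => hall x)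
    have h2 : ({0, 1} : Finset K).card ≤ 2 := Finset.card_le_two
    omega
  refine ⟨hζ0, ?_⟩
  have hu : ∀ x : Kˣ, x ∈ Subgroup.zpowers (Units.mk0 ζ hζ0) := by
    intro x
    obtain ⟨n, hn⟩ := hζ x x.ne_zero
    refine ⟨(n : ℤ), ?_⟩
    apply Units.ext
    simp only [zpow_natCast, Units.val_pow_eq_pow_val, Units.val_mk0]
    exact hn
  have h1 := orderOf_eq_card_of_forall_mem_zpowers hu
  rw [Nat.card_units, Nat.card_eq_fintype_card] at h1
  rw [← h1, ← orderOf_units, Units.val_mk0]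

/-- (NT) the data of the relator (C2): `θ^kc` in terms of `θ^i`, `i < kc`, over `𝔽_p[θ^(q-1)]` -/
theorem exists_gen_rel {p : ℕ} [Fact p.Prime] [Algebra (ZMod p) K] {q : ℕ}
    (hK : Fintype.card K = q ^ 2) (hq : ∀ x, bar x = x ^ q) (hq2 : q ≠ 2) (hq5 : q ≠ 5)
    {ζ : K} (hζ : ∀ x : K, x ≠ 0 → ∃ n : ℕ, ζ ^ n = x) :
    ∃ (kc : ℕ) (g : ℕ → (ZMod p)[X]), (kc ≤ 1 ∨ ((2 : K) = 0 ∧ kc ≤ 3)) ∧
      (bar ζ ^ 2 / ζ) ^ kc = ∑ i ∈ Finset.range kc,
        aeval ((bar ζ ^ 2 / ζ) ^ (q - 1)) (g i) * (bar ζ ^ 2 / ζ) ^ i := by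
  classical
  -- `q ≥ 3`
  have hcard1 : 1 < Fintype.card K := Fintype.one_lt_card
  have hq3 : 3 ≤ q := by
    rcases Nat.lt_or_ge q 2 with h | h
    · have : q = 0 ∨ q = 1 := by omega
      rcases this with rfl | rfl <;> omega
    · omega
  have hq9 : 9 ≤ q ^ 2 := by nlinarith
  obtain ⟨hζ0, hord⟩ := NT_orderOf (by omega) hζ
  rw [hK] at hord
  -- `θ` and `η`
  obtain ⟨θ, hθ⟩ : ∃ θ : K, θ = bar ζ ^ 2 / ζ := ⟨_, rfl⟩
  rw [← hθ]
  have hθζ : θ = ζ ^ (2 * q - 1) := by
    rw [hθ, hq, div_eq_iff hζ0, ← pow_succ, ← pow_mul]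
    congr 1
    omega
  obtain ⟨η, hη⟩ : ∃ η : K, η = θ ^ (q - 1) := ⟨_, rfl⟩
  rw [← hη]
  have hηζ : η = ζ ^ ((2 * q - 1) * (q - 1)) := by rw [hη, hθζ, ← pow_mul]
  have hη0 : η ≠ 0 := by rw [hηζ]; exact pow_ne_zero _ hζ0
  -- the subfield generated by `η`
  have hmem0 : ∀ x : K, x ∈ IntermediateField.adjoin (ZMod p) {η} →
      ∃ f : (ZMod p)[X], aeval η f = x := by
    intro x hx
    have h1 : x ∈ (IntermediateField.adjoin (ZMod p) {η}).toSubalgebra := hx
    rw [IntermediateField.adjoin_simple_toSubalgebra_of_isAlgebraic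
      (Algebra.IsAlgebraic.isAlgebraic η), Algebra.adjoin_singleton_eq_range_aeval] at h1
    obtain ⟨f, hf⟩ := h1
    exact ⟨f, hf⟩
  obtain ⟨E, hE⟩ : ∃ E : IntermediateField (ZMod p) K, E = IntermediateField.adjoin (ZMod p) {η} :=
    ⟨_, rfl⟩
  rw [← hE] at hmem0
  have hηE : η ∈ E := by rw [hE]; exact IntermediateField.mem_adjoin_simple_self _ η
  have hmem : ∀ e : E, ∃ f : (ZMod p)[X], aeval η f = (e : K) := fun e => hmem0 e e.2
  let _ : Fintype E := Fintype.ofFinite E
  obtain ⟨s, hs⟩ : ∃ s : ℕ, s = Fintype.card E := ⟨_, rfl⟩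
  obtain ⟨k, hk⟩ : ∃ k : ℕ, k = Module.finrank E K := ⟨_, rfl⟩
  have hsk : q ^ 2 = s ^ k := by
    rw [← hK, hs, hk]
    exact Module.card_eq_pow_finrank
  have hs2 : 2 ≤ s := by rw [hs]; exact Fintype.one_lt_card
  have hpow : η ^ (s - 1) = 1 := by
    have h1 : (⟨η, hηE⟩ : E) ≠ 0 := fun h0 => hη0 (congrArg Subtype.val h0)
    have h2 := FiniteField.pow_card_sub_one_eq_one (⟨η, hηE⟩ : E) h1
    have h3 := congrArg Subtype.val h2
    rw [hs]
    simpa using h3
  -- the divisibility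
  have hdvd : (q + 1) ∣ 3 * (s - 1) := by
    rw [hηζ, ← pow_mul] at hpow
    have h1 := orderOf_dvd_of_pow_eq_one hpow
    rw [hord] at h1
    have hfac : q ^ 2 - 1 = (q - 1) * (q + 1) := by
      have h1 : 1 ≤ q := by omega
      zify [h1, Nat.one_le_pow 2 q (by omega)]
      ring
    rw [hfac, mul_comm (2 * q - 1) (q - 1), mul_assoc] at h1
    have h2 : (q + 1) ∣ (2 * q - 1) * (s - 1) := Nat.dvd_of_mul_dvd_mul_left (by omega) h1
    have h3 : (q + 1) ∣ (2 * q - 1) * (s - 1) + 3 * (s - 1) := by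
      have : (2 * q - 1) * (s - 1) + 3 * (s - 1) = (q + 1) * (2 * (s - 1)) := by
        have h1 : 1 ≤ 2 * q := by omega
        zify [h1]
        ring
      rw [this]
      exact Dvd.intro _ rfl
    exact (Nat.dvd_add_right h2).mp h3
  -- the minimal polynomial of `θ` over `E`
  have hint : IsIntegral E θ := Algebra.IsIntegral.isIntegral θ
  have hmon : (minpoly E θ).Monic := minpoly.monic hint
  obtain ⟨d, hd⟩ : ∃ d : ℕ, d = (minpoly E θ).natDegree := ⟨_, rfl⟩
  have hdk : d ≤ k := by rw [hd, hk]; exact minpoly.natDegree_le θ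
  have hkpos : 0 < k := by rw [hk]; exact Module.finrank_pos
  choose G hG using hmem
  refine ⟨d, fun i => G (-(minpoly E θ).coeff i), ?_, ?_⟩
  · rcases Nat.lt_or_ge 1 k with h2 | h1
    · right
      have hq8 : q = 8 := by
        by_contra hq8
        exact Cfsg.Agent.Helper81.RU3.nt_aux hq3 hq5 hq8 hsk h2 hdvd
      subst hq8
      constructor
      · have hcp : CharP K p :=
          charP_of_injective_algebraMap (algebraMap (ZMod p) K).injective p
        obtain ⟨n, hp, hn⟩ := FiniteField.card K p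
        rw [hK] at hn
        have h1 : p ∣ 2 ^ 6 := by
          have : (8 : ℕ) ^ 2 = 2 ^ 6 := by norm_num
          rw [← this, hn]
          exact dvd_pow_self p n.ne_zero
        have h2 : p = 2 := (Nat.prime_dvd_prime_iff_eq hp Nat.prime_two).mp (hp.dvd_of_dvd_pow h1)
        subst h2
        have := CharP.cast_eq_zero K 2
        exact_mod_cast this
      · by_contra h4
        have hk4 : 4 ≤ k := by omega
        have h1 : s ^ 4 ≤ s ^ k := Nat.pow_le_pow_right (by omega) hk4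
        have h2 : s ^ 4 ≤ 64 := by rw [← hsk] at h1; simpa using h1
        have hs' : s = 2 := by
          by_contra hne
          have h3 : 3 ≤ s := by omega
          have : 3 ^ 4 ≤ s ^ 4 := Nat.pow_le_pow_left h3 4
          omega
        subst hs'
        omega
    · left
      omega
  · have h1 := congrArg (aeval θ) hmon.as_sum
    rw [minpoly.aeval, ← hd] at h1
    simp only [map_add, map_pow, aeval_X, map_sum, map_mul, aeval_C] at h1
    have h2 : θ ^ d = -∑ i ∈ Finset.range d, (algebraMap E K) ((minpoly E θ).coeff i) * θ ^ i :=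
      eq_neg_of_add_eq_zero_left h1.symm
    rw [h2, ← Finset.sum_neg_distrib]
    refine Finset.sum_congr rfl (fun i _ => ?_)
    rw [hG, ← neg_mul]
    rfl

end E

end Cfsg.Agent.Helper42.SU3P
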