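import Mathlib
import Cfsg.Agent.Helper84.SU3P.Defs

/-!
helper42 for helper84 (S2289, #12539): piece (R1) `rank_one_injective` — the rank one criterion for
injectivity: `S = B ∪ B t B` is closed under left multiplication by the generators, hence is everything,
and no element of `S` other than `1` is killed by `π`.
-/

set_option autoImplicit false

namespace Cfsg.Agent.Helper42.SU3P

open Matrix Polynomial Cfsg.Agent.Helper84.SU3P Cfsg.Agent.Helper84.RU3 Cfsg.Agent.Helper96.SLPres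
  Cfsg.Agent.Helper96.StemSLTwo Cfsg.Agent.Helper96.StPres

section A

variable {D : Type*} [Group D]

/-- (R1) the rank one criterion for injectivity -/
theorem rank_one_injective {G : Type*} [Group G] (π : D →* G) (Ut Ht : Subgroup D) (t : D)
    (hnorm : ∀ h' ∈ Ht, ∀ x ∈ Ut, h' * x * h'⁻¹ ∈ Ut)
    (htH : ∀ h' ∈ Ht, t * h' * t⁻¹ ∈ Ht) (ht2 : t ^ 2 ∈ Ht)
    (hgen : Subgroup.closure ((Ut : Set D) ∪ (Ht : Set D) ∪ {t}) = ⊤)
    (hinj : ∀ b ∈ Ut ⊔ Ht, π b = 1 → b = 1)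
    (hgood : ∀ x ∈ Ut, Good (Ut ⊔ Ht) t x)
    (hT : ∀ b ∈ Ut ⊔ Ht, π b ≠ π t) : Function.Injective π := by
  classical
  obtain ⟨B, hB⟩ : ∃ B : Subgroup D, B = Ut ⊔ Ht := ⟨_, rfl⟩
  rw [← hB] at hinj hgood hT
  have hUB : Ut ≤ B := by rw [hB]; exact le_sup_left
  have hHB : Ht ≤ B := by rw [hB]; exact le_sup_right
  -- the normal form `b = x h'`
  have hHn : Ht ≤ Subgroup.normalizer (Ut : Set D) := by
    intro h' hh'
    rw [Subgroup.mem_normalizer_iff]
    intro x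
    constructor
    · exact hnorm h' hh' x
    · intro hx
      have h1 := hnorm h'⁻¹ (Ht.inv_mem hh') _ hx
      have h2 : h'⁻¹ * (h' * x * h'⁻¹) * h'⁻¹⁻¹ = x := by group
      rw [h2] at h1
      exact h1
  have hform : ∀ b ∈ B, ∃ x ∈ Ut, ∃ h' ∈ Ht, b = x * h' := by
    intro b hb
    have h1 : b ∈ ((Ut ⊔ Ht : Subgroup D) : Set D) := by rw [← hB]; exact hb
    rw [Subgroup.coe_mul_of_right_le_normalizer_left Ut Ht hHn] at h1
    obtain ⟨x, hx, h', hh', rfl⟩ := h1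
    exact ⟨x, hx, h', hh', rfl⟩
  -- `S` is stable under `B` on both sides
  have hLB : ∀ b ∈ B, ∀ s ∈ Sset B t, b * s ∈ Sset B t := by
    rintro b hb s (hs | ⟨b₁, hb₁, b₂, hb₂, rfl⟩)
    · exact Or.inl (B.mul_mem hb hs)
    · exact Or.inr ⟨b * b₁, B.mul_mem hb hb₁, b₂, hb₂, by group⟩
  have hRB : ∀ b ∈ B, ∀ s ∈ Sset B t, s * b ∈ Sset B t := by
    rintro b hb s (hs | ⟨b₁, hb₁, b₂, hb₂, rfl⟩)
    · exact Or.inl (B.mul_mem hs hb)
    · exact Or.inr ⟨b₁, hb₁, b₂ * b, B.mul_mem hb₂ hb, by group⟩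
  -- `t b t⁻¹ ∈ S` for `b ∈ B`
  have hstar : ∀ b ∈ B, t * b * t⁻¹ ∈ Sset B t := by
    intro b hb
    obtain ⟨x, hx, h', hh', rfl⟩ := hform b hb
    have h1 : t * (x * h') * t⁻¹ = (t * x * t⁻¹) * (t * h' * t⁻¹) := by group
    rw [h1]
    exact hRB _ (hHB (htH h' hh')) _ (hgood x hx)
  have ht2B : t ^ 2 ∈ B := hHB ht2
  -- `t S ⊆ S`
  have hLt : ∀ s ∈ Sset B t, t * s ∈ Sset B t := by
    rintro s (hs | ⟨b₁, hb₁, b₂, hb₂, rfl⟩)
    · rcases hstar s hs with h | ⟨c₁, hc₁, c₂, hc₂, h⟩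
      · exact Or.inr ⟨t * s * t⁻¹, h, 1, B.one_mem, by group⟩
      · have e : t * s = c₁ * ((t * c₂ * t⁻¹) * t ^ 2) := by
          have e1 : t * s = (t * s * t⁻¹) * t := by group
          rw [e1, h]
          group
        rw [e]
        exact hLB c₁ hc₁ _ (hRB _ ht2B _ (hstar c₂ hc₂))
    · have e : t * (b₁ * t * b₂) = (t * b₁ * t⁻¹) * (t ^ 2 * b₂) := by group
      rw [e]
      exact hRB _ (B.mul_mem ht2B hb₂) _ (hstar b₁ hb₁)
  have hLtinv : ∀ s ∈ Sset B t, t⁻¹ * s ∈ Sset B t := by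
    intro s hs
    have e : t⁻¹ * s = (t ^ 2)⁻¹ * (t * s) := by group
    rw [e]
    exact hLB _ (B.inv_mem ht2B) _ (hLt s hs)
  -- every element maps `S` into `S`
  have hall : ∀ g : D, ∀ s ∈ Sset B t, g * s ∈ Sset B t := by
    intro g
    have hg : g ∈ Subgroup.closure ((Ut : Set D) ∪ (Ht : Set D) ∪ {t}) := by
      rw [hgen]; exact Subgroup.mem_top g
    induction hg using Subgroup.closure_induction'' with
    | one => intro s hs; rwa [one_mul]
    | mem x hx =>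
      rcases hx with (hx | hx) | hx
      · exact hLB x (hUB hx)
      · exact hLB x (hHB hx)
      · rw [Set.mem_singleton_iff] at hx
        rw [hx]
        exact hLt
    | inv_mem x hx =>
      rcases hx with (hx | hx) | hx
      · exact hLB x⁻¹ (B.inv_mem (hUB hx))
      · exact hLB x⁻¹ (B.inv_mem (hHB hx))
      · rw [Set.mem_singleton_iff] at hx
        rw [hx]
        exact hLtinv
    | mul x y _ _ hx hy =>
      intro s hs
      rw [mul_assoc]
      exact hx _ (hy s hs)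
  have hS : ∀ g : D, g ∈ Sset B t := by
    intro g
    have h1 := hall g 1 (Or.inl B.one_mem)
    rwa [mul_one] at h1
  rw [injective_iff_map_eq_one]
  intro g hg
  rcases hS g with h | ⟨b₁, hb₁, b₂, hb₂, rfl⟩
  · exact hinj g h hg
  · exfalso
    apply hT (b₁⁻¹ * b₂⁻¹) (B.mul_mem (B.inv_mem hb₁) (B.inv_mem hb₂))
    rw [map_mul, map_mul] at hg
    rw [map_mul, map_inv, map_inv]
    have h1 : π t = (π b₁)⁻¹ * (π b₁ * π t * π b₂) * (π b₂)⁻¹ := by group
    rw [h1, hg]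
    group

end A

end Cfsg.Agent.Helper42.SU3P
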