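import Mathlib
import Cfsg.Agent.Helper84.SU3P.Defs

/-!
helper42 for helper84 (S2289, #12539): piece (ZT) `ztorus` — the torus element acts on the whole root
group once it does on `x̃(1)`: squares via `dMat_conj`, and every element of a finite field is a sum of
two squares.
-/

set_option autoImplicit false

namespace Cfsg.Agent.Helper42.SU3P

open Matrix Polynomial Cfsg.Agent.Helper84.SU3P Cfsg.Agent.Helper84.RU3 Cfsg.Agent.Helper96.SLPres
  Cfsg.Agent.Helper96.StemSLTwo Cfsg.Agent.Helper96.StPres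

section A

variable {D : Type*} [Group D] {K₀ : Type*} [Field K₀]

/-- every element of a finite field is a sum of two squares -/
theorem ZT_sq_add_sq [Finite K₀] (x : K₀) : ∃ a b : K₀, a ^ 2 + b ^ 2 = x := by
  classical
  have := Fintype.ofFinite K₀
  by_cases h2 : ringChar K₀ = 2
  · obtain ⟨a, ha⟩ := FiniteField.isSquare_of_char_two h2 x
    exact ⟨a, 0, by rw [ha]; ring⟩
  · have hodd : Fintype.card K₀ % 2 = 1 := FiniteField.odd_card_of_char_ne_two h2
    obtain ⟨a, b, hab⟩ := FiniteField.exists_root_sum_quadratic (f := (X : K₀[X]) ^ 2)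
      (g := (X : K₀[X]) ^ 2 - C x) (degree_X_pow 2) (degree_X_pow_sub_C (by decide) _) hodd
    refine ⟨a, b, ?_⟩
    simp only [eval_pow, eval_X, eval_sub, eval_C] at hab
    linear_combination hab

/-- (ZT) the torus element acts on the whole root group `Z̃` once it does on `x̃(1)` -/
theorem ztorus [Finite K₀] (φ : SL2 K₀ →* D) (h : D) (ν₀ : K₀)
    (hcomm : ∀ (r : K₀) (hr : r ≠ 0), Commute (φ (dMat r hr)) h)
    (h1 : h * φ (uMat K₀ 1) * h⁻¹ = φ (uMat K₀ ν₀)) :
    ∀ s : K₀, h * φ (uMat K₀ s) * h⁻¹ = φ (uMat K₀ (ν₀ * s)) := by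
  -- squares
  have hsq : ∀ r : K₀, h * φ (uMat K₀ (r ^ 2)) * h⁻¹ = φ (uMat K₀ (ν₀ * r ^ 2)) := by
    intro r
    by_cases hr : r = 0
    · rw [hr]
      simp only [ne_eq, OfNat.ofNat_ne_zero, not_false_eq_true, zero_pow, mul_zero]
      rw [uMat_zero, map_one, mul_one, mul_inv_cancel]
    · have e1 : uMat K₀ (r ^ 2) = dMat r hr * uMat K₀ 1 * (dMat r hr)⁻¹ := by
        rw [dMat_conj, mul_one]
      have e2 : uMat K₀ (ν₀ * r ^ 2) = dMat r hr * uMat K₀ ν₀ * (dMat r hr)⁻¹ := by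
        rw [dMat_conj, mul_comm]
      have hc := (hcomm r hr).eq
      rw [e1, e2, map_mul, map_mul, map_mul, map_mul, map_inv, ← h1]
      have hc' : h * φ (dMat r hr) = φ (dMat r hr) * h := hc.symm
      calc h * (φ (dMat r hr) * φ (uMat K₀ 1) * (φ (dMat r hr))⁻¹) * h⁻¹
          = (h * φ (dMat r hr)) * φ (uMat K₀ 1) * ((h * φ (dMat r hr)))⁻¹ := by group
        _ = (φ (dMat r hr) * h) * φ (uMat K₀ 1) * ((φ (dMat r hr) * h))⁻¹ := by rw [hc']
        _ = φ (dMat r hr) * (h * φ (uMat K₀ 1) * h⁻¹) * (φ (dMat r hr))⁻¹ := by group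
  intro s
  obtain ⟨a, b, hab⟩ := ZT_sq_add_sq s
  rw [← hab, mul_add, uMat_add, uMat_add, map_mul, map_mul, ← hsq a, ← hsq b]
  group

end A

end Cfsg.Agent.Helper42.SU3P
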