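import Cfsg.Agent.Helper8.Sims3Defs

/-!
helper42 for helper8 (S3385 + S3685, #12989): leaf (ID1) `iso_Z3` — a group of order 3 is `Z₃`.
-/

set_option autoImplicit false

namespace Cfsg.Agent.Helper42.Sims3

open Cfsg.Agent.Helper8.Sims3 Pointwise

/-- (ID1) -/
theorem iso_Z3 {H : Type*} [Group H] (hc : Nat.card H = 3) :
    Nonempty (H ≃* Multiplicative (ZMod 3)) := by
  have hp : Fact (Nat.Prime 3) := ⟨Nat.prime_three⟩
  have h1 : IsCyclic H := isCyclic_of_prime_card hc
  have h2 : Nat.card (Multiplicative (ZMod 3)) = 3 := by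
    rw [Nat.card_eq_fintype_card]
    rfl
  exact ⟨mulEquivOfCyclicCardEq (hc.trans h2.symm)⟩

end Cfsg.Agent.Helper42.Sims3
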