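import Mathlib
import Cfsg.Agent.Helper42.MonSp

set_option autoImplicit false
set_option linter.unusedSectionVars false

/-!
# Derived length of Sylow 2-subgroups of `Sp_{2n}(F)`: final assembly
-/

namespace Cfsg.Agent.Helper42

open Matrix Equiv

universe u

variable {F : Type u} [Field F] [Fintype F]

theorem sylow_SL2_derived (hF : Odd (Fintype.card F)) (Q : Sylow 2 (SpecialLinearGroup (Fin 2) F)) :
    derivedSeries ↥(Q : Subgroup (SpecialLinearGroup (Fin 2) F)) 2 = ⊥ ∧
      derivedSeries ↥(Q : Subgroup (SpecialLinearGroup (Fin 2) F)) 1 ≠ ⊥ := by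
  obtain ⟨k, hk, ⟨e⟩⟩ := Cfsg.Agent.Helper37.SL2Q.sylow_two_quaternion hF Q
  constructor
  · exact derivedSeries_eq_bot_of_injective e.toMonoidHom e.injective 2
      (derivedSeries_quaternion_two _)
  · intro h
    exact derivedSeries_quaternion_one_ne_bot k hk
      (derivedSeries_eq_bot_of_injective e.symm.toMonoidHom e.symm.injective 1 h)

/-- The derived length of a Sylow 2-subgroup of `Sp_{2n}(F)`, `|F|` odd, is `⌊log₂ (2n)⌋ + 1`. -/
theorem sylow_sp_derived (hF : Odd (Fintype.card F)) (n : ℕ) (hn : 1 ≤ n)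
    (R : Sylow 2 (symplecticGroup (Fin n) F)) :
    derivedSeries ↥(R : Subgroup (symplecticGroup (Fin n) F)) (Nat.log 2 (2 * n) + 1) = ⊥ ∧
      derivedSeries ↥(R : Subgroup (symplecticGroup (Fin n) F)) (Nat.log 2 (2 * n)) ≠ ⊥ := by
  have hlog : Nat.log 2 (2 * n) = Nat.log 2 n + 1 := by
    rw [mul_comm]
    exact Nat.log_mul_base (by norm_num) (by omega)
  rw [hlog]
  set m := Nat.log 2 n with hm
  let Q : Sylow 2 (SpecialLinearGroup (Fin 2) F) := default
  let T : Sylow 2 (Perm (Fin n)) := default
  obtain ⟨hQ2, hQ1⟩ := sylow_SL2_derived hF Q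
  constructor
  · have hT : derivedSeries ↥(T : Subgroup (Perm (Fin n))) m = ⊥ :=
      (sylow_perm_derivedSeries 2 n hn T).1
    have h1 := derivedSeries_monSub_eq_bot (Q : Subgroup (SpecialLinearGroup (Fin 2) F))
      (T : Subgroup (Perm (Fin n))) m 2 hT hQ2
    have h2 : derivedSeries ↥(spWr (Q : Subgroup (SpecialLinearGroup (Fin 2) F))
        (T : Subgroup (Perm (Fin n)))) (m + 2) = ⊥ :=
      derivedSeries_eq_bot_of_injective
        (monSubEquiv (Q : Subgroup (SpecialLinearGroup (Fin 2) F))
          (T : Subgroup (Perm (Fin n)))).symm.toMonoidHom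
        (monSubEquiv (Q : Subgroup (SpecialLinearGroup (Fin 2) F))
          (T : Subgroup (Perm (Fin n)))).symm.injective _ h1
    rw [← coe_spSylow hF n Q T] at h2
    exact derivedSeries_eq_bot_of_injective ((spSylow hF n Q T).equiv R).symm.toMonoidHom
      ((spSylow hF n Q T).equiv R).symm.injective _ h2
  · obtain ⟨X, hX1, hX2, ι, hι, θ, hθ, hpX, hcard, hder⟩ :=
      exists_tower_mon (Q : Subgroup (SpecialLinearGroup (Fin 2) F)) Q.isPGroup' hQ1 m
    have hle : 2 ^ m ≤ n := Nat.pow_log_le_self 2 (by omega)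
    have hcard' : Fintype.card ι ≤ Fintype.card (Fin n) := by
      rw [Fintype.card_fin, hcard]; exact hle
    obtain ⟨e⟩ := Function.Embedding.nonempty_of_card_le hcard'
    let φ : X →* symplecticGroup (Fin n) F := (monSp F n).comp ((monExt e).comp θ)
    have hφ : Function.Injective φ :=
      monSp_injective.comp ((monExt_injective e).comp hθ)
    have hrange : IsPGroup 2 φ.range :=
      hpX.of_surjective φ.rangeRestrict φ.rangeRestrict_surjective
    obtain ⟨P', hP'⟩ := hrange.exists_le_sylow
    let ψ : X →* ↥(P' : Subgroup (symplecticGroup (Fin n) F)) :=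
      φ.codRestrict (P' : Subgroup (symplecticGroup (Fin n) F)) (fun w => hP' ⟨w, rfl⟩)
    have hψ : Function.Injective ψ := by
      intro a b hab
      exact hφ (congrArg Subtype.val hab)
    intro hR
    apply hder
    apply derivedSeries_eq_bot_of_injective ψ hψ
    exact derivedSeries_eq_bot_of_injective (P'.equiv R).toMonoidHom (P'.equiv R).injective _ hR

end Cfsg.Agent.Helper42
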