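import Cfsg.Agent.Helper80.SpE.Defs
import Cfsg.Agent.Helper80.CharLevel
import Cfsg.Agent.Helper76.SPF3

/-!
# S2333 piece (PAR): a character of the symmetric matrices over a finite field of characteristic 2
is `S ↦ ψ₀ (∑ C_ij S_ij)` for an upper triangular matrix `C`; if it is non-trivial on the matrices
with zero diagonal then `C + Cᵀ ≠ 0`, and its stabiliser in `GL_n` preserves `v ↦ vᵀ C v`.
-/

set_option autoImplicit false

namespace Cfsg.Agent.Helper42.SpE

open Matrix Cfsg.Agent.Helper80.SpE

section par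

variable {F : Type*} [Field F] [Fintype F] {n : ℕ}

/-- an additive character turns finite sums into products -/
theorem PAR_map_sum {A : Type*} [AddCommMonoid A] (ψ : AddChar A ℂ) {ι : Type*} (s : Finset ι)
    (f : ι → A) : ψ (∑ i ∈ s, f i) = ∏ i ∈ s, ψ (f i) := by
  classical
  induction s using Finset.induction_on with
  | empty => simp
  | insert a s ha ih =>
    rw [Finset.sum_insert ha, Finset.prod_insert ha, AddChar.map_add_eq_mul, ih]

/-- fold a matrix along the diagonal: the entry `(i, j)` becomes the entry `(min i j, max i j)` -/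
def PAR_fold : Matrix (Fin n) (Fin n) F →+ symAdd n F where
  toFun M := ⟨Matrix.of fun i j => M (min i j) (max i j), by
    show (Matrix.of fun i j => M (min i j) (max i j))ᵀ = _
    ext i j
    simp [Matrix.transpose_apply, min_comm, max_comm]⟩
  map_zero' := by
    apply Subtype.ext
    ext i j
    simp
  map_add' M N := by
    apply Subtype.ext
    ext i j
    simp

theorem PAR_fold_apply (M : Matrix (Fin n) (Fin n) F) (i j : Fin n) :
    ((PAR_fold M : symAdd n F) : Matrix (Fin n) (Fin n) F) i j = M (min i j) (max i j) := rfl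

theorem PAR_fold_sym (S : symAdd n F) : PAR_fold (S : Matrix (Fin n) (Fin n) F) = S := by
  apply Subtype.ext
  ext i j
  rw [PAR_fold_apply]
  rcases le_total i j with h | h
  · rw [min_eq_left h, max_eq_right h]
  · rw [min_eq_right h, max_eq_left h]
    have := congrFun (congrFun (symAdd_transpose S) i) j
    rw [transpose_apply] at this
    exact this

theorem PAR_fold_single_lower (i j : Fin n) (h : j < i) (t : F) :
    PAR_fold (Matrix.single i j t) = 0 := by
  apply Subtype.ext
  ext k l
  rw [PAR_fold_apply]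
  show Matrix.single i j t (min k l) (max k l) = 0
  rw [Matrix.single_apply, if_neg]
  rintro ⟨h1, h2⟩
  have h3 : min k l ≤ max k l := min_le_max
  rw [← h1, ← h2] at h3
  exact absurd h (not_lt.mpr h3)

/-- (PAR) a character of the symmetric matrices which is non-trivial on the matrices with zero
diagonal gives a quadratic form `v ↦ vᵀ C v` with non-zero polar form, such that the stabiliser of
the character in `GL_n` consists of isometries of the form. -/
theorem exists_form_of_char (h2 : (2 : F) = 0) (ψ : AddChar (symAdd n F) ℂ)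
    (hnt : ∃ S : symAdd n F, (∀ i, (S : Matrix (Fin n) (Fin n) F) i i = 0) ∧ ψ S ≠ 1) :
    ∃ C : Matrix (Fin n) (Fin n) F, C + Cᵀ ≠ 0 ∧
      ∀ A : GL (Fin n) F, (∀ S : symAdd n F, ψ (A • S) = ψ S) →
        ∀ v : Fin n → F, qf C ((A : Matrix (Fin n) (Fin n) F) *ᵥ v) = qf C v := by
  classical
  obtain ⟨ψ₀, hψ₀1⟩ := (AddChar.exists_apply_ne_zero (α := F) (a := 1)).mpr one_ne_zero
  have hψ₀ : ψ₀ ≠ 0 := by
    rintro rfl
    exact hψ₀1 (AddChar.zero_apply _)
  have hex : ∀ i j : Fin n, ∃ c : F, (j < i → c = 0) ∧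
      ∀ t : F, ψ (PAR_fold (Matrix.single i j t)) = ψ₀ (c * t) := by
    intro i j
    by_cases h : j < i
    · refine ⟨0, fun _ => rfl, fun t => ?_⟩
      rw [PAR_fold_single_lower i j h, zero_mul, AddChar.map_zero_eq_one, AddChar.map_zero_eq_one]
    · obtain ⟨β, hβ⟩ := Cfsg.Agent.Helper76.SPrep.exists_eq_mulShift ψ₀ hψ₀
        ((ψ.compAddMonoidHom PAR_fold).compAddMonoidHom (Matrix.singleAddMonoidHom i j))
      exact ⟨β, fun h' => absurd h' h, fun t => hβ t⟩
  choose C hC1 hC2 using hex
  have hformM : ∀ M : Matrix (Fin n) (Fin n) F,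
      ψ (PAR_fold M) = ψ₀ (∑ i, ∑ j, C i j * M i j) := by
    intro M
    have hM : PAR_fold M = ∑ i, ∑ j, PAR_fold (Matrix.single i j (M i j)) := by
      conv_lhs => rw [matrix_eq_sum_single M]
      rw [map_sum]
      apply Finset.sum_congr rfl
      intro i _
      rw [map_sum]
    rw [hM, PAR_map_sum, PAR_map_sum]
    apply Finset.prod_congr rfl
    intro i _
    rw [PAR_map_sum, PAR_map_sum]
    apply Finset.prod_congr rfl
    intro j _
    exact hC2 i j (M i j)
  have hform : ∀ S : symAdd n F,
      ψ S = ψ₀ (∑ i, ∑ j, C i j * (S : Matrix (Fin n) (Fin n) F) i j) := by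
    intro S
    rw [← hformM, PAR_fold_sym]
  refine ⟨Matrix.of C, ?_, ?_⟩
  · intro hzero
    obtain ⟨S, hS0, hS1⟩ := hnt
    apply hS1
    rw [hform S]
    have hsum : ∑ i, ∑ j, C i j * (S : Matrix (Fin n) (Fin n) F) i j = 0 := by
      apply Finset.sum_eq_zero
      intro i _
      apply Finset.sum_eq_zero
      intro j _
      rcases lt_trichotomy i j with h | h | h
      · have h4 := congrFun (congrFun hzero i) j
        simp only [Matrix.add_apply, Matrix.transpose_apply, Matrix.of_apply,
          Matrix.zero_apply] at h4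
        rw [hC1 j i h, add_zero] at h4
        rw [h4, zero_mul]
      · subst h
        rw [hS0, mul_zero]
      · rw [hC1 i j h, zero_mul]
    rw [hsum, AddChar.map_zero_eq_one]
  · intro A hA v
    have hrank : ∀ (t : F) (w : Fin n → F),
        ψ (symRank1 t w) = ψ₀ (t * qf (Matrix.of C) w) := by
      intro t w
      rw [hform]
      congr 1
      rw [qf_apply, dotProduct, Finset.mul_sum]
      apply Finset.sum_congr rfl
      intro i _
      rw [Matrix.mulVec, dotProduct, Finset.mul_sum, Finset.mul_sum]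
      apply Finset.sum_congr rfl
      intro j _
      simp only [symRank1_coe, Matrix.smul_apply, Matrix.vecMulVec_apply, Matrix.of_apply,
        smul_eq_mul]
      ring
    by_contra hne
    have hd : qf (Matrix.of C) ((A : Matrix (Fin n) (Fin n) F) *ᵥ v) - qf (Matrix.of C) v ≠ 0 :=
      sub_ne_zero.mpr hne
    apply hψ₀
    ext s
    rw [AddChar.zero_apply]
    obtain ⟨d, hdd⟩ : ∃ d, d = qf (Matrix.of C) ((A : Matrix (Fin n) (Fin n) F) *ᵥ v) -
      qf (Matrix.of C) v := ⟨_, rfl⟩
    rw [← hdd] at hd
    have h1 : ψ₀ (s * d⁻¹ * qf (Matrix.of C) ((A : Matrix (Fin n) (Fin n) F) *ᵥ v)) =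
        ψ₀ (s * d⁻¹ * qf (Matrix.of C) v) := by
      rw [← hrank, ← hrank, ← smul_symRank1, hA]
    have h3 : s * d⁻¹ * qf (Matrix.of C) ((A : Matrix (Fin n) (Fin n) F) *ᵥ v) =
        s + s * d⁻¹ * qf (Matrix.of C) v := by
      have : qf (Matrix.of C) ((A : Matrix (Fin n) (Fin n) F) *ᵥ v) =
          d + qf (Matrix.of C) v := by rw [hdd]; ring
      rw [this]
      field_simp
    rw [h3, AddChar.map_add_eq_mul] at h1
    have h5 : ψ₀ (s * d⁻¹ * qf (Matrix.of C) v) ≠ 0 := (AddChar.val_isUnit ψ₀ _).ne_zero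
    exact mul_right_cancel₀ h5 (h1.trans (one_mul _).symm)

end par

end Cfsg.Agent.Helper42.SpE
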