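import Cfsg.Agent.Helper80.SpE.Defs
import Cfsg.Agent.Helper80.CharLevel

/-!
# S2333 piece (Q1b): a quadratic form over a finite field of characteristic 2 takes a non-zero
value `α` at most `(q+1) q^(d-2)` times, given that it has at least `q^(d-2)` zeros.
-/

set_option autoImplicit false

namespace Cfsg.Agent.Helper42.SpE

open Matrix

section quad

variable {F : Type*} [Field F] [Fintype F] {V : Type*} [AddCommGroup V] [Module F V] [Fintype V]

/-- squaring is surjective on a finite field of characteristic 2 -/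
theorem Q1b_sq_surjective (h2 : (2 : F) = 0) : Function.Surjective (fun x : F => x * x) := by
  apply Finite.injective_iff_surjective.mp
  intro x y hxy
  have hxy' : x * x = y * y := hxy
  have h : (x - y) * (x - y) = 0 := by
    linear_combination hxy' + (y * y - x * y) * h2
  have h' : x - y = 0 := by
    rcases mul_eq_zero.mp h with h | h <;> exact h
  exact sub_eq_zero.mp h'

/-- all non-zero levels of a quadratic form have the same size -/
theorem Q1b_card_level_eq (h2 : (2 : F) = 0) (Q : QuadraticForm F V)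
    (α : F) (hα : α ≠ 0) (β : F) (hβ : β ≠ 0) :
    Nat.card {v : V // Q v = β} = Nat.card {v : V // Q v = α} := by
  obtain ⟨c, hc⟩ := Q1b_sq_surjective h2 (β * α⁻¹)
  have hc' : c * c = β * α⁻¹ := hc
  have hc0 : c ≠ 0 := by
    rintro rfl
    rw [mul_zero] at hc'
    exact mul_ne_zero hβ (inv_ne_zero hα) hc'.symm
  let e : V ≃ V :=
    ⟨fun v => c • v, fun v => c⁻¹ • v,
      fun v => by simp [smul_smul, inv_mul_cancel₀ hc0],
      fun v => by simp [smul_smul, mul_inv_cancel₀ hc0]⟩
  symm
  apply Nat.card_congr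
  refine Equiv.subtypeEquiv e ?_
  intro v
  show Q v = α ↔ Q (c • v) = β
  rw [QuadraticMap.map_smul, smul_eq_mul, hc']
  constructor
  · intro h
    rw [h, mul_assoc, inv_mul_cancel₀ hα, mul_one]
  · intro h
    have h3 : β * α⁻¹ * Q v = β * α⁻¹ * α := by
      rw [h, mul_assoc, inv_mul_cancel₀ hα, mul_one]
    exact mul_left_cancel₀ (mul_ne_zero hβ (inv_ne_zero hα)) h3

/-- (Q1b) hence it takes a non-zero value `α` at most `(q+1) q^(d-2)` times. -/
theorem card_level_le (h2 : (2 : F) = 0) (Q : QuadraticForm F V)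
    (h0 : Fintype.card V ≤ Fintype.card F ^ 2 * Nat.card {v : V // Q v = 0})
    (α : F) (hα : α ≠ 0) :
    Fintype.card F ^ 2 * Nat.card {v : V // Q v = α} ≤ (Fintype.card F + 1) * Fintype.card V := by
  classical
  have hsum : Fintype.card V = ∑ β : F, Nat.card {v : V // Q v = β} := by
    have h1 := Finset.card_eq_sum_card_fiberwise (s := (Finset.univ : Finset V))
      (t := (Finset.univ : Finset F)) (f := fun v => Q v) (fun v _ => Finset.mem_univ _)
    rw [Finset.card_univ] at h1
    rw [h1]
    apply Finset.sum_congr rfl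
    intro β _
    rw [Nat.card_eq_fintype_card, Fintype.card_subtype]
  have hsplit : ∑ β : F, Nat.card {v : V // Q v = β} =
      Nat.card {v : V // Q v = 0} + (Fintype.card F - 1) * Nat.card {v : V // Q v = α} := by
    rw [← Finset.add_sum_erase Finset.univ _ (Finset.mem_univ (0 : F))]
    congr 1
    rw [Finset.sum_congr rfl (fun β hβ =>
      Q1b_card_level_eq h2 Q α hα β (Finset.ne_of_mem_erase hβ))]
    rw [Finset.sum_const, Finset.card_erase_of_mem (Finset.mem_univ _), Finset.card_univ,
      smul_eq_mul]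
  have hq : 2 ≤ Fintype.card F := by
    have := Fintype.one_lt_card (α := F)
    omega
  obtain ⟨r, hr⟩ : ∃ r, Fintype.card F = r + 1 := ⟨Fintype.card F - 1, by omega⟩
  have hr1 : 1 ≤ r := by omega
  rw [hsum, hsplit, hr] at h0 ⊢
  simp only [Nat.add_sub_cancel] at h0 ⊢
  set N0 := Nat.card {v : V // Q v = 0}
  set Na := Nat.card {v : V // Q v = α}
  have hkey : r * Na ≤ r * ((r + 2) * N0) := by nlinarith
  have hkey' : Na ≤ (r + 2) * N0 := Nat.le_of_mul_le_mul_left hkey (by omega)
  nlinarith

end quad

end Cfsg.Agent.Helper42.SpE
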