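import Mathlib
import Cfsg.Prelude.Def_Classical
import Cfsg.Agent.Helper86.Spec4.DefsU
import Cfsg.Agent.Helper38.SU3Gen
import Cfsg.Agent.Helper67.Spec4M1
import Cfsg.Agent.Helper70.Spec4UV0

/-!
# S2511 piece (V1): an element of `SU_n(q)` commuting with a nontrivial self-adjoint idempotent
commutes in `PSU_n(q)` with an element of order `r` (`r ∣ q + 1` prime, `r ∤ n`)
-/

set_option autoImplicit false

namespace Cfsg.Agent.Helper42.Spec4U

open Matrix Polynomial Cfsg.Agent.Helper86.Spec4

variable {F : Type*} [Field F] [Fintype F] {q n : ℕ}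

/-- (V1) an element of `SU_n(q)` commuting with a nontrivial self-adjoint idempotent is `Good r`
in `PSU_n(q)`. -/
theorem good_of_idempotent_U (hF : Fintype.card F = q ^ 2) (bar : F →+* F)
    (hbar : ∀ x, bar x = x ^ q) {r : ℕ} (hn : 3 ≤ n) (hr : r.Prime) (hrq : r ∣ q + 1)
    (hrn : ¬ r ∣ n) (x : Cfsg.SU n F q) (e : Matrix (Fin n) (Fin n) F) (he : e * e = e)
    (hes : dag bar e = e) (he0 : e ≠ 0) (he1 : e ≠ 1) (hc : e * x.1.1 = x.1.1 * e) :
    Good r (QuotientGroup.mk x : Cfsg.PSU n F q) := by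
  classical
  have hrF : Fact r.Prime := ⟨hr⟩
  have hq1 : 1 ≤ q := by
    rcases Nat.eq_zero_or_pos q with h | h
    · have := Fintype.one_lt_card (α := F)
      rw [hF, h] at this
      simp at this
    · exact h
  -- an element of order `r` in the multiplicative group
  obtain ⟨lamU, hlamU⟩ : ∃ l : Fˣ, orderOf l = r := by
    apply exists_prime_orderOf_dvd_card' r
    rw [Nat.card_eq_fintype_card, Fintype.card_units, hF]
    have h1 : q ^ 2 - 1 = (q + 1) * (q - 1) := by
      obtain ⟨k, rfl⟩ : ∃ k, q = k + 1 := ⟨q - 1, by omega⟩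
      simp only [Nat.add_sub_cancel]
      ring_nf
      omega
    rw [h1]
    exact Dvd.dvd.mul_right hrq _
  set lam : F := (lamU : F) with hlam
  have hlam_r : lam ^ r = 1 := by
    have : lamU ^ r = 1 := by rw [← hlamU]; exact pow_orderOf_eq_one lamU
    rw [hlam, ← Units.val_pow_eq_pow_val, this, Units.val_one]
  have hlam1 : lam ≠ 1 := by
    intro h
    have : lamU = 1 := Units.ext h
    rw [this, orderOf_one] at hlamU
    exact hr.one_lt.ne hlamU
  -- `r`-th roots of unity are unitary scalars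
  have hunit : ∀ z : F, z ^ r = 1 → bar z * z = 1 := by
    intro z hz
    obtain ⟨k, hk⟩ := hrq
    rw [hbar, ← pow_succ, hk, pow_mul, hz, one_pow]
  set E : Matrix (Fin n) (Fin n) F := 1 + (lam - 1) • e with hE
  have hEr : E ^ r = 1 := by
    rw [hE, Cfsg.Agent.Helper67.Spec4.one_add_smul_pow e he, hlam_r, sub_self, zero_smul, add_zero]
  have hEx : E * x.1.1 = x.1.1 * E := by
    rw [hE, Matrix.add_mul, Matrix.mul_add, Matrix.one_mul, Matrix.mul_one, Matrix.smul_mul,
      Matrix.mul_smul, hc]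
  have hEd : dag bar E * E = 1 := by
    rw [hE, dag_add, dag_one, dag_smul, hes, map_sub, map_one]
    rw [Matrix.add_mul, Matrix.mul_add, Matrix.mul_add, Matrix.one_mul, Matrix.mul_one,
      Matrix.one_mul, Matrix.smul_mul, Matrix.mul_smul, he, smul_smul]
    rw [add_assoc, ← add_smul, ← add_smul]
    have h0 : lam - 1 + (bar lam - 1 + (bar lam - 1) * (lam - 1)) = 0 := by
      have := hunit lam hlam_r
      linear_combination this
    rw [h0, zero_smul, add_zero]
  set δ : F := E.det with hδ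
  have hδr : δ ^ r = 1 := by
    rw [hδ, ← Matrix.det_pow, hEr, Matrix.det_one]
  have hδ0 : δ ≠ 0 := by
    intro h
    rw [h, zero_pow hr.ne_zero] at hδr
    exact zero_ne_one hδr
  -- `c` with `n * c ≡ 1 mod r`
  have hcop : Nat.Coprime n r := (Nat.Coprime.symm ((Nat.Prime.coprime_iff_not_dvd hr).2 hrn))
  obtain ⟨c, _, hcn⟩ := Nat.exists_mul_mod_eq_one_of_coprime hcop hr.one_lt
  set μ : F := (δ ^ c)⁻¹ with hμ
  have hμn : μ ^ n * δ = 1 := by
    have h1 : δ ^ (n * c) = δ := by
      have : n * c = r * (n * c / r) + 1 := by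
        have := Nat.div_add_mod (n * c) r
        omega
      rw [this, pow_succ, pow_mul, hδr, one_pow, one_mul]
    rw [hμ, inv_pow, ← pow_mul, mul_comm c n, h1, inv_mul_cancel₀ hδ0]
  have hμr : μ ^ r = 1 := by
    rw [hμ, inv_pow, ← pow_mul, mul_comm, pow_mul, hδr, one_pow, inv_one]
  set D : Matrix (Fin n) (Fin n) F := μ • E with hD
  have hDdet : D.det = 1 := by
    rw [hD, Matrix.det_smul, Fintype.card_fin]
    exact hμn
  have hDr : D ^ r = 1 := by
    rw [hD, _root_.smul_pow, hμr, one_smul, hEr]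
  have hDx : D * x.1.1 = x.1.1 * D := by
    rw [hD, Matrix.smul_mul, Matrix.mul_smul, hEx]
  have hDd : dag bar D * D = 1 := by
    rw [hD, dag_smul, Matrix.smul_mul, Matrix.mul_smul, smul_smul, hEd, mul_comm (bar μ) μ,
      mul_comm μ (bar μ), hunit μ hμr, one_smul]
  let d0 : SpecialLinearGroup (Fin n) F := ⟨D, hDdet⟩
  have hd0 : d0 ∈ Cfsg.SU n F q := Cfsg.Agent.Helper70.Spec4U.mem_SU_of_dag bar hbar d0 hDd
  let d : Cfsg.SU n F q := ⟨d0, hd0⟩
  have hdr : d ^ r = 1 := by
    apply Subtype.ext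
    apply Subtype.ext
    show ((d ^ r : Cfsg.SU n F q).1.1 : Matrix (Fin n) (Fin n) F) = 1
    simpa using hDr
  have hdx : x * d = d * x := by
    apply Subtype.ext
    apply Subtype.ext
    show x.1.1 * D = D * x.1.1
    exact hDx.symm
  have hdc : d ∉ Subgroup.center (Cfsg.SU n F q) := by
    intro hmem
    obtain ⟨s, hs⟩ := (Cfsg.Agent.Helper38.mem_center_su_iff hF hn d).1 hmem
    have hs' : D = s • (1 : Matrix (Fin n) (Fin n) F) := hs
    have hμ0 : μ ≠ 0 := by
      intro h
      rw [h, zero_pow hr.ne_zero] at hμr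
      exact zero_ne_one hμr
    -- `e` is a scalar matrix
    have hl : lam - 1 ≠ 0 := sub_ne_zero.2 hlam1
    have he_sc : e = ((lam - 1)⁻¹ * (μ⁻¹ * s - 1)) • (1 : Matrix (Fin n) (Fin n) F) := by
      have h1 : μ • (1 + (lam - 1) • e) = s • (1 : Matrix (Fin n) (Fin n) F) := by
        rw [← hE, ← hD, hs']
      have h2 : (1 : Matrix (Fin n) (Fin n) F) + (lam - 1) • e
          = (μ⁻¹ * s) • (1 : Matrix (Fin n) (Fin n) F) := by
        have := congrArg (fun M => μ⁻¹ • M) h1
        simp only [smul_smul, inv_mul_cancel₀ hμ0, one_smul] at this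
        exact this
      have h3 : (lam - 1) • e = (μ⁻¹ * s - 1) • (1 : Matrix (Fin n) (Fin n) F) := by
        have h30 : (μ⁻¹ * s - 1) • (1 : Matrix (Fin n) (Fin n) F)
            = (μ⁻¹ * s) • (1 : Matrix (Fin n) (Fin n) F) - 1 := by
          rw [sub_smul, one_smul]
        rw [h30, ← h2]
        abel
      have := congrArg (fun M => (lam - 1)⁻¹ • M) h3
      simp only [smul_smul, inv_mul_cancel₀ hl, one_smul] at this
      exact this
    set t : F := (lam - 1)⁻¹ * (μ⁻¹ * s - 1) with ht
    have htt : t * t = t ∨ (1 : Matrix (Fin n) (Fin n) F) = 0 := by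
      have h4 : (t * t) • (1 : Matrix (Fin n) (Fin n) F) = t • 1 := by
        have := he
        rw [he_sc, Matrix.smul_mul, Matrix.mul_smul, Matrix.one_mul, smul_smul] at this
        exact this
      by_cases h10 : (1 : Matrix (Fin n) (Fin n) F) = 0
      · exact Or.inr h10
      · left
        have h5 : (t * t - t) • (1 : Matrix (Fin n) (Fin n) F) = 0 := by
          rw [sub_smul, h4, sub_self]
        rcases smul_eq_zero.1 h5 with h6 | h6
        · exact sub_eq_zero.1 h6
        · exact absurd h6 h10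
    rcases htt with htt | h10
    · have : t = 0 ∨ t = 1 := by
        have h7 : t * (t - 1) = 0 := by linear_combination htt
        rcases mul_eq_zero.1 h7 with h8 | h8
        · exact Or.inl h8
        · exact Or.inr (sub_eq_zero.1 h8)
      rcases this with h0 | h1
      · exact he0 (by rw [he_sc, h0, zero_smul])
      · exact he1 (by rw [he_sc, h1, one_smul])
    · exact he0 (by rw [← Matrix.mul_one e, h10, Matrix.mul_zero])
  refine ⟨(QuotientGroup.mk d : Cfsg.PSU n F q), ?_, ?_⟩
  · show (QuotientGroup.mk x : Cfsg.PSU n F q) * QuotientGroup.mk d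
      = QuotientGroup.mk d * QuotientGroup.mk x
    rw [← QuotientGroup.mk_mul, ← QuotientGroup.mk_mul, hdx]
  · apply orderOf_eq_prime
    · rw [← QuotientGroup.mk_pow, hdr, QuotientGroup.mk_one]
    · intro h
      exact hdc ((QuotientGroup.eq_one_iff d).1 h)

end Cfsg.Agent.Helper42.Spec4U
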