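import Mathlib
import Cfsg.Prelude.Def_Classical
import Cfsg.Agent.Helper86.Spec4.DefsU
import Cfsg.Agent.Helper48.Spec4M6

/-!
# S2511 piece (V6): `p`-elements of `PSU_n(q)` have order `p^j` with `p^(j-1) < n`
-/

set_option autoImplicit false

namespace Cfsg.Agent.Helper42.Spec4U

open Matrix Polynomial Cfsg.Agent.Helper86.Spec4

variable {F : Type*} [Field F] [Fintype F] {q n : ℕ}

/-- (V6) `p`-elements of `PSU_n(q)` have order `p^j` with `p^(j-1) < n`. -/
theorem p_order_bound_U {p j : ℕ} [Fact p.Prime] [CharP F p] (hF : Fintype.card F = q ^ 2)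
    (hn : 3 ≤ n) (hj : 1 ≤ j) (w : Cfsg.PSU n F q) (hw : orderOf w = p ^ j) : p ^ (j - 1) < n := by
  classical
  have hp : p.Prime := Fact.out
  by_contra hlt
  push Not at hlt
  have hne : NeZero n := ⟨by omega⟩
  obtain ⟨x, rfl⟩ := QuotientGroup.mk_surjective w
  have ho0 : orderOf x ≠ 0 := (orderOf_pos x).ne'
  obtain ⟨i, m', hm', ho⟩ := Nat.exists_eq_pow_mul_and_not_dvd ho0 p hp.ne_one
  -- the `p`-part
  have hu : (x ^ m') ^ (p ^ i) = 1 := by
    rw [← pow_mul, mul_comm, ← ho, pow_orderOf_eq_one]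
  have hU : ((x ^ m' : Cfsg.SU n F q).1.1 : Matrix (Fin n) (Fin n) F) ^ (p ^ i) = 1 := by
    have := congrArg (fun y : Cfsg.SU n F q => (y.1.1 : Matrix (Fin n) (Fin n) F)) hu
    simpa using this
  have hN : IsNilpotent
      (((x ^ m' : Cfsg.SU n F q).1.1 : Matrix (Fin n) (Fin n) F) - 1) := by
    refine ⟨p ^ i, ?_⟩
    rw [sub_pow_char_pow_of_commute p i (Commute.one_right _), hU, one_pow, sub_self]
  have hNn := Cfsg.Agent.Helper48.Spec4.pow_eq_zero_of_isNilpotent _ hN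
  have hNj := pow_eq_zero_of_le hlt hNn
  rw [sub_pow_char_pow_of_commute p (j - 1) (Commute.one_right _), one_pow, sub_eq_zero] at hNj
  -- so `(x ^ m') ^ (p ^ (j-1)) = 1` in `SU`, hence in `PSU`
  have hx1 : (x ^ m') ^ (p ^ (j - 1)) = 1 := by
    apply Subtype.ext
    apply Subtype.ext
    simpa using hNj
  have hw1 : (QuotientGroup.mk x : Cfsg.PSU n F q) ^ (m' * p ^ (j - 1)) = 1 := by
    rw [← QuotientGroup.mk_pow, pow_mul, hx1]
    rfl
  have hdvd : p ^ j ∣ m' * p ^ (j - 1) := by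
    rw [← hw]
    exact orderOf_dvd_of_pow_eq_one hw1
  have hcop : Nat.Coprime (p ^ j) m' :=
    Nat.Coprime.pow_left j ((Nat.Prime.coprime_iff_not_dvd hp).mpr hm')
  have hdvd2 : p ^ j ∣ p ^ (j - 1) := hcop.dvd_of_dvd_mul_left hdvd
  have := (Nat.pow_dvd_pow_iff_le_right hp.one_lt).mp hdvd2
  omega

end Cfsg.Agent.Helper42.Spec4U
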