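import Mathlib
import Cfsg.Prelude.Def_Classical
import Cfsg.Agent.Helper86.Spec4.DefsU
import Cfsg.Agent.Helper38.SU3Gen
import Cfsg.Agent.Helper70.Spec4UV0

/-!
# S2511 piece (V7): a decomposable unipotent element of `SU_n(q)` of order `p^j` in `PSU_n(q)`
whenever `p^(j-1) < n - 1`, from a regular unipotent element of `SU_(n-1)(q)`
-/

set_option autoImplicit false

namespace Cfsg.Agent.Helper42.Spec4U

open Matrix Polynomial Cfsg.Agent.Helper86.Spec4

variable {F : Type*} [Field F]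

/-- the block diagonal embedding `diag(A, B)` of an `m × m` and a `1 × 1` matrix -/
def V7_blk {m : ℕ} (A : Matrix (Fin m) (Fin m) F) (B : Matrix (Fin 1) (Fin 1) F) :
    Matrix (Fin (m + 1)) (Fin (m + 1)) F :=
  (fromBlocks A 0 0 B).submatrix finSumFinEquiv.symm finSumFinEquiv.symm

theorem V7_blk_mul {m : ℕ} (A A' : Matrix (Fin m) (Fin m) F) (B B' : Matrix (Fin 1) (Fin 1) F) :
    V7_blk A B * V7_blk A' B' = V7_blk (A * A') (B * B') := by
  unfold V7_blk
  rw [Matrix.submatrix_mul_equiv, fromBlocks_multiply]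
  simp

theorem V7_blk_one {m : ℕ} : V7_blk (1 : Matrix (Fin m) (Fin m) F) 1 = 1 := by
  unfold V7_blk
  rw [fromBlocks_one, Matrix.submatrix_one_equiv]

theorem V7_blk_pow {m : ℕ} (A : Matrix (Fin m) (Fin m) F) (k : ℕ) :
    V7_blk A 1 ^ k = V7_blk (A ^ k) 1 := by
  induction k with
  | zero => rw [pow_zero, pow_zero, V7_blk_one]
  | succ k ih => rw [pow_succ, ih, V7_blk_mul, ← pow_succ, one_mul]

theorem V7_blk_inl {m : ℕ} (A : Matrix (Fin m) (Fin m) F) (B : Matrix (Fin 1) (Fin 1) F)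
    (i j : Fin m) :
    V7_blk A B (finSumFinEquiv (Sum.inl i)) (finSumFinEquiv (Sum.inl j)) = A i j := by
  unfold V7_blk
  simp

theorem V7_blk_inr {m : ℕ} (A : Matrix (Fin m) (Fin m) F) (B : Matrix (Fin 1) (Fin 1) F)
    (i j : Fin 1) :
    V7_blk A B (finSumFinEquiv (Sum.inr i)) (finSumFinEquiv (Sum.inr j)) = B i j := by
  unfold V7_blk
  simp

theorem V7_blk_det {m : ℕ} (A : Matrix (Fin m) (Fin m) F) :
    (V7_blk A 1).det = A.det := by
  unfold V7_blk
  rw [Matrix.det_submatrix_equiv_self, Matrix.det_fromBlocks_zero₂₁, Matrix.det_one, mul_one]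

theorem V7_blk_dag {m : ℕ} (bar : F →+* F) (A : Matrix (Fin m) (Fin m) F)
    (B : Matrix (Fin 1) (Fin 1) F) :
    dag bar (V7_blk A B) = V7_blk (dag bar A) (dag bar B) := by
  ext a b
  obtain ⟨a, rfl⟩ := finSumFinEquiv.surjective a
  obtain ⟨b, rfl⟩ := finSumFinEquiv.surjective b
  rw [dag_apply]
  unfold V7_blk
  rcases a with a | a <;> rcases b with b | b <;> simp [dag_apply]

variable [Fintype F] {q n : ℕ}

/-- (V7) a decomposable unipotent element of order `p^j` whenever `p^(j-1) < n - 1`. -/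
theorem exists_unipotent_U {p j : ℕ} [Fact p.Prime] [CharP F p] (hF : Fintype.card F = q ^ 2)
    (bar : F →+* F) (hbar : ∀ x, bar x = x ^ q) (hn : 3 ≤ n) (hj : 1 ≤ j)
    (hjn : p ^ (j - 1) < n - 1)
    (HR : ∃ X : Cfsg.SU (n - 1) F q, (X.1.1 - 1) ^ (n - 1) = 0 ∧ (X.1.1 - 1) ^ (n - 1 - 1) ≠ 0) :
    ∃ (u : Cfsg.SU n F q) (e : Matrix (Fin n) (Fin n) F),
      e * e = e ∧ dag bar e = e ∧ e ≠ 0 ∧ e ≠ 1 ∧ e * u.1.1 = u.1.1 * e ∧
      orderOf (QuotientGroup.mk u : Cfsg.PSU n F q) = p ^ j := by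
  classical
  have hp : p.Prime := Fact.out
  obtain ⟨m, rfl⟩ : ∃ m, n = m + 1 := ⟨n - 1, by omega⟩
  have hm : 2 ≤ m := by omega
  have HR' : ∃ X : Cfsg.SU m F q, (X.1.1 - 1) ^ m = 0 ∧ (X.1.1 - 1) ^ (m - 1) ≠ 0 := HR
  have hjm : p ^ (j - 1) < m := hjn
  obtain ⟨X, hX1, hX2⟩ := HR'
  have hne : NeZero m := ⟨by omega⟩
  set t' := Nat.clog p m with ht'
  have ht1 : m ≤ p ^ t' := Nat.le_pow_clog hp.one_lt m
  have ht2 : p ^ (t' - 1) < m := Nat.pow_pred_clog_lt_self hp.one_lt (by omega)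
  have hjt : j ≤ t' := by
    have h1 : p ^ (j - 1) < p ^ t' := lt_of_lt_of_le hjm ht1
    have := (Nat.pow_lt_pow_iff_right hp.one_lt).mp h1
    omega
  set A : Matrix (Fin m) (Fin m) F := X.1.1 with hA
  -- powers of `A`
  have hApow : ∀ k : ℕ, A ^ (p ^ k) - 1 = (A - 1) ^ (p ^ k) := by
    intro k
    rw [sub_pow_char_pow_of_commute p k (Commute.one_right _), one_pow]
  have hAt : A ^ (p ^ t') = 1 := by
    have := hApow t'
    rw [pow_eq_zero_of_le ht1 hX1, sub_eq_zero] at this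
    exact this
  have hAt1 : A ^ (p ^ (t' - 1)) ≠ 1 := by
    intro h
    have h1 := hApow (t' - 1)
    rw [h, sub_self] at h1
    exact hX2 (pow_eq_zero_of_le (by omega) h1.symm)
  set Y : Cfsg.SU m F q := X ^ (p ^ (t' - j)) with hY
  set M : Matrix (Fin m) (Fin m) F := Y.1.1 with hM
  have hMA : M = A ^ (p ^ (t' - j)) := by
    rw [hM, hY, hA]
    simp
  have hMd : dag bar M * M = 1 := dag_mul_self_of_mem bar hbar Y.1 Y.2
  have hMdet : M.det = 1 := Y.1.2
  have hMj : M ^ (p ^ j) = 1 := by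
    rw [hMA, ← pow_mul, ← pow_add, Nat.sub_add_cancel hjt, hAt]
  have hMj1 : M ^ (p ^ (j - 1)) ≠ 1 := by
    rw [hMA, ← pow_mul, ← pow_add]
    have : t' - j + (j - 1) = t' - 1 := by omega
    rw [this]
    exact hAt1
  -- the block embedding
  set U : Matrix (Fin (m + 1)) (Fin (m + 1)) F := V7_blk M 1 with hU
  have hUdet : U.det = 1 := by rw [hU, V7_blk_det, hMdet]
  have hUd : dag bar U * U = 1 := by
    rw [hU, V7_blk_dag, V7_blk_mul, hMd, dag_one, one_mul, V7_blk_one]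
  let u0 : SpecialLinearGroup (Fin (m + 1)) F := ⟨U, hUdet⟩
  have hu0 : u0 ∈ Cfsg.SU (m + 1) F q := Cfsg.Agent.Helper70.Spec4U.mem_SU_of_dag bar hbar u0 hUd
  let u : Cfsg.SU (m + 1) F q := ⟨u0, hu0⟩
  have hupow : ∀ k : ℕ, ((u ^ k : Cfsg.SU (m + 1) F q).1.1 : Matrix (Fin (m + 1)) (Fin (m + 1)) F) =
      V7_blk (M ^ k) 1 := by
    intro k
    have : ((u ^ k : Cfsg.SU (m + 1) F q).1.1 : Matrix (Fin (m + 1)) (Fin (m + 1)) F) = U ^ k := by
      show (((u ^ k : Cfsg.SU (m + 1) F q) : SpecialLinearGroup (Fin (m + 1)) F) :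
        Matrix (Fin (m + 1)) (Fin (m + 1)) F) = U ^ k
      rw [Subgroup.coe_pow, Matrix.SpecialLinearGroup.coe_pow]
    rw [this, hU, V7_blk_pow]
  refine ⟨u, V7_blk 0 1, ?_, ?_, ?_, ?_, ?_, ?_⟩
  · rw [V7_blk_mul, mul_zero, mul_one]
  · rw [V7_blk_dag, dag_zero, dag_one]
  · intro h
    have := congrFun (congrFun h (finSumFinEquiv (Sum.inr 0))) (finSumFinEquiv (Sum.inr 0))
    rw [V7_blk_inr] at this
    simp at this
  · intro h
    have := congrFun (congrFun h (finSumFinEquiv (Sum.inl ⟨0, by omega⟩)))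
      (finSumFinEquiv (Sum.inl ⟨0, by omega⟩))
    rw [V7_blk_inl] at this
    simp at this
  · show V7_blk 0 1 * U = U * V7_blk 0 1
    rw [hU, V7_blk_mul, V7_blk_mul, zero_mul, mul_zero]
  · obtain ⟨i, rfl⟩ : ∃ i, j = i + 1 := ⟨j - 1, by omega⟩
    apply orderOf_eq_prime_pow
    · intro h
      rw [← QuotientGroup.mk_pow, QuotientGroup.eq_one_iff,
        Cfsg.Agent.Helper38.mem_center_su_iff hF hn] at h
      obtain ⟨s, hs⟩ := h
      rw [hupow] at hs
      have h1 := congrFun (congrFun hs (finSumFinEquiv (Sum.inr 0))) (finSumFinEquiv (Sum.inr 0))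
      rw [V7_blk_inr] at h1
      have hs1 : s = 1 := by simpa using h1.symm
      apply hMj1
      ext a b
      have h2 := congrFun (congrFun hs (finSumFinEquiv (Sum.inl a))) (finSumFinEquiv (Sum.inl b))
      rw [V7_blk_inl, hs1, one_smul] at h2
      rw [show i + 1 - 1 = i from rfl, h2, Matrix.one_apply, Matrix.one_apply]
      simp
    · rw [← QuotientGroup.mk_pow]
      have : u ^ p ^ (i + 1) = 1 := by
        apply Subtype.ext
        apply Subtype.ext
        rw [hupow, hMj, V7_blk_one]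
        rfl
      rw [this, QuotientGroup.mk_one]

end Cfsg.Agent.Helper42.Spec4U
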