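import Mathlib
import Cfsg.Prelude.Def_Classical
import Cfsg.Agent.Helper86.Spec4.DefsU
import Cfsg.Agent.Helper38.SU3Gen

/-!
# S2511 piece (VB): bad elements of `PSU_n(q)` have order `p ^ t * k` with `k ∣ cU q n`
-/

set_option autoImplicit false

namespace Cfsg.Agent.Helper42.Spec4U

open Matrix Polynomial Cfsg.Agent.Helper86.Spec4

variable {F : Type*} [Field F] [Fintype F] {q n : ℕ}

/-- (VB) bad elements: the order is `p^t * k` with `k ∣ cU`. -/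
theorem bad_dvd_U {p : ℕ} [Fact p.Prime] [CharP F p] (hF : Fintype.card F = q ^ 2) (hn : 3 ≤ n)
    (x : Cfsg.SU n F q)
    (Hs : ∀ (s : Matrix (Fin n) (Fin n) F) (j m : ℕ), s = x.1.1 ^ j → (m : F) ≠ 0 → s ^ m = 1 →
      ∃ ζ : F, s ^ cU q n = ζ • (1 : Matrix (Fin n) (Fin n) F)) :
    ∃ t k, orderOf (QuotientGroup.mk x : Cfsg.PSU n F q) = p ^ t * k ∧ k ∣ cU q n := by
  classical
  have hp : p.Prime := Fact.out
  set c := cU q n with hc
  -- the order of `x` in `SU_n`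
  have hN0 : orderOf x ≠ 0 := (orderOf_pos x).ne'
  obtain ⟨i, m', hpm', hN⟩ := Nat.exists_eq_pow_mul_and_not_dvd hN0 p hp.ne_one
  -- the `p'`-part
  have hxN : x.1.1 ^ (p ^ i * m') = 1 := by
    have h := pow_orderOf_eq_one x
    rw [hN] at h
    have h2 := congrArg (fun y : Cfsg.SU n F q => (y.1.1 : Matrix (Fin n) (Fin n) F)) h
    simpa using h2
  have hsm : (x.1.1 ^ (p ^ i)) ^ m' = 1 := by rw [← pow_mul]; exact hxN
  have hm'F : (m' : F) ≠ 0 := by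
    intro h0
    exact hpm' ((CharP.cast_eq_zero_iff F p m').mp h0)
  obtain ⟨ζ, hζ⟩ := Hs _ (p ^ i) m' rfl hm'F hsm
  -- `x ^ (p^i * c)` is central
  have hcen : x ^ (p ^ i * c) ∈ Subgroup.center (Cfsg.SU n F q) := by
    rw [Cfsg.Agent.Helper38.mem_center_su_iff hF hn]
    refine ⟨ζ, ?_⟩
    rw [← hζ, ← pow_mul]
    simp
  have hpow : (QuotientGroup.mk x : Cfsg.PSU n F q) ^ (p ^ i * c) = 1 := by
    have h1 : (QuotientGroup.mk (x ^ (p ^ i * c)) : Cfsg.PSU n F q) = 1 :=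
      (QuotientGroup.eq_one_iff _).mpr hcen
    simpa using h1
  have hdvd : orderOf (QuotientGroup.mk x : Cfsg.PSU n F q) ∣ p ^ i * c :=
    orderOf_dvd_of_pow_eq_one hpow
  obtain ⟨k₁, k₂, hk₁, hk₂, hk⟩ := (Nat.dvd_mul).mp hdvd
  obtain ⟨t, -, rfl⟩ := (Nat.dvd_prime_pow hp).mp hk₁
  exact ⟨t, k₂, hk.symm, hk₂⟩

end Cfsg.Agent.Helper42.Spec4U
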