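import Mathlib

/-!
# Packing lemma for lcm-sets (used for spectra of direct powers of `GL_n(2)`)
-/

set_option autoImplicit false

namespace Cfsg.Agent.Helper42.SpecNum

/-- A prime power dividing the lcm of a finite family of positive numbers divides a member. -/
theorem exists_prime_pow_dvd_of_dvd_lcm {ι : Type*} (s : Finset ι) (a : ι → ℕ)
    (ha : ∀ i ∈ s, 0 < a i) (p j : ℕ) (hp : p.Prime) (hj : 0 < j)
    (h : p ^ j ∣ s.lcm a) : ∃ i ∈ s, p ^ j ∣ a i := by
  classical
  induction s using Finset.induction_on with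
  | empty =>
    simp only [Finset.lcm_empty] at h
    have : p ^ j = 1 := Nat.dvd_one.mp h
    have h2 : 1 < p ^ j := Nat.one_lt_pow hj.ne' hp.one_lt
    omega
  | insert x s hx ih =>
    rw [Finset.lcm_insert] at h
    have hax : a x ≠ 0 := (ha x (Finset.mem_insert_self _ _)).ne'
    have hs0 : s.lcm a ≠ 0 := by
      rw [Ne, Finset.lcm_eq_zero_iff]
      rintro ⟨i, hi, h0⟩
      have := ha i (Finset.mem_insert_of_mem hi)
      omega
    have hl : lcm (a x) (s.lcm a) = Nat.lcm (a x) (s.lcm a) := rfl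
    rw [hl] at h
    have hne : Nat.lcm (a x) (s.lcm a) ≠ 0 := Nat.lcm_ne_zero hax hs0
    rw [hp.pow_dvd_iff_le_factorization hne, Nat.factorization_lcm hax hs0] at h
    simp only [Finsupp.sup_apply, le_sup_iff] at h
    rcases h with h | h
    · exact ⟨x, Finset.mem_insert_self _ _, (hp.pow_dvd_iff_le_factorization hax).mpr h⟩
    · obtain ⟨i, hi, hd⟩ := ih (fun i hi => ha i (Finset.mem_insert_of_mem hi))
        ((hp.pow_dvd_iff_le_factorization hs0).mpr h)
      exact ⟨i, Finset.mem_insert_of_mem hi, hd⟩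

/-- **Packing lemma.**  Let `S` be a divisor-closed set of positive integers such that every odd
prime power in `S` divides `2 ^ e - 1` for some `1 ≤ e ≤ n`, and such that `S` contains
`lcm c c'` whenever `c ∣ 2 ^ e - 1`, `c' ∣ 2 ^ e' - 1` with `e + e' = n`.  Then the lcm of any
finite family from `S` is the lcm of a family of `⌊(n+3)/2⌋` members of `S`. -/
theorem lcm_family_reduce (n : ℕ) (hn : 1 ≤ n) (S : Set ℕ) (h1 : 1 ∈ S)
    (hpos : ∀ a ∈ S, 0 < a)
    (hdvd : ∀ a ∈ S, ∀ b, b ∣ a → b ∈ S)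
    (hodd : ∀ r j, r.Prime → r ≠ 2 → 0 < j → r ^ j ∈ S →
      ∃ e, 1 ≤ e ∧ e ≤ n ∧ r ^ j ∣ 2 ^ e - 1)
    (hblk : ∀ e e' c c', 1 ≤ e → e + e' = n → c ∣ 2 ^ e - 1 →
      (c' = 1 ∨ (1 ≤ e' ∧ c' ∣ 2 ^ e' - 1)) → Nat.lcm c c' ∈ S)
    {ι : Type*} (s : Finset ι) (a : ι → ℕ) (ha : ∀ i ∈ s, a i ∈ S) :
    ∃ b : Fin ((n + 3) / 2) → ℕ, (∀ i, b i ∈ S) ∧ Finset.univ.lcm b = s.lcm a := by
  classical
  set m := s.lcm a with hm
  have hapos : ∀ i ∈ s, 0 < a i := fun i hi => hpos _ (ha i hi)
  have hm0 : m ≠ 0 := by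
    rw [hm, Ne, Finset.lcm_eq_zero_iff]
    rintro ⟨i, hi, h0⟩
    have := hapos i hi
    omega
  set t := m.factorization 2 with ht
  set m' := m / 2 ^ t with hm'
  have h2t : 2 ^ t ∣ m := Nat.ordProj_dvd m 2
  have hmm : 2 ^ t * m' = m := Nat.ordProj_mul_ordCompl_eq_self m 2
  have hm'dvd : m' ∣ m := ⟨2 ^ t, by rw [← hmm]; ring⟩
  let c' : ℕ → ℕ := fun i => if i = 0 then 1 else Nat.gcd m' (2 ^ i - 1)
  have hc'dvd : ∀ i, c' i ∣ m' := by
    intro i
    simp only [c']
    split_ifs
    · exact one_dvd _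
    · exact Nat.gcd_dvd_left _ _
  let b : Fin ((n + 3) / 2) → ℕ := fun j =>
    if (j : ℕ) = 0 then 2 ^ t
    else Nat.lcm (Nat.gcd m' (2 ^ (n - ((j : ℕ) - 1)) - 1)) (c' ((j : ℕ) - 1))
  have hb0 : ∀ j : Fin ((n + 3) / 2), (j : ℕ) = 0 → b j = 2 ^ t := by
    intro j hj
    simp only [b, hj, if_true]
  have hb1 : ∀ j : Fin ((n + 3) / 2), (j : ℕ) ≠ 0 →
      b j = Nat.lcm (Nat.gcd m' (2 ^ (n - ((j : ℕ) - 1)) - 1)) (c' ((j : ℕ) - 1)) := by
    intro j hj
    simp only [b, hj, if_false]
  have hlen : 2 ≤ (n + 3) / 2 := by omega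
  refine ⟨b, ?_, ?_⟩
  · intro j
    by_cases hj : (j : ℕ) = 0
    · rw [hb0 j hj]
      by_cases ht0 : t = 0
      · rw [ht0, pow_zero]; exact h1
      · obtain ⟨i, hi, hd⟩ := exists_prime_pow_dvd_of_dvd_lcm s a hapos 2 t Nat.prime_two
          (Nat.pos_of_ne_zero ht0) h2t
        exact hdvd _ (ha i hi) _ hd
    · rw [hb1 j hj]
      have hjlt := j.isLt
      apply hblk (n - ((j : ℕ) - 1)) ((j : ℕ) - 1)
      · omega
      · omega
      · exact Nat.gcd_dvd_right _ _
      · by_cases hi0 : (j : ℕ) - 1 = 0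
        · left
          simp only [c', hi0, if_true]
        · right
          refine ⟨by omega, ?_⟩
          simp only [c', hi0, if_false]
          exact Nat.gcd_dvd_right _ _
  · apply Nat.dvd_antisymm
    · apply Finset.lcm_dvd
      intro j _
      by_cases hj : (j : ℕ) = 0
      · rw [hb0 j hj]; exact h2t
      · rw [hb1 j hj]
        exact Nat.lcm_dvd ((Nat.gcd_dvd_left _ _).trans hm'dvd) ((hc'dvd _).trans hm'dvd)
    · rw [Nat.dvd_iff_prime_pow_dvd_dvd]
      intro p k hp hpk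
      by_cases hk0 : k = 0
      · rw [hk0, pow_zero]; exact one_dvd _
      have hkpos : 0 < k := Nat.pos_of_ne_zero hk0
      by_cases hp2 : p = 2
      · subst hp2
        have hkt : k ≤ t := (Nat.prime_two.pow_dvd_iff_le_factorization hm0).mp hpk
        have h0 : (2 : ℕ) ^ k ∣ b ⟨0, by omega⟩ := by
          rw [hb0 _ rfl]
          exact pow_dvd_pow 2 hkt
        exact h0.trans (Finset.dvd_lcm (Finset.mem_univ _))
      · obtain ⟨i, hi, hd⟩ := exists_prime_pow_dvd_of_dvd_lcm s a hapos p k hp hkpos hpk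
        have hS : p ^ k ∈ S := hdvd _ (ha i hi) _ hd
        obtain ⟨e, he1, hen, hde⟩ := hodd p k hp hp2 hkpos hS
        have hcop : Nat.Coprime (p ^ k) (2 ^ t) :=
          Nat.Coprime.pow _ _ ((Nat.coprime_primes hp Nat.prime_two).mpr hp2)
        have hpm' : p ^ k ∣ m' := by
          apply hcop.dvd_of_dvd_mul_left
          rw [hmm]; exact hpk
        rcases Nat.lt_trichotomy (2 * e) n with hlt | heq | hgt
        · -- small block `e`
          have hjlt : e + 1 < (n + 3) / 2 := by omega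
          have hbj : p ^ k ∣ b ⟨e + 1, hjlt⟩ := by
            rw [hb1 _ (by simp)]
            apply Dvd.dvd.trans _ (Nat.dvd_lcm_right _ _)
            have he0 : e + 1 - 1 ≠ 0 := by omega
            simp only [c', he0, if_false]
            have : e + 1 - 1 = e := by omega
            rw [this]
            exact Nat.dvd_gcd hpm' hde
          exact hbj.trans (Finset.dvd_lcm (Finset.mem_univ _))
        · -- `2 e = n`
          have hjlt : 1 < (n + 3) / 2 := by omega
          have hbj : p ^ k ∣ b ⟨1, hjlt⟩ := by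
            rw [hb1 _ (by simp)]
            apply Dvd.dvd.trans _ (Nat.dvd_lcm_left _ _)
            have : n - (1 - 1) = 2 * e := by omega
            simp only [this]
            apply Nat.dvd_gcd hpm'
            have h3 : 2 ^ e - 1 ∣ (2 ^ e) ^ 2 - 1 ^ 2 := Nat.sub_dvd_pow_sub_pow _ _ _
            rw [one_pow, ← pow_mul, mul_comm] at h3
            exact hde.trans h3
          exact hbj.trans (Finset.dvd_lcm (Finset.mem_univ _))
        · -- big block `e`
          have hjlt : n - e + 1 < (n + 3) / 2 := by omega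
          have hbj : p ^ k ∣ b ⟨n - e + 1, hjlt⟩ := by
            rw [hb1 _ (by simp)]
            apply Dvd.dvd.trans _ (Nat.dvd_lcm_left _ _)
            have : n - (n - e + 1 - 1) = e := by omega
            simp only [this]
            exact Nat.dvd_gcd hpm' hde
          exact hbj.trans (Finset.dvd_lcm (Finset.mem_univ _))

end Cfsg.Agent.Helper42.SpecNum
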