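import Mathlib

/-!
# Orders of odd prime power elements of `GL_n(2)`

If a matrix over the field with two elements has odd prime power order `q`, then
`q ∣ 2 ^ e - 1` for some `1 ≤ e ≤ n`.
-/

set_option autoImplicit false

namespace Cfsg.Agent.Helper42.SpecOrb

open Function

/-- A self-map all of whose points in an invariant finite set have exact period `q` has
`q ∣ card`. -/
theorem dvd_card_of_free {V : Type*} [DecidableEq V] (T : V → V) (q : ℕ) (hq : 0 < q) :
    ∀ s : Finset V, (∀ x ∈ s, T x ∈ s) → (∀ x ∈ s, T^[q] x = x) →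
      (∀ x ∈ s, ∀ i, 0 < i → i < q → T^[i] x ≠ x) → q ∣ s.card := by
  intro s
  induction' hc : s.card using Nat.strong_induction_on with N ih generalizing s
  intro hcl hper hfree
  rcases s.eq_empty_or_nonempty with rfl | ⟨x, hx⟩
  · simp at hc; subst hc; exact dvd_zero _
  have hiter : ∀ i, ∀ y ∈ s, T^[i] y ∈ s := by
    intro i
    induction i with
    | zero => intro y hy; simpa using hy
    | succ i ihi =>
      intro y hy
      rw [Function.iterate_succ_apply']
      exact hcl _ (ihi y hy)
  set O := (Finset.range q).image (fun i => T^[i] x) with hO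
  have hOs : O ⊆ s := by
    intro y hy
    rw [hO, Finset.mem_image] at hy
    obtain ⟨i, _, rfl⟩ := hy
    exact hiter i x hx
  have hinj : ∀ i j, i < j → j < q → T^[i] x ≠ T^[j] x := by
    intro i j hij hjq h
    have h2 : T^[q - j + i] x = x := by
      rw [Function.iterate_add_apply, h, ← Function.iterate_add_apply]
      have : q - j + j = q := by omega
      rw [this]; exact hper x hx
    exact hfree x hx (q - j + i) (by omega) (by omega) h2
  have hOcard : O.card = q := by
    rw [hO, Finset.card_image_of_injOn, Finset.card_range]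
    intro i hi j hj hij
    simp only [Finset.coe_range, Set.mem_Iio] at hi hj
    rcases Nat.lt_trichotomy i j with h | h | h
    · exact absurd hij (hinj i j h hj)
    · exact h
    · exact absurd hij.symm (hinj j i h hi)
  set s' := s \ O with hs'
  have hs's : s' ⊆ s := Finset.sdiff_subset
  have hcard : s'.card + O.card = s.card := Finset.card_sdiff_add_card_eq_card hOs
  have hlt : s'.card < N := by omega
  have hcl' : ∀ y ∈ s', T y ∈ s' := by
    intro y hy
    rw [hs', Finset.mem_sdiff] at hy ⊢
    refine ⟨hcl y hy.1, ?_⟩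
    intro hTy
    apply hy.2
    rw [hO, Finset.mem_image] at hTy ⊢
    obtain ⟨i, hi, hiy⟩ := hTy
    rw [Finset.mem_range] at hi
    have hy1 : y = T^[q - 1] (T y) := by
      rw [← Function.iterate_succ_apply]
      have : (q - 1).succ = q := by omega
      rw [this]; exact (hper y hy.1).symm
    rcases Nat.eq_zero_or_pos i with h0 | hpos
    · subst h0
      refine ⟨q - 1, Finset.mem_range.mpr (by omega), ?_⟩
      rw [hy1, ← hiy]; rfl
    · refine ⟨i - 1, Finset.mem_range.mpr (by omega), ?_⟩
      rw [hy1, ← hiy, ← Function.iterate_add_apply]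
      have : q - 1 + i = q + (i - 1) := by omega
      rw [this, Function.iterate_add_apply]
      exact (hper _ (hiter (i - 1) x hx)).symm
  have := ih s'.card hlt s' rfl hcl' (fun y hy => hper y (hs's hy))
    (fun y hy => hfree y (hs's hy))
  rw [← hc, ← hcard, hOcard]
  exact Dvd.dvd.add this (dvd_refl q)

open Matrix in
/-- A matrix over the field with two elements of odd prime power order `r ^ j` forces
`r ^ j ∣ 2 ^ e - 1` for some `1 ≤ e ≤ n`. -/
theorem exists_dvd_two_pow_sub_one {F : Type*} [Field F] [Fintype F]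
    (hF : Fintype.card F = 2) (n : ℕ) (A : Matrix (Fin n) (Fin n) F) (r j : ℕ)
    (hr : r.Prime) (hr2 : r ≠ 2) (hj : 0 < j) (hA : orderOf A = r ^ j) :
    ∃ e, 1 ≤ e ∧ e ≤ n ∧ r ^ j ∣ 2 ^ e - 1 := by
  classical
  set q := r ^ j with hq
  have hqpos : 0 < q := pow_pos hr.pos j
  have hAq : A ^ q = 1 := by rw [← hA]; exact pow_orderOf_eq_one A
  have h2F : (2 : F) = 0 := by
    have := Nat.cast_card_eq_zero F
    rw [hF] at this
    exact_mod_cast this
  have hrF : (r : F) = 1 := by
    rcases hr.eq_two_or_odd' with h | ⟨k, hk⟩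
    · exact absurd h hr2
    · rw [hk]; push_cast; rw [h2F]; ring
  set H := A ^ (r ^ (j - 1)) with hH
  have hH1 : H ≠ 1 := by
    apply pow_ne_one_of_lt_orderOf (pow_pos hr.pos _).ne'
    rw [hA]
    exact Nat.pow_lt_pow_right hr.one_lt (by omega)
  have hHr : H ^ r = 1 := by
    rw [hH, ← pow_mul, ← pow_succ]
    have : j - 1 + 1 = j := by omega
    rw [this]; exact hAq
  set Nm := ∑ i ∈ Finset.range r, H ^ i with hNm
  have hNmH : Nm * (H - 1) = 0 := by rw [hNm, geom_sum_mul, hHr, sub_self]
  have hcomm : Nm * A = A * Nm := by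
    have : Commute A Nm := by
      rw [hNm]
      apply Commute.sum_right
      intro i _
      exact ((Commute.refl A).pow_right _).pow_right _
    exact this.eq.symm
  let T : (Fin n → F) → (Fin n → F) := fun v => A *ᵥ v
  have hT : ∀ i v, T^[i] v = (A ^ i) *ᵥ v := by
    intro i
    induction i with
    | zero => intro v; simp
    | succ i ih =>
      intro v
      rw [Function.iterate_succ_apply', ih, pow_succ']
      simp only [T, Matrix.mulVec_mulVec]
  have hper : ∀ v, T^[q] v = v := by
    intro v; rw [hT, hAq, Matrix.one_mulVec]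
  set s := Finset.univ.filter (fun v : Fin n → F => Nm *ᵥ v = 0 ∧ v ≠ 0) with hs
  have hsum : ∀ (v : Fin n → F), H *ᵥ v = v → ∀ k : ℕ,
      (∑ i ∈ Finset.range k, H ^ i) *ᵥ v = (k : F) • v := by
    intro v hv k
    have hpow : ∀ i : ℕ, (H ^ i) *ᵥ v = v := by
      intro i
      induction i with
      | zero => simp
      | succ i ih => rw [pow_succ, ← Matrix.mulVec_mulVec, hv, ih]
    induction k with
    | zero => simp
    | succ k ih =>
      rw [Finset.sum_range_succ, Matrix.add_mulVec, ih, hpow, Nat.cast_succ, add_smul, one_smul]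
  have hcl : ∀ v ∈ s, T v ∈ s := by
    intro v hv
    rw [hs, Finset.mem_filter] at hv ⊢
    refine ⟨Finset.mem_univ _, ?_, ?_⟩
    · simp only [T]
      rw [Matrix.mulVec_mulVec, hcomm, ← Matrix.mulVec_mulVec, hv.2.1, Matrix.mulVec_zero]
    · intro h0
      apply hv.2.2
      have h1 : (A ^ q) *ᵥ v = v := by rw [hAq, Matrix.one_mulVec]
      have h2 : q = (q - 1) + 1 := by omega
      rw [h2, pow_succ, ← Matrix.mulVec_mulVec] at h1
      simp only [T] at h0
      rw [h0, Matrix.mulVec_zero] at h1
      exact h1.symm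
  have hfree : ∀ v ∈ s, ∀ i, 0 < i → i < q → T^[i] v ≠ v := by
    intro v hv i hi hiq hfix
    rw [hs, Finset.mem_filter] at hv
    have hpi : Function.IsPeriodicPt T i v := hfix
    have hpq : Function.IsPeriodicPt T q v := hper v
    set d₀ := Function.minimalPeriod T v with hd₀
    have hdi : d₀ ∣ i := hpi.minimalPeriod_dvd
    have hdq : d₀ ∣ q := hpq.minimalPeriod_dvd
    have hdle : d₀ ≤ i := Nat.le_of_dvd hi hdi
    obtain ⟨l, hlj, hl⟩ := (Nat.dvd_prime_pow hr).mp hdq
    have hlj' : l < j := by
      rcases Nat.lt_or_ge l j with h | h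
      · exact h
      · have : l = j := le_antisymm hlj h
        rw [this] at hl
        omega
    have hdvd : d₀ ∣ r ^ (j - 1) := by
      rw [hl]; exact pow_dvd_pow r (by omega)
    have hpH : Function.IsPeriodicPt T (r ^ (j - 1)) v :=
      (Function.isPeriodicPt_minimalPeriod T v).trans_dvd hdvd
    have hHv : H *ᵥ v = v := by
      have := hT (r ^ (j - 1)) v
      rw [← hH] at this
      rw [← this]; exact hpH
    have := hsum v hHv r
    rw [← hNm, hv.2.1, hrF, one_smul] at this
    exact hv.2.2 this.symm
  have hdvd : q ∣ s.card :=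
    dvd_card_of_free T q hqpos s hcl (fun v _ => hper v) hfree
  -- nonempty
  have hne : s.Nonempty := by
    have : ∃ v : Fin n → F, H *ᵥ v ≠ v := by
      by_contra hcon
      push Not at hcon
      apply hH1
      apply Matrix.mulVec_injective
      funext v
      rw [hcon v, Matrix.one_mulVec]
    obtain ⟨v, hv⟩ := this
    refine ⟨H *ᵥ v - v, ?_⟩
    rw [hs, Finset.mem_filter]
    refine ⟨Finset.mem_univ _, ?_, sub_ne_zero.mpr hv⟩
    have h1 : (Nm * (H - 1)) *ᵥ v = 0 := by rw [hNmH, Matrix.zero_mulVec]
    rw [← Matrix.mulVec_mulVec, Matrix.sub_mulVec, Matrix.one_mulVec] at h1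
    exact h1
  -- cardinality
  set K : Submodule F (Fin n → F) := LinearMap.ker (Matrix.mulVecLin Nm) with hK
  have hmemK : ∀ v : Fin n → F, v ∈ K ↔ Nm *ᵥ v = 0 := by
    intro v
    rw [hK, LinearMap.mem_ker, Matrix.mulVecLin_apply]
  set d := Module.finrank F K with hd
  have hcardK : Nat.card K = 2 ^ d := by
    rw [Module.natCard_eq_pow_finrank (K := F) (V := K), Nat.card_eq_fintype_card, hF]
  have hfilt : (Finset.univ.filter (fun v : Fin n → F => v ∈ K)).card = 2 ^ d := by
    rw [← hcardK, Nat.card_eq_fintype_card, Fintype.card_subtype]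
  have hs2 : s = (Finset.univ.filter (fun v : Fin n → F => v ∈ K)).erase 0 := by
    ext v
    simp only [hs, Finset.mem_filter, Finset.mem_univ, true_and, Finset.mem_erase, hmemK]
    tauto
  have hscard : s.card = 2 ^ d - 1 := by
    rw [hs2, Finset.card_erase_of_mem, hfilt]
    simp only [Finset.mem_filter, Finset.mem_univ, true_and]
    exact K.zero_mem
  have hdn : d ≤ n := by
    have := Submodule.finrank_le K
    rw [Module.finrank_fin_fun] at this
    exact this
  have hd1 : 1 ≤ d := by
    have hpos : 0 < s.card := Finset.card_pos.mpr hne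
    rw [hscard] at hpos
    by_contra hcon
    have : d = 0 := by omega
    rw [this] at hpos
    simp at hpos
  exact ⟨d, hd1, hdn, hscard ▸ hdvd⟩

end Cfsg.Agent.Helper42.SpecOrb
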