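import Mathlib

/-!
# Singer-type elements and block sums of matrices over the field with two elements
-/

set_option autoImplicit false

namespace Cfsg.Agent.Helper42.SpecSinger

/-- The block diagonal embedding as a monoid homomorphism. -/
def blockHom (F : Type*) [Field F] (a b : ℕ) :
    Matrix (Fin a) (Fin a) F × Matrix (Fin b) (Fin b) F →*
      Matrix (Fin a ⊕ Fin b) (Fin a ⊕ Fin b) F where
  toFun p := Matrix.fromBlocks p.1 0 0 p.2
  map_one' := Matrix.fromBlocks_one
  map_mul' p q := by simp [Matrix.fromBlocks_multiply]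

theorem blockHom_injective (F : Type*) [Field F] (a b : ℕ) :
    Function.Injective (blockHom F a b) := by
  intro p q h
  simp only [blockHom, MonoidHom.coe_mk, OneHom.coe_mk] at h
  rw [Matrix.fromBlocks_inj] at h
  exact Prod.ext h.1 h.2.2.2

/-- A block sum realises the lcm of the orders. -/
theorem exists_orderOf_lcm {F : Type*} [Field F] (a b n : ℕ) (h : a + b = n)
    (A : Matrix (Fin a) (Fin a) F) (B : Matrix (Fin b) (Fin b) F) :
    ∃ C : Matrix (Fin n) (Fin n) F, orderOf C = Nat.lcm (orderOf A) (orderOf B) := by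
  subst h
  let φ := (Matrix.reindexAlgEquiv F F (finSumFinEquiv (m := a) (n := b)))
  refine ⟨φ (blockHom F a b (A, B)), ?_⟩
  have h1 : orderOf (φ (blockHom F a b (A, B))) = orderOf (blockHom F a b (A, B)) :=
    orderOf_injective (MonoidHomClass.toMonoidHom φ) φ.injective _
  rw [h1, orderOf_injective (blockHom F a b) (blockHom_injective F a b), Prod.orderOf]

/-- Singer-type elements: over the field with two elements, every divisor of `2 ^ e - 1` is the
order of an `e × e` matrix. -/
theorem exists_orderOf_eq_of_dvd {F : Type*} [Field F] [Fintype F] (hF : Fintype.card F = 2)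
    (e : ℕ) (he : 1 ≤ e) (c : ℕ) (hc : c ∣ 2 ^ e - 1) :
    ∃ B : Matrix (Fin e) (Fin e) F, orderOf B = c := by
  classical
  have : Fact (Nat.Prime 2) := ⟨Nat.prime_two⟩
  let K := GaloisField 2 e
  have hcardK : Nat.card K = 2 ^ e := GaloisField.card 2 e (by omega)
  have hpos : 0 < 2 ^ e - 1 := by
    have : 2 ≤ 2 ^ e := by
      calc 2 = 2 ^ 1 := by norm_num
        _ ≤ 2 ^ e := Nat.pow_le_pow_right (by norm_num) he
    omega
  have hcardU : Nat.card Kˣ = 2 ^ e - 1 := by rw [Nat.card_units, hcardK]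
  obtain ⟨ζ, hζ⟩ := IsCyclic.exists_generator (α := Kˣ)
  have hordζ : orderOf ζ = 2 ^ e - 1 := by
    rw [orderOf_eq_card_of_forall_mem_zpowers hζ, hcardU]
  have hc0 : c ≠ 0 := by
    rintro rfl
    rw [zero_dvd_iff] at hc
    omega
  set k := (2 ^ e - 1) / c with hk
  have hkc : k * c = 2 ^ e - 1 := Nat.div_mul_cancel hc
  have hk0 : k ≠ 0 := by
    rintro h0
    rw [h0, zero_mul] at hkc
    omega
  have hkd : k ∣ orderOf ζ := by rw [hordζ]; exact ⟨c, hkc.symm⟩
  have hordη : orderOf (ζ ^ k) = c := by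
    rw [orderOf_pow_of_dvd hk0 hkd, hordζ, ← hkc]
    exact Nat.mul_div_cancel_left c (Nat.pos_of_ne_zero hk0)
  -- algebra structure
  let ψ : F →+* K := (algebraMap (ZMod 2) K).comp
    (ZMod.ringEquivOfPrime F Nat.prime_two hF).symm.toRingHom
  let _ : Algebra F K := ψ.toAlgebra
  have hfin : Module.finrank F K = e := by
    have h1 := Module.natCard_eq_pow_finrank (K := F) (V := K)
    rw [hcardK, Nat.card_eq_fintype_card, hF] at h1
    exact (Nat.pow_right_injective (le_refl 2) h1).symm
  let b : Module.Basis (Fin e) F K := Module.finBasisOfFinrankEq F K hfin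
  refine ⟨Algebra.leftMulMatrix b ((ζ ^ k : Kˣ) : K), ?_⟩
  have h2 : orderOf (Algebra.leftMulMatrix b ((ζ ^ k : Kˣ) : K)) = orderOf ((ζ ^ k : Kˣ) : K) :=
    orderOf_injective (MonoidHomClass.toMonoidHom (Algebra.leftMulMatrix b))
      (Algebra.leftMulMatrix_injective b) _
  rw [h2, orderOf_units, hordη]

end Cfsg.Agent.Helper42.SpecSinger
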