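import Mathlib
import Cfsg.Agent.Helper42.SpecNum
import Cfsg.Agent.Helper42.SpecOrb
import Cfsg.Agent.Helper42.SpecSinger

/-!
# Element orders of `PSL_n(2)` and of its direct powers
-/

set_option autoImplicit false

namespace Cfsg.Agent.Helper42.SpecPSL

open Matrix

theorem eq_zero_or_eq_one {F : Type*} [Field F] [Fintype F] (hF : Fintype.card F = 2) (x : F) :
    x = 0 ∨ x = 1 := by
  classical
  have h : ({0, 1} : Finset F) = Finset.univ := by
    apply Finset.eq_univ_of_card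
    rw [hF, Finset.card_pair zero_ne_one]
  have := Finset.mem_univ x
  rw [← h] at this
  simpa using this

/-- The set of positive orders of `n × n` matrices over `F`. -/
def ordSet (F : Type*) [Field F] (n : ℕ) : Set ℕ :=
  {c | 0 < c ∧ ∃ A : Matrix (Fin n) (Fin n) F, orderOf A = c}

theorem one_mem_ordSet (F : Type*) [Field F] (n : ℕ) : 1 ∈ ordSet F n :=
  ⟨Nat.one_pos, 1, orderOf_one⟩

theorem dvd_mem_ordSet {F : Type*} [Field F] {n : ℕ} {a : ℕ} (ha : a ∈ ordSet F n) (b : ℕ)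
    (hb : b ∣ a) : b ∈ ordSet F n := by
  obtain ⟨hpos, A, hA⟩ := ha
  have hb0 : b ≠ 0 := by
    rintro rfl
    rw [zero_dvd_iff] at hb
    omega
  set k := a / b with hk
  have hkb : k * b = a := Nat.div_mul_cancel hb
  have hk0 : k ≠ 0 := by
    rintro h0
    rw [h0, zero_mul] at hkb
    omega
  refine ⟨Nat.pos_of_ne_zero hb0, A ^ k, ?_⟩
  rw [orderOf_pow_of_dvd hk0 (by rw [hA]; exact ⟨b, hkb.symm⟩), hA, ← hkb]
  exact Nat.mul_div_cancel_left b (Nat.pos_of_ne_zero hk0)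

theorem odd_mem_ordSet {F : Type*} [Field F] [Fintype F] (hF : Fintype.card F = 2) {n : ℕ}
    (r j : ℕ) (hr : r.Prime) (hr2 : r ≠ 2) (hj : 0 < j) (h : r ^ j ∈ ordSet F n) :
    ∃ e, 1 ≤ e ∧ e ≤ n ∧ r ^ j ∣ 2 ^ e - 1 := by
  obtain ⟨_, A, hA⟩ := h
  exact SpecOrb.exists_dvd_two_pow_sub_one hF n A r j hr hr2 hj hA

theorem blk_mem_ordSet {F : Type*} [Field F] [Fintype F] (hF : Fintype.card F = 2) {n : ℕ}
    (e e' c c' : ℕ) (he : 1 ≤ e) (hee : e + e' = n) (hc : c ∣ 2 ^ e - 1)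
    (hc' : c' = 1 ∨ (1 ≤ e' ∧ c' ∣ 2 ^ e' - 1)) : Nat.lcm c c' ∈ ordSet F n := by
  obtain ⟨B, hB⟩ := SpecSinger.exists_orderOf_eq_of_dvd hF e he c hc
  have hB' : ∃ B' : Matrix (Fin e') (Fin e') F, orderOf B' = c' := by
    rcases hc' with rfl | ⟨he', hd⟩
    · exact ⟨1, orderOf_one⟩
    · exact SpecSinger.exists_orderOf_eq_of_dvd hF e' he' c' hd
  obtain ⟨B', hB'⟩ := hB'
  obtain ⟨C, hC⟩ := SpecSinger.exists_orderOf_lcm e e' n hee B B'
  have hpos : ∀ e₀ : ℕ, 0 < 2 ^ e₀ - 1 ∨ e₀ = 0 := by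
    intro e₀
    rcases Nat.eq_zero_or_pos e₀ with h | h
    · right; exact h
    · left
      have : 2 ≤ 2 ^ e₀ := by
        calc 2 = 2 ^ 1 := by norm_num
          _ ≤ 2 ^ e₀ := Nat.pow_le_pow_right (by norm_num) h
      omega
  have hc0 : 0 < c := by
    rcases hpos e with h | h
    · exact Nat.pos_of_dvd_of_pos hc h
    · omega
  have hc'0 : 0 < c' := by
    rcases hc' with rfl | ⟨he', hd⟩
    · exact Nat.one_pos
    · rcases hpos e' with h | h
      · exact Nat.pos_of_dvd_of_pos hd h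
      · omega
  refine ⟨Nat.lcm_pos hc0 hc'0, C, ?_⟩
  rw [hC, hB, hB']

/-- The centre of `SL_n(2)` is trivial. -/
theorem center_eq_bot {F : Type*} [Field F] [Fintype F] (hF : Fintype.card F = 2) (n : ℕ)
    (hn : 1 ≤ n) : Subgroup.center (Matrix.SpecialLinearGroup (Fin n) F) = ⊥ := by
  rw [eq_bot_iff]
  intro A hA
  rw [Matrix.SpecialLinearGroup.mem_center_iff] at hA
  obtain ⟨r, hr, hrA⟩ := hA
  rw [Subgroup.mem_bot]
  rcases eq_zero_or_eq_one hF r with rfl | rfl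
  · rw [Fintype.card_fin, zero_pow (by omega)] at hr
    exact absurd hr zero_ne_one
  · apply Subtype.ext
    rw [← hrA]
    simp

theorem orderOf_coe_SL {F : Type*} [Field F] {n : ℕ} (A : Matrix.SpecialLinearGroup (Fin n) F) :
    orderOf (A : Matrix (Fin n) (Fin n) F) = orderOf A := by
  rw [orderOf_eq_orderOf_iff]
  intro m
  rw [← Matrix.SpecialLinearGroup.coe_pow]
  constructor
  · intro h
    apply Subtype.ext
    rw [h]; rfl
  · intro h
    rw [h]; rfl

theorem orderOf_mk_PSL {F : Type*} [Field F] [Fintype F] (hF : Fintype.card F = 2) (n : ℕ)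
    (hn : 1 ≤ n) (A : Matrix.SpecialLinearGroup (Fin n) F) :
    orderOf ((QuotientGroup.mk A : Matrix.ProjectiveSpecialLinearGroup (Fin n) F)) = orderOf A := by
  have hinj : Function.Injective
      (QuotientGroup.mk' (Subgroup.center (Matrix.SpecialLinearGroup (Fin n) F))) := by
    rw [← MonoidHom.ker_eq_bot_iff, QuotientGroup.ker_mk', center_eq_bot hF n hn]
  exact orderOf_injective _ hinj A

theorem orderOf_mem_ordSet {F : Type*} [Field F] [Fintype F] (hF : Fintype.card F = 2) (n : ℕ)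
    (hn : 1 ≤ n) (x : Matrix.ProjectiveSpecialLinearGroup (Fin n) F) : orderOf x ∈ ordSet F n := by
  obtain ⟨A, rfl⟩ := QuotientGroup.mk_surjective x
  rw [orderOf_mk_PSL hF n hn A]
  exact ⟨orderOf_pos A, A, orderOf_coe_SL A⟩

theorem exists_orderOf_eq {F : Type*} [Field F] [Fintype F] (hF : Fintype.card F = 2) (n : ℕ)
    (hn : 1 ≤ n) (c : ℕ) (hc : c ∈ ordSet F n) :
    ∃ x : Matrix.ProjectiveSpecialLinearGroup (Fin n) F, orderOf x = c := by
  obtain ⟨hpos, A, hA⟩ := hc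
  have hAc : A ^ c = 1 := by rw [← hA]; exact pow_orderOf_eq_one A
  have hdet : A.det = 1 := by
    rcases eq_zero_or_eq_one hF A.det with h | h
    · have h1 : (A ^ c).det = 1 := by rw [hAc, det_one]
      rw [det_pow, h, zero_pow hpos.ne'] at h1
      exact absurd h1 zero_ne_one
    · exact h
  let B : Matrix.SpecialLinearGroup (Fin n) F := ⟨A, hdet⟩
  have hB : (B : Matrix (Fin n) (Fin n) F) = A := rfl
  refine ⟨QuotientGroup.mk B, ?_⟩
  rw [orderOf_mk_PSL hF n hn B, ← orderOf_coe_SL B, hB]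
  exact hA

/-- The reduction of lcm-families for `ordSet`. -/
theorem ordSet_reduce {F : Type*} [Field F] [Fintype F] (hF : Fintype.card F = 2) (n : ℕ)
    (hn : 1 ≤ n) {ι : Type*} (s : Finset ι) (a : ι → ℕ) (ha : ∀ i ∈ s, a i ∈ ordSet F n) :
    ∃ b : Fin ((n + 3) / 2) → ℕ, (∀ i, b i ∈ ordSet F n) ∧ Finset.univ.lcm b = s.lcm a :=
  SpecNum.lcm_family_reduce n hn (ordSet F n) (one_mem_ordSet F n) (fun _ h => h.1)
    (fun _ h b hb => dvd_mem_ordSet h b hb) (fun r j hr hr2 hj h => odd_mem_ordSet hF r j hr hr2 hj h)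
    (fun e e' c c' he hee hc hc' => blk_mem_ordSet hF e e' c c' he hee hc hc') s a ha

end Cfsg.Agent.Helper42.SpecPSL
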