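import Mathlib
import Cfsg.Agent.Helper42.StDefs

set_option autoImplicit false

/-! # Counting invariant complements via equivariant maps (helper42, for S2425) -/

namespace Cfsg.Agent.Helper42.StVal

open Submodule

variable {F M : Type*} [Field F] [AddCommGroup M] [Module F M]

theorem subtype_comp_restrict_eq (φ : Module.End F M) {S : Submodule F M}
    (hS : S ∈ φ.invtSubmodule) : S.subtype ∘ₗ φ.restrict hS = φ ∘ₗ S.subtype := by
  ext v
  rfl

/-- the kernel of an equivariant map is invariant -/
theorem ker_mem_invtSubmodule {N : Type*} [AddCommGroup N] [Module F N] {φ : Module.End F M}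
    {ψ : Module.End F N} {h : M →ₗ[F] N} (hh : h ∈ eqHom φ ψ) :
    LinearMap.ker h ∈ φ.invtSubmodule := by
  rw [Module.End.mem_invtSubmodule]
  intro v hv
  rw [Submodule.mem_comap, LinearMap.mem_ker]
  have := LinearMap.congr_fun (mem_eqHom.1 hh) v
  simp only [LinearMap.comp_apply] at this
  rw [this, LinearMap.mem_ker.1 hv, map_zero]

/-- the projection onto an invariant subspace along an invariant complement is equivariant -/
theorem projectionOnto_mem_eqHom (φ : Module.End F M) {S X : Submodule F M}
    (hS : S ∈ φ.invtSubmodule) (hX : X ∈ φ.invtSubmodule) (hc : IsCompl S X) :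
    S.projectionOnto X hc ∈ eqHom φ (φ.restrict hS) := by
  rw [mem_eqHom]
  ext v
  simp only [LinearMap.comp_apply]
  have hv : v = ((S.projectionOnto X hc v : S) : M) + (v - (S.projectionOnto X hc v : S)) := by
    abel
  have h2 : v - (S.projectionOnto X hc v : S) ∈ X := by
    have := sub_projection_mem hc v
    rwa [projection_apply] at this
  have h3 : φ (v - (S.projectionOnto X hc v : S)) ∈ X :=
    (Module.End.mem_invtSubmodule φ).1 hX h2
  have h4 : φ ((S.projectionOnto X hc v : S) : M) ∈ S :=
    (Module.End.mem_invtSubmodule φ).1 hS (S.projectionOnto X hc v).2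
  conv_lhs => rw [hv, map_add, map_add, projectionOnto_apply_of_mem_left hc h4,
    projectionOnto_apply_of_mem_right hc h3, add_zero]
  rfl

/-- invariant complements of an invariant subspace, counted by equivariant maps -/
theorem card_compl_mul [Finite M] (φ : Module.End F M) (hφ : φ.IsSemisimple) (S : Submodule F M)
    (hS : S ∈ φ.invtSubmodule) :
    Nat.card {X : Submodule F M // X ∈ φ.invtSubmodule ∧ IsCompl S X} *
        Nat.card (eqHom (φ.restrict hS) (φ.restrict hS)) =
      Nat.card (eqHom φ (φ.restrict hS)) := by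
  classical
  set ψ := φ.restrict hS with hψ
  -- restriction to S
  obtain ⟨r, hr⟩ : ∃ r : eqHom φ ψ →ₗ[F] eqHom ψ ψ,
      ∀ h : eqHom φ ψ, ((r h : eqHom ψ ψ) : S →ₗ[F] S) = h.1 ∘ₗ S.subtype := ⟨
    { toFun := fun h => ⟨h.1 ∘ₗ S.subtype, by
        rw [mem_eqHom, LinearMap.comp_assoc, subtype_comp_restrict_eq, ← LinearMap.comp_assoc,
          mem_eqHom.1 h.2, LinearMap.comp_assoc]⟩
      map_add' := fun a b => by
        apply Subtype.ext
        simp [LinearMap.add_comp]
      map_smul' := fun c a => by
        apply Subtype.ext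
        simp [LinearMap.smul_comp] }, fun h => rfl⟩
  -- a fixed invariant complement
  obtain ⟨X₀, hX₀⟩ := (Module.End.isSemisimple_iff'.1 hφ) ⟨S, hS⟩
  have hc₀ : IsCompl S X₀.1 := (Module.End.invtSubmodule.isCompl_iff φ).1 hX₀
  set π₀ := S.projectionOnto X₀.1 hc₀ with hπ₀
  have hπ₀mem : π₀ ∈ eqHom φ ψ := projectionOnto_mem_eqHom φ hS X₀.2 hc₀
  have hπ₀sub : π₀ ∘ₗ S.subtype = LinearMap.id := by
    ext v
    simp [hπ₀, projectionOnto_apply_left]
  -- a linear section of r
  obtain ⟨sec, hsec⟩ : ∃ sec : eqHom ψ ψ →ₗ[F] eqHom φ ψ,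
      ∀ e : eqHom ψ ψ, ((sec e : eqHom φ ψ) : M →ₗ[F] S) = e.1 ∘ₗ π₀ := ⟨
    { toFun := fun e => ⟨e.1 ∘ₗ π₀, by
        rw [mem_eqHom, LinearMap.comp_assoc, mem_eqHom.1 hπ₀mem, ← LinearMap.comp_assoc,
          mem_eqHom.1 e.2, LinearMap.comp_assoc]⟩
      map_add' := fun a b => by
        apply Subtype.ext
        simp [LinearMap.add_comp]
      map_smul' := fun c a => by
        apply Subtype.ext
        simp [LinearMap.smul_comp] }, fun e => rfl⟩
  have hrsec : ∀ e, r (sec e) = e := by
    intro e
    apply Subtype.ext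
    rw [hr, hsec, LinearMap.comp_assoc, hπ₀sub, LinearMap.comp_id]
  have hcard : Nat.card (eqHom φ ψ) = Nat.card (LinearMap.ker r) * Nat.card (eqHom ψ ψ) := by
    rw [← Nat.card_prod]
    refine Nat.card_congr
      { toFun := fun h => (⟨h - sec (r h), by
          rw [LinearMap.mem_ker]
          exact (map_sub r h (sec (r h))).trans (by rw [hrsec, sub_self])⟩, r h)
        invFun := fun ke => ke.1.1 + sec ke.2
        left_inv := fun h => by
          exact sub_add_cancel h (sec (r h))
        right_inv := fun ke => by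
          obtain ⟨⟨k, hk⟩, e⟩ := ke
          have hk' : r k = 0 := LinearMap.mem_ker.1 hk
          apply Prod.ext
          · apply Subtype.ext
            have h1 : r (k + sec e) = e := by rw [map_add, hrsec, hk', zero_add]
            change k + sec e - sec (r (k + sec e)) = k
            rw [h1]
            exact add_sub_cancel_right k (sec e)
          · change r (k + sec e) = e
            rw [map_add, hrsec, hk', zero_add] }
  rw [hcard]
  congr 1
  -- complements ↔ kernel of r
  refine Nat.card_congr (Equiv.ofBijective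
    (fun X => ⟨⟨S.projectionOnto X.1 X.2.2 - π₀,
      Submodule.sub_mem _ (projectionOnto_mem_eqHom φ hS X.2.1 X.2.2) hπ₀mem⟩, ?_⟩) ⟨?_, ?_⟩)
  · rw [LinearMap.mem_ker]
    apply Subtype.ext
    rw [hr]
    change (S.projectionOnto X.1 X.2.2 - π₀) ∘ₗ S.subtype = 0
    rw [LinearMap.sub_comp, hπ₀sub]
    ext v
    simp [projectionOnto_apply_left]
  · intro X X' h
    have h1 := congrArg (fun k => (k.1.1 : M →ₗ[F] S)) h
    simp only [sub_left_inj] at h1
    apply Subtype.ext
    rw [← ker_projectionOnto X.2.2, ← ker_projectionOnto X'.2.2, h1]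
  · intro k
    have hk : k.1.1 ∘ₗ S.subtype = 0 := by
      have := LinearMap.mem_ker.1 k.2
      have h2 := congrArg (fun e : eqHom ψ ψ => (e : S →ₗ[F] S)) this
      simp only [hr] at h2
      exact h2
    set f : M →ₗ[F] S := k.1.1 + π₀ with hf
    have hfmem : f ∈ eqHom φ ψ := Submodule.add_mem _ k.1.2 hπ₀mem
    have hfid : ∀ x : S, f x = x := by
      intro x
      have h1 := LinearMap.congr_fun hk x
      have h2 := LinearMap.congr_fun hπ₀sub x
      simp only [LinearMap.comp_apply, Submodule.subtype_apply, LinearMap.zero_apply,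
        LinearMap.id_apply] at h1 h2
      rw [hf, LinearMap.add_apply, h1, h2, zero_add]
    refine ⟨⟨LinearMap.ker f, ker_mem_invtSubmodule hfmem, LinearMap.isCompl_of_proj hfid⟩, ?_⟩
    apply Subtype.ext
    apply Subtype.ext
    change S.projectionOnto (LinearMap.ker f) _ - π₀ = k.1.1
    rw [LinearMap.projectionOnto_of_proj f hfid, hf, add_sub_cancel_right]

end Cfsg.Agent.Helper42.StVal
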