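import Mathlib
import Cfsg.Prelude.Def_LinearParabolics
import Cfsg.Agent.Helper42.StFlagA

set_option autoImplicit false

/-! # Cosets of a parabolic subgroup of `GL_n` = flags (helper42, for S2425) -/

namespace Cfsg.Agent.Helper42.StVal

open Cfsg Finset Matrix
open scoped MatrixGroups

variable {n : ℕ} {F : Type*} [Field F]

/-- the linear map of a group element -/
def mv (g : GL (Fin n) F) : (Fin n → F) →ₗ[F] (Fin n → F) :=
  Matrix.mulVecLin (g : Matrix (Fin n) (Fin n) F)

theorem mv_apply (g : GL (Fin n) F) (v : Fin n → F) :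
    mv g v = (g : Matrix (Fin n) (Fin n) F) *ᵥ v := rfl

theorem mv_mul (g h : GL (Fin n) F) : mv (g * h) = mv g ∘ₗ mv h := by
  unfold mv
  rw [Matrix.GeneralLinearGroup.coe_mul, Matrix.mulVecLin_mul]

theorem mv_one : mv (1 : GL (Fin n) F) = LinearMap.id := by
  unfold mv
  rw [Matrix.GeneralLinearGroup.coe_one, Matrix.mulVecLin_one]

/-- image of a subspace under a group element -/
def ms (g : GL (Fin n) F) (W : Submodule F (Fin n → F)) : Submodule F (Fin n → F) := W.map (mv g)

theorem ms_mul (g h : GL (Fin n) F) (W : Submodule F (Fin n → F)) :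
    ms (g * h) W = ms g (ms h W) := by
  unfold ms
  rw [mv_mul, Submodule.map_comp]

theorem ms_one (W : Submodule F (Fin n → F)) : ms (1 : GL (Fin n) F) W = W := by
  unfold ms
  rw [mv_one, Submodule.map_id]

theorem ms_inv_ms (g : GL (Fin n) F) (W : Submodule F (Fin n → F)) : ms g⁻¹ (ms g W) = W := by
  rw [← ms_mul, inv_mul_cancel, ms_one]

theorem ms_ms_inv (g : GL (Fin n) F) (W : Submodule F (Fin n → F)) : ms g (ms g⁻¹ W) = W := by
  rw [← ms_mul, mul_inv_cancel, ms_one]

theorem ms_mono (g : GL (Fin n) F) {W W' : Submodule F (Fin n → F)} (h : W ≤ W') :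
    ms g W ≤ ms g W' := Submodule.map_mono h

theorem ms_le_iff (g : GL (Fin n) F) {W W' : Submodule F (Fin n → F)} :
    ms g W ≤ ms g W' ↔ W ≤ W' := by
  refine ⟨fun h => ?_, ms_mono g⟩
  have := ms_mono g⁻¹ h
  rwa [ms_inv_ms, ms_inv_ms] at this

theorem ms_injective (g : GL (Fin n) F) : Function.Injective (ms g) := by
  intro W W' h
  have := congrArg (ms g⁻¹) h
  rwa [ms_inv_ms, ms_inv_ms] at this

/-- the linear equivalence of a group element -/
def mvE (g : GL (Fin n) F) : (Fin n → F) ≃ₗ[F] (Fin n → F) :=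
  LinearEquiv.ofLinearMap (mv g) (mv g⁻¹)
    (by rw [← mv_mul, mul_inv_cancel, mv_one]) (by rw [← mv_mul, inv_mul_cancel, mv_one])

theorem finrank_ms (g : GL (Fin n) F) (W : Submodule F (Fin n → F)) :
    Module.finrank F (ms g W) = Module.finrank F W :=
  LinearEquiv.finrank_map_eq (mvE g) W

theorem stdSub_mono {s t : ℕ} (h : s ≤ t) : stdSub n F s ≤ stdSub n F t := by
  intro v hv i hi
  exact hv i (h.trans hi)

theorem finrank_stdSub {s : ℕ} (hs : s ≤ n) : Module.finrank F (stdSub n F s) = s := by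
  classical
  let f : (Fin n → F) →ₗ[F] ({i : Fin n // s ≤ i.val} → F) := LinearMap.funLeft F F Subtype.val
  have hker : LinearMap.ker f = stdSub n F s := by
    ext v
    rw [LinearMap.mem_ker, mem_stdSub]
    constructor
    · intro h i hi
      exact congrFun h ⟨i, hi⟩
    · intro h
      funext i
      exact h i.1 i.2
  have hsurj : Function.Surjective f :=
    LinearMap.funLeft_surjective_of_injective F F _ Subtype.val_injective
  have h1 := LinearMap.finrank_range_add_finrank_ker f
  rw [LinearMap.range_eq_top.2 hsurj, finrank_top, hker] at h1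
  simp only [Module.finrank_fintype_fun_eq_card, Fintype.card_fin] at h1
  have h2 : Fintype.card {i : Fin n // s ≤ i.val} = n - s := by
    rw [Fintype.card_subtype]
    have : (univ.filter fun i : Fin n => s ≤ i.val) = (univ.filter fun i : Fin n => i.val < s)ᶜ := by
      ext i; simp
    rw [this, card_compl, Fintype.card_fin]
    congr 1
    rw [← Fintype.card_subtype]
    have e : {i : Fin n // i.val < s} ≃ Fin s :=
      { toFun := fun i => ⟨i.1.val, i.2⟩
        invFun := fun j => ⟨⟨j.val, by omega⟩, j.2⟩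
        left_inv := fun i => rfl
        right_inv := fun j => rfl }
    rw [Fintype.card_congr e, Fintype.card_fin]
  omega

/-- the flag of a group element: images of the standard subspaces at the cut points -/
noncomputable def flagOf (μ : Fin n → ℕ) (g : GL (Fin n) F) : Finset (Submodule F (Fin n → F)) := by
  classical
  exact (cutSet μ).image fun s => ms g (stdSub n F s)

theorem mem_flagOf {μ : Fin n → ℕ} {g : GL (Fin n) F} {W : Submodule F (Fin n → F)} :
    W ∈ flagOf μ g ↔ ∃ s ∈ cutSet μ, ms g (stdSub n F s) = W := by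
  classical
  unfold flagOf
  rw [mem_image]

theorem mem_parabolicGL_iff_ms (μ : Fin n → ℕ) (g : GL (Fin n) F) :
    g ∈ parabolicGL n F μ ↔ ∀ s ∈ cutSet μ, ms g (stdSub n F s) ≤ stdSub n F s := by
  rw [mem_parabolicGL_iff]
  refine forall₂_congr fun s _ => ?_
  unfold ms
  rw [Submodule.map_le_iff_le_comap]
  rfl

theorem ms_eq_of_mem_parabolicGL {μ : Fin n → ℕ} {b : GL (Fin n) F} (hb : b ∈ parabolicGL n F μ)
    {s : ℕ} (hs : s ∈ cutSet μ) : ms b (stdSub n F s) = stdSub n F s := by
  refine le_antisymm ((mem_parabolicGL_iff_ms μ b).1 hb s hs) ?_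
  have h2 := (mem_parabolicGL_iff_ms μ b⁻¹).1 (inv_mem hb) s hs
  have := ms_mono b h2
  rwa [ms_ms_inv] at this

theorem flagOf_mul_of_mem {μ : Fin n → ℕ} (g : GL (Fin n) F) {b : GL (Fin n) F}
    (hb : b ∈ parabolicGL n F μ) : flagOf μ (g * b) = flagOf μ g := by
  ext W
  rw [mem_flagOf, mem_flagOf]
  refine exists_congr fun s => and_congr_right fun hs => ?_
  rw [ms_mul, ms_eq_of_mem_parabolicGL hb hs]

theorem lt_of_mem_cutSet {μ : Fin n → ℕ} {s : ℕ} (hs : s ∈ cutSet μ) : s < n :=
  (mem_cutSet.1 hs).2.2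

theorem finrank_of_mem_flagOf {μ : Fin n → ℕ} {g : GL (Fin n) F} {s : ℕ} (hs : s ∈ cutSet μ) :
    Module.finrank F (ms g (stdSub n F s)) = s := by
  rw [finrank_ms, finrank_stdSub (lt_of_mem_cutSet hs).le]

theorem mem_of_flagOf_eq {μ : Fin n → ℕ} {g h : GL (Fin n) F} (hgh : flagOf μ g = flagOf μ h) :
    g⁻¹ * h ∈ parabolicGL n F μ := by
  rw [mem_parabolicGL_iff_ms]
  intro s hs
  have h1 : ms h (stdSub n F s) ∈ flagOf μ g := by
    rw [hgh]; exact mem_flagOf.2 ⟨s, hs, rfl⟩
  obtain ⟨s', hs', he⟩ := mem_flagOf.1 h1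
  have h2 := congrArg (fun W : Submodule F (Fin n → F) => Module.finrank F W) he
  simp only [finrank_of_mem_flagOf hs', finrank_of_mem_flagOf hs] at h2
  subst h2
  rw [ms_mul, ← he, ms_inv_ms]

end Cfsg.Agent.Helper42.StVal
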