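import Mathlib
import Cfsg.Prelude.Def_LinearParabolics
import Cfsg.Agent.Helper42.StFlagB
import Cfsg.Agent.Helper79.StFlag

set_option autoImplicit false

/-! # Fixed points on cosets of a parabolic = invariant flags (helper42, for S2425) -/

namespace Cfsg.Agent.Helper42.StVal

open Cfsg Finset Matrix
open scoped MatrixGroups

variable {n : ℕ} {F : Type*} [Field F]

/-- invariant flags of type `μ` -/
def IsInvFlag (μ : Fin n → ℕ) (x : GL (Fin n) F) (C : Finset (Submodule F (Fin n → F))) : Prop :=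
  (∀ W ∈ C, W ∈ Module.End.invtSubmodule (mv x)) ∧ IsChain (· ≤ ·) (C : Set (Submodule F (Fin n → F))) ∧
    C.image (fun W : Submodule F (Fin n → F) => Module.finrank F W) = cutSet μ

theorem flagOf_isChain (μ : Fin n → ℕ) (g : GL (Fin n) F) :
    IsChain (· ≤ ·) (flagOf μ g : Set (Submodule F (Fin n → F))) := by
  intro W hW W' hW' _
  obtain ⟨s, -, rfl⟩ := mem_flagOf.1 hW
  obtain ⟨s', -, rfl⟩ := mem_flagOf.1 hW'
  rcases le_total s s' with h | h
  · exact Or.inl (ms_mono g (stdSub_mono h))
  · exact Or.inr (ms_mono g (stdSub_mono h))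

theorem flagOf_dims (μ : Fin n → ℕ) (g : GL (Fin n) F) :
    (flagOf μ g).image (fun W : Submodule F (Fin n → F) => Module.finrank F W) = cutSet μ := by
  ext s
  rw [mem_image]
  constructor
  · rintro ⟨W, hW, rfl⟩
    obtain ⟨s, hs, rfl⟩ := mem_flagOf.1 hW
    rwa [finrank_of_mem_flagOf hs]
  · intro hs
    exact ⟨_, mem_flagOf.2 ⟨s, hs, rfl⟩, finrank_of_mem_flagOf hs⟩

theorem flagOf_invt_iff (μ : Fin n → ℕ) (x g : GL (Fin n) F) :
    (∀ W ∈ flagOf μ g, W ∈ Module.End.invtSubmodule (mv x)) ↔ g⁻¹ * (x * g) ∈ parabolicGL n F μ := by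
  rw [mem_parabolicGL_iff_ms]
  constructor
  · intro h s hs
    have h1 := h _ (mem_flagOf.2 ⟨s, hs, rfl⟩)
    rw [Module.End.mem_invtSubmodule_iff_map_le] at h1
    have h2 : ms x (ms g (stdSub n F s)) ≤ ms g (stdSub n F s) := h1
    rw [ms_mul, ms_mul]
    have := ms_mono g⁻¹ h2
    rwa [ms_inv_ms] at this
  · intro h W hW
    obtain ⟨s, hs, rfl⟩ := mem_flagOf.1 hW
    rw [Module.End.mem_invtSubmodule_iff_map_le]
    change ms x (ms g (stdSub n F s)) ≤ ms g (stdSub n F s)
    have := ms_mono g (h s hs)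
    rwa [ms_mul, ms_mul, ms_ms_inv] at this

/-- the flag of a coset -/
noncomputable def flagOfQ (μ : Fin n → ℕ) (q : GL (Fin n) F ⧸ parabolicGL n F μ) :
    Finset (Submodule F (Fin n → F)) :=
  Quotient.liftOn' q (flagOf μ) (fun a b hab => by
    rw [QuotientGroup.leftRel_apply] at hab
    have := flagOf_mul_of_mem a hab
    rw [mul_inv_cancel_left] at this
    exact this.symm)

theorem flagOfQ_mk (μ : Fin n → ℕ) (g : GL (Fin n) F) :
    flagOfQ μ (g : GL (Fin n) F ⧸ parabolicGL n F μ) = flagOf μ g := rfl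

theorem flagOfQ_injective (μ : Fin n → ℕ) : Function.Injective (flagOfQ (F := F) μ) := by
  intro q q'
  induction q using QuotientGroup.induction_on with | _ g => ?_
  induction q' using QuotientGroup.induction_on with | _ h => ?_
  intro hgh
  rw [flagOfQ_mk, flagOfQ_mk] at hgh
  exact QuotientGroup.eq.2 (mem_of_flagOf_eq hgh)

theorem fixedBy_iff (μ : Fin n → ℕ) (x g : GL (Fin n) F) :
    (g : GL (Fin n) F ⧸ parabolicGL n F μ) ∈ MulAction.fixedBy (GL (Fin n) F ⧸ parabolicGL n F μ) x ↔
      ∀ W ∈ flagOf μ g, W ∈ Module.End.invtSubmodule (mv x) := by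
  rw [flagOf_invt_iff, MulAction.mem_fixedBy, MulAction.Quotient.smul_mk, QuotientGroup.eq]
  constructor
  · intro h
    have := inv_mem h
    rwa [_root_.mul_inv_rev, inv_inv] at this
  · intro h
    have := inv_mem h
    rwa [_root_.mul_inv_rev, inv_inv] at this

theorem exists_flagOf_eq [Finite F] (μ : Fin n → ℕ) (C : Finset (Submodule F (Fin n → F)))
    (hchain : IsChain (· ≤ ·) (C : Set (Submodule F (Fin n → F))))
    (hdims : C.image (fun W : Submodule F (Fin n → F) => Module.finrank F W) = cutSet μ) :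
    ∃ g : GL (Fin n) F, flagOf μ g = C := by
  classical
  set D := cutSet μ with hD
  set k := D.card with hk
  let emb : Fin k ↪o ℕ := D.orderEmbOfFin rfl
  have hemb : ∀ i, emb i ∈ D := fun i => D.orderEmbOfFin_mem rfl i
  have hex : ∀ i : Fin k, ∃ W ∈ C, Module.finrank F W = emb i := by
    intro i
    have := hemb i
    rw [← hdims, mem_image] at this
    exact this
  choose W' hW'C hW'dim using hex
  have hW'mono : Monotone W' := by
    intro i j hij
    rcases hchain.total (hW'C i) (hW'C j) with h | h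
    · exact h
    · have h1 := Submodule.finrank_mono h
      rw [hW'dim, hW'dim] at h1
      have h2 : j ≤ i := emb.le_iff_le.1 h1
      have : i = j := le_antisymm hij h2
      subst this
      exact le_rfl
  obtain ⟨e, he⟩ := Cfsg.Agent.Helper79.StFlag.exists_linearEquiv_map_flag (fun i : Fin k => stdSub n F (emb i)) W'
    (fun i j hij => stdSub_mono (emb.monotone hij)) hW'mono
    (fun i => by
      rw [hW'dim, finrank_stdSub (lt_of_mem_cutSet (hemb i)).le])
  -- the group element of e
  let g : GL (Fin n) F := Matrix.GeneralLinearGroup.toLin.symm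
    (LinearMap.GeneralLinearGroup.ofLinearEquiv e)
  have hg : mv g = (e : (Fin n → F) →ₗ[F] (Fin n → F)) := by
    have h1 : Matrix.GeneralLinearGroup.toLin g = LinearMap.GeneralLinearGroup.ofLinearEquiv e :=
      MulEquiv.apply_symm_apply _ _
    have h2 := Matrix.GeneralLinearGroup.coe_toLin (A := g)
    unfold mv
    rw [← h2, h1]
    rfl
  refine ⟨g, ?_⟩
  ext W
  rw [mem_flagOf]
  constructor
  · rintro ⟨s, hs, rfl⟩
    have : s ∈ Set.range emb := by
      rw [Finset.range_orderEmbOfFin]; exact hs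
    obtain ⟨i, rfl⟩ := this
    have := he i
    unfold ms
    rw [hg, this]
    exact hW'C i
  · intro hW
    have h1 : Module.finrank F W ∈ D := by
      rw [← hdims]; exact mem_image_of_mem _ hW
    have : Module.finrank F W ∈ Set.range emb := by
      rw [Finset.range_orderEmbOfFin]; exact h1
    obtain ⟨i, hi⟩ := this
    refine ⟨emb i, hemb i, ?_⟩
    have h2 := he i
    unfold ms
    rw [hg, h2]
    rcases hchain.total (hW'C i) hW with h | h
    · exact Submodule.eq_of_le_of_finrank_eq h (by rw [hW'dim, hi])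
    · exact (Submodule.eq_of_le_of_finrank_eq h (by rw [hW'dim, hi])).symm

/-- fixed cosets of a parabolic subgroup correspond to invariant flags -/
theorem card_fixedBy_parabolic [Finite F] (μ : Fin n → ℕ) (x : GL (Fin n) F) :
    Nat.card (MulAction.fixedBy (GL (Fin n) F ⧸ parabolicGL n F μ) x) =
      Nat.card {C : Finset (Submodule F (Fin n → F)) // IsInvFlag μ x C} := by
  refine Nat.card_congr (Equiv.ofBijective
    (fun q => ⟨flagOfQ μ q.1, ?_⟩) ⟨?_, ?_⟩)
  · obtain ⟨q, hq⟩ := q
    induction q using QuotientGroup.induction_on with | _ g => ?_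
    exact ⟨(fixedBy_iff μ x g).1 hq, flagOf_isChain μ g, flagOf_dims μ g⟩
  · intro q q' h
    have := congrArg Subtype.val h
    exact Subtype.ext (flagOfQ_injective μ this)
  · rintro ⟨C, hinv, hchain, hdims⟩
    obtain ⟨g, rfl⟩ := exists_flagOf_eq μ C hchain hdims
    exact ⟨⟨(g : GL (Fin n) F ⧸ parabolicGL n F μ), (fixedBy_iff μ x g).2 hinv⟩, rfl⟩

end Cfsg.Agent.Helper42.StVal
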