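import Mathlib

set_option autoImplicit false

/-! # Möbius function: transport along order embeddings onto lower sets; an arithmetic lemma
(helper42, for S2425) -/

namespace Cfsg.Agent.Helper42.StVal

open Finset

/-- the Möbius function is preserved by an order embedding whose image is a lower set -/
theorem mu_orderEmbedding {α β : Type*} [PartialOrder α] [LocallyFiniteOrder α] [DecidableEq α]
    [PartialOrder β] [LocallyFiniteOrder β] [DecidableEq β] (ι : β ↪o α)
    (hconv : ∀ b : β, ∀ y : α, y ≤ ι b → ∃ b', ι b' = y) (a : β) :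
    ∀ b : β, IncidenceAlgebra.mu ℤ (ι a) (ι b) = IncidenceAlgebra.mu ℤ a b := by
  have key : ∀ m : ℕ, ∀ b : β, (Icc a b).card = m →
      IncidenceAlgebra.mu ℤ (ι a) (ι b) = IncidenceAlgebra.mu ℤ a b := by
    intro m
    induction m using Nat.strong_induction_on with
    | _ m ih =>
    intro b hb
    by_cases hab : a = b
    · subst hab
      rw [IncidenceAlgebra.mu_self, IncidenceAlgebra.mu_self]
    · have hab' : ι a ≠ ι b := fun h => hab (ι.injective h)
      rw [IncidenceAlgebra.mu_eq_neg_sum_Ico_of_ne hab, IncidenceAlgebra.mu_eq_neg_sum_Ico_of_ne hab']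
      congr 1
      have himg : Ico (ι a) (ι b) = (Ico a b).map ι.toEmbedding := by
        ext y
        rw [mem_map, mem_Ico]
        constructor
        · rintro ⟨h1, h2⟩
          obtain ⟨y', rfl⟩ := hconv b y h2.le
          refine ⟨y', mem_Ico.2 ⟨ι.le_iff_le.1 h1, ι.lt_iff_lt.1 h2⟩, rfl⟩
        · rintro ⟨y', hy', rfl⟩
          rw [mem_Ico] at hy'
          exact ⟨ι.le_iff_le.2 hy'.1, ι.lt_iff_lt.2 hy'.2⟩
      rw [himg, sum_map]
      refine sum_congr rfl fun x hx => ?_
      rw [mem_Ico] at hx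
      refine ih _ ?_ x rfl
      rw [← hb]
      refine card_lt_card ?_
      rw [ssubset_iff_of_subset (Icc_subset_Icc_right hx.2.le)]
      refine ⟨b, mem_Icc.2 ⟨hx.1.trans hx.2.le, le_rfl⟩, ?_⟩
      rw [mem_Icc]
      exact fun h => (lt_of_le_of_lt h.2 hx.2).false
  intro b
  exact key _ b rfl

/-- the weight attached to a multiset of polynomials (or anything with a degree) -/
noncomputable def psiW {P : Type*} [DecidableEq P] (q : ℤ) (deg : P → ℕ) (m : Multiset P) : ℤ :=
  ∏ f ∈ m.toFinset, (-1 : ℤ) ^ (m.count f) * q ^ (deg f * (m.count f * (m.count f - 1) / 2))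

theorem psiW_eq_prod_of_subset {P : Type*} [DecidableEq P] (q : ℤ) (deg : P → ℕ) (m : Multiset P)
    (S : Finset P) (hS : m.toFinset ⊆ S) :
    psiW q deg m =
      ∏ f ∈ S, (-1 : ℤ) ^ (m.count f) * q ^ (deg f * (m.count f * (m.count f - 1) / 2)) := by
  unfold psiW
  refine prod_subset hS fun f _ hf => ?_
  have : m.count f = 0 := Multiset.count_eq_zero.2 (fun h => hf (Multiset.mem_toFinset.2 h))
  rw [this]
  simp

theorem psiW_cons {P : Type*} [DecidableEq P] (q : ℤ) (deg : P → ℕ) (f : P) (m : Multiset P) :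
    psiW q deg (f ::ₘ m) = -(q ^ (deg f * m.count f)) * psiW q deg m := by
  have h1 : (f ::ₘ m).toFinset ⊆ insert f m.toFinset := by
    rw [Multiset.toFinset_cons]
  have h2 : m.toFinset ⊆ insert f m.toFinset := subset_insert _ _
  rw [psiW_eq_prod_of_subset q deg _ _ h1, psiW_eq_prod_of_subset q deg _ _ h2,
    ← mul_prod_erase _ _ (mem_insert_self f m.toFinset),
    ← mul_prod_erase _ _ (mem_insert_self f m.toFinset)]
  have h3 : ∀ g ∈ (insert f m.toFinset).erase f,
      (-1 : ℤ) ^ ((f ::ₘ m).count g) * q ^ (deg g * ((f ::ₘ m).count g * ((f ::ₘ m).count g - 1) / 2)) =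
      (-1 : ℤ) ^ (m.count g) * q ^ (deg g * (m.count g * (m.count g - 1) / 2)) := by
    intro g hg
    rw [Multiset.count_cons_of_ne (ne_of_mem_erase hg)]
  rw [prod_congr rfl h3, Multiset.count_cons_self, ← mul_assoc]
  congr 1
  set c := m.count f
  have h4 : (c + 1) * (c + 1 - 1) / 2 = c * (c - 1) / 2 + c := by
    rw [Nat.add_sub_cancel]
    have h5 : (c + 1) * c = c * (c - 1) + c * 2 := by
      cases c with
      | zero => rfl
      | succ k => simp only [Nat.add_sub_cancel]; ring
    rw [h5, Nat.add_mul_div_right _ _ (by norm_num : 0 < 2)]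
  rw [h4, Nat.mul_add, pow_add, pow_succ]
  ring

end Cfsg.Agent.Helper42.StVal
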