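import Mathlib
import Cfsg.Agent.Helper42.StDefs
import Cfsg.Agent.Helper42.StCompl
import Cfsg.Agent.Helper42.StMuA
import Cfsg.Agent.Helper76.StW
import Cfsg.Agent.Helper67.StSCH
import Cfsg.Agent.Helper1.StHom

set_option autoImplicit false

/-! # The Möbius number of the lattice of invariant subspaces of a semisimple endomorphism
(helper42, for S2425) -/

namespace Cfsg.Agent.Helper42.StVal

open Finset Polynomial

universe u

variable {F : Type*} [Field F]

/-- invariant subspaces of a restriction, embedded into the invariant subspaces -/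
def invtEmb {M : Type*} [AddCommGroup M] [Module F M] (φ : Module.End F M) {X : Submodule F M}
    (hX : X ∈ φ.invtSubmodule) :
    ↥(Module.End.invtSubmodule (φ.restrict hX)) ↪o ↥(φ.invtSubmodule) :=
  OrderEmbedding.ofMapLEIff
    (fun Y => ⟨Y.1.map X.subtype,
      Module.End.invtSubmodule.map_subtype_mem_of_mem_invtSubmodule φ hX Y.2⟩)
    (fun Y Y' => by
      change Y.1.map X.subtype ≤ Y'.1.map X.subtype ↔ Y ≤ Y'
      rw [Submodule.map_le_map_iff_of_injective X.injective_subtype]
      rfl)

theorem invtEmb_coe {M : Type*} [AddCommGroup M] [Module F M] (φ : Module.End F M)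
    {X : Submodule F M} (hX : X ∈ φ.invtSubmodule)
    (Y : ↥(Module.End.invtSubmodule (φ.restrict hX))) :
    ((invtEmb φ hX Y : ↥(φ.invtSubmodule)) : Submodule F M) = Y.1.map X.subtype := rfl

theorem invtEmb_bot {M : Type*} [AddCommGroup M] [Module F M] (φ : Module.End F M)
    {X : Submodule F M} (hX : X ∈ φ.invtSubmodule) : invtEmb φ hX ⊥ = ⊥ := by
  apply Subtype.ext
  rw [invtEmb_coe]
  change (⊥ : Submodule F X).map X.subtype = ⊥
  exact Submodule.map_bot _

theorem invtEmb_top {M : Type*} [AddCommGroup M] [Module F M] (φ : Module.End F M)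
    {X : Submodule F M} (hX : X ∈ φ.invtSubmodule) : invtEmb φ hX ⊤ = ⟨X, hX⟩ := by
  apply Subtype.ext
  rw [invtEmb_coe]
  change (⊤ : Submodule F X).map X.subtype = X
  exact Submodule.map_subtype_top X

theorem invtEmb_conv {M : Type*} [AddCommGroup M] [Module F M] (φ : Module.End F M)
    {X : Submodule F M} (hX : X ∈ φ.invtSubmodule)
    (b : ↥(Module.End.invtSubmodule (φ.restrict hX))) (y : ↥(φ.invtSubmodule))
    (hy : y ≤ invtEmb φ hX b) : ∃ b', invtEmb φ hX b' = y := by
  have hyX : y.1 ≤ X := by
    have h1 : y.1 ≤ b.1.map X.subtype := hy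
    exact h1.trans (Submodule.map_subtype_le X b.1)
  refine ⟨⟨y.1.comap X.subtype, ?_⟩, ?_⟩
  · rw [Module.End.mem_invtSubmodule]
    intro v hv
    rw [Submodule.mem_comap] at hv ⊢
    rw [Submodule.mem_comap]
    exact (Module.End.mem_invtSubmodule φ).1 y.2 hv
  · apply Subtype.ext
    rw [invtEmb_coe]
    change (y.1.comap X.subtype).map X.subtype = y.1
    rw [Submodule.map_comap_subtype, inf_eq_right.2 hyX]

/-- characteristic polynomial of an endomorphism with two complementary invariant subspaces -/
theorem charpoly_eq_mul_of_isCompl {M : Type*} [AddCommGroup M] [Module F M]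
    [FiniteDimensional F M] (φ : Module.End F M) {S X : Submodule F M}
    (hS : S ∈ φ.invtSubmodule) (hX : X ∈ φ.invtSubmodule) (hc : IsCompl S X) :
    φ.charpoly = (φ.restrict hS).charpoly * (φ.restrict hX).charpoly := by
  have he : φ ∘ₗ ((Submodule.prodEquivOfIsCompl S X hc : (S × X) ≃ₗ[F] M) : S × X →ₗ[F] M)
      = ((Submodule.prodEquivOfIsCompl S X hc : (S × X) ≃ₗ[F] M) : S × X →ₗ[F] M) ∘ₗ
        ((φ.restrict hS).prodMap (φ.restrict hX)) := by
    ext x
    · simp only [LinearMap.coe_comp, LinearEquiv.coe_coe, LinearMap.coe_inl, Function.comp_apply,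
        Submodule.coe_prodEquivOfIsCompl, LinearMap.coprod_apply, Submodule.coe_subtype, map_zero,
        ZeroMemClass.coe_zero, add_zero, LinearMap.prodMap_apply]
      rfl
    · simp only [LinearMap.coe_comp, LinearEquiv.coe_coe, LinearMap.coe_inr, Function.comp_apply,
        Submodule.coe_prodEquivOfIsCompl, LinearMap.coprod_apply, Submodule.coe_subtype, map_zero,
        ZeroMemClass.coe_zero, zero_add, LinearMap.prodMap_apply]
      rfl
  rw [← LinearMap.charpoly_prodMap, ← (Submodule.prodEquivOfIsCompl S X hc).charpoly_conj]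
  congr 1
  ext x
  have := LinearMap.congr_fun he ((Submodule.prodEquivOfIsCompl S X hc).symm x)
  simp only [LinearMap.coe_comp, LinearEquiv.coe_coe, Function.comp_apply,
    LinearEquiv.apply_symm_apply] at this
  rw [LinearEquiv.conj_apply]
  simp only [LinearMap.coe_comp, LinearEquiv.coe_coe, Function.comp_apply]
  exact this

end Cfsg.Agent.Helper42.StVal
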