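import Mathlib
import Cfsg.Agent.Helper42.StMuB

set_option autoImplicit false

/-! # The Möbius number of the lattice of invariant subspaces of a semisimple endomorphism, II
(helper42, for S2425) -/

namespace Cfsg.Agent.Helper42.StVal

open Finset Polynomial

universe u

variable {F : Type*} [Field F]

theorem mu_invt_aux [Fintype F] [DecidableEq F] :
    ∀ (d : ℕ) (M : Type u) [AddCommGroup M] [Module F M] [FiniteDimensional F M]
      (φ : Module.End F M) [DecidableEq ↥(φ.invtSubmodule)] [LocallyFiniteOrder ↥(φ.invtSubmodule)],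
      φ.IsSemisimple → Module.finrank F M = d →
      IncidenceAlgebra.mu ℤ (⊥ : ↥(φ.invtSubmodule)) ⊤ =
        psiW (Fintype.card F : ℤ) (fun f : F[X] => f.natDegree)
          (UniqueFactorizationMonoid.normalizedFactors φ.charpoly) := by
  intro d
  induction d using Nat.strong_induction_on with
  | _ d ih =>
  intro M _ _ _ φ _ _ hφ hd
  by_cases hM : Subsingleton M
  · have h1 : φ.charpoly = 1 := by
      have hmon := LinearMap.charpoly_monic φ
      have hdeg : φ.charpoly.natDegree = 0 := by
        rw [LinearMap.charpoly_natDegree]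
        exact Module.finrank_zero_of_subsingleton
      exact Polynomial.eq_one_of_monic_natDegree_zero hmon hdeg
    have h2 : (⊥ : ↥(φ.invtSubmodule)) = ⊤ := by
      apply Subtype.ext
      change (⊥ : Submodule F M) = ⊤
      exact Subsingleton.elim _ _
    rw [h1, UniqueFactorizationMonoid.normalizedFactors_one, ← h2, IncidenceAlgebra.mu_self]
    simp [psiW]
  · haveI : Nontrivial M := not_subsingleton_iff_nontrivial.mp hM
    haveI : Finite M := Module.finite_of_finite F
    obtain ⟨S, hS, hS0, hmin⟩ := Cfsg.Agent.Helper1.StHom.exists_minimal_invt φ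
    have hψ : IsSimpleEnd (φ.restrict hS) :=
      Cfsg.Agent.Helper1.StHom.isSimpleEnd_restrict φ hS hS0 hmin
    set ψ := φ.restrict hS with hψdef
    set f := ψ.charpoly with hf
    have hirr : Irreducible f :=
      Cfsg.Agent.Helper67.StVal.irreducible_charpoly_of_isSimpleEnd ψ hψ
    have hmon : f.Monic := LinearMap.charpoly_monic ψ
    set m := UniqueFactorizationMonoid.normalizedFactors φ.charpoly with hm
    set q : ℕ := Fintype.card F with hq
    have hqpos : 0 < q := Fintype.card_pos
    -- the normalized factors of the restriction to a complement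
    have hnf : ∀ X : Submodule F M, ∀ hX : X ∈ φ.invtSubmodule, IsCompl S X →
        m = f ::ₘ UniqueFactorizationMonoid.normalizedFactors (φ.restrict hX).charpoly := by
      intro X hX hc
      rw [hm, charpoly_eq_mul_of_isCompl φ hS hX hc,
        UniqueFactorizationMonoid.normalizedFactors_mul hmon.ne_zero
          (LinearMap.charpoly_monic (φ.restrict hX)).ne_zero,
        UniqueFactorizationMonoid.normalizedFactors_irreducible hirr, hmon.normalize_eq_self]
      rfl
    have hnf' : ∀ X : Submodule F M, ∀ hX : X ∈ φ.invtSubmodule, IsCompl S X →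
        UniqueFactorizationMonoid.normalizedFactors (φ.restrict hX).charpoly = m.erase f := by
      intro X hX hc
      rw [hnf X hX hc, Multiset.erase_cons_head]
    -- Möbius values at complements
    have hmuX : ∀ X : Submodule F M, ∀ hX : X ∈ φ.invtSubmodule, IsCompl S X →
        IncidenceAlgebra.mu ℤ (⊥ : ↥(φ.invtSubmodule)) ⟨X, hX⟩ =
          psiW (q : ℤ) (fun f : F[X] => f.natDegree) (m.erase f) := by
      intro X hX hc
      classical
      letI : Fintype ↥(Module.End.invtSubmodule (φ.restrict hX)) := Fintype.ofFinite _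
      letI : LocallyFiniteOrder ↥(Module.End.invtSubmodule (φ.restrict hX)) :=
        Fintype.toLocallyFiniteOrder
      have h1 := mu_orderEmbedding (invtEmb φ hX) (invtEmb_conv φ hX) ⊥ ⊤
      rw [invtEmb_bot, invtEmb_top] at h1
      rw [h1]
      have hlt : Module.finrank F X < d := by
        have h2 := Submodule.finrank_add_eq_of_isCompl hc
        have h3 : 0 < Module.finrank F S := by
          rw [Module.finrank_pos_iff]
          exact (Submodule.nontrivial_iff_ne_bot).mpr hS0
        omega
      rw [ih _ hlt X (φ.restrict hX) (hφ.restrict hX) rfl, hnf' X hX hc]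
    -- existence of a complement, so f ∈ m
    obtain ⟨X₀, hX₀, hc₀⟩ := Module.End.isSemisimple_iff.mp hφ S hS
    have hm0 : m = f ::ₘ m.erase f := by
      have := hnf X₀ hX₀ hc₀
      rw [hnf' X₀ hX₀ hc₀] at this
      exact this
    -- counting complements
    have hN : Nat.card {X : Submodule F M // X ∈ φ.invtSubmodule ∧ IsCompl S X} =
        q ^ (f.natDegree * (m.erase f).count f) := by
      have h1 := card_compl_mul φ hφ S hS
      rw [Cfsg.Agent.Helper67.StVal.card_eqHom_of_charpoly_eq ψ ψ hψ hψ rfl,
        Cfsg.Agent.Helper1.StHom.card_eqHom φ ψ hφ hψ] at h1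
      have h2 : m.count f = (m.erase f).count f + 1 := by
        conv_lhs => rw [hm0]
        rw [Multiset.count_cons_self]
      rw [← hm, ← hf, h2, Nat.mul_add, mul_one, pow_add] at h1
      exact Nat.eq_of_mul_eq_mul_right (pow_pos hqpos _) h1
    -- Weisner
    have hW := Cfsg.Agent.Helper76.StW.weisner_Icc (L := ↥(φ.invtSubmodule))
      (a := ⊥) (b := ⊤) (s := ⟨S, hS⟩)
      (bot_lt_iff_ne_bot.2 (fun h => hS0 (congrArg Subtype.val h))) le_top
    set T := (Icc (⊥ : ↥(φ.invtSubmodule)) ⊤).filter (fun x => x ⊔ ⟨S, hS⟩ = ⊤) with hT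
    have htop : (⊤ : ↥(φ.invtSubmodule)) ∈ T := by
      rw [hT, mem_filter, mem_Icc]
      exact ⟨⟨bot_le, le_rfl⟩, top_sup_eq _⟩
    rw [← add_sum_erase T _ htop] at hW
    have hmem : ∀ x : ↥(φ.invtSubmodule), x ∈ T.erase ⊤ ↔ IsCompl S x.1 := by
      intro x
      rw [mem_erase, hT, mem_filter, mem_Icc]
      constructor
      · rintro ⟨hne, -, hsup⟩
        have hsup' : x.1 ⊔ S = ⊤ := by
          have := congrArg Subtype.val hsup
          exact this
        refine IsCompl.of_eq ?_ (by rw [sup_comm]; exact hsup')
        have hinf : S ⊓ x.1 ∈ φ.invtSubmodule := Module.End.invtSubmodule.inf_mem hS x.2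
        rcases hmin _ hinf inf_le_left with h | h
        · exact h
        · exfalso
          have hle : S ≤ x.1 := inf_eq_left.1 h
          apply hne
          apply Subtype.ext
          change x.1 = ⊤
          rw [← hsup', sup_eq_left.2 hle]
      · intro hc
        refine ⟨?_, ⟨bot_le, le_top⟩, ?_⟩
        · intro h
          have h1 : x.1 = ⊤ := congrArg Subtype.val h
          have h2 := hc.inf_eq_bot
          rw [h1, inf_top_eq] at h2
          exact hS0 h2
        · apply Subtype.ext
          change x.1 ⊔ S = ⊤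
          rw [sup_comm]
          exact hc.sup_eq_top
    have hsum : ∑ x ∈ T.erase ⊤, IncidenceAlgebra.mu ℤ (⊥ : ↥(φ.invtSubmodule)) x =
        ((T.erase ⊤).card : ℤ) * psiW (q : ℤ) (fun f : F[X] => f.natDegree) (m.erase f) := by
      rw [sum_congr rfl (fun x hx => hmuX x.1 x.2 ((hmem x).1 hx)), sum_const, nsmul_eq_mul]
    have hcardT : (T.erase ⊤).card = q ^ (f.natDegree * (m.erase f).count f) := by
      rw [← hN, ← Fintype.card_coe, ← Nat.card_eq_fintype_card]
      refine Nat.card_congr
        { toFun := fun x => ⟨x.1.1, x.1.2, (hmem x.1).1 x.2⟩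
          invFun := fun X => ⟨⟨X.1, X.2.1⟩, (hmem ⟨X.1, X.2.1⟩).2 X.2.2⟩
          left_inv := fun x => rfl
          right_inv := fun X => rfl }
    rw [hsum, hcardT] at hW
    rw [hm0, psiW_cons]
    push_cast at hW
    linarith

end Cfsg.Agent.Helper42.StVal
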