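import Mathlib
import Cfsg.Prelude.Def_LinearParabolics
import Cfsg.Agent.Helper42.StFlagC
import Cfsg.Agent.Helper42.StMuC

set_option autoImplicit false

/-! # Steinberg character values: semisimplicity, characteristic polynomial, arithmetic
(helper42, for S2425) -/

namespace Cfsg.Agent.Helper42.StVal

open Cfsg Finset Matrix Polynomial
open scoped MatrixGroups

variable {n : ℕ} {F : Type*} [Field F]

theorem mv_pow (x : GL (Fin n) F) (k : ℕ) : mv (x ^ k) = (mv x) ^ k := by
  induction k with
  | zero => rw [pow_zero, pow_zero, mv_one]; rfl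
  | succ k ih => rw [pow_succ, pow_succ, mv_mul, ih]; rfl

theorem isSemisimple_mv [Fintype F] (p : ℕ) [Fact p.Prime] [CharP F p] (x : GL (Fin n) F)
    (hx : (orderOf x).Coprime p) : Module.End.IsSemisimple (mv x) := by
  classical
  set k := orderOf x with hk
  have hkpos : 0 < k := orderOf_pos x
  have hkF : (k : F) ≠ 0 := by
    rw [Ne, CharP.cast_eq_zero_iff F p k]
    intro hdvd
    have h1 : p ∣ Nat.gcd k p := Nat.dvd_gcd hdvd dvd_rfl
    rw [hx] at h1
    exact (Fact.out : p.Prime).one_lt.ne' (Nat.dvd_one.1 h1)
  have hsep : (X ^ k - C (1 : F)).Separable := separable_X_pow_sub_C 1 hkF one_ne_zero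
  refine Module.End.isSemisimple_of_squarefree_aeval_eq_zero hsep.squarefree ?_
  rw [map_sub, map_pow, aeval_X, aeval_C, ← mv_pow, hk, pow_orderOf_eq_one, mv_one, map_one]
  exact sub_self _

theorem charpoly_mv (x : GL (Fin n) F) :
    LinearMap.charpoly (mv x) = (x : Matrix (Fin n) (Fin n) F).charpoly := by
  rw [← LinearMap.charpoly_toMatrix (mv x) (Pi.basisFun F (Fin n)), LinearMap.toMatrix_eq_toMatrix']
  unfold mv
  rw [← Matrix.toLin'_apply', LinearMap.toMatrix'_toLin']

/-- the degree of a monic polynomial as the weighted sum over its normalized factors -/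
theorem natDegree_eq_sum_normalizedFactors [DecidableEq F] {g : F[X]} (hg : g.Monic) :
    g.natDegree = ∑ f ∈ (UniqueFactorizationMonoid.normalizedFactors g).toFinset,
      (UniqueFactorizationMonoid.normalizedFactors g).count f * f.natDegree := by
  set m := UniqueFactorizationMonoid.normalizedFactors g with hm
  have hmonic : ∀ f ∈ m, f.Monic := by
    intro f hf
    have h1 := UniqueFactorizationMonoid.normalize_normalized_factor f hf
    have h2 : f ≠ 0 := (UniqueFactorizationMonoid.irreducible_of_normalized_factor f hf).ne_zero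
    exact (normalize_eq_self_iff_monic h2).1 h1
  have hprod : m.prod = g := by
    refine eq_of_monic_of_associated ?_ hg (UniqueFactorizationMonoid.prod_normalizedFactors hg.ne_zero)
    have := monic_multiset_prod_of_monic m id hmonic
    rwa [Multiset.map_id] at this
  conv_lhs => rw [← hprod]
  rw [natDegree_multiset_prod_of_monic m hmonic, Finset.sum_multiset_map_count]
  rfl

/-- the final sign/exponent bookkeeping -/
theorem final_arith [DecidableEq F] (q : ℕ) {g : F[X]} (hg : g.Monic) :
    ((-1 : ℂ)) ^ g.natDegree *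
      (((psiW (q : ℤ) (fun f : F[X] => f.natDegree)
        (UniqueFactorizationMonoid.normalizedFactors g) : ℤ)) : ℂ) =
    ∏ f ∈ (UniqueFactorizationMonoid.normalizedFactors g).toFinset,
      (-1 : ℂ) ^ ((f.natDegree - 1) * (UniqueFactorizationMonoid.normalizedFactors g).count f) *
        (q : ℂ) ^ (f.natDegree * (UniqueFactorizationMonoid.normalizedFactors g).count f *
          ((UniqueFactorizationMonoid.normalizedFactors g).count f - 1) / 2) := by
  set m := UniqueFactorizationMonoid.normalizedFactors g with hm
  rw [natDegree_eq_sum_normalizedFactors hg, ← hm, ← Finset.prod_pow_eq_pow_sum]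
  unfold psiW
  push_cast
  rw [← Finset.prod_mul_distrib]
  refine Finset.prod_congr rfl fun f hf => ?_
  have hfm : f ∈ m := Multiset.mem_toFinset.1 hf
  have hdeg : 0 < f.natDegree :=
    (UniqueFactorizationMonoid.irreducible_of_normalized_factor f hfm).natDegree_pos
  set c := m.count f
  set d := f.natDegree
  have h1 : (-1 : ℂ) ^ (c * d) * (-1 : ℂ) ^ c = (-1 : ℂ) ^ ((d - 1) * c) := by
    rw [← pow_add]
    have h2 : c * d + c = (d - 1) * c + 2 * c := by
      obtain ⟨d', hd'⟩ : ∃ d', d = d' + 1 := ⟨d - 1, by omega⟩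
      rw [hd']
      simp only [Nat.add_sub_cancel]
      ring
    rw [h2, pow_add, pow_mul (-1 : ℂ) 2 c, neg_one_sq, one_pow, mul_one]
  have h3 : d * c * (c - 1) / 2 = d * (c * (c - 1) / 2) := by
    have h4 : 2 ∣ c * (c - 1) := by
      rcases Nat.even_or_odd c with h | h
      · exact (h.mul_right _).two_dvd
      · have : Even (c - 1) := by
          obtain ⟨k, hk⟩ := h
          exact ⟨k, by omega⟩
        exact (this.mul_left _).two_dvd
    rw [mul_assoc, Nat.mul_div_assoc _ h4]
  rw [h3, ← h1]
  ring

end Cfsg.Agent.Helper42.StVal
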