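import Mathlib
import Cfsg.Prelude.Def_LinearParabolics
import Cfsg.Agent.Helper42.StMainA
import Cfsg.Agent.Helper79.StHall
import Cfsg.Agent.Helper49.StSign

set_option autoImplicit false

/-! # Steinberg character values: from flags to the Möbius number (helper42, for S2425) -/

namespace Cfsg.Agent.Helper42.StVal

open Cfsg Finset Matrix Polynomial
open scoped MatrixGroups

variable {n : ℕ} {F : Type*} [Field F]

/-- number of invariant chains with prescribed dimension set -/
noncomputable def gx (x : GL (Fin n) F) (D : Finset ℕ) : ℂ :=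
  (Nat.card {C : Finset (Submodule F (Fin n → F)) //
    (∀ W ∈ C, W ∈ Module.End.invtSubmodule (mv x)) ∧
      IsChain (· ≤ ·) (C : Set (Submodule F (Fin n → F))) ∧
      C.image (fun W : Submodule F (Fin n → F) => Module.finrank F W) = D} : ℂ)

theorem fixedPointCharacter_eq_gx [Finite F] (μ : Fin n → ℕ) (x : GL (Fin n) F) :
    fixedPointCharacter (parabolicGL n F μ) x = gx x (cutSet μ) := by
  unfold fixedPointCharacter gx
  rw [card_fixedBy_parabolic]
  rfl

/-- the lattice of invariant subspaces -/
abbrev Lx (x : GL (Fin n) F) : Type _ := ↥(Module.End.invtSubmodule (mv x))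

/-- dimension set of a finset of invariant subspaces -/
noncomputable def dimsL (x : GL (Fin n) F) (C : Finset (Lx x)) : Finset ℕ :=
  C.image (fun W : Lx x => Module.finrank F W.1)

/-- chains avoiding bottom and top -/
def PCh (x : GL (Fin n) F) (C : Finset (Lx x)) : Prop :=
  IsChain (· ≤ ·) (C : Set (Lx x)) ∧ ⊥ ∉ C ∧ ⊤ ∉ C

theorem finrank_pos_of_ne_bot {x : GL (Fin n) F} {W : Lx x} (h : W ≠ ⊥) :
    0 < Module.finrank F W.1 := by
  rw [Nat.pos_iff_ne_zero, Ne, Submodule.finrank_eq_zero]
  intro h1
  exact h (Subtype.ext h1)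

theorem finrank_lt_of_ne_top {x : GL (Fin n) F} {W : Lx x} (h : W ≠ ⊤) :
    Module.finrank F W.1 < n := by
  have h1 : Module.finrank F W.1 ≤ Module.finrank F (Fin n → F) := Submodule.finrank_le _
  rw [Module.finrank_fin_fun] at h1
  refine lt_of_le_of_ne h1 fun h2 => h ?_
  apply Subtype.ext
  change W.1 = ⊤
  apply Submodule.eq_top_of_finrank_eq
  rw [Module.finrank_fin_fun, h2]

theorem dimsL_subset {x : GL (Fin n) F} {C : Finset (Lx x)} (hC : PCh x C) :
    dimsL x C ∈ (Ioo 0 n).powerset := by
  rw [mem_powerset]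
  intro s hs
  unfold dimsL at hs
  rw [mem_image] at hs
  obtain ⟨W, hW, rfl⟩ := hs
  rw [mem_Ioo]
  exact ⟨finrank_pos_of_ne_bot (fun h => hC.2.1 (h ▸ hW)),
    finrank_lt_of_ne_top (fun h => hC.2.2 (h ▸ hW))⟩

theorem card_dimsL {x : GL (Fin n) F} {C : Finset (Lx x)}
    (hC : IsChain (· ≤ ·) (C : Set (Lx x))) : (dimsL x C).card = C.card := by
  unfold dimsL
  refine card_image_of_injOn fun a ha b hb hab => ?_
  by_contra hne
  rcases hC ha hb hne with h | h
  · have h1 : a.1 ≤ b.1 := h
    exact hne (Subtype.ext (Submodule.eq_of_le_of_finrank_eq h1 hab))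
  · have h1 : b.1 ≤ a.1 := h
    exact hne (Subtype.ext (Submodule.eq_of_le_of_finrank_eq h1 hab.symm).symm)

/-- invariant chains with dimension set `D ⊆ (0,n)`, counted inside the lattice -/
theorem gx_eq_card {x : GL (Fin n) F} {D : Finset ℕ} (hD : D ∈ (Ioo 0 n).powerset) :
    gx x D = (Nat.card {C : Finset (Lx x) // PCh x C ∧ dimsL x C = D} : ℂ) := by
  classical
  unfold gx
  congr 1
  symm
  rw [mem_powerset] at hD
  refine Nat.card_congr (Equiv.ofBijective
    (fun C => ⟨C.1.map (Function.Embedding.subtype _), ?_, ?_, ?_⟩) ⟨?_, ?_⟩)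
  · intro W hW
    rw [mem_map] at hW
    obtain ⟨a, -, rfl⟩ := hW
    exact a.2
  · intro W hW W' hW' hne
    rw [mem_coe, mem_map] at hW hW'
    obtain ⟨a, ha, rfl⟩ := hW
    obtain ⟨b, hb, rfl⟩ := hW'
    exact C.2.1.1 ha hb (fun h => hne (by rw [h]))
  · rw [map_eq_image, image_image]
    exact C.2.2
  · intro C C' h
    have := congrArg Subtype.val h
    exact Subtype.ext (map_injective _ this)
  · rintro ⟨C, hinv, hch, hd⟩
    have hmap : (C.subtype (· ∈ Module.End.invtSubmodule (mv x))).map
        (Function.Embedding.subtype _) = C := subtype_map_of_mem hinv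
    refine ⟨⟨C.subtype (· ∈ Module.End.invtSubmodule (mv x)), ⟨?_, ?_, ?_⟩, ?_⟩, ?_⟩
    · intro a ha b hb hab
      rw [mem_coe, mem_subtype] at ha hb
      exact hch ha hb (fun h => hab (Subtype.ext h))
    · intro h
      rw [mem_subtype] at h
      have h1 : Module.finrank F ((⊥ : Lx x) : Submodule F (Fin n → F)) ∈ D := by
        rw [← hd]; exact mem_image_of_mem _ h
      have h2 : Module.finrank F ((⊥ : Lx x) : Submodule F (Fin n → F)) = 0 := by
        change Module.finrank F (⊥ : Submodule F (Fin n → F)) = 0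
        exact finrank_bot F _
      rw [h2] at h1
      have := mem_Ioo.1 (hD h1)
      omega
    · intro h
      rw [mem_subtype] at h
      have h1 : Module.finrank F ((⊤ : Lx x) : Submodule F (Fin n → F)) ∈ D := by
        rw [← hd]; exact mem_image_of_mem _ h
      have h2 : Module.finrank F ((⊤ : Lx x) : Submodule F (Fin n → F)) = n := by
        change Module.finrank F (⊤ : Submodule F (Fin n → F)) = n
        rw [finrank_top, Module.finrank_fin_fun]
      rw [h2] at h1
      have := mem_Ioo.1 (hD h1)
      omega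
    · unfold dimsL
      rw [← hd]
      conv_rhs => rw [← hmap]
      rw [map_eq_image, image_image]
      rfl
    · exact Subtype.ext hmap

end Cfsg.Agent.Helper42.StVal
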