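import Mathlib
import Cfsg.Prelude.Def_LinearParabolics
import Cfsg.Agent.Helper42.StMainB

set_option autoImplicit false

/-! # Steinberg character values at `p'`-elements of `GL_n(q)` (helper42, for S2425) -/

namespace Cfsg.Agent.Helper42.StVal

open Cfsg Finset Matrix Polynomial
open scoped MatrixGroups

variable {n : ℕ} {F : Type*} [Field F]

theorem chain_sum [Finite F] (hn : 0 < n) (x : GL (Fin n) F) [Fintype (Lx x)] [DecidableEq (Lx x)]
    [LocallyFiniteOrder (Lx x)] :
    ∑ D ∈ (Ioo 0 n).powerset, ((-1 : ℤ) ^ (n + D.card + 1)) • gx x D =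
      (-1 : ℂ) ^ n * ((IncidenceAlgebra.mu ℤ (⊥ : Lx x) ⊤ : ℤ) : ℂ) := by
  classical
  have hbt : (⊥ : Lx x) ≠ ⊤ := by
    intro h
    have h1 : (⊥ : Submodule F (Fin n → F)) = ⊤ := congrArg Subtype.val h
    have h2 := congrArg (fun W : Submodule F (Fin n → F) => Module.finrank F W) h1
    simp only [finrank_bot, finrank_top, Module.finrank_fin_fun] at h2
    omega
  rw [Cfsg.Agent.Helper79.StHall.hall_chains hbt]
  have hsum : (∑ C : Finset (Lx x), if IsChain (· ≤ ·) (C : Set (Lx x)) ∧ ⊥ ∉ C ∧ ⊤ ∉ C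
      then (-1 : ℤ) ^ (C.card + 1) else 0) =
      ∑ C ∈ univ.filter (fun C : Finset (Lx x) => PCh x C), (-1 : ℤ) ^ (C.card + 1) := by
    rw [sum_filter]
    refine sum_congr rfl fun C _ => ?_
    unfold PCh
    congr
  rw [hsum]
  set 𝒞 := univ.filter (fun C : Finset (Lx x) => PCh x C) with h𝒞
  have hmaps : ∀ C ∈ 𝒞, dimsL x C ∈ (Ioo 0 n).powerset := by
    intro C hC
    rw [h𝒞, mem_filter] at hC
    exact dimsL_subset hC.2
  rw [← sum_fiberwise_of_maps_to hmaps]
  push_cast
  rw [mul_sum]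
  refine sum_congr rfl fun D hD => ?_
  rw [gx_eq_card hD, Nat.card_eq_fintype_card, Fintype.card_subtype]
  have hfilt : (univ.filter fun C : Finset (Lx x) => PCh x C ∧ dimsL x C = D) =
      𝒞.filter (fun C => dimsL x C = D) := by
    rw [h𝒞, filter_filter]
  rw [hfilt]
  have hconst : ∀ C ∈ 𝒞.filter (fun C => dimsL x C = D),
      ((-1 : ℂ)) ^ (C.card + 1) = (-1 : ℂ) ^ (D.card + 1) := by
    intro C hC
    rw [mem_filter, h𝒞, mem_filter] at hC
    rw [← hC.2, card_dimsL hC.1.2.1]
  rw [sum_congr rfl hconst, sum_const, zsmul_eq_mul, nsmul_eq_mul]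
  push_cast
  ring

/-- the value of the Steinberg character in terms of the Möbius number -/
theorem steinberg_eq_mu [Finite F] (hn : 0 < n) (x : GL (Fin n) F) [Fintype (Lx x)]
    [DecidableEq (Lx x)] [LocallyFiniteOrder (Lx x)] :
    unipotentCharacterGL n F (fun _ => 1) x =
      (-1 : ℂ) ^ n * ((IncidenceAlgebra.mu ℤ (⊥ : Lx x) ⊤ : ℤ) : ℂ) := by
  rw [← chain_sum hn x, ← Cfsg.Agent.Helper49.StSign.sign_sum hn (gx x)]
  unfold unipotentCharacterGL
  refine sum_congr rfl fun κ _ => ?_
  by_cases h : ∀ i : Fin n, (κ i).val ≤ 1 + i.val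
  · rw [if_pos h, if_pos h, fixedPointCharacter_eq_gx, zsmul_eq_mul]
  · rw [if_neg h, if_neg h]

/-- **Steinberg character values at `p'`-elements of `GL_n(q)`**, `n > 0`. -/
theorem steinberg_value_pos [Fintype F] [DecidableEq F] (p : ℕ) [Fact p.Prime] [CharP F p]
    (hn : 0 < n) (x : GL (Fin n) F) (hx : (orderOf x).Coprime p) :
    unipotentCharacterGL n F (fun _ => 1) x =
      ∏ f ∈ (UniqueFactorizationMonoid.normalizedFactors
          (x : Matrix (Fin n) (Fin n) F).charpoly).toFinset,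
        (-1 : ℂ) ^ ((f.natDegree - 1) * (UniqueFactorizationMonoid.normalizedFactors
          (x : Matrix (Fin n) (Fin n) F).charpoly).count f) *
          ((Fintype.card F : ℕ) : ℂ) ^ (f.natDegree * (UniqueFactorizationMonoid.normalizedFactors
            (x : Matrix (Fin n) (Fin n) F).charpoly).count f *
            ((UniqueFactorizationMonoid.normalizedFactors
              (x : Matrix (Fin n) (Fin n) F).charpoly).count f - 1) / 2) := by
  classical
  haveI : Finite (Fin n → F) := inferInstance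
  letI : Fintype (Lx x) := Fintype.ofFinite _
  letI : LocallyFiniteOrder (Lx x) := Fintype.toLocallyFiniteOrder
  rw [steinberg_eq_mu hn x]
  have hmu := mu_invt_aux (F := F) (Module.finrank F (Fin n → F)) (Fin n → F) (mv x)
    (isSemisimple_mv p x hx) rfl
  have hmu' : IncidenceAlgebra.mu ℤ (⊥ : Lx x) ⊤ =
      psiW (Fintype.card F : ℤ) (fun f : F[X] => f.natDegree)
        (UniqueFactorizationMonoid.normalizedFactors (LinearMap.charpoly (mv x))) := hmu
  rw [hmu', charpoly_mv]
  have hmonic : (x : Matrix (Fin n) (Fin n) F).charpoly.Monic := Matrix.charpoly_monic _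
  have hdeg : (x : Matrix (Fin n) (Fin n) F).charpoly.natDegree = n := by
    rw [Matrix.charpoly_natDegree_eq_dim, Fintype.card_fin]
  rw [← final_arith (Fintype.card F) hmonic, hdeg]

end Cfsg.Agent.Helper42.StVal
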