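import Cfsg.Agent.Helper42.SylowEA2

set_option autoImplicit false

namespace Cfsg.Agent.Helper42

open Equiv
open scoped Pointwise

/-- the even part of the standard Sylow `2`-subgroup -/
theorem std_inf_alt (n : ℕ) (Pm : Sylow 2 (Perm (Fin (n / 2))))
    (ι : Fin (n / 2) × ZMod 2 ↪ Fin n) :
    ((wr (⊤ : AddSubgroup (Fin (n / 2) → ZMod 2)) (Pm : Subgroup (Perm (Fin (n / 2))))
      (top_invariant _)).map (Perm.viaEmbeddingHom ι)) ⊓ alternatingGroup (Fin n) =
    (wr (evenTr (Fin (n / 2))) (Pm : Subgroup (Perm (Fin (n / 2))))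
      (evenTr_invariant _)).map (Perm.viaEmbeddingHom ι) := by
  ext x
  constructor
  · rintro ⟨⟨w, ⟨f, -, σ, hσ, rfl⟩, rfl⟩, hx2⟩
    refine ⟨tr f * lf 2 σ, ⟨f, ?_, σ, hσ, rfl⟩, rfl⟩
    have := Perm.mem_alternatingGroup.mp hx2
    rw [sign_viaEmbeddingHom, map_mul, sign_lf_two, mul_one] at this
    exact this
  · rintro ⟨w, ⟨f, hf, σ, hσ, rfl⟩, rfl⟩
    refine ⟨⟨tr f * lf 2 σ, ⟨f, AddSubgroup.mem_top _, σ, hσ, rfl⟩, rfl⟩, ?_⟩
    apply Perm.mem_alternatingGroup.mpr
    rw [sign_viaEmbeddingHom, map_mul, sign_lf_two, mul_one]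
    exact hf

/-- Sylow subgroups of alternating groups have elementary abelian abelianization. -/
theorem sylow_alt_EA (p : ℕ) [hp : Fact p.Prime] (n : ℕ) (Q : Sylow p (alternatingGroup (Fin n))) :
    EA p (Q : Subgroup (alternatingGroup (Fin n))) := by
  have hQ' : IsPGroup p ((Q : Subgroup (alternatingGroup (Fin n))).map
      (alternatingGroup (Fin n)).subtype) := Q.2.map _
  obtain ⟨P, hQP⟩ := hQ'.exists_le_sylow
  have hinf := sylow_alt_inf Q P hQP
  have e1 : ↥(Q : Subgroup (alternatingGroup (Fin n))) ≃*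
      ↥((Q : Subgroup (alternatingGroup (Fin n))).map (alternatingGroup (Fin n)).subtype) :=
    Subgroup.equivMapOfInjective _ _ (alternatingGroup (Fin n)).subtype_injective
  by_cases hp2 : p = 2
  · subst hp2
    let Pm : Sylow 2 (Perm (Fin (n / 2))) := default
    obtain ⟨ι⟩ := exists_embedding 2 n
    let P₀ : Sylow 2 (Perm (Fin n)) := Sylow.ofCard _ (card_std 2 n Pm ι)
    obtain ⟨g, hg⟩ := MulAction.exists_smul_eq (Perm (Fin n)) P P₀
    have hg' : MulAut.conj g • (P : Subgroup (Perm (Fin n))) = (P₀ : Subgroup (Perm (Fin n))) := by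
      have := congrArg (fun R : Sylow 2 (Perm (Fin n)) => R.toSubgroup) hg
      simpa [Sylow.coe_subgroup_smul] using this
    have h1 : MulAut.conj g • ((P : Subgroup (Perm (Fin n))) ⊓ alternatingGroup (Fin n)) =
        (wr (evenTr (Fin (n / 2))) (Pm : Subgroup (Perm (Fin (n / 2))))
          (evenTr_invariant _)).map (Perm.viaEmbeddingHom ι) := by
      rw [Subgroup.smul_inf, hg', Subgroup.Normal.conj_smul_eq_self, ← std_inf_alt n Pm ι]
      rfl
    have hW := EA_wr (evenTr (Fin (n / 2))) (Pm : Subgroup (Perm (Fin (n / 2))))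
      (evenTr_invariant _) (sylow_perm_EA 2 (n / 2) Pm)
    have h2 : EA 2 ↥((wr (evenTr (Fin (n / 2))) (Pm : Subgroup (Perm (Fin (n / 2))))
          (evenTr_invariant _)).map (Perm.viaEmbeddingHom ι)) :=
      EA.of_mulEquiv (Subgroup.equivMapOfInjective _ _ (Perm.viaEmbeddingHom_injective ι)) hW
    have h3 : EA 2 ↥(MulAut.conj g • ((P : Subgroup (Perm (Fin n))) ⊓ alternatingGroup (Fin n))) :=
      EA.of_mulEquiv (MulEquiv.subgroupCongr h1.symm) h2
    have h4 : EA 2 ↥((P : Subgroup (Perm (Fin n))) ⊓ alternatingGroup (Fin n)) :=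
      EA.of_mulEquiv (Subgroup.equivSMul (MulAut.conj g) _).symm h3
    have h5 := EA.of_mulEquiv (MulEquiv.subgroupCongr hinf) h4
    exact EA.of_mulEquiv e1.symm h5
  · have hle := isPGroup_le_alternatingGroup hp2 (P : Subgroup (Perm (Fin n))) P.2
    rw [inf_eq_left.mpr hle] at hinf
    have h4 := sylow_perm_EA p n P
    have h5 := EA.of_mulEquiv (MulEquiv.subgroupCongr hinf) h4
    exact EA.of_mulEquiv e1.symm h5

end Cfsg.Agent.Helper42
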