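import Cfsg.Agent.Helper95.SzOrd.DefsC
import Cfsg.Agent.Helper15.Clifford

/-!
# Helper42 / Suzuki order theorem, Part C: structural facts about `H = N_G(Q)`
-/

set_option autoImplicit false

namespace Cfsg.Agent.Helper42.SzOrd

open Cfsg MulAction Cfsg.Agent.Helper75 Cfsg.Agent.Helper95.SzOrd
open scoped ComplexConjugate commutatorElement

variable {G Ω : Type*} [Group G] [Fintype G] [MulAction G Ω] [Fintype Ω]
variable {a b : Ω} {Q : Subgroup G} {q n : ℕ}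

theorem cardQ_succ (F : ZTFacts a b Q q n) : Nat.card Q + 1 = Fintype.card Ω := by
  rw [← Nat.card_eq_fintype_card, F.card_Ω]

/-- `N_G(Q) = G_a` -/
theorem normalizer_eq (F : ZTFacts a b Q q n) :
    Subgroup.normalizer (Q : Set G) = stabilizer G a :=
  (Cfsg.Agent.S0878.result F.zt.hZ a Q F.zt.Qle (cardQ_succ F) F.Q_fix).2

/-- centralisers of non-identity elements of `Q` lie in `Q` -/
theorem cent_le (F : ZTFacts a b Q q n) :
    ∀ k ∈ Q, k ≠ 1 → Subgroup.centralizer ({k} : Set G) ≤ Q :=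
  Cfsg.Agent.Helper79.Feit.kernel_centralizer_le F.zt.hZ a Q F.zt.Qle (cardQ_succ F) F.Q_fix

theorem q_ge_four (F : ZTFacts a b Q q n) : 4 ≤ q := by
  rw [F.hq]
  calc 4 = 2 ^ 2 := rfl
    _ ≤ 2 ^ n := Nat.pow_le_pow_right (by norm_num) F.hn

/-- `|H| = q³ (q - 1)` -/
theorem card_HQ (F : ZTFacts a b Q q n) (hN : Nat.card Q = q ^ 3) :
    Nat.card (HQ Q) = q ^ 3 * (q - 1) := by
  have h2 := F.zt.hZ.2.1
  haveI : IsPretransitive G Ω := isPretransitive_of_is_two_pretransitive (h2 := h2)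
  have hidx : (Subgroup.normalizer (Q : Set G)).index = q ^ 3 + 1 := by
    rw [normalizer_eq F, index_stabilizer_of_transitive G a, F.card_Ω, hN]
  have h3 := Subgroup.card_mul_index (Subgroup.normalizer (Q : Set G))
  rw [hidx, F.card_G, hN] at h3
  have hpos : 0 < q ^ 3 + 1 := Nat.succ_pos _
  apply Nat.eq_of_mul_eq_mul_right hpos
  show Nat.card ↥(Subgroup.normalizer (Q : Set G)) * (q ^ 3 + 1) = _
  rw [h3]; ring

/-- `Q` inside `H` -/
abbrev Qs (Q : Subgroup G) : Subgroup (HQ Q) := Q.subgroupOf (Subgroup.normalizer (Q : Set G))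

/-- `Z(Q)` inside `H` -/
abbrev Zq (Q : Subgroup G) : Subgroup (HQ Q) :=
  (Zs Q).subgroupOf (Subgroup.normalizer (Q : Set G))

theorem Zs_le (Q : Subgroup G) : Zs Q ≤ Q := fun _ hz => (mem_Zs.1 hz).1

theorem Zs_le_normalizer (Q : Subgroup G) : Zs Q ≤ Subgroup.normalizer (Q : Set G) :=
  (Zs_le Q).trans Subgroup.le_normalizer

instance Qs_normal (Q : Subgroup G) : (Qs Q).Normal := Subgroup.normal_in_normalizer

/-- conjugation by an element of the normaliser of `Q` preserves `Z(Q)` -/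
theorem conj_mem_Zs {Q : Subgroup G} {h z : G} (hh : h ∈ Subgroup.normalizer (Q : Set G))
    (hz : z ∈ Zs Q) : h * z * h⁻¹ ∈ Zs Q := by
  rw [mem_Zs] at hz ⊢
  obtain ⟨hzQ, hzc⟩ := hz
  have hn := Subgroup.mem_normalizer_iff.1 hh
  refine ⟨(hn z).1 hzQ, ?_⟩
  intro v hv
  have hv' : h⁻¹ * v * h ∈ Q := by
    rw [hn]
    have : h * (h⁻¹ * v * h) * h⁻¹ = v := by group
    rw [this]; exact hv
  have := hzc _ hv'
  calc v * (h * z * h⁻¹) = h * ((h⁻¹ * v * h) * z) * h⁻¹ := by group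
    _ = h * (z * (h⁻¹ * v * h)) * h⁻¹ := by rw [this]
    _ = h * z * h⁻¹ * v := by group

instance Zq_normal (Q : Subgroup G) : (Zq Q).Normal := by
  constructor
  intro z hz h
  rw [Subgroup.mem_subgroupOf] at hz ⊢
  exact conj_mem_Zs h.2 hz

theorem card_Qs (Q : Subgroup G) : Nat.card (Qs Q) = Nat.card Q :=
  Nat.card_congr (Subgroup.subgroupOfEquivOfLe Subgroup.le_normalizer).toEquiv

theorem card_Zq (Q : Subgroup G) : Nat.card (Zq Q) = Nat.card (Zs Q) :=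
  Nat.card_congr (Subgroup.subgroupOfEquivOfLe (Zs_le_normalizer Q)).toEquiv

theorem index_Qs (F : ZTFacts a b Q q n) (hN : Nat.card Q = q ^ 3) :
    (Qs Q).index = q - 1 := by
  have h1 := Subgroup.card_mul_index (Qs Q)
  rw [card_Qs, hN, card_HQ F hN] at h1
  have hq := q_ge_four F
  have hpos : 0 < q ^ 3 := by positivity
  exact Nat.eq_of_mul_eq_mul_left hpos h1

theorem index_Zq (F : ZTFacts a b Q q n) (hN : Nat.card Q = q ^ 3) :
    (Zq Q).index = q ^ 2 * (q - 1) := by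
  have h1 := Subgroup.card_mul_index (Zq Q)
  rw [card_Zq, F.card_Zs, card_HQ F hN] at h1
  have hq := q_ge_four F
  have hpos : 0 < q := by omega
  apply Nat.eq_of_mul_eq_mul_left hpos
  rw [h1]; ring

/-- the non-identity elements of `Z(Q)` are conjugate in `H` -/
theorem Zq_conj (F : ZTFacts a b Q q n) (z z' : HQ Q) (hz : z ∈ Zq Q) (hz' : z' ∈ Zq Q)
    (hz1 : z ≠ 1) (hz'1 : z' ≠ 1) : ∃ h : HQ Q, h * z * h⁻¹ = z' := by
  rw [Subgroup.mem_subgroupOf] at hz hz'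
  have h1 : (z : G) ≠ 1 := fun h => hz1 (Subtype.ext h)
  have h1' : (z' : G) ≠ 1 := fun h => hz'1 (Subtype.ext h)
  obtain ⟨k, hk, hkz⟩ := F.K_trans _ hz _ hz' h1 h1'
  have hkH : k ∈ Subgroup.normalizer (Q : Set G) := by
    rw [normalizer_eq F]
    exact hk.1
  exact ⟨⟨k, hkH⟩, Subtype.ext hkz⟩

/-- commutators of `Q` lie in `Z(Q)` -/
theorem comm_mem_Zq (F : ZTFacts a b Q q n) (x y : Qs Q) :
    ((⁅x, y⁆ : Qs Q) : HQ Q) ∈ Zq Q := by
  rw [Subgroup.mem_subgroupOf]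
  have hx : ((x : HQ Q) : G) ∈ Q := Subgroup.mem_subgroupOf.1 x.2
  have hy : ((y : HQ Q) : G) ∈ Q := Subgroup.mem_subgroupOf.1 y.2
  have := F.comm_mem _ (Q.inv_mem hx) _ (Q.inv_mem hy)
  simp only [inv_inv] at this
  have h2 : (((⁅x, y⁆ : Qs Q) : HQ Q) : G)
      = ((x : HQ Q) : G) * ((y : HQ Q) : G) * ((x : HQ Q) : G)⁻¹ * ((y : HQ Q) : G)⁻¹ := by
    rw [commutatorElement_def]
    simp
  rw [h2]
  exact this

end Cfsg.Agent.Helper42.SzOrd
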