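import Cfsg.Agent.Helper42.SzOrdCBase
import Cfsg.Agent.Helper74.CharCenter

/-!
# Helper42 / Suzuki order theorem, Part C: two general character lemmas

* `const_on_normal_of_inner_ne_zero` (Clifford): if the trivial character of a normal subgroup `Z`
  occurs in the restriction of an irreducible character `φ`, then `φ` is constant on `Z`.
* `eq_of_indFun_eq`: if the character induced from a character `ψ` of a normal subgroup takes the
  same value at `z` and `1`, so does `ψ`.
-/

set_option autoImplicit false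

namespace Cfsg.Agent.Helper42.SzOrd

open Cfsg
open scoped ComplexConjugate

universe u

variable {H : Type u} [Group H] [Fintype H]

theorem const_on_normal_of_inner_ne_zero (Z : Subgroup H) [hZ : Z.Normal] [Fintype Z]
    {φ : H → ℂ} (hφ : IsIrrCharacter H φ)
    (hm : classInner (fun z : Z => φ z) (fun _ => (1 : ℂ)) ≠ 0) : ∀ z : Z, φ z = φ 1 := by
  classical
  let _ := Cfsg.Agent.Helper74.irrFintype Z
  have hres : IsCharacter Z (fun z : Z => φ z) :=
    Cfsg.Agent.Helper74.isCharacter_restrict Z (Cfsg.Agent.Helper74.isCharacter_of_isIrr hφ)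
  have hone : IsIrrCharacter Z (fun _ => (1 : ℂ)) := Cfsg.Agent.Helper79.isIrrCharacter_one
  have key : ∀ θ : IrrCharacter Z, classInner (fun z : Z => φ z) (θ : Z → ℂ) ≠ 0 →
      ∀ z : Z, (θ : Z → ℂ) z = (θ : Z → ℂ) 1 := by
    intro θ hθ z
    obtain ⟨g, hg⟩ := Cfsg.Agent.Helper15.exists_conj_of_constituents Z hφ hone θ.2 hm hθ
    rw [hg]
    rfl
  have hdec := Cfsg.Agent.Helper74.isCharacter_eq_sum_irr hres
  have hval : ∀ z : Z, φ z = ∑ θ : IrrCharacter Z,
      classInner (fun z : Z => φ z) (θ : Z → ℂ) * (θ : Z → ℂ) z := by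
    intro z
    have := congrFun hdec z
    simp only [Finset.sum_apply, Pi.smul_apply, smul_eq_mul] at this
    exact this
  intro z
  rw [hval z, show φ 1 = φ ((1 : Z) : H) from rfl, hval 1]
  refine Finset.sum_congr rfl fun θ _ => ?_
  by_cases h0 : classInner (fun z : Z => φ z) (θ : Z → ℂ) = 0
  · rw [h0, zero_mul, zero_mul]
  · rw [key θ h0 z]

theorem eq_of_indFun_eq (N : Subgroup H) [hN : N.Normal] {ψ : N → ℂ} (hψ : IsCharacter N ψ)
    (z : N) (h : indFun N ψ (z : H) = indFun N ψ 1) : ψ z = ψ 1 := by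
  classical
  have hcard : (Nat.card N : ℂ) ≠ 0 := by
    have : Nat.card N ≠ 0 := Nat.card_pos.ne'
    exact_mod_cast this
  have h1 : indFun N ψ ((1 : N) : H) = indFun N ψ 1 := rfl
  rw [← h1, Cfsg.Agent.Helper15.indFun_normal_apply, Cfsg.Agent.Helper15.indFun_normal_apply] at h
  have h2 : ∑ g : H, Cfsg.Agent.Helper15.conjFun N g ψ z
      = ∑ g : H, Cfsg.Agent.Helper15.conjFun N g ψ 1 := mul_left_cancel₀ (inv_ne_zero hcard) h
  have hd := Cfsg.Agent.Helper74.charDegree_cast hψ
  -- real parts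
  have hle : ∀ g : H, (Cfsg.Agent.Helper15.conjFun N g ψ z).re ≤ (charDegree ψ : ℝ) := by
    intro g
    rw [Cfsg.Agent.Helper15.conjFun_apply]
    exact (Complex.re_le_norm _).trans (Cfsg.Agent.Helper74.norm_le_charDegree hψ _)
  have hsum : ∑ g : H, ((charDegree ψ : ℝ) - (Cfsg.Agent.Helper15.conjFun N g ψ z).re) = 0 := by
    have h3 := congrArg Complex.re h2
    rw [Complex.re_sum, Complex.re_sum] at h3
    rw [Finset.sum_sub_distrib, h3]
    have : ∀ g : H, (Cfsg.Agent.Helper15.conjFun N g ψ 1).re = (charDegree ψ : ℝ) := by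
      intro g
      rw [Cfsg.Agent.Helper15.conjFun_apply_one, ← hd]
      simp
    rw [Finset.sum_congr rfl (fun g _ => this g)]
    simp
  have h4 := (Finset.sum_eq_zero_iff_of_nonneg (fun g _ => sub_nonneg.2 (hle g))).1 hsum 1
    (Finset.mem_univ _)
  rw [Cfsg.Agent.Helper15.conjFun_one] at h4
  have hre : (ψ z).re = (charDegree ψ : ℝ) := by linarith
  have hnorm := Cfsg.Agent.Helper74.norm_le_charDegree hψ z
  have him : (ψ z).im = 0 := by
    have h5 : ‖ψ z‖ ^ 2 = (ψ z).re ^ 2 + (ψ z).im ^ 2 := by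
      rw [← Complex.normSq_eq_norm_sq, Complex.normSq_apply]; ring
    have h6 : ‖ψ z‖ ^ 2 ≤ (charDegree ψ : ℝ) ^ 2 :=
      pow_le_pow_left₀ (norm_nonneg _) hnorm 2
    rw [h5, hre] at h6
    have h7 : (ψ z).im ^ 2 ≤ 0 := by linarith
    have h8 : (ψ z).im ^ 2 = 0 := le_antisymm h7 (sq_nonneg _)
    exact pow_eq_zero_iff (two_ne_zero) |>.mp h8
  rw [← hd]
  apply Complex.ext
  · rw [hre]; simp
  · rw [him]; simp

end Cfsg.Agent.Helper42.SzOrd
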