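import Cfsg.Agent.Helper42.SzOrdCChar
import Cfsg.Agent.Helper74.DegP
import Cfsg.Agent.Helper15.ItoCoreB

/-!
# Helper42 / Suzuki order theorem, Part C, piece (CIRRH1): the relevant characters of `H = Q K`
-/

set_option autoImplicit false

namespace Cfsg.Agent.Helper42.SzOrd

open Cfsg MulAction Cfsg.Agent.Helper75 Cfsg.Agent.Helper95.SzOrd
open scoped ComplexConjugate

variable {G Ω : Type*} [Group G] [Fintype G] [MulAction G Ω] [Fintype Ω]
variable {a b : Ω} {Q : Subgroup G} {q n : ℕ}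

/-- (CIRRH1) The relevant characters of `H = Q K`. -/
theorem CIRRH1 (F : ZTFacts a b Q q n) (hN : Nat.card Q = q ^ 3) [Fintype (HQ Q)] :
    ∀ φ : SQ Q, ∃ f : ℕ, (φ.1 : HQ Q → ℂ) 1 = ((q - 1 : ℕ) : ℂ) * (f : ℂ) ∧
      ((f = 1 ∧ TrivZ Q (φ.1 : HQ Q → ℂ)) ∨
       ((∃ k : ℕ, f = 2 ^ k) ∧ ¬ TrivZ Q (φ.1 : HQ Q → ℂ) ∧
          ∀ z : HQ Q, (z : G) ∈ Zs Q → z ≠ 1 → (φ.1 : HQ Q → ℂ) z = -(f : ℂ))) := by
  classical
  intro φ
  obtain ⟨ψ, hψ, hφψ⟩ := tf_mem_induced (cent_le F) φ.2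
  have hψc : IsCharacter _ ψ := Cfsg.Agent.Helper74.isCharacter_of_isIrr hψ
  have hdeg : (φ.1 : HQ Q → ℂ) 1 = ((q - 1 : ℕ) : ℂ) * (charDegree ψ : ℂ) := by
    rw [hφψ, Cfsg.Agent.Helper15.indFun_apply_one]
    have := index_Qs F hN
    unfold Qs at this
    rw [this, Cfsg.Agent.Helper74.charDegree_cast hψc]
  refine ⟨charDegree ψ, hdeg, ?_⟩
  by_cases hT : TrivZ Q (φ.1 : HQ Q → ℂ)
  · left
    refine ⟨?_, hT⟩
    have hz : ∀ z : Qs Q, (z : HQ Q) ∈ Zq Q → ψ z = ψ 1 := by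
      intro z hz
      apply eq_of_indFun_eq (Qs Q) hψc z
      have := hT (z : HQ Q) (Subgroup.mem_subgroupOf.1 hz)
      rw [hφψ] at this
      exact this
    have h1 : ψ 1 = 1 := Cfsg.Agent.Helper15.ItoCore.degree_one_of_commutator_ker hψ
      (fun x y => hz _ (comm_mem_Zq F x y))
    have h2 := Cfsg.Agent.Helper74.charDegree_cast hψc
    rw [h1] at h2
    exact_mod_cast h2
  · right
    refine ⟨?_, hT, ?_⟩
    · have hdvd := Cfsg.Agent.Helper74.charDegree_dvd_card (⟨ψ, hψ⟩ : IrrCharacter _)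
      have hc : Nat.card (Qs Q) = 2 ^ (n * 3) := by
        rw [card_Qs, hN, F.hq, ← pow_mul]
      unfold Qs at hc
      rw [hc] at hdvd
      obtain ⟨k, _, hk⟩ := (Nat.dvd_prime_pow Nat.prime_two).1 hdvd
      exact ⟨k, hk⟩
    · intro z hz hz1
      letI : Fintype (Zq Q) := Fintype.ofFinite _
      have hm : classInner (fun w : Zq Q => (φ.1 : HQ Q → ℂ) w) (fun _ => (1 : ℂ)) = 0 := by
        by_contra hm
        apply hT
        intro w hw
        exact const_on_normal_of_inner_ne_zero (Zq Q) φ.1.2 hm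
          ⟨w, Subgroup.mem_subgroupOf.2 hw⟩
      have hcf : IsClassFunction (HQ Q) (φ.1 : HQ Q → ℂ) :=
        Cfsg.Agent.Helper74.isClassFunction_of_isCharacter
          (Cfsg.Agent.Helper74.isCharacter_of_isIrr φ.1.2)
      have hzq : z ∈ Zq Q := Subgroup.mem_subgroupOf.2 hz
      have hconst : ∀ w : Zq Q, w ≠ 1 → (φ.1 : HQ Q → ℂ) w = (φ.1 : HQ Q → ℂ) z := by
        intro w hw
        have hw1 : (w : HQ Q) ≠ 1 := fun h => hw (Subtype.ext h)
        obtain ⟨h, hh⟩ := Zq_conj F z w hzq w.2 hz1 hw1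
        rw [← hh]
        exact hcf z h
      have hcardZ : Fintype.card (Zq Q) = q := by
        rw [← Nat.card_eq_fintype_card, card_Zq, F.card_Zs]
      have hsum : ∑ w : Zq Q, (φ.1 : HQ Q → ℂ) w
          = (φ.1 : HQ Q → ℂ) 1 + ((q - 1 : ℕ) : ℂ) * (φ.1 : HQ Q → ℂ) z := by
        rw [← Finset.add_sum_erase Finset.univ _ (Finset.mem_univ (1 : Zq Q))]
        congr 1
        rw [Finset.sum_congr rfl (fun w hw => hconst w (Finset.ne_of_mem_erase hw)),
          Finset.sum_const, Finset.card_erase_of_mem (Finset.mem_univ _), Finset.card_univ,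
          hcardZ, nsmul_eq_mul]
      have hm2 : ∑ w : Zq Q, (φ.1 : HQ Q → ℂ) w = 0 := by
        unfold classInner at hm
        have hcard : (Nat.card (Zq Q) : ℂ) ≠ 0 := by
          have : Nat.card (Zq Q) ≠ 0 := Nat.card_pos.ne'
          exact_mod_cast this
        have := (mul_eq_zero.1 hm).resolve_left (inv_ne_zero hcard)
        simpa using this
      rw [hsum, hdeg] at hm2
      have hq := q_ge_four F
      have hq1 : ((q - 1 : ℕ) : ℂ) ≠ 0 := by
        have : q - 1 ≠ 0 := by omega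
        exact_mod_cast this
      have : ((q - 1 : ℕ) : ℂ) * ((charDegree ψ : ℂ) + (φ.1 : HQ Q → ℂ) z) = 0 := by
        rw [mul_add]; exact hm2
      have h3 := (mul_eq_zero.1 this).resolve_left hq1
      exact eq_neg_of_add_eq_zero_right h3

end Cfsg.Agent.Helper42.SzOrd
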