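import Cfsg.Agent.Helper42.SzOrdCIRRH1
import Cfsg.Agent.Helper9.FP1

/-!
# Helper42 / Suzuki order theorem, Part C, piece (CIRRH2): counting the relevant characters
-/

set_option autoImplicit false

namespace Cfsg.Agent.Helper42.SzOrd

open Cfsg MulAction Cfsg.Agent.Helper75 Cfsg.Agent.Helper95.SzOrd
open scoped ComplexConjugate

variable {G Ω : Type*} [Group G] [Fintype G] [MulAction G Ω] [Fintype Ω]
variable {a b : Ω} {Q : Subgroup G} {q n : ℕ}

/-- the characters non-trivial on `Q` are the relevant ones -/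
noncomputable def equivSQ (Q : Subgroup G) :
    {χ : IrrCharacter (HQ Q) // ∃ k ∈ Qs Q, (χ : HQ Q → ℂ) k ≠ (χ : HQ Q → ℂ) 1} ≃ SQ Q where
  toFun χ := ⟨χ.1, χ.1.2, by
    obtain ⟨k, hk, hne⟩ := χ.2
    exact ⟨k, Subgroup.mem_subgroupOf.1 hk, hne⟩⟩
  invFun φ := ⟨φ.1, by
    obtain ⟨_, k, hk, hne⟩ := φ.2
    exact ⟨k, Subgroup.mem_subgroupOf.2 hk, hne⟩⟩
  left_inv χ := rfl
  right_inv φ := rfl

/-- the characters non-trivial on `Z(Q)` are the relevant ones that are not `TrivZ` -/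
noncomputable def equivSQZ (Q : Subgroup G) :
    {χ : IrrCharacter (HQ Q) // ∃ k ∈ Zq Q, (χ : HQ Q → ℂ) k ≠ (χ : HQ Q → ℂ) 1}
      ≃ {φ : SQ Q // ¬ TrivZ Q (φ.1 : HQ Q → ℂ)} where
  toFun χ := ⟨⟨χ.1, χ.1.2, by
      obtain ⟨k, hk, hne⟩ := χ.2
      exact ⟨k, Zs_le Q (Subgroup.mem_subgroupOf.1 hk), hne⟩⟩, by
    obtain ⟨k, hk, hne⟩ := χ.2
    intro hT
    exact hne (hT k (Subgroup.mem_subgroupOf.1 hk))⟩
  invFun φ := ⟨φ.1.1, by
    have h := φ.2
    unfold TrivZ at h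
    push Not at h
    obtain ⟨z, hz, hne⟩ := h
    exact ⟨z, Subgroup.mem_subgroupOf.2 hz, hne⟩⟩
  left_inv χ := rfl
  right_inv φ := rfl

open Classical in
/-- (CIRRH2) Counting the relevant characters. -/
theorem CIRRH2 (F : ZTFacts a b Q q n) (hN : Nat.card Q = q ^ 3) [Fintype (HQ Q)] :
    Nat.card {φ : SQ Q // TrivZ Q (φ.1 : HQ Q → ℂ)} = q + 1 ∧
    (∀ g : SQ Q → ℕ, (∀ φ : SQ Q, (φ.1 : HQ Q → ℂ) 1 = ((q - 1 : ℕ) : ℂ) * (g φ : ℂ)) →
      ∑ φ : SQ Q, (if TrivZ Q (φ.1 : HQ Q → ℂ) then 0 else (g φ) ^ 2) = q ^ 2) := by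
  classical
  letI : Fintype (IrrCharacter (HQ Q)) := Cfsg.Agent.Helper74.irrFintype (HQ Q)
  have hq := q_ge_four F
  obtain ⟨d, hd⟩ : ∃ d, q = d + 1 := ⟨q - 1, by omega⟩
  have hd1 : q - 1 = d := by omega
  have hd0 : 0 < d := by omega
  choose f hfdeg hfcase using CIRRH1 F hN
  -- degrees
  have hD : ∀ φ : SQ Q, charDegree (φ.1 : HQ Q → ℂ) = d * f φ := by
    intro φ
    have h1 := Cfsg.Agent.Helper74.charDegree_cast (Cfsg.Agent.Helper74.isCharacter_of_isIrr φ.1.2)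
    rw [hfdeg φ, hd1] at h1
    exact_mod_cast h1
  -- the two counting identities
  have hA : ∑ φ : SQ Q, (d * f φ) * (d * f φ) + d = (d + 1) ^ 3 * d := by
    have h := Cfsg.Agent.Helper9.FP.fp_sum_degree_sq (Qs Q)
    rw [index_Qs F hN, card_HQ F hN, hd1, hd] at h
    rw [← h]
    congr 1
    symm
    apply Fintype.sum_equiv (equivSQ Q)
    intro χ
    rw [← hD]
    rfl
  have hB : ∑ φ : {φ : SQ Q // ¬ TrivZ Q (φ.1 : HQ Q → ℂ)}, (d * f φ.1) * (d * f φ.1)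
      + (d + 1) ^ 2 * d = (d + 1) ^ 3 * d := by
    have h := Cfsg.Agent.Helper9.FP.fp_sum_degree_sq (Zq Q)
    rw [index_Zq F hN, card_HQ F hN, hd1, hd] at h
    rw [← h]
    congr 1
    symm
    apply Fintype.sum_equiv (equivSQZ Q)
    intro χ
    rw [← hD]
    rfl
  -- split the sum over `SQ Q`
  have hsplit : ∑ φ : SQ Q, (f φ) ^ 2
      = ∑ φ ∈ Finset.univ.filter (fun φ : SQ Q => TrivZ Q (φ.1 : HQ Q → ℂ)), (f φ) ^ 2
        + ∑ φ ∈ Finset.univ.filter (fun φ : SQ Q => ¬ TrivZ Q (φ.1 : HQ Q → ℂ)), (f φ) ^ 2 :=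
    (Finset.sum_filter_add_sum_filter_not _ _ _).symm
  have hsub : ∑ φ : {φ : SQ Q // ¬ TrivZ Q (φ.1 : HQ Q → ℂ)}, (f φ.1) ^ 2
      = ∑ φ ∈ Finset.univ.filter (fun φ : SQ Q => ¬ TrivZ Q (φ.1 : HQ Q → ℂ)), (f φ) ^ 2 := by
    symm
    apply Finset.sum_subtype
    intro φ
    simp
  set ST := ∑ φ ∈ Finset.univ.filter (fun φ : SQ Q => TrivZ Q (φ.1 : HQ Q → ℂ)), (f φ) ^ 2
    with hST
  set SN := ∑ φ ∈ Finset.univ.filter (fun φ : SQ Q => ¬ TrivZ Q (φ.1 : HQ Q → ℂ)), (f φ) ^ 2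
    with hSN
  have hA' : d * d * (ST + SN) + d = (d + 1) ^ 3 * d := by
    rw [← hA, ← hsplit, Finset.mul_sum]
    congr 1
    refine Finset.sum_congr rfl fun φ _ => ?_
    ring
  have hB' : d * d * SN + (d + 1) ^ 2 * d = (d + 1) ^ 3 * d := by
    rw [← hB, ← hsub, Finset.mul_sum]
    congr 1
    refine Finset.sum_congr rfl fun φ _ => ?_
    ring
  have hSNv : SN = (d + 1) ^ 2 := by
    have h1 : d * d * SN = d * d * (d + 1) ^ 2 := by
      have : d * d * SN + (d + 1) ^ 2 * d = d * d * (d + 1) ^ 2 + (d + 1) ^ 2 * d := by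
        rw [hB']; ring
      exact Nat.add_right_cancel this
    exact Nat.eq_of_mul_eq_mul_left (Nat.mul_pos hd0 hd0) h1
  have hSTv : ST = d + 2 := by
    have h1 : d * d * ST = d * d * (d + 2) := by
      have : d * d * ST + (d * d * SN + d) = d * d * (d + 2) + (d * d * SN + d) := by
        rw [hSNv]
        have := hA'
        rw [hSNv] at this
        calc d * d * ST + (d * d * (d + 1) ^ 2 + d)
            = d * d * (ST + (d + 1) ^ 2) + d := by ring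
          _ = (d + 1) ^ 3 * d := this
          _ = d * d * (d + 2) + (d * d * (d + 1) ^ 2 + d) := by ring
      exact Nat.add_right_cancel this
    exact Nat.eq_of_mul_eq_mul_left (Nat.mul_pos hd0 hd0) h1
  have hf1 : ∀ φ : SQ Q, TrivZ Q (φ.1 : HQ Q → ℂ) → f φ = 1 := by
    intro φ hT
    rcases hfcase φ with ⟨h1, _⟩ | ⟨_, h2, _⟩
    · exact h1
    · exact absurd hT h2
  refine ⟨?_, ?_⟩
  · rw [Nat.card_eq_fintype_card, Fintype.card_subtype, hd]
    have : ST = (Finset.univ.filter (fun φ : SQ Q => TrivZ Q (φ.1 : HQ Q → ℂ))).card := by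
      rw [hST, Finset.card_eq_sum_ones]
      refine Finset.sum_congr rfl fun φ hφ => ?_
      rw [hf1 φ (Finset.mem_filter.1 hφ).2]
      norm_num
    rw [← this, hSTv]
  · intro g hg
    have hgf : ∀ φ : SQ Q, g φ = f φ := by
      intro φ
      have h1 := hg φ
      rw [hfdeg φ, hd1] at h1
      have hdC : (d : ℂ) ≠ 0 := by exact_mod_cast hd0.ne'
      have := mul_left_cancel₀ hdC h1
      exact_mod_cast this.symm
    rw [Finset.sum_ite, Finset.sum_const_zero, zero_add, hd, ← hSNv, hSN]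
    refine Finset.sum_congr rfl fun φ _ => ?_
    rw [hgf φ]

end Cfsg.Agent.Helper42.SzOrd
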