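import Mathlib
import Cfsg.Agent.Helper95.TIC.Defs
import Cfsg.Agent.Helper89.TIC_B1

/-!
helper42 for helper95 (S4064, #12259): piece TIC (B2) `exists_block` — every non-identity element lies
in a block.  Uses helper89's landed `commute_of_nilpotent`, `isPGroup_zpowers_of_pow` (TIC_B1.lean).
-/

set_option autoImplicit false

namespace Cfsg.Agent.Helper42.TICent

open Subgroup Cfsg.Agent.Helper95.TICent

variable {G : Type*} [Group G]

/-- (B2) Every non-identity element lies in a block. -/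
theorem exists_block [Finite G] (hCN : Cfsg.IsCNGroup G)
    (hB1 : ∀ (p : ℕ) [Fact p.Prime] (P : Sylow p G) (z : G), z ∈ P → z ≠ 1 →
      (∀ u ∈ P, u * z = z * u) → IsBlock (centralizer ({z} : Set G)))
    {x : G} (hx : x ≠ 1) : ∃ M : Subgroup G, IsBlock M ∧ x ∈ M := by
  classical
  -- a power of `x` of prime order
  have hn1 : orderOf x ≠ 1 := fun h => hx (orderOf_eq_one_iff.mp h)
  have hn0 : orderOf x ≠ 0 := (orderOf_pos x).ne'
  obtain ⟨p, hp, hpn⟩ := Nat.exists_prime_and_dvd hn1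
  have : Fact p.Prime := ⟨hp⟩
  obtain ⟨x', hx'def⟩ : ∃ x' : G, x' = x ^ (orderOf x / p) := ⟨_, rfl⟩
  have hordx' : orderOf x' = p := by
    rw [hx'def]
    exact orderOf_pow_orderOf_div hn0 hpn
  have hx'1 : x' ≠ 1 := by
    intro h
    rw [h, orderOf_one] at hordx'
    exact hp.one_lt.ne hordx'
  have hx'p : ∃ k : ℕ, x' ^ p ^ k = 1 := ⟨1, by rw [pow_one, ← hordx', pow_orderOf_eq_one]⟩
  -- its nilpotent centralizer
  obtain ⟨N, hNdef⟩ : ∃ N : Subgroup G, N = centralizer ({x'} : Set G) := ⟨_, rfl⟩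
  have hN : Group.IsNilpotent N := by rw [hNdef]; exact hCN x' hx'1
  have hmemN : ∀ g : G, g ∈ N ↔ g * x' = x' * g := by
    intro g
    rw [hNdef, mem_centralizer_singleton_iff]
  have hxN : x ∈ N := by
    rw [hmemN, hx'def, ← pow_succ', ← pow_succ]
  have hx'N : x' ∈ N := by rw [hmemN]
  -- the Sylow `p`-subgroup of `N`
  obtain ⟨P₀⟩ : Nonempty (Sylow p N) := inferInstance
  have hnorm : (P₀ : Subgroup N).Normal :=
    Sylow.normal_of_normalizerCondition Group.normalizerCondition_of_isNilpotent P₀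
  let _ := Sylow.unique_of_normal P₀ hnorm
  have hpelt : ∀ w : G, ∀ hwN : w ∈ N, (∃ k : ℕ, w ^ p ^ k = 1) →
      (⟨w, hwN⟩ : N) ∈ (P₀ : Subgroup N) := by
    intro w hwN hw
    have hpg : IsPGroup p (zpowers (⟨w, hwN⟩ : N)) := by
      apply Cfsg.Agent.Helper89.TICent.isPGroup_zpowers_of_pow
      obtain ⟨k, hk⟩ := hw
      exact ⟨k, Subtype.ext (by simpa using hk)⟩
    obtain ⟨Q, hQ⟩ := hpg.exists_le_sylow
    have hQP : Q = P₀ := Subsingleton.elim _ _
    rw [← hQP]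
    exact hQ (mem_zpowers _)
  -- a Sylow `p`-subgroup of `G` containing it
  have hQ₀ : IsPGroup p ((P₀ : Subgroup N).map N.subtype) := P₀.isPGroup'.map N.subtype
  obtain ⟨P, hP⟩ := hQ₀.exists_le_sylow
  have hpeltP : ∀ w : G, w ∈ N → (∃ k : ℕ, w ^ p ^ k = 1) → w ∈ P := by
    intro w hwN hw
    apply hP
    exact ⟨⟨w, hwN⟩, hpelt w hwN hw, rfl⟩
  have hx'P : x' ∈ P := hpeltP x' hx'N hx'p
  -- a non-identity central element of `P`
  have : Nontrivial P := ⟨⟨⟨x', hx'P⟩, 1, fun h => hx'1 (congrArg Subtype.val h)⟩⟩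
  have : Nontrivial (center P) := P.isPGroup'.center_nontrivial
  obtain ⟨z₀, hz₀⟩ := exists_ne (1 : center P)
  obtain ⟨z, hzdef⟩ : ∃ z : G, z = ((z₀ : P) : G) := ⟨_, rfl⟩
  have hzP : z ∈ P := by rw [hzdef]; exact (z₀ : P).2
  have hz1 : z ≠ 1 := by
    intro h
    apply hz₀
    apply Subtype.ext
    apply Subtype.ext
    rw [← hzdef, h]
    rfl
  have hzc : ∀ u ∈ P, u * z = z * u := by
    intro u hu
    have h1 := Subgroup.mem_center_iff.mp z₀.2 ⟨u, hu⟩
    have h2 := congrArg (Subtype.val : P → G) h1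
    rw [hzdef]
    exact h2
  have hzp : ∃ k : ℕ, z ^ p ^ k = 1 := by
    obtain ⟨k, hk⟩ := P.isPGroup' ⟨z, hzP⟩
    exact ⟨k, by simpa using congrArg (Subtype.val : P → G) hk⟩
  have hzN : z ∈ N := by
    rw [hmemN]
    exact (hzc x' hx'P).symm
  refine ⟨centralizer ({z} : Set G), hB1 p P z hzP hz1 hzc, ?_⟩
  rw [mem_centralizer_singleton_iff]
  exact Cfsg.Agent.Helper89.TICent.commute_of_nilpotent N hN hzN hzp
    (fun w hwN hw => hzc w (hpeltP w hwN hw)) x hxN

end Cfsg.Agent.Helper42.TICent
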