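import Mathlib
import Cfsg.Agent.Helper95.TIC.Defs
import Cfsg.Agent.Helper95.FrobCompl6

/-!
helper42 for helper95 (S4064, #12259): piece TIC (FCU) `fclike_of_isFrobeniusComplement` — the
universe-polymorphic form of `Helper95.FrobCompl.fclike_of_frobenius_complement` (same proof, with
`G := H`, `e := MulEquiv.refl _`).
-/

set_option autoImplicit false

namespace Cfsg.Agent.Helper42.TICent

open Subgroup Cfsg.Agent.Helper95.FrobCompl Cfsg.Agent.Helper95.TICent
open scoped Pointwise

/-- (FCU) -/
theorem fclike_of_isFrobeniusComplement {L : Type*} [Group L] [Finite L] (H : Subgroup L)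
    (hH : Cfsg.IsFrobeniusComplement H) : FCLike H := by
  obtain ⟨N, hN, hNn, hcompl⟩ := Cfsg.Agent.S0035.result H hH
  -- the kernel is nontrivial
  have hNnt : Nontrivial N := by
    by_contra hnt
    rw [not_nontrivial_iff_subsingleton] at hnt
    have h1 : Nat.card N = 1 := Nat.card_unique
    have h2 := hcompl.card_mul_card
    rw [h1, one_mul] at h2
    exact hH.2.1 ((Subgroup.card_eq_iff_eq_top H).mp h2)
  -- the action
  let ρ : H →* MulAut N := (MulAut.conjNormal (H := N)).comp H.subtype
  have hρ : ∀ (h : H) (k : N), ((ρ h k : N) : L) = (h : L) * (k : L) * (h : L)⁻¹ := by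
    intro h k
    show ((MulAut.conjNormal (h : L) k : N) : L) = _
    rw [MulAut.conjNormal_apply]
  have hfpf0 : ∀ h : H, h ≠ 1 → ∀ k : N, ρ h k = k → k = 1 := by
    intro h hh1 k hk
    by_contra hk1
    have hkL : (k : L) ≠ 1 := fun h0 => hk1 (Subtype.ext h0)
    have hker : (k : L) ∈ Cfsg.frobeniusKernel H := by rw [← hN]; exact k.2
    have hnot : ∀ g : L, (k : L) ∉ MulAut.conj g • H := by
      rcases hker with h0 | h0
      · exact absurd h0 hkL
      · exact h0
    have hkH : (k : L)⁻¹ ∉ H := by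
      intro h0
      have h1 : (k : L) ∈ H := by simpa using H.inv_mem h0
      apply hnot 1
      rw [map_one, one_smul]
      exact h1
    have hbot := hH.2.2 (k : L)⁻¹ hkH
    have h1 : (h : L) ∈ H ⊓ MulAut.conj (k : L)⁻¹ • H := by
      refine Subgroup.mem_inf.mpr ⟨h.2, ?_⟩
      rw [Subgroup.mem_smul_pointwise_iff_exists]
      refine ⟨h, h.2, ?_⟩
      show MulAut.conj (k : L)⁻¹ (h : L) = h
      rw [MulAut.conj_apply, inv_inv]
      have h2 := congrArg (Subtype.val : N → L) hk
      rw [hρ] at h2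
      calc (k : L)⁻¹ * h * k = (k : L)⁻¹ * (h * k * (h : L)⁻¹) * h := by group
        _ = h := by rw [h2]; group
    rw [hbot, Subgroup.mem_bot] at h1
    exact hh1 (Subtype.ext h1)
  have hinj : Function.Injective ρ := by
    rw [injective_iff_map_eq_one]
    intro h hh
    by_contra hh1
    obtain ⟨k, hk⟩ := exists_ne (1 : N)
    apply hk
    apply hfpf0 h hh1 k
    rw [hh]
    rfl
  have hfpf : ∀ φ ∈ ρ.range, φ ≠ 1 → ∀ k : N, φ k = k → k = 1 := by
    rintro _ ⟨h, rfl⟩ hφ k hk
    apply hfpf0 h _ k hk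
    intro h0
    apply hφ
    rw [h0, map_one]
  have hΓ := fclike_of_fpf ρ.range hfpf
  exact FCLike.of_equiv (MonoidHom.ofInjective hinj) hΓ

end Cfsg.Agent.Helper42.TICent
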