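import Cfsg.Agent.Helper80.Tor.Defs

/-!
helper42 for helper80 (S2372/S2375, #13336): piece (NT8) `exists_prime_F4` — an odd prime `r ∣ q ^ 4 + 1`
has `q` of order `8` modulo `r`, hence `r ≡ 1 (mod 8)` and `r ≥ 17`.
-/

set_option autoImplicit false

namespace Cfsg.Agent.Helper42.Tor

open Cfsg.Agent.Helper18 (zact)
open Polynomial

/-- `q ^ 4 + 1` has an odd prime factor -/
theorem NT8_odd_prime (q : ℕ) (hq : 2 ≤ q) : ∃ r : ℕ, r.Prime ∧ r ∣ q ^ 4 + 1 ∧ r ≠ 2 := by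
  have hN : 17 ≤ q ^ 4 + 1 := by
    have : 2 ^ 4 ≤ q ^ 4 := Nat.pow_le_pow_left hq 4
    omega
  obtain ⟨v, m, hm, hNm⟩ := Nat.exists_eq_two_pow_mul_odd (n := q ^ 4 + 1) (by omega)
  -- `4 ∤ q ^ 4 + 1`
  have h4 : ¬ 4 ∣ q ^ 4 + 1 := by
    intro h
    have h1 : (q ^ 4 + 1) % 4 = 0 := Nat.mod_eq_zero_of_dvd h
    have h2 : (q ^ 4 + 1) % 4 = ((q % 4) ^ 4 + 1) % 4 := by
      rw [Nat.add_mod, Nat.pow_mod]
      simp
    rw [h2] at h1
    have h3 : q % 4 < 4 := Nat.mod_lt _ (by norm_num)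
    interval_cases (q % 4) <;> omega
  have hv : v ≤ 1 := by
    by_contra hlt
    apply h4
    rw [hNm]
    exact Dvd.dvd.mul_right (pow_dvd_pow 2 (by omega : 2 ≤ v)) m
  have hm1 : m ≠ 1 := by
    intro h1
    rw [h1, mul_one] at hNm
    have : 2 ^ v ≤ 2 ^ 1 := Nat.pow_le_pow_right (by norm_num) hv
    omega
  refine ⟨m.minFac, Nat.minFac_prime hm1, ?_, ?_⟩
  · rw [hNm]
    exact Dvd.dvd.mul_left (Nat.minFac_dvd m) _
  · intro h2
    have h3 : 2 ∣ m := by rw [← h2]; exact Nat.minFac_dvd m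
    rcases hm with ⟨k, hk⟩
    omega

/-- (NT8) -/
theorem exists_prime_F4 (q : ℕ) (hq : 2 ≤ q) :
    ∃ r : ℕ, r.Prime ∧ r ∣ q ^ 4 + 1 ∧ 17 ≤ r ∧ orderOf (q : ZMod r) = 8 := by
  obtain ⟨r, hr, hdvd, hr2⟩ := NT8_odd_prime q hq
  have hfact : Fact r.Prime := ⟨hr⟩
  have h2lt : Fact (2 < r) := ⟨lt_of_le_of_ne hr.two_le (Ne.symm hr2)⟩
  -- `q ^ 4 = -1` in `ZMod r`
  have h4 : (q : ZMod r) ^ 4 = -1 := by
    have h0 : ((q ^ 4 + 1 : ℕ) : ZMod r) = 0 := (ZMod.natCast_eq_zero_iff _ _).mpr hdvd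
    push_cast at h0
    exact eq_neg_of_add_eq_zero_left h0
  have hne : (q : ZMod r) ^ 2 ^ 2 ≠ 1 := by
    have : (2 : ℕ) ^ 2 = 4 := by norm_num
    rw [this, h4]
    exact ZMod.neg_one_ne_one
  have h8 : (q : ZMod r) ^ 2 ^ (2 + 1) = 1 := by
    have : (2 : ℕ) ^ (2 + 1) = 4 * 2 := by norm_num
    rw [this, pow_mul, h4]
    norm_num
  have hord : orderOf (q : ZMod r) = 8 := by
    have := orderOf_eq_prime_pow hne h8
    rw [this]
    norm_num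
  refine ⟨r, hr, hdvd, ?_, hord⟩
  -- `8 ∣ r - 1`
  have hq0 : (q : ZMod r) ≠ 0 := by
    intro h0
    rw [h0] at h4
    have : (0 : ZMod r) ^ 4 = 0 := by norm_num
    rw [this] at h4
    have h5 : (-1 : ZMod r) ≠ 0 := neg_ne_zero.mpr one_ne_zero
    exact h5 h4.symm
  have h1 : (q : ZMod r) ^ (r - 1) = 1 := ZMod.pow_card_sub_one_eq_one hq0
  have h2 : 8 ∣ r - 1 := by
    rw [← hord]
    exact orderOf_dvd_of_pow_eq_one h1
  obtain ⟨k, hk⟩ := h2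
  have hr1 : 2 ≤ r := hr.two_le
  rcases Nat.lt_or_ge k 2 with hk2 | hk2
  · exfalso
    have : k = 0 ∨ k = 1 := by omega
    rcases this with rfl | rfl
    · omega
    · have h9 : r = 9 := by omega
      rw [h9] at hr
      norm_num at hr
  · omega

end Cfsg.Agent.Helper42.Tor
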