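import Mathlib

/-!
# Tuples with product one, counted modulo `p` by rotation (helper42, for helper16's KUL-B2)

`card_tuples_prod_eq_one_modEq`: the number of `p^m`-tuples with entries in `S` and product `1`
is congruent mod `p` to the number of `t ∈ S` with `t ^ p^m = 1` (McKay's rotation argument).
-/

set_option autoImplicit false

namespace Cfsg.Agent.Helper42.TupleRotate

theorem prod_ofFn_shift {G : Type*} [Group G] (k : ℕ) (v : Fin (k + 1) → G) :
    (List.ofFn (fun i => v (i + 1))).prod = (v 0)⁻¹ * (List.ofFn v).prod * v 0 := by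
  rw [List.ofFn_succ' (fun i => v (i + 1)), List.ofFn_succ (f := v), List.prod_concat, List.prod_cons]
  simp only [Fin.coeSucc_eq_succ, Fin.last_add_one]
  group

theorem const_of_shift {G : Type*} (k : ℕ) (v : Fin (k + 1) → G) (h : ∀ i, v (i + 1) = v i) (i : Fin (k + 1)) :
    v i = v 0 := by
  induction i using Fin.induction with
  | zero => rfl
  | succ i ih => rw [← Fin.coeSucc_eq_succ, h, ih]

variable {G : Type*} [Group G] [Fintype G] [DecidableEq G]

open Fin.NatCast in
theorem card_tuples_aux (p : ℕ) [Fact p.Prime] (m k : ℕ) (hk : k + 1 = p ^ m) (S : Finset G) :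
    Fintype.card {v : Fin (k + 1) → G // (∀ i, v i ∈ S) ∧ (List.ofFn v).prod = 1} ≡
      (S.filter (fun t => t ^ (k + 1) = 1)).card [MOD p] := by
  classical
  set X := {v : Fin (k + 1) → G // (∀ i, v i ∈ S) ∧ (List.ofFn v).prod = 1} with hX
  let f : Function.End X := fun v => ⟨fun i => v.1 (i + 1), fun i => v.2.1 _, by
    rw [prod_ofFn_shift, v.2.2]; group⟩
  have hpow : ∀ (j : ℕ) (v : X) (i : Fin (k + 1)), ((f ^ j) v).1 i = v.1 (i + (j : Fin (k + 1))) := by
    intro j
    induction j with
    | zero => intro v i; simp; rfl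
    | succ j ih =>
      intro v i
      rw [pow_succ]
      change ((f ^ j) (f v)).1 i = _
      rw [ih]
      change v.1 (i + (j : Fin (k + 1)) + 1) = _
      rw [Nat.cast_succ, add_assoc]
  have hf : f ^ p ^ m = 1 := by
    rw [← hk]
    funext v
    apply Subtype.ext
    funext i
    rw [hpow]
    simp
    rfl
  have h1 := Equiv.Perm.card_fixedPoints_modEq (f := f) (p := p) (n := m) hf
  refine h1.trans ?_
  have e : ↥(Function.fixedPoints f) ≃ ↥(S.filter (fun t => t ^ (k + 1) = 1)) :=
    { toFun := fun w => ⟨w.1.1 0, Finset.mem_filter.2 ⟨w.1.2.1 0, by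
        have hconst : ∀ i, w.1.1 i = w.1.1 0 := by
          refine const_of_shift k w.1.1 (fun i => ?_)
          have := w.2
          exact congrFun (congrArg Subtype.val this) i
        have hprod := w.1.2.2
        have : w.1.1 = fun _ => w.1.1 0 := funext hconst
        rw [this, List.ofFn_const, List.prod_replicate] at hprod
        exact hprod⟩⟩
      invFun := fun t => ⟨⟨fun _ => t.1, fun _ => (Finset.mem_filter.1 t.2).1, by
        rw [List.ofFn_const, List.prod_replicate]
        exact (Finset.mem_filter.1 t.2).2⟩, by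
          apply Subtype.ext
          rfl⟩
      left_inv := fun w => by
        apply Subtype.ext
        apply Subtype.ext
        funext i
        have hconst : ∀ i, w.1.1 i = w.1.1 0 := by
          refine const_of_shift k w.1.1 (fun i => ?_)
          have := w.2
          exact congrFun (congrArg Subtype.val this) i
        exact (hconst i).symm
      right_inv := fun t => rfl }
  rw [Fintype.card_congr e, Fintype.card_coe]

/-- McKay's rotation count: tuples of length `p^m` with entries in `S` and product `1`. -/
theorem card_tuples_prod_eq_one_modEq (p : ℕ) [Fact p.Prime] (m : ℕ) (S : Finset G) :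
    Fintype.card {v : Fin (p ^ m) → G // (∀ i, v i ∈ S) ∧ (List.ofFn v).prod = 1} ≡
      (S.filter (fun t => t ^ (p ^ m) = 1)).card [MOD p] := by
  have hpos : p ^ m ≠ 0 := pow_ne_zero _ (Fact.out : p.Prime).ne_zero
  obtain ⟨k, hk⟩ := Nat.exists_eq_succ_of_ne_zero hpos
  have key : ∀ N : ℕ, N = k + 1 →
      Fintype.card {v : Fin N → G // (∀ i, v i ∈ S) ∧ (List.ofFn v).prod = 1} ≡
        (S.filter (fun t => t ^ N = 1)).card [MOD p] := by
    intro N hN
    subst hN
    exact card_tuples_aux p m k hk.symm S
  exact key (p ^ m) hk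

end Cfsg.Agent.Helper42.TupleRotate
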