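import Mathlib
import Cfsg.Agent.Helper42.UnipI
import Cfsg.Agent.Helper14.AutSylow
import Cfsg.Agent.Helper74.DefectZero

/-!
# The Steinberg character of `PSL_n(q)` (helper42)

`steinberg_PSL`: an irreducible character of `PSL_n(q)` of degree the order of a Sylow
`p`-subgroup, vanishing on the non-identity elements of every Sylow `p`-subgroup.
-/

set_option autoImplicit false
set_option linter.unusedSectionVars false

namespace Cfsg.Agent.Helper42.Unip

open Cfsg Matrix
open scoped MatrixGroups

variable {F : Type*} [Field F] [Fintype F]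

/-- the centre of `SL_n` over a field of characteristic `p` has order prime to `p` -/
theorem not_dvd_card_center_SL (p : ℕ) [hp : Fact p.Prime] [CharP F p] (n : ℕ) (hn : 0 < n) :
    ¬ p ∣ Nat.card (Subgroup.center (Matrix.SpecialLinearGroup (Fin n) F)) := by
  intro hdvd
  obtain ⟨z, hz⟩ := exists_prime_orderOf_dvd_card' p hdvd
  obtain ⟨r, _, hr⟩ := Matrix.SpecialLinearGroup.mem_center_iff.1 z.2
  have hzp : z ^ p = 1 := by rw [← hz]; exact pow_orderOf_eq_one z
  have h1 : ((z : Matrix.SpecialLinearGroup (Fin n) F) : Matrix (Fin n) (Fin n) F) ^ p = 1 := by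
    have := congrArg (fun w : Subgroup.center (Matrix.SpecialLinearGroup (Fin n) F) =>
      ((w : Matrix.SpecialLinearGroup (Fin n) F) : Matrix (Fin n) (Fin n) F)) hzp
    simpa using this
  rw [← hr, ← map_pow] at h1
  have hrp : r ^ p = 1 := by
    have := congrFun (congrFun h1 ⟨0, hn⟩) ⟨0, hn⟩
    simpa [Matrix.scalar_apply] using this
  have hr1 : r = 1 := by
    have h2 : (r - 1) ^ p = 0 := by rw [sub_pow_char, hrp, one_pow, sub_self]
    have := pow_eq_zero_iff (hp.out.ne_zero) |>.1 h2
    exact sub_eq_zero.1 this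
  have hz1 : z = 1 := by
    apply Subtype.ext
    apply Subtype.ext
    rw [← hr, hr1]
    simp
  rw [hz1, orderOf_one] at hz
  exact hp.out.one_lt.ne' hz.symm

/-- the order of a Sylow `p`-subgroup of `PSL_n(q)` in the defining characteristic -/
theorem card_sylow_PSL (p : ℕ) [hp : Fact p.Prime] [CharP F p] (n : ℕ) (hn : 0 < n)
    (P : Sylow p (Matrix.ProjectiveSpecialLinearGroup (Fin n) F)) :
    Nat.card P = Fintype.card F ^ (n * (n - 1) / 2) := by
  obtain ⟨f, _, hF⟩ := FiniteField.card F p
  have hf : 1 ≤ (f : ℕ) := f.pos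
  rw [Sylow.card_eq_multiplicity]
  have h1 := Subgroup.card_eq_card_quotient_mul_card_subgroup
    (Subgroup.center (Matrix.SpecialLinearGroup (Fin n) F))
  have h2 : (Nat.card (Matrix.SpecialLinearGroup (Fin n) F)).factorization p =
      (Nat.card (Matrix.ProjectiveSpecialLinearGroup (Fin n) F)).factorization p := by
    rw [h1, Nat.factorization_mul Nat.card_pos.ne' Nat.card_pos.ne', Finsupp.add_apply,
      Nat.factorization_eq_zero_of_not_dvd (not_dvd_card_center_SL p n hn), add_zero]
  rw [← h2, Cfsg.Agent.Helper14.AutPSL.factorization_card_SL hF hf n hn, hF,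
    Fin.sum_univ_eq_sum_range (fun i => i) n, Finset.sum_range_id, ← pow_mul]

/-- the Steinberg character of `PSL_n(q)` -/
theorem steinberg_PSL (p : ℕ) [hp : Fact p.Prime] [CharP F p] (n : ℕ) (hn : 0 < n) :
    ∃ χ : Matrix.ProjectiveSpecialLinearGroup (Fin n) F → ℂ,
      IsIrrCharacter (Matrix.ProjectiveSpecialLinearGroup (Fin n) F) χ ∧
      ∀ P : Sylow p (Matrix.ProjectiveSpecialLinearGroup (Fin n) F), χ 1 = Nat.card P ∧
        ∀ x : Matrix.ProjectiveSpecialLinearGroup (Fin n) F, x ∈ P → x ≠ 1 → χ x = 0 := by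
  classical
  have : Fintype (Matrix.ProjectiveSpecialLinearGroup (Fin n) F) := Fintype.ofFinite _
  obtain ⟨ψ, hψ, hval⟩ := unipotent_PSL_exists (F := F) hn (fun _ : Fin n => 1) monotone_const
    (by simp)
  refine ⟨ψ, hψ, fun P => ?_⟩
  have h1 : ψ 1 = (Fintype.card F : ℂ) ^ (n * (n - 1) / 2) := by
    have := hval 1
    rw [map_one, steinberg_one] at this
    rw [← this]
    rfl
  have hP := card_sylow_PSL p n hn P
  have h1' : ψ 1 = (Nat.card P : ℂ) := by
    rw [h1, hP]
    push_cast
    rfl
  refine ⟨h1', fun x hx hx1 => ?_⟩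
  have hdeg : charDegree ψ = Nat.card P := by
    have := Helper74.charDegree_cast (Helper74.isCharacter_of_isIrr hψ)
    rw [h1'] at this
    exact_mod_cast this
  have hdiv : p ^ (Nat.card (Matrix.ProjectiveSpecialLinearGroup (Fin n) F)).factorization p ∣
      charDegree ψ := by
    rw [hdeg, Sylow.card_eq_multiplicity]
  have hy : p ∣ orderOf x := by
    obtain ⟨k, hk⟩ := (IsPGroup.iff_orderOf.1 P.isPGroup') ⟨x, hx⟩
    rw [Subgroup.orderOf_mk] at hk
    rw [hk]
    have hk0 : k ≠ 0 := by
      rintro rfl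
      rw [pow_zero, orderOf_eq_one_iff] at hk
      exact hx1 hk
    exact dvd_pow_self p hk0
  exact Helper74.irr_eq_zero_of_defect_zero ⟨ψ, hψ⟩ hp.out hdiv x hy

end Cfsg.Agent.Helper42.Unip
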