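import Mathlib
import Cfsg.Agent.Helper29.VL_LA1
import Cfsg.Agent.Helper50.VL_LA2
import Cfsg.Agent.Helper29.VL_LA3

/-!
# helper39 S3777 STEP 1 piece (LA): `good_span` (the double count)
-/

set_option autoImplicit false

namespace Cfsg.Agent.Helper42.VL

theorem LA_natCard_setOf {α : Type*} [Fintype α] (P : α → Prop) [DecidablePred P] :
    Nat.card {x : α | P x} = (Finset.univ.filter P).card := by
  rw [Nat.card_coe_set_eq, ← Set.ncard_coe_finset]
  congr 1
  ext x
  simp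

/-- the arithmetic contradiction -/
theorem LA_arith (n p a b X : ℤ) (hp : 2 ≤ p) (hn : 1 ≤ n) (ha : a + p = n)
    (hb : p * b = n * (p - 1)) (h1 : a * (n * (p - 1) ^ 2) ≤ p ^ 3 * X)
    (h2 : p ^ 2 * (X + b) ≤ b * n) : False := by
  have ha' : a = n - p := by linarith
  subst ha'
  -- p^3 X ≤ p b n - p^3 b = n (p-1) n - p^2 n (p-1)
  have h3 : p ^ 3 * X ≤ n * (p - 1) * (n - p ^ 2) := by
    have : p * (p ^ 2 * (X + b)) ≤ p * (b * n) := mul_le_mul_of_nonneg_left h2 (by linarith)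
    have e1 : p * (p ^ 2 * (X + b)) = p ^ 3 * X + p ^ 2 * (p * b) := by ring
    have e2 : p * (b * n) = (p * b) * n := by ring
    rw [e1, e2, hb] at this
    nlinarith [this]
  have h4 : (n - p) * (n * (p - 1) ^ 2) ≤ n * (p - 1) * (n - p ^ 2) := le_trans h1 h3
  have hD : 0 < n * (p - 1) := mul_pos (by linarith) (by linarith)
  have h5 : 0 < n * (p - 2) + p := by
    have : 0 ≤ n * (p - 2) := mul_nonneg (by linarith) (by linarith)
    linarith
  have h6 : (n * (p - 1)) * (n * (p - 2) + p) ≤ 0 := by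
    have e : (n * (p - 1)) * (n * (p - 2) + p) =
        (n - p) * (n * (p - 1) ^ 2) - n * (p - 1) * (n - p ^ 2) := by ring
    rw [e]; linarith
  have := mul_pos hD h5
  linarith

/-- (LA) the good vectors span. -/
theorem good_span {p : ℕ} [Fact p.Prime] {V : Type*} [AddCommGroup V] [Module (ZMod p) V]
    [Finite V] (r : Module.Dual (ZMod p) V → Submodule (ZMod p) V)
    (hr1 : ∀ α, α ≠ 0 → r α ≤ LinearMap.ker α)
    (hr2 : ∀ α, α ≠ 0 → Nat.card (r α) * p ^ 2 ≤ Nat.card V) :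
    Submodule.span (ZMod p) {v : V | v ≠ 0 ∧ ∀ w : V,
      (∀ α : Module.Dual (ZMod p) V, α ≠ 0 → α v = 0 → v ∉ r α → α w = 0) →
        w ∈ Submodule.span (ZMod p) {v}} = ⊤ := by
  classical
  by_contra hne
  obtain ⟨α₀, hα₀, hle⟩ := Submodule.exists_le_ker_of_lt_top _ (lt_top_iff_ne_top.mpr hne)
  have hp2 : 2 ≤ p := (Fact.out : p.Prime).two_le
  let _ : Fintype V := Fintype.ofFinite V
  have hfinD : Finite (Module.Dual (ZMod p) V) :=
    Finite.of_injective (fun f : Module.Dual (ZMod p) V => (f : V → ZMod p)) DFunLike.coe_injective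
  let _ : Fintype (Module.Dual (ZMod p) V) := Fintype.ofFinite _
  -- the two index sets and the relation
  set 𝒜 : Finset (Module.Dual (ZMod p) V) :=
    Finset.univ.filter (fun α => ∀ c : ZMod p, α ≠ c • α₀) with h𝒜
  set 𝒱 : Finset V := Finset.univ.filter (fun v => α₀ v ≠ 0) with h𝒱
  set rel : Module.Dual (ZMod p) V → V → Prop := fun α v => α v = 0 ∧ v ∉ r α with hrel
  have hdc := Finset.sum_card_bipartiteAbove_eq_sum_card_bipartiteBelow (s := 𝒜) (t := 𝒱) rel
  -- cardinalities of the index sets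
  have hcardA : 𝒜.card + p = Nat.card V := by
    rw [← Cfsg.Agent.Helper29.VL.la_card_dual α₀ hα₀, LA_natCard_setOf]
  have hcardV : p * 𝒱.card = Nat.card V * (p - 1) := by
    rw [← Cfsg.Agent.Helper29.VL.la_card_off α₀ hα₀, LA_natCard_setOf]
  -- lower bound
  have hlow : ∀ α ∈ 𝒜, Nat.card V * (p - 1) ^ 2 ≤ p ^ 3 * (𝒱.bipartiteAbove rel α).card := by
    intro α hα
    have hα' : ∀ c : ZMod p, α ≠ c • α₀ := (Finset.mem_filter.mp hα).2
    have hα0 : α ≠ 0 := by
      have := hα' 0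
      rwa [zero_smul] at this
    have := Cfsg.Agent.Helper29.VL.la_lower α α₀ hα₀ hα' (r α) (hr1 α hα0) (hr2 α hα0)
    rw [LA_natCard_setOf] at this
    refine le_trans this (Nat.mul_le_mul_left _ (Finset.card_le_card ?_))
    intro v hv
    rw [Finset.mem_filter] at hv
    rw [Finset.mem_bipartiteAbove, h𝒱, Finset.mem_filter]
    exact ⟨⟨Finset.mem_univ _, hv.2.2.2⟩, hv.2.1, hv.2.2.1⟩
  -- upper bound
  have hup : ∀ v ∈ 𝒱, p ^ 2 * ((𝒜.bipartiteBelow rel v).card + 1) ≤ Nat.card V := by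
    intro v hv
    have hv' : α₀ v ≠ 0 := (Finset.mem_filter.mp hv).2
    have hv0 : v ≠ 0 := by
      rintro rfl
      exact hv' (map_zero _)
    -- `v` is not good
    have hng : ¬ (v ≠ 0 ∧ ∀ w : V,
        (∀ α : Module.Dual (ZMod p) V, α ≠ 0 → α v = 0 → v ∉ r α → α w = 0) →
          w ∈ Submodule.span (ZMod p) {v}) := by
      intro hgood
      have : v ∈ LinearMap.ker α₀ := hle (Submodule.subset_span hgood)
      exact hv' (LinearMap.mem_ker.mp this)
    push Not at hng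
    obtain ⟨w, hw1, hw2⟩ := hng hv0
    have hupper := Cfsg.Agent.Helper50.VL.la_upper v w hw2 hv0
    rw [LA_natCard_setOf] at hupper
    rw [← hupper]
    refine Nat.mul_le_mul_left _ ?_
    have hsub : 𝒜.bipartiteBelow rel v ⊆
        (Finset.univ.filter (fun α : Module.Dual (ZMod p) V => α v = 0 ∧ α w = 0)).erase 0 := by
      intro α hα
      rw [Finset.mem_bipartiteBelow, h𝒜, Finset.mem_filter] at hα
      obtain ⟨⟨_, hα1⟩, hα2, hα3⟩ := hα
      have hα0 : α ≠ 0 := by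
        have := hα1 0
        rwa [zero_smul] at this
      rw [Finset.mem_erase, Finset.mem_filter]
      exact ⟨hα0, Finset.mem_univ _, hα2, hw1 α hα0 hα2 hα3⟩
    have h0mem : (0 : Module.Dual (ZMod p) V) ∈
        Finset.univ.filter (fun α : Module.Dual (ZMod p) V => α v = 0 ∧ α w = 0) := by
      rw [Finset.mem_filter]
      exact ⟨Finset.mem_univ _, rfl, rfl⟩
    have := Finset.card_le_card hsub
    rw [Finset.card_erase_of_mem h0mem] at this
    have hpos : 0 < (Finset.univ.filter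
        (fun α : Module.Dual (ZMod p) V => α v = 0 ∧ α w = 0)).card :=
      Finset.card_pos.mpr ⟨0, h0mem⟩
    omega
  -- sums
  set X : ℕ := ∑ α ∈ 𝒜, (𝒱.bipartiteAbove rel α).card with hX
  have hS1 : 𝒜.card * (Nat.card V * (p - 1) ^ 2) ≤ p ^ 3 * X := by
    rw [hX, Finset.mul_sum, ← smul_eq_mul, ← Finset.sum_const]
    exact Finset.sum_le_sum hlow
  have hS2 : p ^ 2 * (X + 𝒱.card) ≤ 𝒱.card * Nat.card V := by
    rw [hdc]
    have : p ^ 2 * (∑ v ∈ 𝒱, (𝒜.bipartiteBelow rel v).card + 𝒱.card) =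
        ∑ v ∈ 𝒱, p ^ 2 * ((𝒜.bipartiteBelow rel v).card + 1) := by
      rw [← Finset.mul_sum, Finset.sum_add_distrib, Finset.sum_const, smul_eq_mul, mul_one]
    rw [this, ← smul_eq_mul, ← Finset.sum_const]
    exact Finset.sum_le_sum hup
  have hn1 : 1 ≤ Nat.card V := Nat.one_le_iff_ne_zero.mpr Nat.card_pos.ne'
  have hp1 : ((p - 1 : ℕ) : ℤ) = (p : ℤ) - 1 := by
    rw [Nat.cast_sub (by omega)]; simp
  refine LA_arith (Nat.card V) p 𝒜.card 𝒱.card X (by exact_mod_cast hp2) (by exact_mod_cast hn1)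
    (by exact_mod_cast hcardA) ?_ ?_ (by exact_mod_cast hS2)
  · rw [← hp1]; exact_mod_cast hcardV
  · rw [← hp1]; exact_mod_cast hS1

end Cfsg.Agent.Helper42.VL
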